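import Groth.Agent.Coherent.BirationalFibre
import Groth.Agent.Coherent.BiratCodimTwo

/-!
# Maps factor through proper birational morphisms to normal schemes
-/

set_option autoImplicit false
set_option linter.style.haveILetI false
set_option backward.isDefEq.respectTransparency false

universe u

open CategoryTheory CategoryTheory.Limits AlgebraicGeometry Opposite TopologicalSpace

namespace Groth.Agent.Models7

theorem exists_factor_affine {X Y Z : Scheme.{u}} [IsAffine Z] (f : X ⟶ Y) [IsIso f.appTop] (h : X ⟶ Z) :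
    ∃ g : Y ⟶ Z, f ≫ g = h := by
  refine ⟨Y.toSpecΓ ≫ Spec.map (h.appTop ≫ inv f.appTop) ≫ Z.isoSpec.inv, ?_⟩
  rw [Scheme.toSpecΓ_naturality_assoc, ← Spec.map_comp_assoc, Category.assoc, IsIso.inv_hom_id, Category.comp_id,
    ← Scheme.toSpecΓ_naturality_assoc, ← Scheme.isoSpec_hom, Iso.hom_inv_id, Category.comp_id]

variable {X Y : Scheme.{u}} [IsIntegral X] [IsIntegral Y]

theorem surjective_of_gen (f : X ⟶ Y) [IsProper f] (hgen : f (genericPoint X) = genericPoint Y) : Surjective f := by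
  exact ⟨fun y => (genericPoint_specializes y).mem_closed f.isClosedMap.isClosed_range ⟨_, hgen⟩⟩

/-- A morphism collapsing each fibre of a proper birational morphism onto a normal scheme factors through it. -/
theorem exists_desc (f : X ⟶ Y) [IsProper f] [IsLocallyNoetherian Y] (hY : Pi1.IsNormalScheme Y)
    (hgen : f (genericPoint X) = genericPoint Y) (hbir : IsIso (f.stalkMap (genericPoint X)))
    {Z : Scheme.{u}} [Z.IsSeparated] (h : X ⟶ Z) (hconst : ∀ y : Y, (h.base '' (f.base ⁻¹' {y})).Subsingleton) :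
    ∃! g : Y ⟶ Z, f ≫ g = h := by
  haveI := surjective_of_gen f hgen
  -- neighbourhoods collapsing into affine opens
  have hloc : ∀ y : Y, ∃ V : Y.Opens, y ∈ V ∧ ∃ g : (V : Scheme.{u}) ⟶ Z, (f ∣_ V) ≫ g = (f ⁻¹ᵁ V).ι ≫ h := by
    intro y
    obtain ⟨x, rfl⟩ := f.surjective y
    obtain ⟨U, hU, hxU, -⟩ := exists_isAffineOpen_mem_and_subset (x := h x) (U := ⊤) trivial
    let V : Y.Opens := ⟨(f.base '' ((h ⁻¹ᵁ U : X.Opens) : Set X)ᶜ)ᶜ,
      (f.isClosedMap _ (h ⁻¹ᵁ U).isOpen.isClosed_compl).isOpen_compl⟩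
    refine ⟨V, ?_, ?_⟩
    · rintro ⟨x', hx', he⟩
      apply hx'
      show h x' ∈ U
      rw [hconst (f x) ⟨x', he, rfl⟩ ⟨x, rfl, rfl⟩]
      exact hxU
    · have hle : f ⁻¹ᵁ V ≤ h ⁻¹ᵁ U := fun z hz => by_contra fun hn => hz ⟨z, hn, rfl⟩
      haveI : IsAffine U := hU
      haveI : IsIso (f ∣_ V).appTop := by
        rw [Scheme.Hom.appTop, morphismRestrict_app]
        haveI := Coherent.isIso_app_of_birational f hY hgen hbir (V.ι ''ᵁ ⊤)
        infer_instance
      obtain ⟨g, hg⟩ := exists_factor_affine (f ∣_ V) (h.resLE U (f ⁻¹ᵁ V) hle)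
      exact ⟨g ≫ U.ι, by rw [← Category.assoc, hg, Scheme.Hom.resLE_comp_ι]⟩
  choose V hyV g hg using hloc
  have hcov : iSup V = ⊤ := top_le_iff.1 fun y _ => Opens.mem_iSup.2 ⟨y, hyV y⟩
  let 𝒰 : Y.OpenCover := Y.openCoverOfIsOpenCover V hcov
  have hlift : ∀ (i : Y) {T : Scheme.{u}} (a : T ⟶ X) (b : T ⟶ (V i : Scheme.{u})), a ≫ f = b ≫ (V i).ι →
      b ≫ g i = a ≫ h := by
    intro i T a b hab
    have hr : Set.range a.base ⊆ Set.range (f ⁻¹ᵁ V i).ι.base := by
      rintro _ ⟨t, rfl⟩
      rw [Scheme.Opens.range_ι]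
      show f (a t) ∈ V i
      rw [← Scheme.Hom.comp_apply, hab, Scheme.Hom.comp_apply]
      exact (b t).2
    let l := IsOpenImmersion.lift (f ⁻¹ᵁ V i).ι a hr
    have hl : l ≫ (f ⁻¹ᵁ V i).ι = a := IsOpenImmersion.lift_fac _ _ _
    have hb : l ≫ (f ∣_ V i) = b := by
      rw [← cancel_mono (V i).ι, Category.assoc, morphismRestrict_ι, reassoc_of% hl, hab]
    rw [← hb, Category.assoc, hg, reassoc_of% hl]
  have hcompat : ∀ i j : Y, pullback.fst (V i).ι (V j).ι ≫ g i = pullback.snd (V i).ι (V j).ι ≫ g j := by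
    intro i j
    let k := pullback.fst (V i).ι (V j).ι ≫ (V i).ι
    haveI : IsOpenImmersion k := by infer_instance
    haveI : IsReduced (pullback (V i).ι (V j).ι) := isReduced_of_isOpenImmersion k
    haveI : Surjective (pullback.snd f k) := MorphismProperty.pullback_snd _ _ inferInstance
    refine ext_of_isDominant_of_isSeparated (terminal.from Z) (terminal.hom_ext _ _) (pullback.snd f k) ?_
    rw [← Category.assoc, ← Category.assoc,
      hlift i (pullback.fst f k) (pullback.snd f k ≫ pullback.fst _ _) (by rw [pullback.condition, Category.assoc]),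
      hlift j (pullback.fst f k) (pullback.snd f k ≫ pullback.snd _ _) (by
        rw [pullback.condition, Category.assoc]
        exact congrArg (pullback.snd f k ≫ ·) pullback.condition)]
  refine ⟨𝒰.glueMorphisms g hcompat, Scheme.Cover.hom_ext (𝒰.pullback₁ f) _ _ fun i => ?_, fun g' hg' => ?_⟩
  · show pullback.fst f (V i).ι ≫ f ≫ _ = pullback.fst f (V i).ι ≫ h
    rw [pullback.condition_assoc]
    have e : (V i).ι ≫ 𝒰.glueMorphisms g hcompat = g i := 𝒰.ι_glueMorphisms g hcompat i
    rw [e]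
    exact hlift i _ _ pullback.condition
  · refine Scheme.Cover.hom_ext 𝒰 _ _ fun i => ?_
    rw [𝒰.ι_glueMorphisms]
    show (V i).ι ≫ g' = g i
    haveI : Surjective (f ∣_ V i) := IsZariskiLocalAtTarget.restrict (P := @Surjective) ‹Surjective f› _
    refine ext_of_isDominant_of_isSeparated (terminal.from Z) (terminal.hom_ext _ _) (f ∣_ V i) ?_
    rw [hg, morphismRestrict_ι_assoc, hg']

/-- If `h` also collapses nothing more than `f`, the factorisation of two contractions is an isomorphism. -/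
theorem isIso_of_desc {Z : Scheme.{u}} [IsIntegral Z] (f : X ⟶ Y) [IsProper f] [IsLocallyNoetherian Y]
    (hY : Pi1.IsNormalScheme Y) (hgen : f (genericPoint X) = genericPoint Y)
    (hbir : IsIso (f.stalkMap (genericPoint X))) [Y.IsSeparated] (h : X ⟶ Z) [IsProper h] [IsLocallyNoetherian Z]
    (hZ : Pi1.IsNormalScheme Z) (hgen' : h (genericPoint X) = genericPoint Z)
    (hbir' : IsIso (h.stalkMap (genericPoint X))) [Z.IsSeparated]
    (_hfh : ∀ y : Y, (h.base '' (f.base ⁻¹' {y})).Subsingleton)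
    (hhf : ∀ z : Z, (f.base '' (h.base ⁻¹' {z})).Subsingleton)
    (g : Y ⟶ Z) (hg : f ≫ g = h) : IsIso g := by
  obtain ⟨g', hg', -⟩ := exists_desc h hZ hgen' hbir' f hhf
  obtain ⟨i, -, hi⟩ := exists_desc f hY hgen hbir f (fun y => by
    rintro _ ⟨a, ha, rfl⟩ _ ⟨b, hb, rfl⟩
    exact ha.trans hb.symm)
  obtain ⟨j, -, hj⟩ := exists_desc h hZ hgen' hbir' h (fun y => by
    rintro _ ⟨a, ha, rfl⟩ _ ⟨b, hb, rfl⟩
    exact ha.trans hb.symm)
  refine ⟨g', ?_, ?_⟩
  · rw [hi (g ≫ g') (show f ≫ g ≫ g' = f by rw [reassoc_of% hg, hg']), hi (𝟙 Y) (Category.comp_id f)]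
  · rw [hj (g' ≫ g) (show h ≫ g' ≫ g = h by rw [reassoc_of% hg', hg]), hj (𝟙 Z) (Category.comp_id h)]

/-- Fibres of a proper birational morphism onto a normal scheme are connected. -/
theorem isPreconnected_preimage (f : X ⟶ Y) [IsProper f] [IsLocallyNoetherian Y] (hY : Pi1.IsNormalScheme Y)
    (hgen : f (genericPoint X) = genericPoint Y) (hbir : IsIso (f.stalkMap (genericPoint X))) (y : Y) :
    _root_.IsPreconnected (f.base ⁻¹' {y}) := by
  haveI := Coherent.connectedSpace_fiber_of_birational f hY hgen hbir y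
  rw [← f.range_fiberι y]
  exact isPreconnected_range (f.fiberι y).continuous

/-- A continuous image of a connected set inside finitely many closed points is one point. -/
theorem subsingleton_image {Z : Scheme.{u}} (h : X ⟶ Z) {A : Set X} (hA : _root_.IsPreconnected A) (T : Set Z)
    (hT : T.Finite) (hTc : ∀ t ∈ T, IsClosed ({t} : Set Z)) (hsub : h.base '' A ⊆ T) : (h.base '' A).Subsingleton := by
  haveI : T1Space T := ⟨fun t => by
    have : ({t} : Set T) = Subtype.val ⁻¹' ({(t : Z)} : Set Z) := by ext s; simp [Subtype.ext_iff]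
    rw [this]
    exact (hTc _ t.2).preimage continuous_subtype_val⟩
  haveI : Finite T := hT
  have hp : _root_.IsPreconnected (Subtype.val ⁻¹' (h.base '' A) : Set T) :=
    Topology.IsInducing.subtypeVal.isPreconnected_image.1 (by
      rw [Subtype.image_preimage_coe, Set.inter_eq_right.2 hsub]
      exact hA.image _ h.continuous.continuousOn)
  intro a ha b hb
  exact congrArg Subtype.val (hp.subsingleton (show (⟨a, hsub ha⟩ : T) ∈ _ from ha) (show (⟨b, hsub hb⟩ : T) ∈ _ from hb))

end Groth.Agent.Models7
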