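import Mathlib.AlgebraicGeometry.Birational.RationalMap
import Mathlib.AlgebraicGeometry.ValuativeCriterion
import Mathlib.AlgebraicGeometry.Morphisms.Proper
import Mathlib.RingTheory.Valuation.LocalSubring

/-!
# Extending a rational map to a proper scheme by looking at coordinates

If the coordinate functions of a rational map from an integral scheme `Y` to a proper scheme satisfy
"`t` or `1 / t` is regular at `y`" for every point `y`, then the rational map is a morphism.
-/

set_option autoImplicit false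
set_option linter.style.haveILetI false
set_option maxHeartbeats 1000000

universe u

open CategoryTheory CategoryTheory.Limits AlgebraicGeometry IsLocalRing

namespace Groth.Agent.Models7

/-- The functions on an open subset, evaluated along a field valued point landing in it. -/
noncomputable def coordHom {Z : Scheme.{u}} {K : CommRingCat.{u}} (g : Spec K ⟶ Z) (W : Z.Opens)
    (h : ⊤ ≤ g ⁻¹ᵁ W) : Γ(Z, W) ⟶ K :=
  g.appLE W ⊤ h ≫ (Scheme.ΓSpecIso K).hom

theorem SpecMap_coordHom {Z : Scheme.{u}} {K : CommRingCat.{u}} (g : Spec K ⟶ Z) {W : Z.Opens}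
    (hW : IsAffineOpen W) (h : ⊤ ≤ g ⁻¹ᵁ W) : Spec.map (coordHom g W h) ≫ hW.fromSpec = g := by
  rw [coordHom, Spec.map_comp, Category.assoc,
    IsAffineOpen.SpecMap_appLE_fromSpec g hW (isAffineOpen_top (Spec K)) h,
    IsAffineOpen.fromSpec_top, Scheme.isoSpec_Spec_inv, ← Category.assoc, ← Spec.map_comp,
    Iso.inv_hom_id, Spec.map_id, Category.id_comp]

theorem coordHom_SpecMap {Z : Scheme.{u}} {A B : CommRingCat.{u}} (φ : A ⟶ B) (l : Spec A ⟶ Z) (W : Z.Opens)
    (h : ⊤ ≤ l ⁻¹ᵁ W) (h' : ⊤ ≤ (Spec.map φ ≫ l) ⁻¹ᵁ W) :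
    coordHom (Spec.map φ ≫ l) W h' = coordHom l W h ≫ φ := by
  have e : (Spec.map φ).appLE ⊤ ⊤ le_top ≫ (Scheme.ΓSpecIso B).hom = (Scheme.ΓSpecIso A).hom ≫ φ := by
    rw [← Scheme.ΓSpecIso_naturality φ]
    exact congrArg (· ≫ (Scheme.ΓSpecIso B).hom) (Scheme.Hom.app_eq_appLE (f := Spec.map φ) (U := ⊤)).symm
  simp only [coordHom, ← Scheme.Hom.appLE_comp_appLE (Spec.map φ) l W ⊤ ⊤ h le_top, Category.assoc, e]

/-- A rational map to a proper scheme is defined wherever its coordinates are. -/
theorem exists_morphism_of_coords {Y Z : Scheme.{u}} [IsIntegral Y] {R : CommRingCat.{u}}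
    (sY : Y ⟶ Spec R) (sZ : Z ⟶ Spec R) [IsProper sZ] [Z.IsSeparated]
    (g : Spec Y.functionField ⟶ Z) (hg : g ≫ sZ = Y.fromSpecStalk _ ≫ sY)
    (h : ∀ z : Z, ∃ W : Z.Opens, IsAffineOpen W ∧ z ∈ W ∧ ∀ (hW : ⊤ ≤ g ⁻¹ᵁ W) (y : Y),
      Subring.closure (Set.range (sZ.appLE ⊤ W le_top).hom ∪
        {t | coordHom g W hW t ∈ Set.range (Y.presheaf.stalkSpecializes (genericPoint_specializes y)) ∨
          ∃ v, Y.presheaf.stalkSpecializes (genericPoint_specializes y) v * coordHom g W hW t = 1}) = ⊤) :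
    ∃ f : Y ⟶ Z, f ≫ sZ = sY ∧ Y.fromSpecStalk _ ≫ f = g := by
  classical
  let F : Y ⤏ Z := Scheme.RationalMap.ofFunctionField sY sZ g hg
  have hdom : ∀ y : Y, y ∈ F.domain := by
    intro y
    let K := Y.functionField
    let ρ : Y.presheaf.stalk y →+* K := (Y.presheaf.stalkSpecializes (genericPoint_specializes y)).hom
    obtain ⟨V, hV, hloc⟩ := IsLocalRing.exists_factor_valuationRing ρ
    let iV : CommRingCat.of V ⟶ K := CommRingCat.ofHom V.subtype
    let jV : Y.presheaf.stalk y ⟶ CommRingCat.of V := CommRingCat.ofHom (ρ.codRestrict V.toSubring hV)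
    have hfac : jV ≫ iV = Y.presheaf.stalkSpecializes (genericPoint_specializes y) := rfl
    have hsq : CommSq g (Spec.map iV) sZ (Spec.map jV ≫ Y.fromSpecStalk y ≫ sY) := ⟨by
      rw [hg, ← Category.assoc, ← Category.assoc, ← Spec.map_comp, hfac,
        Scheme.SpecMap_stalkSpecializes_fromSpecStalk]⟩
    have hex : ValuativeCriterion.Existence sZ :=
      ((UniversallyClosed.eq_valuativeCriterion ▸ ‹IsProper sZ›.toUniversallyClosed :
        (ValuativeCriterion.Existence ⊓ @QuasiCompact) sZ)).1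
    obtain ⟨⟨l, hl₁, hl₂⟩⟩ := (hex ⟨V, K, g, _, hsq⟩).exists_lift
    change Spec.map iV ≫ l = g at hl₁
    let m : Spec (CommRingCat.of V) := closedPoint V
    obtain ⟨W, hWaff, hmW, hgen⟩ := h (l m)
    have hlW : ⊤ ≤ l ⁻¹ᵁ W := fun q _ =>
      (((PrimeSpectrum.le_iff_specializes (R := V) q m).1 (le_maximalIdeal q.2.ne_top)).map l.continuous).mem_open W.2 hmW
    have hgW : ⊤ ≤ g ⁻¹ᵁ W := fun q _ => by
      show g q ∈ W
      rw [← hl₁]
      exact hlW trivial
    have hcomp : coordHom l W hlW ≫ iV = coordHom g W hgW := by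
      have key : ∀ (g' : Spec K ⟶ Z) (_ : Spec.map iV ≫ l = g') (h' : ⊤ ≤ g' ⁻¹ᵁ W),
          coordHom l W hlW ≫ iV = coordHom g' W h' := by
        rintro _ rfl h'
        exact (coordHom_SpecMap iV l W hlW h').symm
      exact key g hl₁ hgW
    have hR : ∀ r, coordHom g W hgW (sZ.appLE ⊤ W le_top r) ∈ ρ.range := by
      intro r
      have key : ∀ (s' : Spec K ⟶ Spec R) (_ : g ≫ sZ = s'),
          sZ.appLE ⊤ W le_top ≫ coordHom g W hgW = coordHom s' ⊤ le_top := by
        rintro _ rfl
        simp only [coordHom, ← Scheme.Hom.appLE_comp_appLE g sZ ⊤ W ⊤ le_top hgW, Category.assoc]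
        rfl
      have key' : ∀ (s' : Spec K ⟶ Spec R) (_ : Spec.map (Y.presheaf.stalkSpecializes (genericPoint_specializes y)) ≫
          (Y.fromSpecStalk y ≫ sY) = s'), coordHom s' ⊤ le_top =
            coordHom (Y.fromSpecStalk y ≫ sY) ⊤ le_top ≫ Y.presheaf.stalkSpecializes (genericPoint_specializes y) := by
        rintro _ rfl
        exact coordHom_SpecMap _ _ ⊤ le_top le_top
      have e := (key _ hg).trans (key' _ (by rw [Scheme.SpecMap_stalkSpecializes_fromSpecStalk_assoc]))
      exact ⟨_, (DFunLike.congr_fun (congrArg CommRingCat.Hom.hom e) r).symm⟩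
    have hall : ∀ t, coordHom g W hgW t ∈ ρ.range := by
      intro t
      have ht : t ∈ (⊤ : Subring Γ(Z, W)) := trivial
      rw [← hgen hgW y] at ht
      refine Subring.closure_induction (p := fun t _ => coordHom g W hgW t ∈ ρ.range) ?_ ?_ ?_ ?_ ?_ ?_ ht
      · rintro s (⟨r, rfl⟩ | hs | ⟨v, hv⟩)
        · exact hR r
        · exact hs
        · by_cases hvu : IsUnit v
          · obtain ⟨w, rfl⟩ := hvu
            refine ⟨↑w⁻¹, ?_⟩
            calc ρ ↑w⁻¹ = ρ ↑w⁻¹ * (ρ ↑w * coordHom g W hgW s) := by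
                    rw [show ρ ↑w * coordHom g W hgW s = 1 from hv, mul_one]
              _ = coordHom g W hgW s := by rw [← mul_assoc, ← map_mul, Units.inv_mul, map_one, one_mul]
          · exfalso
            refine hvu (hloc.map_nonunit v (IsUnit.of_mul_eq_one (coordHom l W hlW s) (Subtype.ext ?_)))
            show ρ v * iV (coordHom l W hlW s) = 1
            rw [show iV (coordHom l W hlW s) = coordHom g W hgW s from DFunLike.congr_fun (congrArg CommRingCat.Hom.hom hcomp) s]
            exact hv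
      · rw [map_zero]; exact zero_mem _
      · rw [map_one]; exact one_mem _
      · intro a b _ _ ha hb; rw [map_add]; exact add_mem ha hb
      · intro a _ ha; rw [map_neg]; exact neg_mem ha
      · intro a b _ _ ha hb; rw [map_mul]; exact mul_mem ha hb
    have hρinj : Function.Injective ρ := IsFractionRing.injective (Y.presheaf.stalk y) Y.functionField
    let e := RingEquiv.ofBijective ρ.rangeRestrict ⟨fun a b hab => hρinj (congrArg Subtype.val hab), ρ.rangeRestrict_surjective⟩
    let φ₀ : Γ(Z, W) ⟶ Y.presheaf.stalk y :=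
      CommRingCat.ofHom (e.symm.toRingHom.comp ((coordHom g W hgW).hom.codRestrict ρ.range hall))
    have hφ₀ : φ₀ ≫ Y.presheaf.stalkSpecializes (genericPoint_specializes y) = coordHom g W hgW := by
      ext t
      exact congrArg Subtype.val (e.apply_symm_apply ⟨coordHom g W hgW t, hall t⟩)
    let φ : Spec (Y.presheaf.stalk y) ⟶ Z := Spec.map φ₀ ≫ hWaff.fromSpec
    have hφg : Spec.map (Y.presheaf.stalkSpecializes (genericPoint_specializes y)) ≫ φ = g := by
      rw [← Category.assoc, ← Spec.map_comp, hφ₀, SpecMap_coordHom]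
    have hφ : φ ≫ sZ = Y.fromSpecStalk y ≫ sY := by
      haveI : IsDominant (Spec.map (Y.presheaf.stalkSpecializes (genericPoint_specializes y))) :=
        ⟨PrimeSpectrum.denseRange_comap_iff_ker_le_nilRadical _ |>.2
          (((RingHom.injective_iff_ker_eq_bot _).1 hρinj).le.trans bot_le)⟩
      refine ext_of_isDominant (Spec.map (Y.presheaf.stalkSpecializes (genericPoint_specializes y))) ?_
      rw [reassoc_of% hφg, hg, Scheme.SpecMap_stalkSpecializes_fromSpecStalk_assoc]
    refine Scheme.RationalMap.mem_domain.2 ⟨_, Scheme.PartialMap.mem_domain_ofFromSpecStalk sY sZ φ hφ,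
      Scheme.RationalMap.eq_of_fromFunctionField_eq _ _ ?_⟩
    rw [Scheme.RationalMap.fromFunctionField_ofFunctionField, Scheme.RationalMap.fromFunctionField_toRationalMap]
    let P := Scheme.PartialMap.ofFromSpecStalk sY sZ φ hφ
    have hy : y ∈ P.domain := Scheme.PartialMap.mem_domain_ofFromSpecStalk sY sZ φ hφ
    have hP : P.fromSpecStalkOfMem hy = φ := Scheme.PartialMap.fromSpecStalkOfMem_ofFromSpecStalk sY sZ φ hφ
    refine Eq.trans ?_ ((congrArg (Spec.map (Y.presheaf.stalkSpecializes (genericPoint_specializes y)) ≫ ·) hP).trans hφg)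
    simp only [Scheme.PartialMap.fromFunctionField, Scheme.PartialMap.fromSpecStalkOfMem, ← Category.assoc]
    congr 1
    rw [← cancel_mono P.domain.ι]
    simp [P, Scheme.Opens.fromSpecStalkOfMem_ι]
  let P := F.toPartialMap
  have htop : (⊤ : Y.Opens) ≤ P.domain := fun y _ => hdom y
  let f : Y ⟶ Z := Y.topIso.inv ≫ Y.homOfLE htop ≫ P.hom
  have hf : f.toPartialMap = P.restrict ⊤ dense_univ htop := by
    refine Scheme.PartialMap.ext _ _ rfl ?_
    simp [f, Scheme.Hom.toPartialMap, Scheme.PartialMap.restrict]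
  have hgF : Y.fromSpecStalk _ ≫ f = g := by
    rw [← Scheme.PartialMap.fromSpecStalkOfMem_toPartialMap (f := f) (genericPoint Y)]
    show f.toPartialMap.toRationalMap.fromFunctionField = g
    rw [hf, Scheme.PartialMap.restrict_toRationalMap, Scheme.RationalMap.toRationalMap_toPartialMap,
      Scheme.RationalMap.fromFunctionField_ofFunctionField]
  refine ⟨f, ?_, hgF⟩
  haveI : IsDominant (Y.fromSpecStalk (genericPoint Y)) := ⟨by
    rw [DenseRange, dense_iff_closure_eq, Scheme.range_fromSpecStalk]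
    refine Set.eq_univ_of_univ_subset ?_
    rw [← (genericPoint_spec Y).def]
    exact closure_mono (Set.singleton_subset_iff.2 specializes_rfl)⟩
  refine ext_of_isDominant (Y.fromSpecStalk (genericPoint Y)) ?_
  rw [reassoc_of% hgF, hg]

end Groth.Agent.Models7
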