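import Groth.Agent.Models7.Elimination
import Groth.Agent.Models7.CoordExtend

/-!
# Elimination of indeterminacy of a rational map to a proper scheme
-/

set_option autoImplicit false
set_option linter.style.haveILetI false
set_option backward.isDefEq.respectTransparency false
set_option maxHeartbeats 1000000

universe u

open CategoryTheory CategoryTheory.Limits AlgebraicGeometry TopologicalSpace IsLocalRing

namespace Groth.Agent.Models7

/-- A rational map from a regular surface to a proper scheme becomes a morphism after blowing up points. -/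
theorem exists_ptSeq_extend {X Z : Scheme.{u}} [IsIntegral X] (hX : RegSurf X) {R : CommRingCat.{u}}
    (sX : X ⟶ Spec R) (sZ : Z ⟶ Spec R) [IsProper sZ] (U : X.Opens) (hU : (U : Set X).Nonempty)
    (φ : (U : Scheme.{u}) ⟶ Z) (hφ : φ ≫ sZ = U.ι ≫ sX) :
    ∃ (X' : Scheme.{u}) (f : X' ⟶ X) (g : X' ⟶ Z) (_ : IsIntegral X'), RegSurf X' ∧ PtSeq f ∧ IsProper f ∧
      g ≫ sZ = f ≫ sX ∧ (f ⁻¹ᵁ U).ι ≫ g = (f ∣_ U) ≫ φ := by
  classical
  haveI : Z.IsSeparated := ⟨by
    rw [show terminal.from Z = sZ ≫ terminal.from _ from terminal.hom_ext _ _]; infer_instance⟩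
  haveI : CompactSpace Z := (quasiCompact_iff_compactSpace sZ).1 inferInstance
  have hηU : genericPoint X ∈ U := ((genericPoint_spec X).mem_open_set_iff U.2).mpr (by simpa using hU)
  let g₀ : Spec X.functionField ⟶ Z := U.fromSpecStalkOfMem (genericPoint X) hηU ≫ φ
  have hg₀ : g₀ ≫ sZ = X.fromSpecStalk _ ≫ sX := by
    show (_ ≫ φ) ≫ sZ = _
    rw [Category.assoc, hφ, ← Category.assoc, Scheme.Opens.fromSpecStalkOfMem_ι]
  -- finitely many coordinates
  have hloc : ∀ z : Z, ∃ W : Z.Opens, IsAffineOpen W ∧ z ∈ W ∧ ∃ s : Finset Γ(Z, W),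
      Subring.closure (Set.range (sZ.appLE ⊤ W le_top).hom ∪ (s : Set Γ(Z, W))) = ⊤ := by
    intro z
    obtain ⟨_, ⟨W, hW, rfl⟩, hzW, -⟩ := Z.isBasis_affineOpens.exists_subset_of_mem_open (Set.mem_univ z) isOpen_univ
    refine ⟨W, hW, hzW, ?_⟩
    have hft : (sZ.appLE ⊤ W le_top).hom.FiniteType :=
      HasRingHomProperty.appLE @LocallyOfFiniteType sZ inferInstance ⟨⊤, isAffineOpen_top _⟩ ⟨W, hW⟩ le_top
    letI := (sZ.appLE ⊤ W le_top).hom.toAlgebra
    obtain ⟨s, hs⟩ := Algebra.FiniteType.out (self := hft)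
    refine ⟨s, ?_⟩
    have h1 := congrArg Subalgebra.toSubring hs
    rw [Algebra.adjoin_eq_ring_closure] at h1
    exact h1
  choose W hWaff hzW s hs using hloc
  obtain ⟨t, ht⟩ := isCompact_univ.elim_finite_subcover (fun z => (W z : Set Z)) (fun z => (W z).2)
    (fun z _ => Set.mem_iUnion.2 ⟨z, hzW z⟩)
  let S : Finset X.functionField := t.biUnion fun z =>
    if h : ⊤ ≤ g₀ ⁻¹ᵁ W z then (s z).image (coordHom g₀ (W z) h) else ∅
  obtain ⟨X', b, hX', hint, e', hgen, hP, hprop, he, hgood⟩ := exists_good hX (RingEquiv.refl X.functionField) S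
  haveI := hint
  let ψ : X.functionField ⟶ X'.functionField := CommRingCat.ofHom (ffMap b hgen)
  let g₁ : Spec X'.functionField ⟶ Z := Spec.map ψ ≫ g₀
  have hψ : Spec.map ψ ≫ X.fromSpecStalk _ = X'.fromSpecStalk _ ≫ b := by
    show Spec.map (X.presheaf.stalkSpecializes (specializes_of_eq hgen) ≫ b.stalkMap (genericPoint X')) ≫ _ = _
    rw [Spec.map_comp, Category.assoc, Scheme.SpecMap_stalkSpecializes_fromSpecStalk,
      Scheme.SpecMap_stalkMap_fromSpecStalk]
  have hg₁ : g₁ ≫ sZ = X'.fromSpecStalk _ ≫ b ≫ sX := by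
    show (_ ≫ g₀) ≫ sZ = _
    rw [Category.assoc, hg₀, reassoc_of% hψ]
  obtain ⟨g, hg, hgη⟩ := exists_morphism_of_coords (b ≫ sX) sZ g₁ hg₁ fun z => by
    obtain ⟨i, hit, hzi⟩ : ∃ i ∈ t, z ∈ W i := by
      simpa using ht (Set.mem_univ z)
    refine ⟨W i, hWaff i, hzi, fun hW₁ y => eq_top_iff.2 ((hs i).ge.trans (Subring.closure_mono ?_))⟩
    refine Set.union_subset_union_right _ fun c hc => ?_
    have hW₀ : ⊤ ≤ g₀ ⁻¹ᵁ W i := fun q _ => by
      obtain ⟨q', rfl⟩ : ∃ q' : Spec X'.functionField, Spec.map ψ q' = q :=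
        ⟨closedPoint X'.functionField, Subsingleton.elim (α := PrimeSpectrum X.functionField) _ _⟩
      exact hW₁ (show q' ∈ ⊤ from trivial)
    have hcS : coordHom g₀ (W i) hW₀ c ∈ S :=
      Finset.mem_biUnion.2 ⟨i, hit, by rw [dif_pos hW₀]; exact Finset.mem_image_of_mem _ hc⟩
    have hnb : ¬ IsBadAt (coordHom g₀ (W i) hW₀ c) (stalkRing e' y) := fun hbad =>
      (hgood _ hcS).le (show y ∈ badSet e' _ from hbad)
    have hcoord : coordHom g₁ (W i) hW₁ c = e' (coordHom g₀ (W i) hW₀ c) := by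
      rw [coordHom_SpecMap ψ g₀ (W i) hW₀ hW₁, he]
      rfl
    rw [Set.mem_setOf_eq, hcoord]
    by_cases h1 : coordHom g₀ (W i) hW₀ c ∈ stalkRing e' y
    · exact Or.inl ((mem_stalkRing e' y _).1 h1)
    · obtain ⟨v, hv⟩ := (mem_stalkRing e' y _).1 (not_not.1 fun h2 => hnb ⟨h1, h2⟩)
      refine Or.inr ⟨v, ?_⟩
      rw [hv, ← map_mul, inv_mul_cancel₀ (fun h0 => h1 (by rw [h0]; exact zero_mem _)), map_one]
  refine ⟨X', b, g, hint, hX', hP, hprop, hg, ?_⟩
  have hη' : genericPoint X' ∈ b ⁻¹ᵁ U := by show b _ ∈ U; rw [hgen]; exact hηU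
  haveI : Nonempty (b ⁻¹ᵁ U).toScheme := ⟨⟨_, hη'⟩⟩
  haveI : IsDominant ((b ⁻¹ᵁ U).fromSpecStalkOfMem (genericPoint X') hη') := by
    let p : Spec X'.functionField := closedPoint X'.functionField
    refine ⟨?_⟩
    rw [DenseRange, dense_iff_inter_open]
    intro O hO hne
    refine ⟨_, ?_, ⟨p, rfl⟩⟩
    obtain ⟨x, hx⟩ := hne
    have hgx : ((b ⁻¹ᵁ U).fromSpecStalkOfMem (genericPoint X') hη' p) ⤳ x := by
      refine (b ⁻¹ᵁ U).ι.isEmbedding.isInducing.specializes_iff.1 ?_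
      rw [← Scheme.Hom.comp_apply, Scheme.Opens.fromSpecStalkOfMem_ι, Scheme.fromSpecStalk_closedPoint]
      exact genericPoint_specializes _
    exact hgx.mem_open hO hx
  refine ext_of_isDominant ((b ⁻¹ᵁ U).fromSpecStalkOfMem (genericPoint X') hη') ?_
  rw [Scheme.Opens.fromSpecStalkOfMem_ι_assoc, hgη]
  show Spec.map ψ ≫ U.fromSpecStalkOfMem (genericPoint X) hηU ≫ φ = _
  rw [← Category.assoc, ← Category.assoc]
  congr 1
  rw [← cancel_mono U.ι, Category.assoc, Category.assoc, Scheme.Opens.fromSpecStalkOfMem_ι, morphismRestrict_ι,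
    Scheme.Opens.fromSpecStalkOfMem_ι_assoc, hψ]

end Groth.Agent.Models7
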