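import Groth.Agent.Models7.ConstantField
import Groth.Agent.CurveRR24.DegOneApps
import Groth.Agent.SplitP1.Decomp
import Groth.Agent.Inters29.Comp
import Groth.Agent.Inters29.Matrix
import Groth.Agent.Inters29.Constants
import Groth.Agent.Inters29.Degree

/-!
# The numerical criterion for exceptional curves of the first kind
-/

set_option autoImplicit false
set_option linter.style.haveILetI false
set_option backward.isDefEq.respectTransparency.types false
set_option maxHeartbeats 1000000

universe u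

open CategoryTheory CategoryTheory.Limits AlgebraicGeometry
open Groth.Agent.Coherent Groth.Agent.PicLib Groth.Agent.AmpleLib Groth.Agent.EulerLib

namespace Groth.Agent.Models7

/-- A morphism from the projective line to the spectrum of a field factors through the constants. -/
theorem exists_constants {k k' : Type u} [Field k] [Field k'] (g : CohB1.ProjSpace 1 k' ⟶ Spec (CommRingCat.of k)) :
    ∃ ψ : k →+* k', g = CohB1.ProjSpace.toSpec 1 k' ≫ Spec.map (CommRingCat.ofHom ψ) := by
  haveI := isIso_appTop_toSpec (n := 1) (R := k')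
  let t := CohB1.ProjSpace.toSpec 1 k'
  let φ : CommRingCat.of k ⟶ CommRingCat.of k' :=
    (Scheme.ΓSpecIso (CommRingCat.of k)).inv ≫ g.appTop ≫ inv t.appTop ≫ (Scheme.ΓSpecIso (CommRingCat.of k')).hom
  refine ⟨φ.hom, ext_of_isAffine ?_⟩
  rw [CommRingCat.ofHom_hom, Scheme.Hom.comp_appTop,
    show (Spec.map φ).appTop = (Scheme.ΓSpecIso (CommRingCat.of k)).hom ≫ φ ≫ (Scheme.ΓSpecIso (CommRingCat.of k')).inv by
      rw [← Scheme.ΓSpecIso_naturality_assoc, Iso.hom_inv_id, Category.comp_id]]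
  simp only [φ, t, Category.assoc, Iso.hom_inv_id_assoc, IsIso.inv_hom_id, Category.comp_id]

/-- Invariants of a curve isomorphic to a projective line over a bigger field, with a module becoming `O(1)`. -/
theorem projLine_data {k k' : Type u} [Field k] [Field k'] {E : Scheme.{u}} (g : E ⟶ Spec (CommRingCat.of k))
    (e : CohB1.ProjSpace 1 k' ≅ E) (M : E.Modules) [Coh.IsQCoh M]
    [IsProper g] (φ : (Scheme.Modules.pullback e.hom).obj M ≅ Twist.twistProjSpace 1 k' 1) :
    ∃ d : ℕ, Models.hRank k E g (Coh.structureModule E) 0 = d ∧ Models.hRank k E g (Coh.structureModule E) 1 = 0 ∧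
      Models.hRank k E g M 0 = 2 * d ∧ Models.hRank k E g M 1 = 0 := by
  obtain ⟨ψ, hψ⟩ := exists_constants (e.hom ≫ g)
  refine ⟨Models.homDegree ψ, ?_⟩
  letI : E.Over (Spec (CommRingCat.of k)) := ⟨g⟩
  haveI : CompactSpace E := QuasiCompact.compactSpace_of_compactSpace g
  haveI : E.IsSeparated := ⟨by rw [← terminal.comp_from g]; infer_instance⟩
  letI oP : (CohB1.ProjSpace 1 k').Over (Spec (CommRingCat.of k)) := ⟨e.hom ≫ g⟩
  have hpb : IsPullback e.hom ((CohB1.ProjSpace 1 k') ↘ Spec (CommRingCat.of k)) (E ↘ Spec (CommRingCat.of k))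
      (Spec.map (CommRingCat.ofHom (algebraMap k k))) := by
    rw [show CommRingCat.ofHom (algebraMap k k) = 𝟙 _ from rfl, Spec.map_id]
    exact IsPullback.of_horiz_isIso ⟨(Category.comp_id (e.hom ≫ g)).symm⟩
  have tr : ∀ (N : (CohB1.ProjSpace 1 k').Modules) (q : ℕ), Models.hRank k _ (e.hom ≫ g) N q =
      Models.homDegree ψ * Models.hRank k' _ (CohB1.ProjSpace.toSpec 1 k') N q := fun N q => by
    rw [hψ]; exact hRank_comp ψ _ N q
  have hM : ∀ q, Models.hRank k E g M q =
      Models.homDegree ψ * Models.hRank k' _ (CohB1.ProjSpace.toSpec 1 k') (Twist.twistProjSpace 1 k' 1) q :=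
    fun q => by
      rw [← tr]
      exact (CurveRR24.finrank_HH_bc hpb M q).symm.trans (CurveRR24.finrank_HH_congr k φ q)
  have hO : ∀ q, Models.hRank k E g (Coh.structureModule E) q =
      Models.homDegree ψ * Models.hRank k' _ (CohB1.ProjSpace.toSpec 1 k') (Coh.structureModule _) q :=
    fun q => by
      rw [← tr]
      exact (CurveRR24.finrank_HH_structure_bc hpb q).symm
  haveI := subsingleton_HH_structureModule (R := k') (n := 1) 1 one_pos
  haveI := subsingleton_HH_twist (R := k') (n := 1) (d := 1) 1 (by omega) (by omega)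
  have a0 : Models.hRank k' _ (CohB1.ProjSpace.toSpec 1 k') (Coh.structureModule (CohB1.ProjSpace 1 k')) 0 = 1 :=
    CurveRR24.finrank_projLine_structure k'
  have a1 : Models.hRank k' _ (CohB1.ProjSpace.toSpec 1 k') (Coh.structureModule (CohB1.ProjSpace 1 k')) 1 = 0 :=
    Module.finrank_zero_of_subsingleton
  have b0 : Models.hRank k' _ (CohB1.ProjSpace.toSpec 1 k') (Twist.twistProjSpace 1 k' 1) 0 = 2 :=
    CurveRR24.finrank_projLine_twist_one k'
  have b1 : Models.hRank k' _ (CohB1.ProjSpace.toSpec 1 k') (Twist.twistProjSpace 1 k' 1) 1 = 0 :=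
    Module.finrank_zero_of_subsingleton
  refine ⟨?_, ?_, ?_, ?_⟩
  · rw [hO, a0, mul_one]
  · rw [hO, a1, mul_zero]
  · rw [hM, b0, mul_comm]
  · rw [hM, b1, mul_zero]

variable (R : Type u) [CommRing R] [IsDomain R] [IsDiscreteValuationRing R]
variable {X : Over (Spec (CommRingCat.of R))} (Γ : ArSurf.VertComp R X) [IsProper Γ.curve.hom]

/-- The degree of an invertible module on a vertical curve, through `h⁰ - h¹`. -/
theorem curveDeg_eq_hRank {M : Γ.curve.left.Modules} :
    ArSurf.curveDeg (IsLocalRing.ResidueField R) Γ.curve.left M =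
      ((Models.hRank _ _ Γ.curve.hom M 0 : ℤ) - Models.hRank _ _ Γ.curve.hom M 1) -
        ((Models.hRank _ _ Γ.curve.hom (Coh.structureModule _) 0 : ℤ) -
          Models.hRank _ _ Γ.curve.hom (Coh.structureModule _) 1) := by
  simp [ArSurf.curveDeg, FGA.eulerCharLE, Finset.sum_range_succ, sub_eq_add_neg]
  rfl

/-- The conormal degree is minus the self intersection. -/
theorem curveDeg_conormal (hD : BlowUp.IsEffCartierIdeal Γ.ι.ker) {L : X.left.Modules}
    (hL : ClSub.IsInverseOf L (ClSub.idealMod Γ.ι.ker)) :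
    ArSurf.inter R X (ClSub.idealMod Γ.ι.ker) Γ = - ArSurf.inter R X L Γ := by
  rw [Inters29.inter_inverse R Γ hD hL, Inters29.idealCl, Inters29.intCl_of, neg_neg]

theorem of_isExcCurve (hE : Models.IsExcCurve Γ.ι) {L : X.left.Modules}
    (hL : ClSub.IsInverseOf L (ClSub.idealMod Γ.ι.ker)) :
    Models.h1 R X Γ = 0 ∧ ArSurf.inter R X L Γ = -(Models.wdeg R X Γ : ℤ) := by
  obtain ⟨hD, k', _, e, ⟨φ⟩⟩ := hE
  let M := (Scheme.Modules.pullback Γ.ι).obj (ClSub.idealMod Γ.ι.ker)
  have hM : PicF.IsInvertible M :=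
    PicLoc.isInvertible_pullback Γ.ι (FlatMor12.IdealModGen.isInvertible_idealMod _ hD)
  haveI : Coh.IsQCoh M := isQCoh_of_isInvertible hM
  obtain ⟨d, h0, h1, m0, m1⟩ := projLine_data Γ.curve.hom e M
    (((Scheme.Modules.pullbackComp e.hom Γ.ι).app _) ≪≫ φ)
  have h := curveDeg_eq_hRank R Γ (M := M)
  rw [h0, h1, m0, m1] at h
  refine ⟨h1, ?_⟩
  have h2 := curveDeg_conormal R Γ hD hL
  rw [show ArSurf.inter R X (ClSub.idealMod Γ.ι.ker) Γ = _ from h] at h2
  have h3 : Models.wdeg R X Γ = d := h0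
  rw [h3]
  push_cast at h2
  omega

theorem isExcCurve_of (hD : BlowUp.IsEffCartierIdeal Γ.ι.ker) {L : X.left.Modules}
    (hL : ClSub.IsInverseOf L (ClSub.idealMod Γ.ι.ker)) (hh1 : Models.h1 R X Γ = 0)
    (hi : ArSurf.inter R X L Γ = -(Models.wdeg R X Γ : ℤ)) : Models.IsExcCurve Γ.ι := by
  let k := IsLocalRing.ResidueField R
  let E := Γ.curve.left
  letI : E.Over (Spec (CommRingCat.of k)) := ⟨Γ.curve.hom⟩
  haveI : IsProper (E ↘ Spec (CommRingCat.of k)) := ‹IsProper Γ.curve.hom›
  haveI : IsLocallyNoetherian E := CurveRR24.isLocallyNoetherian_of_proper k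
  haveI : CompactSpace E := QuasiCompact.compactSpace_of_compactSpace Γ.curve.hom
  haveI : E.IsSeparated := ⟨by rw [← terminal.comp_from Γ.curve.hom]; infer_instance⟩
  haveI : CompactSpace Γ.curve.left := ‹CompactSpace E›
  haveI : Γ.curve.left.IsSeparated := ‹E.IsSeparated›
  haveI : Nonempty (⊤ : E.Opens) := ⟨⟨genericPoint E, trivial⟩⟩
  obtain ⟨κ, _, φk, s, hs, hfin, hb⟩ : ∃ (κ : Type u) (_ : Field κ) (φk : k →+* κ) (s : E ⟶ Spec (CommRingCat.of κ)),
      Γ.curve.hom = s ≫ Spec.map (CommRingCat.ofHom φk) ∧ φk.Finite ∧ Function.Bijective (Coh.toGlobal s) := by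
    let φk : k →+* Γ(E, ⊤) := Coh.toGlobal Γ.curve.hom
    letI : Algebra k Γ(E, ⊤) := φk.toAlgebra
    haveI : Module.Finite k Γ(E, ⊤) := by
      haveI := CurveRR24.finite_HH_of_isCoh k (X := E) (isCoh_structureModule E) 0
      let e1 : Coh.HH E (Coh.structureModule E) 0 ≃ₗ[k] Γ(E, ⊤) :=
        { ((CurveRR24.hhZero k (Coh.structureModule E)).toAddEquiv : _ ≃+ Γ(E, ⊤)) with
          map_smul' := fun c v => (CurveRR24.hhZero k (Coh.structureModule E)).map_smul c v }
      exact Module.Finite.equiv e1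
    have hf : IsField Γ(E, ⊤) := by
      refine Inters29.isField_of_finite (k := k) fun c hc => ?_
      rcases mul_eq_zero.1 (show c * (c - 1) = 0 by rw [mul_sub, hc, mul_one, sub_self]) with h | h
      · exact Or.inl h
      · exact Or.inr (sub_eq_zero.1 h)
    refine ⟨Γ(E, ⊤), hf.toField, φk, E.toSpecΓ, ?_, ‹Module.Finite k Γ(E, ⊤)›, ?_⟩
    · show _ = E.toSpecΓ ≫ Spec.map ((Scheme.ΓSpecIso (CommRingCat.of k)).inv ≫ Γ.curve.hom.appTop)
      rw [Spec.map_comp, ← Scheme.toSpecΓ_naturality_assoc, toSpecΓ_SpecMap_ΓSpecIso_inv, Category.comp_id]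
    · have : ∀ c : Γ(E, ⊤), E.toSpecΓ.appTop ((Scheme.ΓSpecIso Γ(E, ⊤)).inv c) = c := fun c => by
        rw [Scheme.toSpecΓ_appTop]
        exact congr($((Scheme.ΓSpecIso Γ(E, ⊤)).inv_hom_id) c)
      exact ⟨fun x y hxy => (this x).symm.trans (hxy.trans (this y)), fun y => ⟨y, this y⟩⟩
  haveI : IsProper s := by
    haveI : IsProper (s ≫ Spec.map (CommRingCat.ofHom φk)) := hs ▸ ‹IsProper Γ.curve.hom›
    exact IsProper.of_comp s (Spec.map (CommRingCat.ofHom φk))
  have tr : ∀ (N : E.Modules) (q : ℕ),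
      Models.hRank k E Γ.curve.hom N q = Models.homDegree φk * Models.hRank κ E s N q := fun N q => by
    rw [hs]; exact hRank_comp φk s N q
  have hdpos : 0 < Models.homDegree φk := by
    letI := φk.toAlgebra
    haveI : Module.Finite k κ := hfin
    exact Module.finrank_pos (R := k) (M := κ)
  letI : E.Over (Spec (CommRingCat.of κ)) := ⟨s⟩
  haveI : IsProper (E ↘ Spec (CommRingCat.of κ)) := ‹IsProper s›
  -- the constants
  have hk0 : Models.hRank κ E s (Coh.structureModule E) 0 = 1 := by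
    let φ := baseHom κ E
    have hφ : Function.Bijective φ := hb
    let e : κ ≃ₗ[κ] GA φ (Coh.structureModule E) :=
      { toFun := fun c => φ c
        map_add' := fun a b => map_add φ a b
        map_smul' := fun c a => map_mul φ c a
        invFun := (Equiv.ofBijective φ hφ).symm
        left_inv := (Equiv.ofBijective φ hφ).left_inv
        right_inv := (Equiv.ofBijective φ hφ).right_inv }
    show Module.finrank κ (Coh.HH E (Coh.structureModule E) 0) = 1
    rw [(CurveRR24.hhZero κ (Coh.structureModule E)).finrank_eq]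
    exact e.finrank_eq.symm.trans (Module.finrank_self κ)
  have hw : Models.wdeg R X Γ = Models.homDegree φk := (tr _ 0).trans (by rw [hk0, mul_one])
  have hk1 : Models.hRank κ E s (Coh.structureModule E) 1 = 0 :=
    (mul_eq_zero.1 ((tr _ 1).symm.trans hh1)).resolve_left hdpos.ne'
  -- the conormal module
  let M := (Scheme.Modules.pullback Γ.ι).obj (ClSub.idealMod Γ.ι.ker)
  have hM : PicF.IsInvertible M :=
    PicLoc.isInvertible_pullback Γ.ι (FlatMor12.IdealModGen.isInvertible_idealMod _ hD)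
  have hdeg : ArSurf.curveDeg k E M = Models.homDegree φk := by
    have h := curveDeg_conormal R Γ hD hL
    rw [hi, neg_neg, hw] at h
    exact h
  have hdegκ : Curv2.deg κ E M 1 = 1 := by
    rw [← Inters29.curveDeg_eq_deg κ Γ.dim_eq.le hM]
    have h := curveDeg_eq_hRank R Γ (M := M)
    rw [hdeg, tr, tr, tr, tr] at h
    have h2 : ArSurf.curveDeg κ E M = ((Models.hRank κ E s M 0 : ℤ) - Models.hRank κ E s M 1) -
        ((Models.hRank κ E s (Coh.structureModule _) 0 : ℤ) - Models.hRank κ E s (Coh.structureModule _) 1) := by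
      simp [ArSurf.curveDeg, FGA.eulerCharLE, Finset.sum_range_succ, sub_eq_add_neg]
      rfl
    rw [h2]
    refine mul_left_cancel₀ (Nat.cast_ne_zero.2 hdpos.ne' : (Models.homDegree φk : ℤ) ≠ 0) ?_
    push_cast at h
    linarith
  haveI : Module.Finite κ (Coh.HH E (Coh.structureModule E) 1) :=
    CurveRR24.finite_HH_of_isCoh κ (isCoh_structureModule E) 1
  obtain ⟨e, he⟩ := CurveRR24.exists_iso_projLine_of_h1 κ Γ.dim_eq (Module.finrank_zero_iff.1 hk1) hM hdegκ
  refine ⟨hD, κ, inferInstance, e.symm, ?_⟩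
  -- the conormal module is `O(1)`
  let P := CohB1.ProjSpace 1 κ
  let N := (Scheme.Modules.pullback (e.inv ≫ Γ.ι)).obj (ClSub.idealMod Γ.ι.ker)
  let N' := (Scheme.Modules.pullback e.inv).obj M
  have hpb : IsPullback e.inv (P ↘ Spec (CommRingCat.of κ)) (E ↘ Spec (CommRingCat.of κ))
      (Spec.map (CommRingCat.ofHom (algebraMap κ κ))) := by
    rw [show CommRingCat.ofHom (algebraMap κ κ) = 𝟙 _ from rfl, Spec.map_id]
    refine IsPullback.of_horiz_isIso ⟨?_⟩
    rw [Category.comp_id, ← he, Iso.inv_hom_id_assoc]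
    rfl
  haveI : Coh.IsQCoh M := isQCoh_of_isInvertible hM
  have hN' : Curv2.deg κ P N' 1 = 1 := (CurveRR24.deg_bc hpb M 1).trans hdegκ
  obtain ⟨n, -, ⟨i⟩⟩ := (SplitP1.existsUnique_splitting (k := κ) 1 N' (isFinLocFreeOfRank_one (PicLoc.isInvertible_pullback e.inv hM))).exists
  obtain ⟨i1⟩ : Nonempty (N' ≅ Twist.twistProjSpace 1 κ (n 0)) :=
    ⟨i ≪≫ CategoryTheory.Limits.coproductUniqueIso (fun j : Fin 1 => Twist.twistProjSpace 1 κ (n j))⟩
  have hn : n 0 = 1 := by
    haveI : IsProper (CohB1.ProjSpace.toSpec 1 κ) := CurveLib.isProper_projSpace κ 1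
    haveI : IsProper (P ↘ Spec (CommRingCat.of κ)) := ‹IsProper (CohB1.ProjSpace.toSpec 1 κ)›
    have hd : topologicalKrullDim P ≤ 1 :=
      (e.hom.homeomorph.isHomeomorph.topologicalKrullDim_eq _).symm.trans_le Γ.dim_eq.le
    have hrr := CurveRR24.riemann_roch κ hd (PicLoc.isInvertible_pullback e.inv hM : PicF.IsInvertible N')
    rw [hN', CurveRR24.finrank_projLine_structure, CurveRR24.finrank_HH_congr κ i1 0,
      CurveRR24.finrank_HH_congr κ i1 1, SplitP1.h0_twist] at hrr
    haveI := subsingleton_HH_structureModule (R := κ) (n := 1) 1 one_pos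
    have hg : Curv2.genus κ P = 0 := Module.finrank_zero_of_subsingleton
    rw [hg] at hrr
    have : 1 ≤ n 0 := by
      by_contra hlt
      have h2 : ((n 0 + 1).toNat : ℤ) ≤ 1 := by omega
      omega
    haveI := subsingleton_HH_twist (R := κ) (n := 1) (d := n 0) 1 (by omega) (by omega)
    rw [Module.finrank_zero_of_subsingleton] at hrr
    omega
  exact ⟨((Scheme.Modules.pullbackComp e.inv Γ.ι).app _).symm ≪≫ i1 ≪≫ eqToIso (by rw [hn])⟩

end Groth.Agent.Models7
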