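import Groth.Agent.Models7.ExcCriterion

/-!
# Degrees on a vertical curve are multiples of the degree of its field of constants
-/

set_option autoImplicit false
set_option linter.style.haveILetI false
set_option backward.isDefEq.respectTransparency.types false
set_option maxHeartbeats 1000000

universe u

open CategoryTheory CategoryTheory.Limits AlgebraicGeometry
open Groth.Agent.Coherent Groth.Agent.PicLib Groth.Agent.AmpleLib Groth.Agent.EulerLib

namespace Groth.Agent.Models7

variable (R : Type u) [CommRing R] [IsDomain R] [IsDiscreteValuationRing R]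
variable {X : Over (Spec (CommRingCat.of R))} (Γ : ArSurf.VertComp R X) [IsProper Γ.curve.hom]

theorem wdeg_pos_and_dvd : 0 < Models.wdeg R X Γ ∧ ∀ (N : Γ.curve.left.Modules) (q : ℕ),
    Models.wdeg R X Γ ∣ Models.hRank (IsLocalRing.ResidueField R) Γ.curve.left Γ.curve.hom N q := by
  let k := IsLocalRing.ResidueField R
  let E := Γ.curve.left
  letI : E.Over (Spec (CommRingCat.of k)) := ⟨Γ.curve.hom⟩
  haveI : IsProper (E ↘ Spec (CommRingCat.of k)) := ‹IsProper Γ.curve.hom›
  haveI : IsLocallyNoetherian E := CurveRR24.isLocallyNoetherian_of_proper k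
  haveI : CompactSpace E := QuasiCompact.compactSpace_of_compactSpace Γ.curve.hom
  haveI : E.IsSeparated := ⟨by rw [← terminal.comp_from Γ.curve.hom]; infer_instance⟩
  haveI : CompactSpace Γ.curve.left := ‹CompactSpace E›
  haveI : Γ.curve.left.IsSeparated := ‹E.IsSeparated›
  haveI : Nonempty (⊤ : E.Opens) := ⟨⟨genericPoint E, trivial⟩⟩
  obtain ⟨κ, _, φk, s, hs, hfin, hb⟩ : ∃ (κ : Type u) (_ : Field κ) (φk : k →+* κ) (s : E ⟶ Spec (CommRingCat.of κ)),
      Γ.curve.hom = s ≫ Spec.map (CommRingCat.ofHom φk) ∧ φk.Finite ∧ Function.Bijective (Coh.toGlobal s) := by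
    let φk : k →+* Γ(E, ⊤) := Coh.toGlobal Γ.curve.hom
    letI : Algebra k Γ(E, ⊤) := φk.toAlgebra
    haveI : Module.Finite k Γ(E, ⊤) := by
      haveI := CurveRR24.finite_HH_of_isCoh k (X := E) (isCoh_structureModule E) 0
      let e1 : Coh.HH E (Coh.structureModule E) 0 ≃ₗ[k] Γ(E, ⊤) :=
        { ((CurveRR24.hhZero k (Coh.structureModule E)).toAddEquiv : _ ≃+ Γ(E, ⊤)) with
          map_smul' := fun c v => (CurveRR24.hhZero k (Coh.structureModule E)).map_smul c v }
      exact Module.Finite.equiv e1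
    have hf : IsField Γ(E, ⊤) := by
      refine Inters29.isField_of_finite (k := k) fun c hc => ?_
      rcases mul_eq_zero.1 (show c * (c - 1) = 0 by rw [mul_sub, hc, mul_one, sub_self]) with h | h
      · exact Or.inl h
      · exact Or.inr (sub_eq_zero.1 h)
    refine ⟨Γ(E, ⊤), hf.toField, φk, E.toSpecΓ, ?_, ‹Module.Finite k Γ(E, ⊤)›, ?_⟩
    · show _ = E.toSpecΓ ≫ Spec.map ((Scheme.ΓSpecIso (CommRingCat.of k)).inv ≫ Γ.curve.hom.appTop)
      rw [Spec.map_comp, ← Scheme.toSpecΓ_naturality_assoc, toSpecΓ_SpecMap_ΓSpecIso_inv, Category.comp_id]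
    · have : ∀ c : Γ(E, ⊤), E.toSpecΓ.appTop ((Scheme.ΓSpecIso Γ(E, ⊤)).inv c) = c := fun c => by
        rw [Scheme.toSpecΓ_appTop]
        exact congr($((Scheme.ΓSpecIso Γ(E, ⊤)).inv_hom_id) c)
      exact ⟨fun x y hxy => (this x).symm.trans (hxy.trans (this y)), fun y => ⟨y, this y⟩⟩
  haveI : IsProper s := by
    haveI : IsProper (s ≫ Spec.map (CommRingCat.ofHom φk)) := hs ▸ ‹IsProper Γ.curve.hom›
    exact IsProper.of_comp s (Spec.map (CommRingCat.ofHom φk))
  have tr : ∀ (N : E.Modules) (q : ℕ),
      Models.hRank k E Γ.curve.hom N q = Models.homDegree φk * Models.hRank κ E s N q := fun N q => by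
    rw [hs]; exact hRank_comp φk s N q
  have hdpos : 0 < Models.homDegree φk := by
    letI := φk.toAlgebra
    haveI : Module.Finite k κ := hfin
    exact Module.finrank_pos (R := k) (M := κ)
  letI : E.Over (Spec (CommRingCat.of κ)) := ⟨s⟩
  haveI : IsProper (E ↘ Spec (CommRingCat.of κ)) := ‹IsProper s›
  -- the constants
  have hk0 : Models.hRank κ E s (Coh.structureModule E) 0 = 1 := by
    let φ := baseHom κ E
    have hφ : Function.Bijective φ := hb
    let e : κ ≃ₗ[κ] GA φ (Coh.structureModule E) :=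
      { toFun := fun c => φ c
        map_add' := fun a b => map_add φ a b
        map_smul' := fun c a => map_mul φ c a
        invFun := (Equiv.ofBijective φ hφ).symm
        left_inv := (Equiv.ofBijective φ hφ).left_inv
        right_inv := (Equiv.ofBijective φ hφ).right_inv }
    show Module.finrank κ (Coh.HH E (Coh.structureModule E) 0) = 1
    rw [(CurveRR24.hhZero κ (Coh.structureModule E)).finrank_eq]
    exact e.finrank_eq.symm.trans (Module.finrank_self κ)
  have hw : Models.wdeg R X Γ = Models.homDegree φk := (tr _ 0).trans (by rw [hk0, mul_one])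
  exact ⟨hw ▸ hdpos, fun N q => hw ▸ Dvd.intro _ (tr N q).symm⟩

/-- Intersection numbers with a vertical curve are multiples of the degree of its field of constants. -/
theorem wdeg_dvd_inter (M : X.left.Modules) : (Models.wdeg R X Γ : ℤ) ∣ ArSurf.inter R X M Γ := by
  have h := fun N q => Int.natCast_dvd_natCast.2 ((wdeg_pos_and_dvd R Γ).2 N q)
  rw [ArSurf.inter, curveDeg_eq_hRank R Γ]
  exact dvd_sub (dvd_sub (h _ 0) (h _ 1)) (dvd_sub (h _ 0) (h _ 1))

end Groth.Agent.Models7
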