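import Groth.Agent.Models7.GenusFormula
import Groth.Agent.Models7.ExcCriterion
import Groth.Agent.Models7.WdegDvd
import Groth.Agent.Inters29.Connected
import Groth.Agent.Inters29.Family

/-!
# Meeting exceptional curves occur only in genus zero
-/

set_option autoImplicit false
set_option linter.style.haveILetI false
set_option backward.isDefEq.respectTransparency false

universe u

open CategoryTheory CategoryTheory.Limits AlgebraicGeometry

namespace Groth.Agent.Models7

/-- Two exceptional curves on a regular proper model meet only if the generic fibre has genus zero. -/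
theorem genus_eq_zero_of_excCurves_meet (R : Type u) [CommRing R] [IsDomain R] [IsDiscreteValuationRing R]
    (C X : Scheme.{u}) (f : C ⟶ Spec (CommRingCat.of (FractionRing R))) (p : X ⟶ Spec (CommRingCat.of R))
    (hC : PropCurve (FractionRing R) C f) (hH0 : IsIso f.appTop)
    (hX : Models.IsRegularProperModel R X p C f)
    {n : ℕ} (Γ : Fin n → ArSurf.VertComp R (Over.mk p)) (hΓ : Models.IsComponentList R (Over.mk p) Γ)
    (i j : Fin n) (hij : i ≠ j) (hi : Models.IsExcCurve (Γ i).ι) (hj : Models.IsExcCurve (Γ j).ι)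
    (hmeet : ¬ Disjoint (Set.range ((Γ i).ι.base : (Γ i).curve.left → X))
      (Set.range ((Γ j).ι.base : (Γ j).curve.left → X))) :
    Models.curveGenus (FractionRing R) C f = 0 := by
  classical
  have hC' := hC
  haveI := hC.2.2.1
  haveI : IsIntegral X := Groth.Agent.Inters29.isIntegral_model R hX.1 hX.2.2
  haveI := hX.2.1
  haveI : IsLocallyNoetherian X := LocallyOfFiniteType.isLocallyNoetherian p
  haveI : IsIntegral (Over.mk p).left := inferInstanceAs (IsIntegral X)
  haveI : IsLocallyNoetherian (Over.mk p).left := inferInstanceAs (IsLocallyNoetherian X)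
  haveI : Flat (Over.mk p).hom := hX.1.1
  haveI : IsProper (Over.mk p).hom := hX.2.1
  haveI : ∀ l, IsProper (Γ l).curve.hom := fun l => Groth.Agent.Inters29.isProper_curve R (Γ l)
  have hD := (fun l => Groth.Agent.Inters29.isEffCartier_listComp R Γ (X := Over.mk p) hX.2.2 hΓ l)
  choose L hL using fun l => Groth.Agent.Inters29.exists_inverse_ker R (X := Over.mk p) hX.2.2 (hD l)
  obtain ⟨g, hg⟩ := hX.1.2.2.2
  have hconn : _root_.IsConnected (Models.specialFibreSet R (Over.mk p)) :=
    Groth.Agent.Inters29.isConnected_specialFibreSet R hH0 g hg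
  let a : Fin n → Fin n → ℤ := fun s t => ArSurf.inter R (Over.mk p) (L t) (Γ s)
  let m : Fin n → ℤ := fun s => (Models.mult R (Over.mk p) (Γ s) : ℤ)
  let w : Fin n → ℤ := fun s => (Models.wdeg R (Over.mk p) (Γ s) : ℤ)
  have hsym : ∀ s t, a s t = a t s := fun s t => Groth.Agent.Models7.inter_symm_model hC' hX hΓ L hL s t
  have hoff : ∀ s t, s ≠ t → 0 ≤ a s t := fun s t hst =>
    (Groth.Agent.Inters29.inter_offDiag R (X := Over.mk p) hX.2.2 Γ hΓ L hL hst).1
  have hm : ∀ s, 0 < m s := fun s => Int.natCast_pos.2 (Groth.Agent.Inters29.mult_pos' R (X := Over.mk p) Γ hΓ hX.2.2 s)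
  have hw : ∀ s, 0 < w s := fun s => Int.natCast_pos.2 (Groth.Agent.Models7.wdeg_pos_and_dvd R (Γ s)).1
  have hdvd : ∀ s t, w s ∣ a s t := fun s t => Groth.Agent.Models7.wdeg_dvd_inter R (Γ s) (L t)
  have hsum : ∀ s, ∑ t, m t * a s t = 0 := fun s =>
    Groth.Agent.Inters29.sum_mult_mul_inter R (X := Over.mk p) hX.2.2 Γ hΓ L hL (Γ s)
  have hei := Groth.Agent.Models7.of_isExcCurve R (Γ i) hi (hL i)
  have hej := Groth.Agent.Models7.of_isExcCurve R (Γ j) hj (hL j)
  have hpos : 0 < a i j := lt_of_le_of_ne (hoff i j hij) fun h =>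
    hmeet ((Groth.Agent.Inters29.inter_offDiag R (X := Over.mk p) hX.2.2 Γ hΓ L hL hij).2.1 h.symm)
  -- a row of the intersection matrix at an exceptional curve
  have key : ∀ s t, s ≠ t → a s s = -w s →
      m s * w s = m t * a s t + ∑ l ∈ (Finset.univ.erase s).erase t, m l * a s l := fun s t hst hss => by
    have h := hsum s
    rw [← Finset.add_sum_erase _ _ (Finset.mem_univ s),
      ← Finset.add_sum_erase _ _ (Finset.mem_erase.2 ⟨hst.symm, Finset.mem_univ t⟩), hss] at h
    linarith
  have hrest : ∀ s t, 0 ≤ ∑ l ∈ (Finset.univ.erase s).erase t, m l * a s l := fun s t =>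
    Finset.sum_nonneg fun l hl => mul_nonneg (hm l).le
      (hoff s l (Finset.mem_erase.1 (Finset.mem_erase.1 hl).2).1.symm)
  have k1 := key i j hij hei.2
  have k2 := key j i hij.symm hej.2
  have d1 : w i ≤ a i j := Int.le_of_dvd hpos (hdvd i j)
  have d2 : w j ≤ a j i := Int.le_of_dvd (hsym i j ▸ hpos) (hdvd j i)
  have e1 : m j * w i ≤ m j * a i j := mul_le_mul_of_nonneg_left d1 (hm j).le
  have e2 : m i * w j ≤ m i * a j i := mul_le_mul_of_nonneg_left d2 (hm i).le
  have hmij : m i = m j := le_antisymm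
    (le_of_mul_le_mul_right (by linarith [hrest j i]) (hw j))
    (le_of_mul_le_mul_right (by linarith [hrest i j]) (hw i))
  have r1 : ∑ l ∈ (Finset.univ.erase i).erase j, m l * a i l = 0 := by
    rw [hmij] at k1; linarith [hrest i j]
  have r2 : ∑ l ∈ (Finset.univ.erase j).erase i, m l * a j l = 0 := by
    rw [← hmij] at k2; linarith [hrest j i]
  have hwi : a i j = w i := by
    have : m j * a i j = m j * w i := by rw [hmij] at k1; linarith
    exact mul_left_cancel₀ (hm j).ne' this
  have hwj : a i j = w j := by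
    have : m i * a j i = m i * w j := by rw [← hmij] at k2; linarith
    rw [hsym i j]
    exact mul_left_cancel₀ (hm i).ne' this
  have hz : ∀ s t, s ≠ t → ∑ l ∈ (Finset.univ.erase s).erase t, m l * a s l = 0 →
      ∀ l, l ≠ s → l ≠ t → a s l = 0 := fun s t _ h l hls hlt => by
    have h' := (Finset.sum_eq_zero_iff_of_nonneg fun l hl => mul_nonneg (hm l).le
      (hoff s l (Finset.mem_erase.1 (Finset.mem_erase.1 hl).2).1.symm)).1 h l
      (Finset.mem_erase.2 ⟨hlt, Finset.mem_erase.2 ⟨hls, Finset.mem_univ l⟩⟩)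
    exact (mul_eq_zero.1 h').resolve_left (hm l).ne'
  have huniv : (Finset.univ : Finset (Fin n)) = {i, j} := by
    by_contra hne
    obtain ⟨s, hs, t, ht, hst⟩ := Groth.Agent.Inters29.inter_connected_of_list R (X := Over.mk p) hX.2.2 Γ hΓ L hL
      hconn {i, j} ⟨i, by simp⟩ fun h => hne h.symm
    simp only [Finset.mem_insert, Finset.mem_singleton, not_or] at hs ht
    rcases hs with rfl | rfl
    · exact hst (hz _ _ hij r1 t ht.1 ht.2)
    · exact hst (hz _ _ hij.symm r2 t ht.2 ht.1)
  have hn : n = 2 := by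
    have h := congrArg Finset.card huniv
    rwa [Finset.card_univ, Fintype.card_fin, Finset.card_pair hij] at h
  have hl : ∀ l, l = i ∨ l = j := fun l => by
    have h := Finset.mem_univ l
    rw [huniv] at h
    simpa using h
  have hgen := Groth.Agent.Models7.genus_formula hC' hH0 hX hΓ L hL
  rw [huniv, Finset.sum_pair hij, hei.1, hej.1, hei.2, hej.2] at hgen
  have hgen' : (Models.curveGenus (FractionRing R) C f : ℤ) + m i * w i = 1 := by
    simp only [Nat.cast_zero, zero_sub] at hgen
    have : m j = m i := hmij.symm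
    have : w j = w i := hwj.symm.trans hwi
    show _ + (Models.mult R (Over.mk p) (Γ i) : ℤ) * (Models.wdeg R (Over.mk p) (Γ i) : ℤ) = 1
    simp only [m, w] at *
    rw [‹(Models.mult R (Over.mk p) (Γ j) : ℤ) = _›, ‹(Models.wdeg R (Over.mk p) (Γ j) : ℤ) = _›] at hgen
    linarith
  have hmw : m i * w i = 1 := by
    have h1 : 1 ≤ m i * w i := mul_pos (hm i) (hw i)
    have h2 : (0 : ℤ) ≤ Models.curveGenus (FractionRing R) C f := Int.natCast_nonneg _
    linarith
  omega

end Groth.Agent.Models7
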