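import Groth.Agent.Models7.ContractionSeq
import Groth.Agent.CurveLib.ProjLine
import Groth.Agent.Inters29.Horizontal

/-!
# Exceptional curves depend only on the support and are local around the support
-/

set_option autoImplicit false
set_option linter.style.haveILetI false
set_option backward.isDefEq.respectTransparency false
set_option maxHeartbeats 1000000

universe u

open CategoryTheory CategoryTheory.Limits AlgebraicGeometry TopologicalSpace IsLocalRing Opposite
open Groth.Agent.Misc15.DivDescent Groth.Agent.SDiv28.CartierPart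

namespace Groth.Agent.Models7

/-- An exceptional curve is an integral scheme. -/
theorem isIntegral_of_isExcCurve {E Y : Scheme.{u}} {ι : E ⟶ Y} (h : Models.IsExcCurve ι) : IsIntegral E := by
  obtain ⟨-, k, hk, e, -⟩ := h
  haveI := CurveLib.isIntegral_projSpace k 1
  haveI : Nonempty E := ⟨e.hom (genericPoint _)⟩
  exact isIntegral_of_isOpenImmersion e.inv

/-- Being an exceptional curve only depends on the support. -/
theorem isExcCurve_of_range_eq {E₁ E₂ Y : Scheme.{u}} (ι₁ : E₁ ⟶ Y) (ι₂ : E₂ ⟶ Y) [IsClosedImmersion ι₁]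
    [IsClosedImmersion ι₂] [IsReduced E₂] (h : Set.range ι₁.base = Set.range ι₂.base)
    (hE : Models.IsExcCurve ι₁) : Models.IsExcCurve ι₂ := by
  haveI := isIntegral_of_isExcCurve hE
  have hker : ι₁.ker = ι₂.ker := by
    rw [Props12.ker_eq_vanishingIdeal, Props12.ker_eq_vanishingIdeal]
    congr 1
    exact Closeds.ext (by show closure (Set.range ι₁.base) = closure (Set.range ι₂.base); rw [h])
  let a := IsClosedImmersion.lift ι₂ ι₁ hker.ge
  let b := IsClosedImmersion.lift ι₁ ι₂ hker.le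
  have hab : a ≫ b = 𝟙 E₁ := by
    rw [← cancel_mono ι₁, Category.assoc, IsClosedImmersion.lift_fac, IsClosedImmersion.lift_fac, Category.id_comp]
  have hba : b ≫ a = 𝟙 E₂ := by
    rw [← cancel_mono ι₂, Category.assoc, IsClosedImmersion.lift_fac, IsClosedImmersion.lift_fac, Category.id_comp]
  obtain ⟨hD, k, hk, e, ⟨φ⟩⟩ := hE
  refine ⟨hker ▸ hD, k, hk, e ≪≫ ⟨a, b, hab, hba⟩, ⟨?_⟩⟩
  rw [← hker]
  exact (Scheme.Modules.pullbackCongr (show (e ≪≫ (⟨a, b, hab, hba⟩ : E₁ ≅ E₂)).hom ≫ ι₂ = e.hom ≫ ι₁ by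
    show (e.hom ≫ a) ≫ ι₂ = _
    rw [Category.assoc, IsClosedImmersion.lift_fac])).app _ ≪≫ φ

/-- A morphism which is an isomorphism over an open has bijective stalk maps above it. -/
theorem isIso_stalkMap_of_isIso_restrict {W Z : Scheme.{u}} (c : W ⟶ Z) (V : Z.Opens) [IsIso (c ∣_ V)] (x : W)
    (hx : c x ∈ V) : IsIso (c.stalkMap x) := by
  have : IsIso ((c ∣_ V).stalkMap ⟨x, hx⟩) := by
    exact ((isIso_iff_isIso_stalkMap (c ∣_ V)).mp ‹IsIso (c ∣_ V)›).2 _
  exact ((MorphismProperty.isomorphisms CommRingCat.{u}).arrow_mk_iso_iff (morphismRestrictStalkMap c V ⟨x, hx⟩)).1 this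

/-- An exceptional curve over an open where a proper morphism is an isomorphism maps to an exceptional curve. -/
theorem isExcCurve_comp_of_isIso_over {W Z : Scheme.{u}} [IsIntegral W] [IsIntegral Z] [IsLocallyNoetherian Z]
    (c : W ⟶ Z) [IsProper c] (V : Z.Opens) [IsIso (c ∣_ V)] {E : Scheme.{u}} (ι : E ⟶ W) [IsClosedImmersion ι]
    (hsub : Set.range ι.base ⊆ (c ⁻¹ᵁ V : W.Opens)) (hE : Models.IsExcCurve ι) :
    IsClosedImmersion (ι ≫ c) ∧ Models.IsExcCurve (ι ≫ c) := by
  haveI := isIntegral_of_isExcCurve hE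
  let O : W.Opens := c ⁻¹ᵁ V
  have hr : Set.range ι.base ⊆ Set.range O.ι.base := by rw [Scheme.Opens.range_ι]; exact hsub
  let ιV := IsOpenImmersion.lift O.ι ι hr
  have hιV : ιV ≫ O.ι = ι := IsOpenImmersion.lift_fac _ _ _
  haveI : IsClosedImmersion ιV := by
    haveI : IsClosedImmersion (ιV ≫ O.ι) := by rw [hιV]; infer_instance
    exact IsClosedImmersion.of_comp ιV O.ι
  have hfac : ι ≫ c = (ιV ≫ (c ∣_ V)) ≫ V.ι := by rw [Category.assoc, morphismRestrict_ι, reassoc_of% hιV]
  haveI : IsPreimmersion (ι ≫ c) := by rw [hfac]; infer_instance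
  haveI hcl : IsClosedImmersion (ι ≫ c) := IsClosedImmersion.of_isPreimmersion _ (by
    rw [Scheme.Hom.comp_base, TopCat.coe_comp, Set.range_comp]
    exact c.isClosedMap _ ι.isClosedEmbedding.isClosed_range)
  have hrange' : ∀ z : Z, z ∉ Set.range (ι ≫ c).base → stk (ι ≫ c).ker z = ⊤ := fun z hz => stk_eq_top (fun h => hz (by
    have h' : z ∈ closure (Set.range (ι ≫ c).base) := (Props12.support_ker_eq (ι ≫ c)).le h
    rwa [(ι ≫ c).isClosedEmbedding.isClosed_range.closure_eq] at h'))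
  have hrange : ∀ x : W, x ∉ Set.range ι.base → stk ι.ker x = ⊤ := fun x hx => stk_eq_top (fun h => hx (by
    have h' : x ∈ closure (Set.range ι.base) := (Props12.support_ker_eq ι).le h
    rwa [ι.isClosedEmbedding.isClosed_range.closure_eq] at h'))
  have hkey : ∀ e : E, stk (ι ≫ c).ker (c (ι e)) = (stk ι.ker (ι e)).comap (c.stalkMap (ι e)).hom := by
    intro e
    have h := Inters29.ker_stalkMap_eq_stk (ι ≫ c) e
    rw [Scheme.Hom.stalkMap_comp, CommRingCat.hom_comp, ← RingHom.comap_ker, Inters29.ker_stalkMap_eq_stk] at h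
    exact h.symm
  have hcomap : (ι ≫ c).ker.comap c = ι.ker := by
    refine ext_stk fun x => ?_
    rw [stk_comap]
    by_cases hx : x ∈ Set.range ι.base
    · obtain ⟨e, rfl⟩ := hx
      haveI := isIso_stalkMap_of_isIso_restrict c V (ι e) (hsub ⟨e, rfl⟩)
      rw [hkey e, Ideal.map_comap_of_surjective _ (ConcreteCategory.bijective_of_isIso (c.stalkMap (ι e))).2]
    · rw [hrange x hx, hrange' (c x) ?_, Ideal.map_top]
      rintro ⟨e, he⟩
      apply hx
      have hxO : c x ∈ V := by rw [← he, Scheme.Hom.comp_apply]; exact hsub ⟨e, rfl⟩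
      have h2 : (c ∣_ V) ⟨ι e, hsub ⟨e, rfl⟩⟩ = (c ∣_ V) ⟨x, hxO⟩ :=
        Subtype.ext (((morphismRestrict_base_coe c V _).trans ((Scheme.Hom.comp_apply ι c e).symm.trans he)).trans
          (morphismRestrict_base_coe c V _).symm)
      exact ⟨e, congrArg Subtype.val ((c ∣_ V).homeomorph.injective h2)⟩
  obtain ⟨hD, k, hk, e, ⟨φ⟩⟩ := hE
  have hD' : BlowUp.IsEffCartierIdeal (ι ≫ c).ker := by
    refine Inters29.isEffCartier_of_stk _ fun z => ?_
    by_cases hz : z ∈ Set.range (ι ≫ c).base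
    · obtain ⟨a, rfl⟩ := hz
      rw [show (ι ≫ c) a = c (ι a) from Scheme.Hom.comp_apply ι c a, hkey a]
      haveI := isIso_stalkMap_of_isIso_restrict c V (ι a) (hsub ⟨a, rfl⟩)
      let σ := (asIso (c.stalkMap (ι a))).commRingCatIsoToRingEquiv
      obtain ⟨g, hg, hgD⟩ := exists_gen hD (ι a)
      have hσ : (stk ι.ker (ι a)).comap (c.stalkMap (ι a)).hom = Ideal.span {σ.symm g} := by
        rw [hgD]
        show (Ideal.span {g}).comap σ = _
        rw [← Ideal.map_symm, Ideal.map_span, Set.image_singleton]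
      rw [hσ]
      exact ⟨⟨σ.symm g, rfl⟩, fun h => nonZeroDivisors.ne_zero hg (by
        simpa using congrArg σ (Ideal.span_singleton_eq_bot.1 h))⟩
    · rw [hrange' z hz]
      exact ⟨⟨1, Ideal.span_singleton_one.symm⟩, top_ne_bot⟩
  refine ⟨hcl, hD', k, hk, e, ?_⟩
  obtain ⟨ψ⟩ := Inters29.nonempty_pullback_idealMod_iso c (ι ≫ c).ker hD' (by rw [hcomap]; exact hD)
  exact ⟨((Scheme.Modules.pullbackCongr (Category.assoc e.hom ι c)).symm.app _) ≪≫
    ((Scheme.Modules.pullbackComp (e.hom ≫ ι) c).symm.app _) ≪≫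
    (Scheme.Modules.pullback (e.hom ≫ ι)).mapIso (ψ ≪≫ eqToIso (congrArg ClSub.idealMod hcomap)) ≪≫ φ⟩

end Groth.Agent.Models7
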