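import Groth.Agent.PnEmb.Ample
import Groth.Agent.MorProj.VeryAmple
import Groth.Agent.CAlgSmall.ProjMore
import Groth.Agent.Desc19b.AmpleFamily
import Groth.Prelude.Def_Neron

/-!
# The map to projective space given by a globally generated invertible module
-/

set_option autoImplicit false
set_option linter.style.haveILetI false
set_option backward.isDefEq.respectTransparency false

universe u

open CategoryTheory CategoryTheory.Limits AlgebraicGeometry TopologicalSpace Opposite
open Groth.Agent.Coherent Groth.Agent.PicLib Groth.Agent.AmpleLib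

namespace Groth.Agent.Models7

/-- A globally generated invertible module on a quasi-compact scheme gives a map to projective space whose
charts pull back to loci where a section generates. -/
theorem exists_projMap {R : Type u} [CommRing R] {X : Scheme.{u}} [CompactSpace X] [Nonempty X]
    (q : X ⟶ Spec (CommRingCat.of R)) {L : X.Modules} (hL : PicF.IsInvertible L)
    (hgg : Curv2.IsGloballyGenerated L) :
    ∃ (n : ℕ) (φ : X ⟶ CohB1.ProjSpace n R) (σ : Fin (n + 1) → Γ(L, ⊤)),
      φ ≫ CohB1.ProjSpace.toSpec n R = q ∧ (∀ x : X, ∃ i, x ∈ glocus L (σ i)) ∧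
        ∀ i, φ ⁻¹ᵁ PnEmb.chartOpen n R i = glocus L (σ i) := by
  classical
  choose a ha using fun x : X => Desc19b.exists_mem_glocus_of_gg hL hgg x
  obtain ⟨t, ht⟩ := isCompact_univ.elim_finite_subcover (fun x : X => (glocus L (a x) : Set X))
    (fun x => (glocus L (a x)).2) (fun x _ => Set.mem_iUnion.2 ⟨x, ha x⟩)
  obtain ⟨x₀⟩ := ‹Nonempty X›
  let l : List X := x₀ :: t.toList
  let σ : Fin (t.toList.length + 1) → Γ(L, ⊤) := fun i => a (l.get i)
  have hcov : ∀ x : X, ∃ i, x ∈ glocus L (σ i) := fun x => by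
    obtain ⟨y, hy, hxy⟩ := Set.mem_iUnion₂.1 (ht (Set.mem_univ x))
    obtain ⟨i, hi⟩ := List.mem_iff_get.1 (List.mem_cons_of_mem x₀ (Finset.mem_toList.2 hy))
    exact ⟨i, by show x ∈ glocus L (a (l.get i)); rw [show l.get i = y from hi]; exact hxy⟩
  obtain ⟨φ, hφ, τ, hτ⟩ := UPLib.exists_hom_projSpace t.toList.length q hL σ hcov
  exact ⟨_, φ, σ, hφ, hcov, fun i => PnEmb.preimage_chartOpen φ τ hτ i⟩

/-- An invertible module is trivial along a map landing in the locus where a section generates. -/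
theorem nonempty_pullback_iso_of_glocus {X Z : Scheme.{u}} (ι : Z ⟶ X) {L : X.Modules}
    (hL : PicF.IsInvertible L) (s : Γ(L, ⊤)) (h : Set.range ι.base ⊆ (glocus L s : Set X)) :
    Nonempty ((Scheme.Modules.pullback ι).obj L ≅ Coh.structureModule Z) := by
  have htop : glocus ((Scheme.Modules.pullback ι).obj L) (pullSec ι s) = ⊤ := by
    rw [glocus_pullSec ι hL]
    exact eq_top_iff.2 fun z _ => h ⟨z, rfl⟩
  have := (le_glocus_iff (L := (Scheme.Modules.pullback ι).obj L) (pullSec ι s) ⊤).1 htop.ge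
  exact PnEmb.nonempty_iso_of_isGen_top this

/-- A morphism from a scheme whose functions form a field to an affine scheme has one point as image. -/
theorem subsingleton_range_of_isField {Z V : Scheme.{u}} [IsAffine V] (g : Z ⟶ V) (hZ : IsField Γ(Z, ⊤)) :
    (Set.range g.base).Subsingleton := by
  letI := hZ.toField
  haveI : Subsingleton (Spec Γ(Z, ⊤)) := inferInstanceAs (Subsingleton (PrimeSpectrum Γ(Z, ⊤)))
  rintro _ ⟨a, rfl⟩ _ ⟨b, rfl⟩
  refine V.toSpecΓ.homeomorph.injective ?_
  show (g ≫ V.toSpecΓ) a = (g ≫ V.toSpecΓ) b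
  rw [Scheme.toSpecΓ_naturality, Scheme.Hom.comp_apply, Scheme.Hom.comp_apply,
    Subsingleton.elim (Z.toSpecΓ a) (Z.toSpecΓ b)]

/-- A curve along which the module is trivial is collapsed by the map to projective space. -/
theorem subsingleton_range_of_trivial {R : Type u} [CommRing R] {X Z : Scheme.{u}} {n : ℕ}
    (φ : X ⟶ CohB1.ProjSpace n R) {L : X.Modules} (hL : PicF.IsInvertible L) (σ : Fin (n + 1) → Γ(L, ⊤))
    (hcov : ∀ x : X, ∃ i, x ∈ glocus L (σ i))
    (hσ : ∀ i, φ ⁻¹ᵁ PnEmb.chartOpen n R i = glocus L (σ i))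
    (ι : Z ⟶ X) [Nonempty Z] (hZ : IsField Γ(Z, ⊤))
    (e : (Scheme.Modules.pullback ι).obj L ≅ Coh.structureModule Z) :
    (φ.base '' Set.range ι.base).Subsingleton := by
  obtain ⟨z⟩ := ‹Nonempty Z›
  obtain ⟨j, hj⟩ := hcov (ι z)
  let c : Γ(Z, ⊤) := e.hom.app ⊤ (pullSec ι (σ j))
  have hc : ι ⁻¹ᵁ glocus L (σ j) = Z.basicOpen c := by
    rw [← glocus_pullSec ι hL, ← glocus_map_iso e]
    exact glocus_structureModule c
  have hne : c ≠ 0 := by
    intro h0
    have hz : z ∈ Z.basicOpen c := hc ▸ hj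
    rw [h0, Scheme.basicOpen_zero] at hz
    exact hz
  letI := hZ.toField
  have htop : Z.basicOpen c = ⊤ := Z.basicOpen_of_isUnit (isUnit_iff_ne_zero.2 hne)
  have hle : Set.range (ι ≫ φ).base ⊆ Set.range (PnEmb.chartOpen n R j).ι.base := by
    rw [Scheme.Opens.range_ι]
    rintro _ ⟨w, rfl⟩
    show ι w ∈ φ ⁻¹ᵁ PnEmb.chartOpen n R j
    rw [hσ j]
    show w ∈ ι ⁻¹ᵁ glocus L (σ j)
    rw [hc, htop]
    trivial
  haveI : IsAffine (PnEmb.chartOpen n R j).toScheme := PnEmb.isAffineOpen_chartOpen j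
  have hs := subsingleton_range_of_isField (IsOpenImmersion.lift (PnEmb.chartOpen n R j).ι (ι ≫ φ) hle) hZ
  rintro _ ⟨_, ⟨a, rfl⟩, rfl⟩ _ ⟨_, ⟨b, rfl⟩, rfl⟩
  have h2 := congrArg (PnEmb.chartOpen n R j).ι.base (hs ⟨a, rfl⟩ ⟨b, rfl⟩)
  rwa [← Scheme.Hom.comp_apply, ← Scheme.Hom.comp_apply, IsOpenImmersion.lift_fac] at h2

/-- A finite scheme over projective space is projective over the base. -/
theorem isProjectiveOver_of_finite {R : Type u} [CommRing R] {n : ℕ}
    {Y : Over (Spec (CommRingCat.of R))} [IsProper Y.hom] (g : Y.left ⟶ CohB1.ProjSpace n R) [IsFinite g] :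
    Neron.IsProjectiveOver R Y := by
  classical
  have hO : CohB1.IsAmple (Twist.twistProjSpace n R 1) :=
    TwistLib.G.isAmple_twist_one (𝒜 := CohB1.polyGrading n R)
      (Finset.univ.image MvPolynomial.X) (by
        intro p hp
        obtain ⟨j, -, rfl⟩ := Finset.mem_image.1 hp
        exact MvPolynomial.isHomogeneous_X _ j)
      (by
        rw [Finset.coe_image, Finset.coe_univ, Set.image_univ]
        refine le_antisymm (ProjLib.irrelevant_le_span_X n _) (Ideal.span_le.2 ?_)
        rintro _ ⟨j, rfl⟩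
        exact HomogeneousIdeal.mem_irrelevant_of_mem (CohB1.polyGrading n _) Nat.one_pos
          (MvPolynomial.isHomogeneous_X _ j))
  obtain ⟨n₀, hn₀⟩ := MorProj.eventually_isRelVeryAmplePn_pow Y.hom (isAmple_pullback_of_isAffineHom g hO)
  obtain ⟨m, i, hi, hiw, -⟩ := hn₀ (n₀ + 1) (Nat.le_succ _)
  haveI := hi
  haveI : IsSeparated (CohB1.ProjSpaceOver.toBase m (Spec (CommRingCat.of R))) :=
    CAlgSmall.ProjMore.isSeparated_toBase m _
  haveI : IsProper (i ≫ CohB1.ProjSpaceOver.toBase m (Spec (CommRingCat.of R))) := by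
    rw [show i ≫ CohB1.ProjSpaceOver.toBase m _ = Y.hom from hiw]; infer_instance
  haveI : IsProper i := IsProper.of_comp i (CohB1.ProjSpaceOver.toBase m (Spec (CommRingCat.of R)))
  exact ⟨m, i, (IsClosedImmersion.iff_isProper_and_mono i).2 ⟨inferInstance, inferInstance⟩, hiw⟩

end Groth.Agent.Models7
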