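import Groth.Agent.Models7.ExtendModel
import Groth.Agent.Models7.ProjMap
import Groth.Agent.Coherent.SteinFibre
import Groth.Agent.CAlgSmall.NormalNormalization
import Groth.Agent.Hurwitz24.Generic
import Groth.Agent.Coherent.ProjSpaceFinite
import Groth.Agent.CommAlg6.DimMaps
import Groth.Agent.Inters29.GenTriv
import Groth.Prelude.Def_ArSurf

/-!
# Contractions of curves on a normal surface by Stein factorisation
-/

set_option autoImplicit false
set_option linter.style.haveILetI false
set_option backward.isDefEq.respectTransparency false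
set_option maxHeartbeats 1000000

universe u

open CategoryTheory CategoryTheory.Limits AlgebraicGeometry TopologicalSpace IsLocalRing Opposite

namespace Groth.Agent.Models7

/-- A morphism with finite affine pieces and bijective pullback of functions is an isomorphism over
an open with finite fibres. -/
theorem isIso_morphismRestrict_of_finite_fibres {X Y : Scheme.{u}} (f : X ⟶ Y) [IsProper f]
    (hf : ∀ U : Y.Opens, IsIso (f.app U)) (V : Y.Opens) (hV : ∀ y ∈ V, (f.base ⁻¹' {y}).Finite) :
    IsIso (f ∣_ V) := by
  have key : ∀ y ∈ V, ∃ U : Y.Opens, y ∈ U ∧ U ≤ V ∧ IsIso (f ∣_ U) := by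
    intro y hy
    obtain ⟨W, hyW, hW⟩ := exists_isFinite_morphismRestrict_of_finite_preimage_singleton f y (hV y hy)
    obtain ⟨U, hU, hyU, hle⟩ := exists_isAffineOpen_mem_and_subset (x := y) (U := W ⊓ V) ⟨hyW, hy⟩
    have hUW : U ≤ W := fun z hz => (hle hz).1
    refine ⟨U, hyU, fun z hz => (hle hz).2, ?_⟩
    haveI : IsAffine U.toScheme := hU
    haveI : IsAffineHom (f ∣_ W) := hW.toIsAffineHom
    have hpre : IsAffineOpen (f ⁻¹ᵁ U) := by
      have h1 : IsAffineOpen (W.ι ⁻¹ᵁ U) :=
        (hU.preimage_of_isOpenImmersion W.ι (by rw [Scheme.Opens.opensRange_ι]; exact hUW))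
      have h2 := (h1.preimage (f ∣_ W)).image_of_isOpenImmersion (f ⁻¹ᵁ W).ι
      rw [image_morphismRestrict_preimage, Scheme.Hom.image_preimage_eq_opensRange_inf,
        Scheme.Opens.opensRange_ι, inf_eq_right.2 hUW] at h2
      exact h2
    haveI : IsAffine (f ⁻¹ᵁ U).toScheme := hpre
    haveI : IsIso (f ∣_ U).appTop := by rw [morphismRestrict_appTop]; infer_instance
    exact ((MorphismProperty.isomorphisms Scheme.{u}).arrow_mk_iso_iff (arrowIsoSpecΓOfIsAffine (f ∣_ U))).2
      (inferInstanceAs (IsIso (Spec.map (f ∣_ U).appTop)))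
  choose U hyU hUV hiso using key
  refine (IsZariskiLocalAtTarget.iff_of_iSup_eq_top (P := MorphismProperty.isomorphisms Scheme.{u})
    (fun y : V => V.ι ⁻¹ᵁ U y.1 y.2) ?_).2 fun y => ?_
  · refine eq_top_iff.2 fun z _ => Opens.mem_iSup.2 ⟨z, hyU z.1 z.2⟩
  · refine ((MorphismProperty.isomorphisms Scheme.{u}).arrow_mk_iso_iff
      (morphismRestrictRestrict f V _ ≪≫ morphismRestrictEq f ?_)).2 (hiso y.1 y.2)
    rw [Scheme.Hom.image_preimage_eq_opensRange_inf, Scheme.Opens.opensRange_ι, inf_eq_right]
    exact hUV y.1 y.2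

/-- A point of a closed connected set with at least two points is a proper specialisation in it, or has a
proper specialisation. -/
theorem exists_specializes_ne {W : Scheme.{u}} [IsNoetherian W] {A : Set W} (hA : IsClosed A)
    (hconn : _root_.IsPreconnected A) {x : W} (hx : x ∈ A) (hxc : IsClosed ({x} : Set W)) {x' : W} (hx' : x' ∈ A)
    (hne : x' ≠ x) : ∃ c ∈ A, c ≠ x ∧ c ⤳ x := by
  obtain ⟨T, hTf, hTc, hTi, hAT⟩ := NoetherianSpace.exists_finite_set_isClosed_irreducible hA
  by_contra hno
  push Not at hno
  let B : Set W := ⋃₀ {t ∈ T | t ≠ {x}}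
  have hB : IsClosed B := by
    simp only [B, Set.sUnion_eq_biUnion]
    exact (hTf.subset fun t ht => ht.1).isClosed_biUnion fun t ht => hTc t ht.1
  have hxB : x ∉ B := by
    rintro ⟨t, ⟨ht, htne⟩, hxt⟩
    obtain ⟨c, hc⟩ := QuasiSober.sober (hTi t ht) (hTc t ht)
    have hcA : c ∈ A := hAT.ge ⟨t, ht, hc.mem⟩
    by_cases hcx : c = x
    · subst hcx
      exact htne (hc.def.symm.trans hxc.closure_eq)
    · exact hno c hcA hcx (hc.specializes hxt)
  have hcov : A ⊆ {x} ∪ B := by
    intro y hy
    obtain ⟨t, ht, hyt⟩ := hAT.le hy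
    by_cases htx : t = {x}
    · exact Or.inl (htx ▸ hyt)
    · exact Or.inr ⟨t, ⟨ht, htx⟩, hyt⟩
  obtain ⟨y, -, hyx, hyB⟩ := isPreconnected_closed_iff.1 hconn {x} B hxc hB hcov ⟨x, hx, rfl⟩
    ⟨x', hx', (hcov hx').resolve_left hne⟩
  exact hxB (Set.mem_singleton_iff.1 hyx ▸ hyB)

variable (R : Type u) [CommRing R] [IsDomain R] [IsDiscreteValuationRing R]

theorem topologicalKrullDim_eq_one_of_points {T : Type*} [TopologicalSpace T] [QuasiSober T] [T0Space T]
    (x₀ : T) (hgen : ∀ z, x₀ ⤳ z) (hcl : ∀ z, z ≠ x₀ → ∀ z', z ⤳ z' → z' = z) {z₁ : T} (hz₁ : z₁ ≠ x₀) :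
    topologicalKrullDim T = 1 := by
  letI := specializationOrder T
  rw [CommAlg6.topologicalKrullDim_eq_krullDim_points]
  refine le_antisymm ?_ ?_
  · refine iSup_le fun p => ?_
    by_contra hlt
    have hl : 2 ≤ p.length := by
      by_contra h
      exact hlt (by exact_mod_cast Nat.lt_succ_iff.1 (not_le.1 h))
    have h1 : p ⟨0, by omega⟩ < p ⟨1, by omega⟩ := p.strictMono (Fin.mk_lt_mk.2 Nat.zero_lt_one)
    have h2 : p ⟨1, by omega⟩ < p ⟨2, by omega⟩ := p.strictMono (Fin.mk_lt_mk.2 Nat.one_lt_two)
    refine h1.ne (hcl _ (fun h => ?_) _ h1.le)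
    exact (h ▸ h2).not_ge (hgen _)
  · have hlt : z₁ < x₀ := lt_of_le_of_ne (hgen z₁) hz₁
    exact le_iSup_of_le ((RelSeries.singleton _ x₀).cons z₁ hlt) le_rfl

/-- The closure of a point of the special fibre of a surface which is not closed is a vertical curve. -/
theorem exists_vertComp {X : Over (Spec (CommRingCat.of R))} [IsIntegral X.left] [QuasiCompact X.hom]
    (hdim : topologicalKrullDim X.left ≤ 2) (hη : X.hom (genericPoint X.left) ≠ closedPoint R) {x : X.left}
    (hx : X.hom x = closedPoint R) (hxc : ¬ IsClosed ({x} : Set X.left)) :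
    ∃ E : ArSurf.VertComp R X, Set.range E.ι.base = closure ({x} : Set X.left) := by
  have hsub : closure ({x} : Set X.left) ⊆ Models.specialFibreSet R X :=
    closure_minimal (Set.singleton_subset_iff.2 hx) (Models.isClosed_specialFibreSet R X)
  refine Inters29.exists_vertComp_of_dim R isClosed_closure isIrreducible_singleton.closure hsub ?_
  haveI : QuasiSober (closure ({x} : Set X.left)) :=
    (isClosed_closure.isClosedEmbedding_subtypeVal).quasiSober
  obtain ⟨z₁, hz₁, hz₁x⟩ : ∃ z ∈ closure ({x} : Set X.left), z ≠ x := by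
    by_contra h
    push Not at h
    exact hxc (closure_subset_iff_isClosed.1 fun z hz => h z hz)
  refine topologicalKrullDim_eq_one_of_points (T := (closure ({x} : Set X.left) : Set X.left))
    ⟨x, subset_closure rfl⟩ (fun z => (subtype_specializes_iff _ _).2 (specializes_iff_mem_closure.2 z.2))
    (fun z hz z' h => Subtype.ext (((subtype_specializes_iff _ _).1 h).mem_closed
      (isClosed_of_specializes_dim_two hdim (specializes_iff_mem_closure.2 z.2)
        (fun e => hz (Subtype.ext e.symm)) (fun e => hη (e ▸ hx))) rfl))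
    (z₁ := ⟨z₁, hz₁⟩) (fun h => hz₁x (congrArg Subtype.val h))

theorem exists_contraction {n : ℕ} (X : Over (Spec (CommRingCat.of R))) [IsIntegral X.left]
    (hnor : ∀ x : X.left, IsIntegrallyClosed (X.left.presheaf.stalk x))
    (hdim : topologicalKrullDim X.left = 2) [Flat X.hom] [IsProper X.hom]
    (φ : X.left ⟶ CohB1.ProjSpace n R) (hφ : φ ≫ CohB1.ProjSpace.toSpec n R = X.hom)
    (hnc : ∀ w : CohB1.ProjSpace n R, ∃ x : X.left, X.hom x ≠ closedPoint R ∧ φ x ≠ w)
    {r : ℕ} (Γ : Fin r → ArSurf.VertComp R X)
    (hcrit : ∀ E : ArSurf.VertComp R X, (φ.base '' Set.range E.ι.base).Subsingleton ↔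
      ∃ i, Set.range (E.ι.base : E.curve.left → X.left) = Set.range (Γ i).ι.base) :
    ∃ (Y : Over (Spec (CommRingCat.of R))) (f : X ⟶ Y),
      IsIntegral Y.left ∧ (∀ q : Y.left, IsIntegrallyClosed (Y.left.presheaf.stalk q)) ∧
      topologicalKrullDim Y.left = 2 ∧ Flat Y.hom ∧ Neron.IsProjectiveOver R Y ∧
      (∀ i, ∃ y : Y.left, Set.range (((Γ i).ι ≫ f.left).base : (Γ i).curve.left → Y.left) = {y}) ∧
      f.left.base ⁻¹' (f.left.base '' ⋃ i, Set.range (Γ i).ι.base) = ⋃ i, Set.range (Γ i).ι.base ∧
      ∀ V : Y.left.Opens, (V : Set Y.left) ∩ f.left.base '' (⋃ i, Set.range (Γ i).ι.base) = ∅ →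
        IsIso (f.left ∣_ V) := by
  haveI : IsLocallyNoetherian X.left := LocallyOfFiniteType.isLocallyNoetherian X.hom
  haveI : CompactSpace X.left := QuasiCompact.compactSpace_of_compactSpace X.hom
  haveI : IsProper (CohB1.ProjSpace.toSpec n R) := Coherent.isProper_projSpace_toSpec n R
  haveI : IsLocallyNoetherian (CohB1.ProjSpace n R) :=
    LocallyOfFiniteType.isLocallyNoetherian (CohB1.ProjSpace.toSpec n R)
  haveI : IsProper (φ ≫ CohB1.ProjSpace.toSpec n R) := by rw [hφ]; infer_instance
  haveI : IsProper φ := IsProper.of_comp φ (CohB1.ProjSpace.toSpec n R)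
  have hXn : Pi1.IsNormalScheme X.left := fun x => ⟨inferInstance, hnor x⟩
  haveI : IsNoetherian X.left := {}
  let f := φ.toNormalization
  let g := φ.fromNormalization
  have hfg : f ≫ g = φ := φ.toNormalization_fromNormalization
  haveI : IsProper f := Coherent.isProper_toNormalization φ
  haveI : IsFinite g := Coherent.isFinite_fromNormalization_of_isProper φ
  haveI : IsLocallyNoetherian φ.normalization := Coherent.isLocallyNoetherian_normalization φ
  have hsurj : Function.Surjective f := Coherent.surjective_toNormalization φ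
  have happ : ∀ U, IsIso (f.app U) := Coherent.isIso_toNormalization_app φ
  have hconn : ∀ w, _root_.IsPreconnected (f.base ⁻¹' {w}) :=
    Coherent.isPreconnected_preimage_toNormalization φ
  haveI : IrreducibleSpace φ.normalization := by
    haveI : Nonempty φ.normalization := ⟨f (genericPoint X.left)⟩
    have h := (IrreducibleSpace.isIrreducible_univ X.left).image f.base f.continuous.continuousOn
    rw [Set.image_univ, hsurj.range_eq] at h
    exact { isPreirreducible_univ := h.2, toNonempty := inferInstance }
  have hYn : Pi1.IsNormalScheme φ.normalization := (CAlgSmall.NormalNormalization.main φ hXn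
    fun x => ⟨Set.univ, Filter.univ_mem, by
      haveI : IsNoetherian X.left := {}
      haveI := (NoetherianSpace.finite_irreducibleComponents (α := X.left)).to_subtype
      exact Set.toFinite _⟩).1
  haveI : IsReduced φ.normalization :=
    haveI : ∀ y : φ.normalization, _root_.IsReduced (φ.normalization.presheaf.stalk y) := fun y => by
      haveI := (hYn y).1; infer_instance
    isReduced_of_isReduced_stalk _
  haveI : IsIntegral φ.normalization := isIntegral_of_irreducibleSpace_of_isReduced _
  let Y : Over (Spec (CommRingCat.of R)) := Over.mk (g ≫ CohB1.ProjSpace.toSpec n R)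
  have hfY : f ≫ Y.hom = X.hom := by
    show f ≫ g ≫ _ = _
    rw [← Category.assoc, hfg, hφ]
  haveI : IsProper Y.hom := inferInstanceAs (IsProper (g ≫ CohB1.ProjSpace.toSpec n R))
  haveI : IsIntegral Y.left := inferInstanceAs (IsIntegral φ.normalization)
  have hgen : f (genericPoint X.left) = genericPoint φ.normalization := by
    obtain ⟨x, hx⟩ := hsurj (genericPoint φ.normalization)
    exact (((genericPoint_specializes x).map f.continuous).antisymm
      (hx ▸ genericPoint_specializes _)).eq.trans hx
  have hgφ : ∀ x, g (f x) = φ x := fun x => congrArg (fun k : X.left ⟶ CohB1.ProjSpace n R => k x) hfg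
  let bot : Spec (CommRingCat.of R) := (⟨⊥, Ideal.isPrime_bot⟩ : PrimeSpectrum R)
  have hhom : ∀ x, X.hom x = Y.hom (f x) := fun x => by
    conv_lhs => rw [← hfY]
    rfl
  haveI : Flat Y.hom := by
    refine Hurwitz24.flat_of_dominant Y.hom ?_ ?_ fun y => ?_
    · show Y.hom (genericPoint φ.normalization) = _
      rw [← hgen, ← hhom, Inters29.hom_genericPoint R (genericPoint X.left)]
      refine (((PrimeSpectrum.le_iff_specializes bot _).1 bot_le).antisymm ?_).eq
      exact genericPoint_specializes _
    · exact le_of_eq ((PrimeSpectrum.topologicalKrullDim_eq_ringKrullDim (R := R)).trans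
        (IsDiscreteValuationRing.ringKrullDim_eq_one R))
    · haveI : IsIntegrallyClosed (Localization.AtPrime y.asIdeal) :=
        isIntegrallyClosed_of_isLocalization _ y.asIdeal.primeCompl y.asIdeal.primeCompl_le_nonZeroDivisors
      exact IsIntegrallyClosed.of_equiv (Spec.stalkIso (CommRingCat.of R) y).commRingCatIsoToRingEquiv.symm
  -- the image of the generic fibre has a point other than the generic one
  obtain ⟨x₀, hx₀b, hx₀η⟩ : ∃ x₀ : X.left, X.hom x₀ ≠ closedPoint R ∧ f x₀ ≠ genericPoint φ.normalization := by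
    obtain ⟨x, hx, hne⟩ := hnc (g (genericPoint φ.normalization))
    exact ⟨x, hx, fun h => hne (by rw [← hgφ, h])⟩
  have hclosed_special : ∀ {S : Over (Spec (CommRingCat.of R))} [IsProper S.hom] (z : S.left),
      IsClosed ({z} : Set S.left) → S.hom z = closedPoint R := by
    intro S _ z hz
    have h := S.hom.isClosedMap _ hz
    rw [Set.image_singleton] at h
    exact ((IsLocalRing.specializes_closedPoint (S.hom z)).mem_closed h rfl).symm
  -- fibres with more than one point are unions of the given curves
  let G : Set X.left := ⋃ i, Set.range (Γ i).ι.base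
  have hGpt : ∀ i, (f.base '' Set.range (Γ i).ι.base).Subsingleton := by
    intro i
    have h1 : (φ.base '' Set.range (Γ i).ι.base).Subsingleton := (hcrit (Γ i)).2 ⟨i, rfl⟩
    have h2 : _root_.IsPreconnected (f.base '' Set.range (Γ i).ι.base) :=
      ((isPreconnected_range (Γ i).ι.continuous).image _ f.continuous.continuousOn)
    obtain ⟨z⟩ : Nonempty (Γ i).curve.left := inferInstance
    let p := φ ((Γ i).ι z)
    haveI : Finite (g.fiber p) := inferInstance
    have hsub : f.base '' Set.range (Γ i).ι.base ⊆ g.base ⁻¹' {p} := by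
      rintro _ ⟨x, hx, rfl⟩
      show g (f x) = p
      rw [hgφ]
      exact h1 ⟨x, hx, rfl⟩ ⟨_, ⟨z, rfl⟩, rfl⟩
    haveI : DiscreteTopology (f.base '' Set.range (Γ i).ι.base : Set φ.normalization) :=
      isDiscrete_iff_discreteTopology.1 ((g.isDiscrete_preimage_singleton p).mono hsub)
    haveI : PreconnectedSpace (f.base '' Set.range (Γ i).ι.base : Set φ.normalization) :=
      Subtype.preconnectedSpace h2
    haveI : Subsingleton (f.base '' Set.range (Γ i).ι.base : Set φ.normalization) :=
      PreconnectedSpace.trivial_of_discrete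
    exact fun a ha b hb => congrArg Subtype.val (Subsingleton.elim
      (⟨a, ha⟩ : (f.base '' Set.range (Γ i).ι.base : Set φ.normalization)) ⟨b, hb⟩)
  have hfibre : ∀ w : φ.normalization, (f.base ⁻¹' {w}).Subsingleton ∨
      (f.base ⁻¹' {w} ⊆ G ∧ IsClosed ({w} : Set φ.normalization)) := by
    intro w
    by_cases hw : IsClosed ({w} : Set φ.normalization)
    · by_cases hpts : ∀ x ∈ f.base ⁻¹' {w}, IsClosed ({x} : Set X.left)
      · exact Or.inl (subsingleton_of_closedPoints (hw.preimage f.continuous) (hconn w) hpts)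
      · right
        refine ⟨?_, hw⟩
        push Not at hpts
        obtain ⟨x₁, hx₁, hx₁c⟩ := hpts
        have hs : ∀ x ∈ f.base ⁻¹' {w}, X.hom x = closedPoint R := fun x hx => by
          rw [hhom, Set.mem_singleton_iff.1 hx]; exact hclosed_special (S := Y) w hw
        have hη : X.hom (genericPoint X.left) ≠ closedPoint R := by
          rw [Inters29.hom_genericPoint R (genericPoint X.left)]; exact Inters29.bot_ne_closedPoint R
        have hcurve : ∀ x ∈ f.base ⁻¹' {w}, ¬ IsClosed ({x} : Set X.left) → closure {x} ⊆ G := by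
          intro x hx hxc
          have hsub : closure ({x} : Set X.left) ⊆ f.base ⁻¹' {w} :=
            closure_minimal (Set.singleton_subset_iff.2 hx) (hw.preimage f.continuous)
          obtain ⟨E, hE⟩ := exists_vertComp R (X := X) hdim.le hη (hs x hx) hxc
          obtain ⟨i, hi⟩ := (hcrit E).1 (by
            rw [hE]
            rintro _ ⟨a, ha, rfl⟩ _ ⟨b, hb, rfl⟩
            rw [← hgφ, ← hgφ, Set.mem_singleton_iff.1 (hsub ha),
              Set.mem_singleton_iff.1 (hsub hb)])
          rw [← hE, hi]
          exact Set.subset_iUnion (fun i => Set.range (Γ i).ι.base) i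
        intro x hx
        by_cases hxc : IsClosed ({x} : Set X.left)
        · obtain ⟨c, hc, hcx, hcsp⟩ := exists_specializes_ne (hw.preimage f.continuous) (hconn w) hx hxc hx₁
            (fun h => hx₁c (h ▸ hxc))
          exact hcurve c hc (fun hcc => hcx ((hcsp.mem_closed hcc rfl).symm)) hcsp.mem_closure
        · exact hcurve x hx hxc (subset_closure rfl)
    · left
      haveI : CompactSpace (f.fiber w) := QuasiCompact.compactSpace_of_compactSpace (f.fiberToSpecResidueField w)
      haveI : LocallyOfFiniteType (f.fiberToSpecResidueField w) :=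
        MorphismProperty.pullback_snd (P := @LocallyOfFiniteType) _ _ inferInstance
      haveI : IsLocallyNoetherian (f.fiber w) :=
        LocallyOfFiniteType.isLocallyNoetherian (f.fiberToSpecResidueField w)
      let e := f.fiberHomeo w
      haveI : PreconnectedSpace (f.base ⁻¹' {w} : Set X.left) := Subtype.preconnectedSpace (hconn w)
      have hno : ∀ a ∈ f.base ⁻¹' {w}, ∀ b ∈ f.base ⁻¹' {w}, a ⤳ b → a = b := by
        intro a ha b hb hab
        by_contra hne
        have hbc : ¬ IsClosed ({b} : Set X.left) := fun h => hw (by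
          have := f.isClosedMap _ h
          rwa [Set.image_singleton, Set.mem_singleton_iff.1 hb] at this)
        have haη : a = genericPoint X.left :=
          by_contra fun h => hbc (isClosed_of_specializes_dim_two hdim.le hab hne h)
        have hwη : w = genericPoint φ.normalization := by
          rw [← hgen, ← haη, Set.mem_singleton_iff.1 ha]
        have hfull : f.base '' closure ({b} : Set X.left) = Set.univ := by
          refine Set.eq_univ_of_univ_subset ?_
          rw [← genericPoint_closure φ.normalization]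
          refine closure_minimal (Set.singleton_subset_iff.2 ⟨b, subset_closure rfl, ?_⟩)
            (f.isClosedMap _ isClosed_closure)
          rw [← hwη]; exact Set.mem_singleton_iff.1 hb
        obtain ⟨z, hz, hzf⟩ : f x₀ ∈ f.base '' closure ({b} : Set X.left) := hfull.ge trivial
        by_cases hzb : z = b
        · exact hx₀η (by rw [← hzf, hzb, Set.mem_singleton_iff.1 hb, hwη])
        · have hzc := isClosed_of_specializes_dim_two hdim.le (specializes_iff_mem_closure.2 hz) (Ne.symm hzb)
            (fun h => hne (haη.trans h.symm))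
          refine hx₀b ?_
          rw [hhom, ← hzf, ← hhom]
          exact hclosed_special z hzc
      have hsub := subsingleton_of_closedPoints (W := f.fiber w) isClosed_univ
        (by
          haveI : PreconnectedSpace (f.fiber w) :=
            ⟨(e.isPreconnected_image (s := Set.univ)).1 (by
              rw [Set.image_univ, e.surjective.range_eq]; exact isPreconnected_univ)⟩
          exact isPreconnected_univ)
        (fun z _ => by
          rw [← closure_subset_iff_isClosed]
          intro z' hz'
          have h := (specializes_iff_mem_closure.2 hz').map e.continuous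
          have h2 := (subtype_specializes_iff _ _).1 h
          exact e.injective (Subtype.ext (hno _ (e z).2 _ (e z').2 h2)).symm)
      intro a ha b hb
      exact congrArg Subtype.val (e.symm.injective
        (hsub (Set.mem_univ (e.symm ⟨a, ha⟩)) (Set.mem_univ (e.symm ⟨b, hb⟩))) :)
  have hGne : ∀ i, ¬ (Set.range (Γ i).ι.base).Subsingleton := fun i h => by
    obtain ⟨y, hy⟩ := Inters29.exists_ne_genericPoint R (Γ i)
    exact hy ((Γ i).ι.isClosedEmbedding.injective (h ⟨_, rfl⟩ ⟨_, rfl⟩))
  have hbig : ∀ w ∈ f.base '' G, f.base ⁻¹' {w} ⊆ G := by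
    rintro _ ⟨x, hx, rfl⟩
    rcases hfibre (f x) with h | ⟨h, -⟩
    · obtain ⟨i, hi⟩ := Set.mem_iUnion.1 hx
      refine absurd (fun a ha b hb => h ?_ ?_) (hGne i)
      · exact hGpt i ⟨a, ha, rfl⟩ ⟨x, hi, rfl⟩
      · exact hGpt i ⟨b, hb, rfl⟩ ⟨x, hi, rfl⟩
    · exact h
  have hdimY : topologicalKrullDim φ.normalization = 2 := by
    refine le_antisymm ?_ ?_
    · exact (CommAlg6.topologicalKrullDim_le_of_specializingMap (f := f.base) hsurj
        f.isClosedMap.specializingMap).trans hdim.le
    · obtain ⟨z, hz, hzs⟩ : ∃ z : φ.normalization, f x₀ ⤳ z ∧ Y.hom z = closedPoint R := by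
        have h := Y.hom.isClosedMap _ (isClosed_closure (s := ({f x₀} : Set φ.normalization)))
        have h1 : Y.hom (f x₀) ∈ Y.hom.base '' closure {f x₀} := ⟨_, subset_closure rfl, rfl⟩
        obtain ⟨z, hz, hze⟩ := (IsLocalRing.specializes_closedPoint (Y.hom (f x₀))).mem_closed h h1
        exact ⟨z, specializes_iff_mem_closure.2 hz, hze⟩
      have hne : f x₀ ≠ z := fun h => hx₀b (by rw [hhom, h, hzs])
      letI := specializationOrder φ.normalization
      rw [CommAlg6.topologicalKrullDim_eq_krullDim_points]
      have h1 : z < f x₀ := lt_of_le_of_ne hz hne.symm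
      have h2 : f x₀ < genericPoint φ.normalization := lt_of_le_of_ne (genericPoint_specializes _) hx₀η
      exact le_iSup_of_le (((RelSeries.singleton _ (genericPoint φ.normalization)).cons (f x₀) h2).cons z (by rw [RelSeries.head_cons]; exact h1)) le_rfl
  refine ⟨Y, Over.homMk f hfY, inferInstance, fun q => (hYn q).2, hdimY, inferInstance,
    isProjectiveOver_of_finite g, fun i => ?_, ?_, fun V hV => ?_⟩
  · obtain ⟨z⟩ : Nonempty (Γ i).curve.left := inferInstance
    refine ⟨f ((Γ i).ι z), Set.Subset.antisymm ?_ (Set.singleton_subset_iff.2 ⟨z, rfl⟩)⟩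
    rintro _ ⟨a, rfl⟩
    exact hGpt i ⟨_, ⟨a, rfl⟩, rfl⟩ ⟨_, ⟨z, rfl⟩, rfl⟩
  · exact Set.Subset.antisymm (fun x hx => hbig _ hx rfl) (Set.subset_preimage_image _ _)
  · refine isIso_morphismRestrict_of_finite_fibres f happ V fun w hw => ?_
    rcases hfibre w with h | ⟨h, -⟩
    · exact h.finite
    · exfalso
      obtain ⟨x, hx⟩ := hsurj w
      exact (Set.eq_empty_iff_forall_notMem.1 hV w) ⟨hw, x, h hx, hx⟩

end Groth.Agent.Models7
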