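import Groth.Agent.Models7.PtSeq
import Groth.Agent.Models7.SteinContract

/-!
# Proper birational morphisms of regular surfaces are sequences of point blow-ups
-/

set_option autoImplicit false
set_option linter.style.haveILetI false
set_option backward.isDefEq.respectTransparency false
set_option maxHeartbeats 1000000

universe u

open CategoryTheory CategoryTheory.Limits AlgebraicGeometry TopologicalSpace IsLocalRing Opposite
open Groth.Agent.Misc15.DivDescent Groth.Agent.SDiv28.CartierPart

namespace Groth.Agent.Models7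

/-- In a surface only the generic point properly generalises a non-closed non-generic point. -/
theorem eq_or_eq_generic_of_dim_le_two {W : Scheme.{u}} [IsIntegral W] (hd : topologicalKrullDim W ≤ 2)
    {a w : W} (h : a ⤳ w) (hw : ¬ IsClosed ({w} : Set W)) : a = w ∨ a = genericPoint W := by
  by_contra hc
  push Not at hc
  obtain ⟨hne, hgen⟩ := hc
  obtain ⟨v, hwv, hvw⟩ : ∃ v, w ⤳ v ∧ v ≠ w := by
    by_contra hall
    push Not at hall
    exact hw (closure_eq_iff_isClosed.1 (Set.Subset.antisymm
      (fun v hv => hall v (specializes_iff_mem_closure.2 hv)) subset_closure))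
  have key : ∀ {x y : W}, x ⤳ y → x ≠ y →
      (⟨closure {y}, isIrreducible_singleton.closure, isClosed_closure⟩ : IrreducibleCloseds W) <
        ⟨closure {x}, isIrreducible_singleton.closure, isClosed_closure⟩ := by
    intro x y hs hxy
    refine lt_of_le_of_ne hs.closure_subset fun he => hxy ?_
    have he' : closure ({y} : Set W) = closure {x} := congrArg SetLike.coe he
    exact ((isGenericPoint_closure (x := y)).eq (show IsGenericPoint x (closure {y}) from he'.symm)).symm
  have k1 := key hwv (Ne.symm hvw)
  have k2 := key h hne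
  have k3 := key (genericPoint_specializes a) (Ne.symm hgen)
  let s : LTSeries (IrreducibleCloseds W) := LTSeries.mk 3
    ![_, _, _, _] (Fin.strictMono_iff_lt_succ.2 fun i => by
      fin_cases i
      · exact k1
      · exact k2
      · exact k3)
  have hs : (s.length : WithBot ℕ∞) ≤ topologicalKrullDim W := Order.LTSeries.length_le_krullDim s
  have h3 : (3 : WithBot ℕ∞) ≤ 2 := hs.trans hd
  exact absurd h3 (by decide)

/-- An isomorphism over an open is one over every smaller open. -/
theorem isIso_restrict_of_le {W X : Scheme.{u}} (g : W ⟶ X) {U V : X.Opens} (h : V ≤ U) [IsIso (g ∣_ U)] :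
    IsIso (g ∣_ V) := by
  refine ((MorphismProperty.isomorphisms Scheme.{u}).arrow_mk_iso_iff
      (morphismRestrictRestrict g U (U.ι ⁻¹ᵁ V) ≪≫ morphismRestrictEq g ?_)).1
      (inferInstanceAs (IsIso ((g ∣_ U) ∣_ (U.ι ⁻¹ᵁ V))))
  rw [Scheme.Hom.image_preimage_eq_opensRange_inf, Scheme.Opens.opensRange_ι, inf_eq_right]
  exact h

/-- A morphism which is an isomorphism over the whole target is an isomorphism. -/
theorem isIso_of_restrict_top {W X : Scheme.{u}} (g : W ⟶ X) [IsIso (g ∣_ ⊤)] : IsIso g := by
  haveI : IsIso (⊤ : W.Opens).ι := by rw [← Scheme.topIso_hom]; infer_instance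
  haveI : IsIso (⊤ : X.Opens).ι := by rw [← Scheme.topIso_hom]; infer_instance
  haveI : IsIso (g ⁻¹ᵁ ⊤).ι := inferInstanceAs (IsIso (⊤ : W.Opens).ι)
  haveI : IsIso ((g ⁻¹ᵁ ⊤).ι ≫ g) := by rw [← morphismRestrict_ι g ⊤]; infer_instance
  exact IsIso.of_isIso_comp_left (g ⁻¹ᵁ ⊤).ι g

/-- The non-generic non-closed points sent to closed points. -/
def badPts {W X : Scheme.{u}} [IrreducibleSpace W] (g : W ⟶ X) : Set W :=
  {w | ¬ IsClosed ({w} : Set W) ∧ w ≠ genericPoint W ∧ IsClosed ({g w} : Set X)}

theorem finite_badPts {W X : Scheme.{u}} [IsIntegral W] [IsLocallyNoetherian W] [CompactSpace W]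
    (hd : topologicalKrullDim W ≤ 2) (g : W ⟶ X) (U : X.Opens) (hη : genericPoint W ∈ g ⁻¹ᵁ U)
    [IsIso (g ∣_ U)] : (badPts g).Finite := by
  haveI : IsNoetherian W := {}
  let A : Set W := ((g ⁻¹ᵁ U : W.Opens) : Set W)ᶜ
  have hA : IsClosed A := (g ⁻¹ᵁ U).isOpen.isClosed_compl
  obtain ⟨S, hSf, hSc, hSi, hS⟩ := NoetherianSpace.exists_finite_set_isClosed_irreducible hA
  refine (hSf.biUnion (t := fun Z => {x : W | IsGenericPoint x Z}) fun Z _ =>
    Set.Subsingleton.finite fun x hx y hy => hx.eq hy).subset fun w ⟨hw, hw0, hc⟩ => ?_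
  have hwA : w ∈ A := by
    intro hwU
    apply hw
    refine closure_eq_iff_isClosed.1 (Set.Subset.antisymm (fun v hv => ?_) subset_closure)
    have hwv : w ⤳ v := specializes_iff_mem_closure.2 hv
    have hv' : g v = g w := (hwv.map g.continuous).mem_closed hc rfl
    have hvU : v ∈ g ⁻¹ᵁ U := by
      show g v ∈ U
      rw [hv']; exact hwU
    have : (g ∣_ U) ⟨v, hvU⟩ = (g ∣_ U) ⟨w, hwU⟩ :=
      Subtype.ext (((morphismRestrict_base_coe g U _).trans hv').trans (morphismRestrict_base_coe g U _).symm)
    exact congrArg Subtype.val ((g ∣_ U).homeomorph.injective this)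
  obtain ⟨Z, hZS, hwZ⟩ := Set.mem_sUnion.1 (hS.le hwA)
  obtain ⟨a, ha⟩ := QuasiSober.sober (hSi Z hZS) (hSc Z hZS)
  refine Set.mem_biUnion hZS ?_
  rcases eq_or_eq_generic_of_dim_le_two hd (ha.specializes hwZ) hw with rfl | rfl
  · exact ha
  · exact absurd hη (hS.ge (Set.mem_sUnion.2 ⟨Z, hZS, ha.mem⟩))

/-- A proper birational morphism of regular surfaces is a composite of point blow-ups. -/
theorem ptSeq_of_birational {W : Scheme.{u}} (hW : RegSurf W) : ∀ (n : ℕ) {X : Scheme.{u}} (g : W ⟶ X) [IsProper g],
    RegSurf X → (∀ [IrreducibleSpace W], (badPts g).ncard = n) →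
    (∃ U : X.Opens, (U : Set X).Nonempty ∧ IsIso (g ∣_ U)) → X.IsSeparated → PtSeq g := by
  intro n
  induction n using Nat.strongRecOn with
  | _ n ih =>
  intro X g _ hX hn ⟨U, hU, hiso⟩ hsep
  haveI := hW.integral
  haveI := hW.noeth
  haveI := hW.compact
  haveI := hX.integral
  haveI := hX.noeth
  haveI := hX.compact
  haveI := hiso
  haveI := hsep
  have hXn := hX.isNormal
  obtain ⟨hgen, hbij⟩ := Coherent.birational_of_isIso_morphismRestrict g U hU
  haveI hbir : IsIso (g.stalkMap (genericPoint W)) := (ConcreteCategory.isIso_iff_bijective _).2 hbij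
  have hηX : genericPoint X ∈ U := ((genericPoint_spec X).mem_open_set_iff U.2).mpr (by simpa using hU)
  have hηW : genericPoint W ∈ g ⁻¹ᵁ U := by show g _ ∈ U; rw [hgen]; exact hηX
  have hbfin := finite_badPts hW.dim g U hηW
  by_cases hempty : badPts g = ∅
  · -- all fibres are finite
    have hfib : ∀ y : X, (g.base ⁻¹' {y}).Finite := by
      intro y
      by_cases hy : y = genericPoint X
      · refine Set.Subsingleton.finite fun a ha b hb => ?_
        have haU : a ∈ g ⁻¹ᵁ U := by show g a ∈ U; rw [show g a = y from ha, hy]; exact hηX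
        have hbU : b ∈ g ⁻¹ᵁ U := by show g b ∈ U; rw [show g b = y from hb, hy]; exact hηX
        have : (g ∣_ U) ⟨a, haU⟩ = (g ∣_ U) ⟨b, hbU⟩ :=
          Subtype.ext (((morphismRestrict_base_coe g U _).trans ((show g a = y from ha).trans
            (show g b = y from hb).symm)).trans (morphismRestrict_base_coe g U _).symm)
        exact congrArg Subtype.val ((g ∣_ U).homeomorph.injective this)
      have hne : ∀ w : W, g w = y → w ≠ genericPoint W := fun w hw h => hy (by rw [← hw, h, hgen])
      refine (show (g.base ⁻¹' {y}) = Set.range (g.fiberι y) from (g.range_fiberι y).symm) ▸ ?_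
      haveI : IsNoetherian W := {}
      haveI : LocallyOfFiniteType (g.fiberToSpecResidueField y) :=
        (inferInstance : LocallyOfFiniteType (pullback.snd g (X.fromSpecResidueField y)))
      haveI : IsLocallyNoetherian (g.fiber y) := LocallyOfFiniteType.isLocallyNoetherian (g.fiberToSpecResidueField y)
      haveI : IsNoetherian (g.fiber y) := {}
      have hmem : ∀ z : g.fiber y, g (g.fiberι y z) = y := fun z =>
        (g.range_fiberι y).le (Set.mem_range_self z)
      have hclosed : ∀ z : g.fiber y, IsClosed ({z} : Set (g.fiber y)) := by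
        intro z
        refine closure_eq_iff_isClosed.1 (Set.Subset.antisymm (fun v hv => ?_) subset_closure)
        have hs : g.fiberι y z ⤳ g.fiberι y v :=
          (specializes_iff_mem_closure.2 hv).map (g.fiberι y).continuous
        refine (g.fiberι y).isEmbedding.injective (by_contra fun hne' => ?_)
        by_cases hyc : IsClosed ({y} : Set X)
        · refine (Set.eq_empty_iff_forall_notMem.1 hempty) (g.fiberι y z) ⟨fun hc => hne' ?_, hne _ (hmem z), ?_⟩
          · exact hs.mem_closed hc rfl
          · rw [hmem z]; exact hyc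
        · by_cases hvc : IsClosed ({g.fiberι y v} : Set W)
          · exact hyc (by
              have h := g.isClosedMap _ hvc
              rw [Set.image_singleton, show g (g.fiberι y v) = y from hmem v] at h
              exact h)
          · rcases eq_or_eq_generic_of_dim_le_two hW.dim hs hvc with h | h
            · exact hne' h.symm
            · exact hne _ (hmem z) h
      have : (Set.univ : Set (g.fiber y)).Finite := by
        obtain ⟨S, hSf, hSc, hSi, hS⟩ :=
          NoetherianSpace.exists_finite_set_isClosed_irreducible (isClosed_univ (X := g.fiber y))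
        refine (hSf.biUnion (t := fun Z => Z) fun Z hZ => Set.Subsingleton.finite fun a ha b hb => ?_).subset
          fun z _ => ?_
        · obtain ⟨c, hc⟩ := QuasiSober.sober (hSi Z hZ) (hSc Z hZ)
          have hZc : Z = {c} := by rw [← hc.def, (hclosed c).closure_eq]
          rw [hZc] at ha hb
          exact ha.trans hb.symm
        · obtain ⟨Z, hZ, hz⟩ := Set.mem_sUnion.1 (hS.le (Set.mem_univ z))
          exact Set.mem_biUnion hZ hz
      rw [← Set.image_univ]
      exact this.image _
    haveI : IsIso g := by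
      haveI : IsIso (g ∣_ ⊤) := isIso_morphismRestrict_of_finite_fibres g
        (Coherent.isIso_app_of_birational g hXn hgen hbir) ⊤ (fun y _ => hfib y)
      exact isIso_of_restrict_top g
    exact PtSeq.iso (asIso g)
  · obtain ⟨w, hw⟩ := Set.nonempty_iff_ne_empty.2 hempty
    obtain ⟨hwnc, hw0, hyc⟩ := id hw
    let y := g w
    obtain ⟨v, hwv, hvw⟩ : ∃ v, w ⤳ v ∧ v ≠ w := by
      by_contra hall
      push Not at hall
      exact hwnc (closure_eq_iff_isClosed.1 (Set.Subset.antisymm
        (fun v hv => hall v (specializes_iff_mem_closure.2 hv)) subset_closure))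
    have hgv : g v = y := (hwv.map g.continuous).mem_closed hyc rfl
    have hy0 : y ≠ genericPoint X := by
      intro h
      have : w ∈ g ⁻¹ᵁ U := by show g w ∈ U; rw [show g w = genericPoint X from h]; exact hηX
      have hvU : v ∈ g ⁻¹ᵁ U := by show g v ∈ U; rw [hgv, h]; exact hηX
      have h2 : (g ∣_ U) ⟨v, hvU⟩ = (g ∣_ U) ⟨w, this⟩ :=
        Subtype.ext (((morphismRestrict_base_coe g U _).trans hgv).trans (morphismRestrict_base_coe g U _).symm)
      exact hvw (congrArg Subtype.val ((g ∣_ U).homeomorph.injective h2))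
    have hdim : ¬ ringKrullDim (X.presheaf.stalk y) ≤ 1 := fun h =>
      hvw (Coherent.eq_of_specializes_of_dim_le_one g hgen hbij y hy0 h w v rfl hgv hwv).symm
    let I := Scheme.IdealSheafData.vanishingIdeal ⟨{y}, hyc⟩
    obtain ⟨X', π, hπ⟩ := BlowUpLib.exists_isBlowUp I
    obtain ⟨hX', hπp, hπiso⟩ := hX.pointBlowUp y hyc hy0 π hπ
    haveI := hX'.integral
    haveI := hX'.noeth
    haveI := hπp
    haveI := hπiso
    have hcart := isEffCartier_comap_point hW.regular hX.regular hW.dim hX.dim hXn g hgen hbir y hyc hy0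
      ⟨w, v, Ne.symm hvw, rfl, hgv⟩
    obtain ⟨g', hg', -⟩ := hπ.2 W g hcart
    change g' ≫ π = g at hg'
    haveI : IsProper (g' ≫ π) := hg'.symm ▸ inferInstanceAs (IsProper g)
    haveI : X'.IsSeparated := ⟨by
      rw [show terminal.from X' = π ≫ terminal.from _ from terminal.hom_ext _ _]; infer_instance⟩
    haveI : IsProper g' := IsProper.of_comp g' π
    -- birationality of the new map
    let V : X.Opens := ⟨{y}ᶜ, hyc.isOpen_compl⟩
    have hUV : IsIso (g' ∣_ (π ⁻¹ᵁ (U ⊓ V))) := by
      haveI h1 : IsIso (g ∣_ (U ⊓ V)) := isIso_restrict_of_le g inf_le_left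
      haveI h2 : IsIso (π ∣_ (U ⊓ V)) := isIso_restrict_of_le π inf_le_right
      haveI h3 : IsIso ((g' ≫ π) ∣_ (U ⊓ V)) := by rw [hg']; exact h1
      rw [morphismRestrict_comp] at h3
      exact IsIso.of_isIso_comp_right _ (π ∣_ (U ⊓ V))
    have hUVne : ((π ⁻¹ᵁ (U ⊓ V) : X'.Opens) : Set X').Nonempty := by
      obtain ⟨hgπ, -⟩ := Coherent.birational_of_isIso_morphismRestrict π V ⟨genericPoint X, hy0.symm⟩
      exact ⟨genericPoint X', show π (genericPoint X') ∈ U ⊓ V by rw [hgπ]; exact ⟨hηX, hy0.symm⟩⟩
    -- a point over `y` which is not closed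
    obtain ⟨x', hx', hx'c⟩ : ∃ x' : X', π x' = y ∧ ¬ IsClosed ({x'} : Set X') := by
      by_contra hall
      push Not at hall
      apply hdim
      obtain ⟨hgπ, hbπ⟩ := Coherent.birational_of_isIso_morphismRestrict π V ⟨genericPoint X, hy0.symm⟩
      haveI : IsIso (π.stalkMap (genericPoint X')) := (ConcreteCategory.isIso_iff_bijective _).2 hbπ
      have hfib : ∀ z : X, (π.base ⁻¹' {z}).Finite := by
        intro z
        by_cases hz : z = y
        · subst hz
          haveI : CompactSpace X' := QuasiCompact.compactSpace_of_compactSpace π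
          haveI : IsNoetherian X' := {}
          obtain ⟨S, hSf, hSc, hSi, hS⟩ :=
            NoetherianSpace.exists_finite_set_isClosed_irreducible (hyc.preimage π.continuous)
          refine (hSf.biUnion (t := fun Z => Z) fun Z hZ => Set.Subsingleton.finite fun a ha b hb => ?_).subset
            fun z hz => ?_
          · obtain ⟨c, hc⟩ := QuasiSober.sober (hSi Z hZ) (hSc Z hZ)
            have hcy : π c = y := hS.ge (Set.mem_sUnion.2 ⟨Z, hZ, hc.mem⟩)
            have hZc : Z = {c} := by rw [← hc.def, (hall c hcy).closure_eq]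
            rw [hZc] at ha hb
            exact ha.trans hb.symm
          · obtain ⟨Z, hZ, hz⟩ := Set.mem_sUnion.1 (hS.le hz)
            exact Set.mem_biUnion hZ hz
        · refine Set.Subsingleton.finite fun a ha b hb => ?_
          have haV : a ∈ π ⁻¹ᵁ V := by show π a ∈ V; rw [show π a = z from ha]; exact hz
          have hbV : b ∈ π ⁻¹ᵁ V := by show π b ∈ V; rw [show π b = z from hb]; exact hz
          have h2 : (π ∣_ V) ⟨a, haV⟩ = (π ∣_ V) ⟨b, hbV⟩ :=
            Subtype.ext (((morphismRestrict_base_coe π V _).trans ((show π a = z from ha).trans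
              (show π b = z from hb).symm)).trans (morphismRestrict_base_coe π V _).symm)
          exact congrArg Subtype.val ((π ∣_ V).homeomorph.injective h2)
      haveI : IsIso (π ∣_ ⊤) := isIso_morphismRestrict_of_finite_fibres π
        (Coherent.isIso_app_of_birational π hXn hgπ inferInstance) ⊤ (fun z _ => hfib z)
      haveI : IsIso π := isIso_of_restrict_top π
      have hI : BlowUp.IsEffCartierIdeal I := by
        have h := FlatMor12.BlowUpDisjoint.isEffCartierIdeal_comap (I.comap π) hπ.1 (inv π)
        rwa [← Scheme.IdealSheafData.comap_comp, IsIso.inv_hom_id, Scheme.IdealSheafData.comap_id] at h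
      obtain ⟨t, -, ht⟩ := exists_gen hI y
      rw [stk_vanishingIdeal_point y hyc] at ht
      refine (ringKrullDim_le_spanFinrank_maximalIdeal _).trans ?_
      rw [ht]
      exact_mod_cast (Submodule.spanFinrank_span_le_ncard_of_finite (Set.finite_singleton t)).trans
        (Set.ncard_singleton t).le
    haveI : Surjective g' := surjective_of_gen' g' (π ⁻¹ᵁ (U ⊓ V)) hUVne
    obtain ⟨w', rfl⟩ := g'.surjective x'
    have hgw' : g w' = y := by rw [← hg', Scheme.Hom.comp_apply]; exact hx'
    have hw' : w' ∈ badPts g := by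
      refine ⟨fun hc => hx'c ?_, fun h => hy0 ?_, by rw [hgw']; exact hyc⟩
      · have h := g'.isClosedMap _ hc
        rwa [Set.image_singleton] at h
      · rw [← hgw', h, hgen]
    have hsub : badPts g' ⊆ badPts g := fun a ⟨ha, ha0, hac⟩ => ⟨ha, ha0, by
      rw [← hg', Scheme.Hom.comp_apply]
      have h := π.isClosedMap _ hac
      rwa [Set.image_singleton] at h⟩
    have hlt : (badPts g').ncard < n := by
      rw [← hn]
      exact Set.ncard_lt_ncard ((Set.ssubset_iff_of_subset hsub).2 ⟨w', hw', fun h => hx'c h.2.2⟩) hbfin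
    rw [← hg']
    have hπseq : PtSeq π := by
      rw [← Category.comp_id π]
      exact PtSeq.step π (𝟙 X) y hyc (fun {_} => hy0) hπ (PtSeq.id X)
    exact (ih _ hlt g' hX' (fun {_} => rfl) ⟨_, hUVne, hUV⟩ inferInstance).trans hπseq
where
  surjective_of_gen' {W X : Scheme.{u}} (g : W ⟶ X) [IsProper g] [IsIntegral W] [IsIntegral X] (U : X.Opens)
      (hU : (U : Set X).Nonempty) [IsIso (g ∣_ U)] : Surjective g :=
    ⟨fun x => (genericPoint_specializes x).mem_closed g.isClosedMap.isClosed_range
      ⟨_, (Coherent.birational_of_isIso_morphismRestrict g U hU).1⟩⟩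

/-- A proper birational morphism of separated regular surfaces is a composite of point blow-ups. -/
theorem PtSeq.of_birational {W X : Scheme.{u}} (g : W ⟶ X) [IsProper g] (hW : RegSurf W) (hX : RegSurf X)
    [X.IsSeparated] (U : X.Opens) (hU : (U : Set X).Nonempty) (hiso : IsIso (g ∣_ U)) : PtSeq g := by
  haveI := hW.integral
  exact ptSeq_of_birational hW (badPts g).ncard g hX (fun {_} => rfl) ⟨U, hU, hiso⟩ inferInstance

end Groth.Agent.Models7
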