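import Groth.Agent.Models7.ModelBlowUp
import Groth.Agent.Models7.ExcTransfer
import Groth.Agent.Models7.Factor
import Groth.Agent.Models7.BiratDesc
import Groth.Agent.Models7.RatMapExtend
import Groth.Agent.Models7.ExcMeet

/-!
# The mapping property of minimal models of curves of positive genus
-/

set_option autoImplicit false
set_option linter.style.haveILetI false
set_option backward.isDefEq.respectTransparency false
set_option maxHeartbeats 1000000

universe u

open CategoryTheory CategoryTheory.Limits AlgebraicGeometry TopologicalSpace IsLocalRing Opposite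
open Groth.Agent.Misc15.DivDescent Groth.Agent.SDiv28.CartierPart

namespace Groth.Agent.Models7

/-- A point blow-up of a regular surface which is not an isomorphism has a two-dimensional centre. -/
theorem ringKrullDim_eq_two_of_not_isIso {Y Z : Scheme.{u}} [IsIntegral Z] (hZ : RegSurf Z) (z : Z)
    (hz : IsClosed ({z} : Set Z)) (hz1 : z ≠ genericPoint Z) (b : Y ⟶ Z)
    (hb : BlowUp.IsBlowUp b (Scheme.IdealSheafData.vanishingIdeal ⟨{z}, hz⟩)) (hiso : ¬ IsIso b) :
    ringKrullDim (Z.presheaf.stalk z) = 2 := by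
  haveI := hZ.noeth
  haveI := hZ.compact
  haveI := hZ.regular z
  by_contra hdim
  have hle : ringKrullDim (Z.presheaf.stalk z) ≤ 2 := (CurvesLib24.stalk_dim_le_topologicalKrullDim z).trans hZ.dim
  have h1 : (maximalIdeal (Z.presheaf.stalk z)).spanFinrank ≤ 1 := by
    have h2 := IsRegularLocalRing.spanFinrank_maximalIdeal (R := Z.presheaf.stalk z)
    have h3 : (maximalIdeal (Z.presheaf.stalk z)).spanFinrank ≤ 2 := by exact_mod_cast h2.trans_le hle
    have h4 : (maximalIdeal (Z.presheaf.stalk z)).spanFinrank ≠ 2 := fun h => hdim (by rw [← h2, h]; rfl)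
    omega
  apply hiso
  refine isIso_blowUp_of_effCartier hb (Inters29.isEffCartier_of_stk _ fun x => ?_)
  by_cases hx : x = z
  · subst hx
    rw [stk_vanishingIdeal_point x hz]
    obtain ⟨s, hs, hspan⟩ := Submodule.FG.exists_span_set_encard_eq_spanFinrank
      (IsNoetherian.noetherian (maximalIdeal (Z.presheaf.stalk x)))
    refine ⟨?_, fun h0 => hz1 ?_⟩
    · have hle1 : s.encard ≤ 1 := by rw [hs]; exact_mod_cast h1
      rcases Set.encard_le_one_iff_eq.1 hle1 with rfl | ⟨d, rfl⟩
      · exact ⟨0, by rw [← hspan]; simp⟩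
      · exact ⟨d, hspan.symm⟩
    · let A := Z.presheaf.stalk x
      let P : Spec A := ⟨⊥, Ideal.isPrime_bot⟩
      have hP : P = closedPoint A := PrimeSpectrum.ext h0.symm
      obtain ⟨Q, hQ⟩ : genericPoint Z ∈ Set.range (Z.fromSpecStalk x) :=
        Scheme.range_fromSpecStalk.ge (genericPoint_specializes _)
      have hPQ : P ⤳ Q := (PrimeSpectrum.le_iff_specializes P Q).1 bot_le
      have h1 : Z.fromSpecStalk x P = genericPoint Z :=
        ((hQ ▸ hPQ.map (Z.fromSpecStalk x).continuous).antisymm (genericPoint_specializes _)).eq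
      rw [← h1, hP]
      exact Scheme.fromSpecStalk_closedPoint.symm
  · rw [stk_eq_top (fun h => hx ((Scheme.IdealSheafData.coe_support_vanishingIdeal _).le h))]
    exact ⟨⟨1, Ideal.span_singleton_one.symm⟩, top_ne_bot⟩

variable {R : Type u} [CommRing R] [IsDomain R] [IsDiscreteValuationRing R] {C : Scheme.{u}}
  {f : C ⟶ Spec (CommRingCat.of (FractionRing R))}

/-- The exceptional vertical curve of a point blow-up of a model. -/
theorem exists_exc_vertComp [IsIntegral C] (hC : PropCurve (FractionRing R) C f) {Y Z : Scheme.{u}}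
    {q : Z ⟶ Spec (CommRingCat.of R)} {gZ : C ⟶ Z} (hZm : GenModel R C f Z q gZ) (z : Z)
    (hz : IsClosed ({z} : Set Z)) (hz1 : ∀ [IrreducibleSpace Z], z ≠ genericPoint Z) (b : Y ⟶ Z)
    (hb : BlowUp.IsBlowUp b (Scheme.IdealSheafData.vanishingIdeal ⟨{z}, hz⟩)) (hiso : ¬ IsIso b) :
    ∃ F : ArSurf.VertComp R (Over.mk (b ≫ q)), Models.IsExcCurve F.ι ∧
      Set.range (F.ι.base : F.curve.left → Y) = b.base ⁻¹' {z} := by
  haveI := hZm.isIntegral
  haveI : IsProper q := hZm.model.2.1
  have hS := hZm.regSurf hC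
  haveI := hS.noeth
  haveI := hS.compact
  obtain ⟨hY, hbp, hbiso⟩ := hS.pointBlowUp z hz hz1 b hb
  haveI := hbp
  haveI := hbiso
  haveI := hY.integral
  haveI := hY.noeth
  haveI := hY.compact
  obtain ⟨E, ι, hι, hE, hrange, -, -⟩ := exists_excCurve_pointBlowUp R q hS hZm.genericPoint_ne z hz hz1
    (ringKrullDim_eq_two_of_not_isIso hS z hz hz1 b hb hiso) b hb
  haveI := hι
  haveI := isIntegral_of_isExcCurve hE
  let x : (Over.mk (b ≫ q)).left := ι (genericPoint E)
  haveI : IsIntegral (Over.mk (b ≫ q)).left := inferInstanceAs (IsIntegral Y)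
  haveI : QuasiCompact (Over.mk (b ≫ q)).hom := inferInstanceAs (QuasiCompact (b ≫ q))
  have hbx : b x = z := hrange.le ⟨_, rfl⟩
  have hcl : closure {x} = Set.range ι.base := by
    have h := ((genericPoint_spec E).image ι.continuous).def
    rw [Set.image_univ, ι.isClosedEmbedding.isClosed_range.closure_eq] at h
    exact h
  obtain ⟨hgb, hbb⟩ := Coherent.birational_of_isIso_morphismRestrict b (⟨{z}ᶜ, hz.isOpen_compl⟩ : Z.Opens)
    ⟨genericPoint Z, Ne.symm hz1⟩
  have hxc : ¬ IsClosed ({x} : Set (Over.mk (b ≫ q)).left) := by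
    intro hc
    apply hiso
    haveI : IsIso (b.stalkMap (genericPoint Y)) := (ConcreteCategory.isIso_iff_bijective _).2 hbb
    haveI : IsIso (b ∣_ ⊤) := isIso_morphismRestrict_of_finite_fibres b
      (Coherent.isIso_app_of_birational b hS.isNormal hgb inferInstance) ⊤ fun w _ => by
      by_cases hw : w = z
      · subst hw
        rw [← hrange, ← hcl, hc.closure_eq]
        exact Set.finite_singleton _
      · refine Set.Subsingleton.finite fun a ha a' ha' => ?_
        let V : Z.Opens := ⟨{z}ᶜ, hz.isOpen_compl⟩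
        have haV : a ∈ b ⁻¹ᵁ V := by show b a ∈ V; rw [show b a = w from ha]; exact hw
        have haV' : a' ∈ b ⁻¹ᵁ V := by show b a' ∈ V; rw [show b a' = w from ha']; exact hw
        have h2 : (b ∣_ V) ⟨a, haV⟩ = (b ∣_ V) ⟨a', haV'⟩ :=
          Subtype.ext (((morphismRestrict_base_coe b V _).trans ((show b a = w from ha).trans
            (show b a' = w from ha').symm)).trans (morphismRestrict_base_coe b V _).symm)
        exact congrArg Subtype.val ((b ∣_ V).homeomorph.injective h2)
    exact isIso_of_restrict_top b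
  have hη : (Over.mk (b ≫ q)).hom (genericPoint (Over.mk (b ≫ q)).left) ≠ closedPoint R := by
    show (b ≫ q) (genericPoint Y) ≠ _
    rw [Scheme.Hom.comp_apply, hgb]
    exact hZm.genericPoint_ne
  obtain ⟨F, hF⟩ := exists_vertComp R (X := Over.mk (b ≫ q)) hY.dim hη
    (show (b ≫ q) x = closedPoint R by rw [Scheme.Hom.comp_apply, hbx]; exact hZm.hom_closed hz) hxc
  haveI : IsClosedImmersion (show F.curve.left ⟶ Y from F.ι) := F.isClosedImmersion
  refine ⟨F, isExcCurve_of_range_eq ι (show F.curve.left ⟶ Y from F.ι) (hcl.symm.trans hF.symm) hE, ?_⟩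
  exact (hF.trans hcl).trans hrange

/-- An exceptional curve lying over an open where a morphism of models is an isomorphism descends. -/
theorem exists_exc_of_iso_over [IsIntegral C] {Y Z : Scheme.{u}} {q : Z ⟶ Spec (CommRingCat.of R)} {gZ : C ⟶ Z}
    (hZm : GenModel R C f Z q gZ) (b : Y ⟶ Z) [IsProper b] [IsIntegral Y] (V : Z.Opens) [IsIso (b ∣_ V)]
    (E : ArSurf.VertComp R (Over.mk (b ≫ q))) (hE : Models.IsExcCurve E.ι)
    (hsub : Set.range (E.ι.base : E.curve.left → Y) ⊆ ((b ⁻¹ᵁ V : Y.Opens) : Set Y)) :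
    ∃ Γ : ArSurf.VertComp R (Over.mk q), Models.IsExcCurve Γ.ι ∧
      Set.range (Γ.ι.base : Γ.curve.left → Z) = b.base '' Set.range (E.ι.base : E.curve.left → Y) := by
  haveI := hZm.isIntegral
  haveI : IsProper q := hZm.model.2.1
  haveI : IsLocallyNoetherian Z := LocallyOfFiniteType.isLocallyNoetherian q
  let ι : E.curve.left ⟶ Y := E.ι
  haveI : IsClosedImmersion ι := E.isClosedImmersion
  obtain ⟨hcl, hexc⟩ := isExcCurve_comp_of_isIso_over b V ι hsub hE
  refine ⟨{ curve := E.curve, ι := ι ≫ b, isClosedImmersion := hcl, isIntegral := E.isIntegral,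
            dim_eq := E.dim_eq, w := ?_ }, hexc, ?_⟩
  · show (ι ≫ b) ≫ q = _
    rw [Category.assoc]; exact E.w
  · show Set.range (ι ≫ b).base = _
    rw [Scheme.Hom.comp_base, TopCat.coe_comp, Set.range_comp]
    rfl

/-- In positive genus an exceptional curve which is not contracted by a sequence of point blow-ups gives an
exceptional curve on the target. -/
theorem exists_exc_of_ptSeq [IsIntegral C] (hC : PropCurve (FractionRing R) C f)
    (hH0 : IsIso f.appTop) (hg : 0 < Models.curveGenus (FractionRing R) C f) :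
    ∀ {W X : Scheme.{u}} {g : W ⟶ X}, PtSeq g → ∀ {p : X ⟶ Spec (CommRingCat.of R)} {gX : C ⟶ X},
      GenModel R C f X p gX → ∀ E : ArSurf.VertComp R (Over.mk (g ≫ p)), Models.IsExcCurve E.ι →
        ¬ (g.base '' Set.range (E.ι.base : E.curve.left → W)).Subsingleton →
        ∃ Γ : ArSurf.VertComp R (Over.mk p), Models.IsExcCurve Γ.ι := by
  intro W X g hgseq
  induction hgseq with
  | @iso Y' X' e =>
    intro p gX hX E hE _
    obtain ⟨-, hY, -⟩ := GenModel.of_ptSeq hC (PtSeq.iso e) hX
    haveI := hY.integral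
    haveI : IsIso (e.hom ∣_ ⊤) := inferInstance
    obtain ⟨Γ, hΓ, -⟩ := exists_exc_of_iso_over hX e.hom ⊤ E hE (fun _ _ => trivial)
    exact ⟨Γ, hΓ⟩
  | @step Y' Z' X' b r z hz hz0 hb hr ih =>
    intro p gX hX E hE hns
    obtain ⟨-, hZ, gZ, -, hZm⟩ := GenModel.of_ptSeq hC hr hX
    haveI := hZ.integral
    have hz1 : z ≠ genericPoint Z' := hz0
    obtain ⟨hY, hbp, hiso⟩ := hZ.pointBlowUp z hz hz1 b hb
    haveI := hbp
    haveI := hY.integral
    haveI := hiso
    let ι : E.curve.left ⟶ Y' := E.ι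
    haveI : IsClosedImmersion ι := E.isClosedImmersion
    let E' : ArSurf.VertComp R (Over.mk (b ≫ r ≫ p)) :=
      { curve := E.curve, ι := ι, isClosedImmersion := E.isClosedImmersion, isIntegral := E.isIntegral
        dim_eq := E.dim_eq, w := by show ι ≫ b ≫ r ≫ p = _; rw [← Category.assoc b r p]; exact E.w }
    have push : ∀ (V : Z'.Opens) [IsIso (b ∣_ V)], Set.range ι.base ⊆ ((b ⁻¹ᵁ V : Y'.Opens) : Set Y') →
        ∃ Γ : ArSurf.VertComp R (Over.mk p), Models.IsExcCurve Γ.ι := by
      intro V _ hV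
      obtain ⟨Δ, hΔ, hr⟩ := exists_exc_of_iso_over hZm b V E' hE hV
      refine ih hX Δ hΔ ?_
      rw [show Set.range (Δ.ι.base : Δ.curve.left → Z') = b.base '' Set.range ι.base from hr, Set.image_image]
      intro h
      apply hns
      rw [show (b ≫ r).base = b.base ≫ r.base from Scheme.Hom.comp_base b r, TopCat.coe_comp]
      exact h
    by_cases hbi : IsIso b
    · haveI : IsIso (b ∣_ ⊤) := inferInstance
      exact push ⊤ (fun _ _ => trivial)
    by_cases hmeet : ∃ v ∈ Set.range ι.base, b v = z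
    · exfalso
      obtain ⟨v, hv, hvz⟩ := hmeet
      obtain ⟨F, hF, hFr⟩ := exists_exc_vertComp hC hZm z hz hz0 b hb hbi
      obtain ⟨gY, -, hYm⟩ := hZm.modification b hY.regular ⟨{z}ᶜ, hz.isOpen_compl⟩
        (fun x hx h => hx (by rw [show x = z from h]; exact hZm.hom_closed hz))
      let q' : Y' ⟶ Spec (CommRingCat.of R) := b ≫ r ≫ p
      haveI : IsIntegral (Over.mk q').left := inferInstanceAs (IsIntegral Y')
      haveI : IsProper (Over.mk q').hom := hYm.model.2.1
      haveI : Flat (Over.mk q').hom := hYm.model.1.1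
      haveI : IsLocallyNoetherian (Over.mk q').left := LocallyOfFiniteType.isLocallyNoetherian (Over.mk q').hom
      haveI : IsProper f := hC.1
      have hdim : topologicalKrullDim (Over.mk q').left = 2 :=
        Inters29.topologicalKrullDim_eq_two R (X := Over.mk q')
          (Inters29.trdAt_genericPoint R (X := Over.mk q') f hC.2.2.2 gY hYm.pullback)
      obtain ⟨n, Δ, hΔ⟩ := Inters29.exists_componentList R (X := Over.mk q') hdim
      obtain ⟨i, hi⟩ := Inters29.exists_range_eq R (X := Over.mk q') hYm.model.2.2 hdim.le Δ hΔ E'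
      obtain ⟨j, hj⟩ := Inters29.exists_range_eq R (X := Over.mk q') hYm.model.2.2 hdim.le Δ hΔ F
      have hij : i ≠ j := by
        intro h
        subst h
        apply hns
        intro a ha a' ha'
        obtain ⟨y, hy, rfl⟩ := ha
        obtain ⟨y', hy', rfl⟩ := ha'
        have k1 : ∀ w ∈ Set.range (E.ι.base : E.curve.left → Y'), (b ≫ r).base w = r z := fun w hw => by
          have : w ∈ b.base ⁻¹' {z} := hFr.le (hj.ge (hi.le hw))
          show (b ≫ r) w = r z
          rw [Scheme.Hom.comp_apply, show b w = z from this]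
        exact (k1 y hy).trans (k1 y' hy').symm
      have hiE := isExcCurve_of_range_eq ι (Δ i).ι hi hE
      haveI : IsClosedImmersion (show F.curve.left ⟶ Y' from F.ι) := F.isClosedImmersion
      have hjE := isExcCurve_of_range_eq (show F.curve.left ⟶ Y' from F.ι) (Δ j).ι hj hF
      refine hg.ne' (genus_eq_zero_of_excCurves_meet R C Y' f q' hC hH0 hYm.model Δ hΔ i j hij hiE hjE ?_)
      exact Set.not_disjoint_iff.2 ⟨v, hi.le hv, hj.le (hFr.ge hvz)⟩
    · exact push ⟨{z}ᶜ, hz.isOpen_compl⟩ (fun v hv h => hmeet ⟨v, hv, h⟩)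

/-- A morphism of models is an isomorphism over the generic fibre. -/
theorem GenModel.isIso_over_generic {W X : Scheme.{u}} {q : W ⟶ Spec (CommRingCat.of R)}
    {p : X ⟶ Spec (CommRingCat.of R)} {gW : C ⟶ W} {gX : C ⟶ X} (hW : GenModel R C f W q gW)
    (hX : GenModel R C f X p gX) (b : W ⟶ X) (hb : b ≫ p = q) (hg : gW ≫ b = gX) :
    haveI := hX.isOpenImmersion; IsIso (b ∣_ gX.opensRange) := by
  haveI := hX.isOpenImmersion
  have h0 : IsPullback gW (𝟙 C) b gX :=
    IsPullback.of_bot (by rw [Category.id_comp, hb]; exact hW.pullback) (by rw [hg, Category.id_comp]) hX.pullback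
  have h1 : IsPullback gW gX.isoOpensRange.hom b gX.opensRange.ι := by
    refine IsPullback.of_iso h0 (Iso.refl _) (Iso.refl _) gX.isoOpensRange (Iso.refl _) ?_ ?_ ?_ ?_ <;> simp
  have h2 := (isPullback_morphismRestrict b gX.opensRange).flip
  rw [← h1.isoIsPullback_inv_snd _ _ h2]
  infer_instance

/-- A morphism of models is a sequence of point blow-ups. -/
theorem GenModel.ptSeq [IsIntegral C] (hC : PropCurve (FractionRing R) C f) {W X : Scheme.{u}}
    {q : W ⟶ Spec (CommRingCat.of R)} {p : X ⟶ Spec (CommRingCat.of R)} {gW : C ⟶ W} {gX : C ⟶ X}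
    (hW : GenModel R C f W q gW) (hX : GenModel R C f X p gX) (b : W ⟶ X) (hb : b ≫ p = q) (hg : gW ≫ b = gX) :
    PtSeq b := by
  haveI := hX.isOpenImmersion
  haveI : IsProper p := hX.model.2.1
  haveI : IsProper q := hW.model.2.1
  haveI : IsProper (b ≫ p) := by rw [hb]; infer_instance
  haveI : IsProper b := IsProper.of_comp b p
  haveI : X.IsSeparated := ⟨by
    rw [show terminal.from X = p ≫ terminal.from _ from terminal.hom_ext _ _]; infer_instance⟩
  exact PtSeq.of_birational b (hW.regSurf hC) (hX.regSurf hC) gX.opensRange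
    ⟨_, Set.mem_range_self (genericPoint C)⟩ (hW.isIso_over_generic hX b hb hg)

/-- A morphism to a minimal model descends along point blow-ups. -/
theorem exists_desc_minimal [IsIntegral C] (hC : PropCurve (FractionRing R) C f)
    (hH0 : IsIso f.appTop) (hg : 0 < Models.curveGenus (FractionRing R) C f)
    {X : Scheme.{u}} {p : X ⟶ Spec (CommRingCat.of R)} {gX : C ⟶ X} (hX : GenModel R C f X p gX)
    (hmin : ∀ Γ : ArSurf.VertComp R (Over.mk p), ¬ Models.IsExcCurve Γ.ι) :
    ∀ {W Y : Scheme.{u}} {π : W ⟶ Y}, PtSeq π → ∀ {q : Y ⟶ Spec (CommRingCat.of R)} {gY : C ⟶ Y},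
      GenModel R C f Y q gY → ∀ {gW : C ⟶ W}, GenModel R C f W (π ≫ q) gW → gW ≫ π = gY →
        ∀ g : W ⟶ X, g ≫ p = π ≫ q → gW ≫ g = gX → ∃ b : Y ⟶ X, π ≫ b = g := by
  intro W Y π hπ
  induction hπ with
  | @iso W' Y' e =>
    intro q gY hY gW hW hgW g hgp hgg
    exact ⟨e.inv ≫ g, e.hom_inv_id_assoc g⟩
  | @step W' Z' Y' b r z hz hz0 hb hr ih =>
    intro q gY hY gW hW hgW g hgp hgg
    obtain ⟨hrp, hZ, gZ, hgZ, hZm⟩ := GenModel.of_ptSeq hC hr hY
    haveI := hrp
    haveI := hZ.integral
    haveI := hZ.noeth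
    have hz1 : z ≠ genericPoint Z' := hz0
    obtain ⟨hWs, hbp, hiso⟩ := hZ.pointBlowUp z hz hz1 b hb
    haveI := hbp
    haveI := hiso
    haveI := hWs.integral
    haveI : IsProper p := hX.model.2.1
    haveI : IsProper q := hY.model.2.1
    -- the inclusion of the generic fibre in the intermediate model
    obtain ⟨gW', hgW', hWm'⟩ := hZm.modification b hWs.regular ⟨{z}ᶜ, hz.isOpen_compl⟩
      (fun x hx h => hx (by rw [show x = z from h]; exact hZm.hom_closed hz))
    have hWm : GenModel R C f W' ((b ≫ r) ≫ q) gW' := by rw [Category.assoc]; exact hWm'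
    obtain rfl : gW = gW' := hY.eq_of_comp hW hWm (b ≫ r) hgW (by rw [reassoc_of% hgW', hgZ])
    by_cases hbi : IsIso b
    · obtain ⟨c, hc⟩ := ih hY hZm hgZ (inv b ≫ g) (by rw [Category.assoc, hgp, Category.assoc, IsIso.inv_hom_id_assoc])
        (by rw [← hgW', Category.assoc, IsIso.hom_inv_id_assoc, hgg])
      exact ⟨c, by rw [Category.assoc, hc, IsIso.hom_inv_id_assoc]⟩
    obtain ⟨F, hF, hFr⟩ := exists_exc_vertComp hC hZm z hz hz0 b hb hbi
    have hWg : GenModel R C f W' (g ≫ p) gW := by rw [hgp]; exact hWm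
    let ι : F.curve.left ⟶ W' := F.ι
    let F' : ArSurf.VertComp R (Over.mk (g ≫ p)) :=
      { curve := F.curve, ι := ι, isClosedImmersion := F.isClosedImmersion, isIntegral := F.isIntegral
        dim_eq := F.dim_eq, w := by show ι ≫ g ≫ p = _; rw [hgp, Category.assoc]; exact F.w }
    have hsub : (g.base '' Set.range ι.base).Subsingleton := by
      by_contra hns
      obtain ⟨Γ, hΓ⟩ := exists_exc_of_ptSeq hC hH0 hg (hWg.ptSeq hC hX g rfl hgg) hX F' hF hns
      exact hmin Γ hΓ
    haveI : X.IsSeparated := ⟨by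
      rw [show terminal.from X = p ≫ terminal.from _ from terminal.hom_ext _ _]; infer_instance⟩
    obtain ⟨hgen, hbij⟩ := Coherent.birational_of_isIso_morphismRestrict b (⟨{z}ᶜ, hz.isOpen_compl⟩ : Z'.Opens)
      ⟨genericPoint Z', hz1.symm⟩
    obtain ⟨g', hg', -⟩ := exists_desc b hZ.isNormal hgen ((ConcreteCategory.isIso_iff_bijective _).2 hbij) g
      (fun y => by
        by_cases hy : y = z
        · subst hy
          rw [← show Set.range ι.base = _ from hFr]; exact hsub
        · refine Set.Subsingleton.image (fun a ha a' ha' => ?_) _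
          let V : Z'.Opens := ⟨{z}ᶜ, hz.isOpen_compl⟩
          have haV : a ∈ b ⁻¹ᵁ V := by show b a ∈ V; rw [show b a = y from ha]; exact hy
          have haV' : a' ∈ b ⁻¹ᵁ V := by show b a' ∈ V; rw [show b a' = y from ha']; exact hy
          have h2 : (b ∣_ V) ⟨a, haV⟩ = (b ∣_ V) ⟨a', haV'⟩ :=
            Subtype.ext (((morphismRestrict_base_coe b V _).trans ((show b a = y from ha).trans
              (show b a' = y from ha').symm)).trans (morphismRestrict_base_coe b V _).symm)
          exact congrArg Subtype.val ((b ∣_ V).homeomorph.injective h2))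
    haveI : IsReduced Z' := inferInstance
    haveI := surjective_of_gen b hgen
    have hg'p : g' ≫ p = r ≫ q :=
      ext_of_isDominant_of_isSeparated (terminal.from (Spec (CommRingCat.of R))) (terminal.hom_ext _ _) b
        (by rw [reassoc_of% hg', hgp, Category.assoc])
    obtain ⟨c, hc⟩ := ih hY hZm hgZ g' hg'p (by rw [← hgW', Category.assoc, hg', hgg])
    exact ⟨c, by rw [Category.assoc, hc, hg']⟩

/-- The mapping property of a minimal model. -/
theorem existsUnique_to_minimal [IsIntegral C] (hC : PropCurve (FractionRing R) C f)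
    (hH0 : IsIso f.appTop) (hg : 0 < Models.curveGenus (FractionRing R) C f)
    {X Y : Scheme.{u}} {p : X ⟶ Spec (CommRingCat.of R)} {q : Y ⟶ Spec (CommRingCat.of R)} {gX : C ⟶ X} {gY : C ⟶ Y}
    (hX : GenModel R C f X p gX) (hY : GenModel R C f Y q gY)
    (hmin : ∀ Γ : ArSurf.VertComp R (Over.mk p), ¬ Models.IsExcCurve Γ.ι) :
    ∃! b : Y ⟶ X, b ≫ p = q ∧ gY ≫ b = gX := by
  haveI := hY.isOpenImmersion
  haveI := hY.isIntegral
  haveI : IsProper p := hX.model.2.1
  haveI : IsProper q := hY.model.2.1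
  have hdom : IsDominant gY :=
    ⟨gY.isOpenEmbedding.isOpen_range.dense (Set.range_nonempty gY)⟩
  let φ : (gY.opensRange : Scheme.{u}) ⟶ X := gY.isoOpensRange.inv ≫ gX
  have hφ : φ ≫ p = gY.opensRange.ι ≫ q := by
    show (_ ≫ gX) ≫ p = _
    rw [Category.assoc, hX.pullback.w, ← hY.pullback.w, Scheme.Hom.isoOpensRange_inv_comp_assoc]
  obtain ⟨W, π, g, _, hW, hπ, hπp, hgp, hU⟩ := exists_ptSeq_extend (hY.regSurf hC) q p gY.opensRange
    ⟨_, Set.mem_range_self (genericPoint C)⟩ φ hφ
  obtain ⟨-, -, gW, hgW, hWm⟩ := GenModel.of_ptSeq hC hπ hY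
  have hr : Set.range gW.base ⊆ Set.range (π ⁻¹ᵁ gY.opensRange).ι.base := by
    rw [Scheme.Opens.range_ι]
    rintro _ ⟨c, rfl⟩
    show π (gW c) ∈ gY.opensRange
    rw [← Scheme.Hom.comp_apply, hgW]
    exact ⟨c, rfl⟩
  let l := IsOpenImmersion.lift (π ⁻¹ᵁ gY.opensRange).ι gW hr
  have hl : l ≫ (π ⁻¹ᵁ gY.opensRange).ι = gW := IsOpenImmersion.lift_fac _ _ _
  have hlπ : l ≫ (π ∣_ gY.opensRange) = gY.isoOpensRange.hom := by
    rw [← cancel_mono gY.opensRange.ι, Category.assoc, morphismRestrict_ι, reassoc_of% hl, hgW,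
      Scheme.Hom.isoOpensRange_hom_ι]
  have hgg : gW ≫ g = gX := by
    rw [← hl, Category.assoc, hU, reassoc_of% hlπ]
    exact gY.isoOpensRange.hom_inv_id_assoc gX
  obtain ⟨b, hb⟩ := exists_desc_minimal hC hH0 hg hX hmin hπ hY hWm hgW g hgp hgg
  have hbg : gY ≫ b = gX := by rw [← hgW, Category.assoc, hb, hgg]
  have hbp : b ≫ p = q := by
    refine ext_of_isDominant_of_isSeparated (terminal.from (Spec (CommRingCat.of R))) (terminal.hom_ext _ _) gY ?_
    rw [reassoc_of% hbg, hX.pullback.w, hY.pullback.w]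
  exact ⟨b, ⟨hbp, hbg⟩, fun b' hb' =>
    ext_of_isDominant_of_isSeparated p (hb'.1.trans hbp.symm) gY (hb'.2.trans hbg.symm)⟩

end Groth.Agent.Models7
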