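import Groth.Agent.SplitP1.Basic
import Groth.Agent.AmpleLib.Relative

/-!
# Auxiliary facts for exceptional curves
-/

set_option autoImplicit false
set_option linter.style.haveILetI false
set_option backward.isDefEq.respectTransparency.types false

universe u

open CategoryTheory CategoryTheory.Limits AlgebraicGeometry TopologicalSpace

namespace Groth.Agent.Models7

/-- A closed subspace of the same finite dimension `1` of an irreducible space is everything. -/
theorem range_eq_univ_of_dim {Y Z : Scheme.{u}} (l : Y ⟶ Z) [IsClosedImmersion l] [IsIntegral Y] [IsIntegral Z]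
    (hY : topologicalKrullDim Y = 1) (hZ : topologicalKrullDim Z ≤ 1) : Set.range l.base = Set.univ := by
  let Z₁ : IrreducibleCloseds Z := ⟨Set.range l.base,
    Set.image_univ ▸ (IrreducibleSpace.isIrreducible_univ Y).image _ l.continuous.continuousOn,
    l.isClosedEmbedding.isClosed_range⟩
  let T : IrreducibleCloseds Z := ⟨Set.univ, IrreducibleSpace.isIrreducible_univ Z, isClosed_univ⟩
  by_contra hne
  have hlt : Z₁ < T := lt_of_le_of_ne (Set.subset_univ _) fun h => hne (congrArg IrreducibleCloseds.carrier h)
  have h1 : Order.krullDim (IrreducibleCloseds Y) = 1 := hY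
  have h2 : Order.krullDim (IrreducibleCloseds Z) ≤ 1 := hZ
  let φ : IrreducibleCloseds Y → IrreducibleCloseds Z := fun S =>
    ⟨l.base '' S, S.isIrreducible.image _ l.continuous.continuousOn, l.isClosedEmbedding.isClosedMap _ S.isClosed⟩
  have hφ : StrictMono φ := fun S S' h => by
    refine lt_of_le_of_ne (Set.image_mono h.le) fun e => h.ne (IrreducibleCloseds.ext ?_)
    exact Set.image_injective.2 l.isClosedEmbedding.injective (congrArg IrreducibleCloseds.carrier e)
  obtain ⟨s, hs⟩ := Order.le_krullDim_iff.1 h1.ge
  have hle : φ s.last ≤ Z₁ := Set.image_subset_range _ _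
  let s' : LTSeries (IrreducibleCloseds Z) := (s.map φ hφ).snoc T (lt_of_le_of_lt hle hlt)
  have := (Order.LTSeries.length_le_krullDim s').trans h2
  simp only [s', RelSeries.snoc_length, LTSeries.map_length, hs] at this
  norm_cast at this

/-- `O(1)` on the projective line is not the pullback of a structure module. -/
theorem not_iso_twist_one (k : Type u) [Field k] {X : Scheme.{u}} {m : CohB1.ProjSpace 1 k ⟶ X}
    (φ : (Scheme.Modules.pullback m).obj (Coh.structureModule X) ≅ Twist.twistProjSpace 1 k 1) : False := by
  obtain ⟨e⟩ := AmpleLib.exists_pullStructureIso m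
  obtain ⟨e'⟩ := SplitP1.nonempty_twist_zero k
  let i : Twist.twistProjSpace 1 k 0 ≅ Twist.twistProjSpace 1 k 1 := e' ≪≫ e.symm ≪≫ φ
  have h0 := SplitP1.finrank_hom_twist (k := k) 0 0
  have h1 := SplitP1.finrank_hom_twist (k := k) 0 1
  have h := (Linear.homCongr k (Iso.refl (Twist.twistProjSpace 1 k 0)) i).finrank_eq
  rw [h0, h1] at h
  norm_num at h
  exact absurd h (by decide)

end Groth.Agent.Models7
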