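import Groth.Agent.Models7.PointExceptional
import Groth.Agent.Inters29.PullIdeal
import Groth.Prelude.Def_ModelsG

/-!
# A sequence of point blow-ups is a sequence of contractions of exceptional curves
-/

set_option autoImplicit false
set_option linter.style.haveILetI false
set_option backward.isDefEq.respectTransparency false
set_option maxHeartbeats 1000000

universe u

open CategoryTheory CategoryTheory.Limits AlgebraicGeometry TopologicalSpace IsLocalRing Opposite
open Groth.Agent.Misc15.DivDescent Groth.Agent.SDiv28.CartierPart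

namespace Groth.Agent.Models7

variable (R : Type u) [CommRing R] [IsDomain R] [IsDiscreteValuationRing R]

/-- The exceptional curve of the blow-up of a closed point of a proper regular surface. -/
theorem exists_excCurve_pointBlowUp {Z X : Scheme.{u}} [IsIntegral Z] (p : Z ⟶ Spec (CommRingCat.of R)) [IsProper p]
    (hZ : RegSurf Z) (hpη : p (genericPoint Z) ≠ closedPoint R) (z : Z) (hz : IsClosed ({z} : Set Z))
    (hz0 : z ≠ genericPoint Z) (hdim : ringKrullDim (Z.presheaf.stalk z) = 2) (b : X ⟶ Z)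
    (hb : BlowUp.IsBlowUp b (Scheme.IdealSheafData.vanishingIdeal ⟨{z}, hz⟩)) :
    ∃ (E : Scheme.{u}) (ι : E ⟶ X), IsClosedImmersion ι ∧ Models.IsExcCurve ι ∧
      Set.range ι.base = b.base ⁻¹' {z} ∧ Set.range (ι ≫ b).base = {z} ∧
      ι.ker = (Scheme.IdealSheafData.vanishingIdeal ⟨{z}, hz⟩).comap b := by
  let I := Scheme.IdealSheafData.vanishingIdeal ⟨{z}, hz⟩
  haveI := hZ.noeth
  haveI := hZ.compact
  have hzR : p z = closedPoint R := by
    have h := p.isClosedMap _ hz
    rw [Set.image_singleton] at h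
    exact PrimeSpectrum.ext (eq_maximalIdeal ((PrimeSpectrum.isClosed_singleton_iff_isMaximal _).1 h))
  -- generators near the point
  let i := I.subschemeι
  have hsupp : (I.support : Set Z) = {z} := Scheme.IdealSheafData.coe_support_vanishingIdeal _
  haveI : IsReduced I.subscheme := Props12.isReduced_subscheme_vanishingIdeal _
  obtain ⟨z₀, hz₀⟩ := I.range_subschemeι.ge (hsupp.ge rfl)
  have hsub : Subsingleton I.subscheme := ⟨fun a c => i.isClosedEmbedding.injective
    ((Set.mem_singleton_iff.1 (hsupp.le (I.range_subschemeι.le ⟨a, rfl⟩))).trans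
      (Set.mem_singleton_iff.1 (hsupp.le (I.range_subschemeι.le ⟨c, rfl⟩))).symm)⟩
  haveI : IrreducibleSpace I.subscheme :=
    { isPreirreducible_univ := Set.subsingleton_univ.isPreirreducible
      toNonempty := ⟨z₀⟩ }
  haveI : IsIntegral I.subscheme := isIntegral_of_irreducibleSpace_of_isReduced _
  haveI : IsLocallyNoetherian I.subscheme := LocallyOfFiniteType.isLocallyNoetherian i
  have hI0 : ∀ w : I.subscheme, IsRegularLocalRing (I.subscheme.presheaf.stalk w) := by
    intro w
    rw [hsub.elim w (genericPoint I.subscheme)]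
    exact inferInstanceAs (IsRegularLocalRing I.subscheme.functionField)
  obtain ⟨U, hzU, -, rs, hrs, hk⟩ := (SDiv28.RegImm.isRegularImmersion i hZ.regular hI0).2 z₀
  obtain ⟨U, hU⟩ := U
  rw [hz₀] at hzU
  have hk' : I.ideal ⟨U, hU⟩ = Ideal.ofList rs :=
    (congrArg (fun J : Z.IdealSheafData => J.ideal ⟨U, hU⟩) (Scheme.IdealSheafData.ker_subschemeι I)).symm.trans
      ((Scheme.Hom.ker_apply i ⟨U, hU⟩).trans hk)
  have hne : rs ≠ [] := by
    rintro rfl
    haveI := hZ.regular z
    have h1 : maximalIdeal (Z.presheaf.stalk z) = ⊥ := by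
      rw [← stk_vanishingIdeal_point z hz, stk_eq I ⟨U, hU⟩ hzU, hk', Ideal.ofList_nil, Ideal.map_bot]
    have h2 := IsRegularLocalRing.spanFinrank_maximalIdeal (R := Z.presheaf.stalk z)
    rw [h1, hdim, Submodule.spanFinrank_bot] at h2
    exact absurd h2 (by decide)
  obtain ⟨n, f, -, hspan, hf⟩ := BlowUpCoh.exists_family_of_list rs hne (BlowUpCoh.isKoszulRegularSeq_of_isRegular hrs)
  have hI : BlowUpCoh.KoszulBasis I 0 := BlowUpCoh.koszulBasis_of_local fun x hx => by
    rw [Set.mem_singleton_iff.1 (hsupp.le hx)]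
    exact ⟨⟨U, hU⟩, n, f, hzU, Nat.zero_le _, hk'.trans hspan, hf⟩
  obtain ⟨f', hspan', hf', -⟩ := BlowUpCoh.exists_restrict_data hb hI hU (hk'.trans hspan) hf
  -- the affine picture
  haveI : IsAffine (U : Scheme.{u}) := hU
  haveI : Nonempty U.toScheme := ⟨⟨z, hzU⟩⟩
  let p' : (U : Scheme.{u}) ⟶ Spec (CommRingCat.of R) := U.ι ≫ p
  let O : X.Opens := b ⁻¹ᵁ U
  let zU : (U : Scheme.{u}) := ⟨z, hzU⟩
  have hzUc : IsClosed ({zU} : Set (U : Scheme.{u})) := by
    have : ({zU} : Set (U : Scheme.{u})) = U.ι.base ⁻¹' {z} :=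
      Set.ext fun w => ⟨fun h => by rw [Set.mem_singleton_iff.1 h]; rfl, fun h => Subtype.ext h⟩
    rw [this]; exact hz.preimage U.ι.continuous
  let I' := Scheme.IdealSheafData.vanishingIdeal (X := (U : Scheme.{u})) ⟨{zU}, hzUc⟩
  have hI' : I.comap U.ι = I' := by
    haveI : IsReduced (I.comap U.ι).subscheme := by
      haveI : IsReduced (pullback U.ι I.subschemeι) :=
        isReduced_of_isOpenImmersion (pullback.snd U.ι I.subschemeι)
      exact isReduced_of_isOpenImmersion (I.comapIso U.ι).hom
    rw [eq_vanishingIdeal_of_isReduced (I.comap U.ι)]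
    congr 1
    refine Closeds.ext ?_
    show ((I.comap U.ι).support : Set U.toScheme) = {zU}
    rw [Scheme.IdealSheafData.support_comap]
    ext w
    exact ⟨fun h => Subtype.ext (Set.mem_singleton_iff.1 (hsupp.le h)), fun h => hsupp.ge (congrArg Subtype.val h)⟩
  have hUs : RegSurf U.toScheme := by
    refine ⟨inferInstance, inferInstance, inferInstance, fun w => ?_, ?_⟩
    · haveI := hZ.regular w.1
      exact IsRegularLocalRing.of_ringEquiv (R := Z.presheaf.stalk w.1)
        (U.stalkIso w).symm.commRingCatIsoToRingEquiv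
    · exact (U.ι.isOpenEmbedding.isInducing.topologicalKrullDim_le).trans hZ.dim
  have hbU : BlowUp.IsBlowUp (b ∣_ U) I' := hI' ▸ BlowUpLib.isBlowUp_restrict hb U
  have hgenU : genericPoint U.toScheme ≠ zU := fun h => hz0 (by
    rw [← genericPoint_eq_of_isOpenImmersion U.ι, h]; rfl)
  have h2 : (maximalIdeal (U.toScheme.presheaf.stalk zU)).spanFinrank = 2 := by
    haveI := hUs.regular zU
    have h := IsRegularLocalRing.spanFinrank_maximalIdeal (R := U.toScheme.presheaf.stalk zU)
    rw [ringKrullDim_eq_of_ringEquiv (U.stalkIso zU).commRingCatIsoToRingEquiv, hdim] at h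
    exact_mod_cast h
  have hprop : IsProper (I'.subschemeι ≫ p') := by
    haveI : IsClosedImmersion (I'.subschemeι ≫ U.ι) := IsClosedImmersion.of_isPreimmersion _ (by
      rw [Scheme.Hom.comp_base, TopCat.coe_comp, Set.range_comp, Scheme.IdealSheafData.range_subschemeι,
        Scheme.IdealSheafData.coe_support_vanishingIdeal]
      show IsClosed (U.ι.base '' {zU})
      rw [Set.image_singleton]; exact hz)
    show IsProper (I'.subschemeι ≫ U.ι ≫ p)
    rw [← Category.assoc]; infer_instance
  obtain ⟨Γ, hker, hexc⟩ := exists_exceptional_affine R p' hUs zU hzUc (Ne.symm hgenU)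
    (by show p (U.ι zU) = _; exact hzR)
    (by show p (U.ι (genericPoint U.toScheme)) ≠ _; rw [genericPoint_eq_of_isOpenImmersion U.ι]; exact hpη)
    hprop h2 f' (by show I'.ideal _ = _; rw [← hI']; exact hspan') hf' (b ∣_ U) hbU
  -- back to the surface
  let J := I.comap b
  let ΓU : Γ.curve.left ⟶ O.toScheme := Γ.ι
  haveI : IsClosedImmersion ΓU := Γ.isClosedImmersion
  have hJO : J.comap O.ι = ΓU.ker := by
    show J.comap O.ι = Γ.ι.ker
    rw [hker]
    show _ = I'.comap (b ∣_ U)
    rw [← hI', BlowUpCoh.comap_restrict]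
  have hJsupp : (J.support : Set X) = b.base ⁻¹' {z} := by
    show ((I.comap b).support : Set X) = _
    rw [Scheme.IdealSheafData.support_comap, ← hsupp]; rfl
  let ι : Γ.curve.left ⟶ X := ΓU ≫ O.ι
  haveI : IsPreimmersion ι := inferInstanceAs (IsPreimmersion (ΓU ≫ O.ι))
  have hrange : Set.range ι.base = b.base ⁻¹' {z} := by
    have h1 : Set.range ΓU.base = (ΓU.ker.support : Set O.toScheme) := by
      rw [Scheme.Hom.support_ker]
      exact ΓU.isClosedEmbedding.isClosed_range.closure_eq.symm
    show Set.range (ΓU ≫ O.ι).base = _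
    rw [Scheme.Hom.comp_base, TopCat.coe_comp, Set.range_comp, h1, ← hJO, Scheme.IdealSheafData.support_comap]
    show O.ι.base '' (O.ι.base ⁻¹' (J.support : Set X)) = _
    rw [Set.image_preimage_eq_inter_range, hJsupp, Scheme.Opens.range_ι, Set.inter_eq_left]
    intro w hw
    show b w ∈ U
    rw [Set.mem_singleton_iff.1 hw]; exact hzU
  haveI : IsClosedImmersion ι := IsClosedImmersion.of_isPreimmersion _ (hrange ▸ hz.preimage b.continuous)
  have hιker : ι.ker = J := by
    refine le_antisymm ?_ ?_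
    · have hr : Set.range J.subschemeι.base ⊆ Set.range O.ι.base := by
        rw [J.range_subschemeι, hJsupp, Scheme.Opens.range_ι]
        intro w hw
        show b w ∈ U
        rw [Set.mem_singleton_iff.1 hw]; exact hzU
      let k := IsOpenImmersion.lift O.ι J.subschemeι hr
      have hk : k ≫ O.ι = J.subschemeι := IsOpenImmersion.lift_fac _ _ _
      haveI : IsClosedImmersion k := by
        haveI : IsClosedImmersion (k ≫ O.ι) := by rw [hk]; infer_instance
        exact IsClosedImmersion.of_comp k O.ι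
      have hle : ΓU.ker ≤ k.ker := by
        rw [← hJO]
        refine Scheme.IdealSheafData.le_map_iff_comap_le.1 ?_
        show J ≤ (k.ker.subschemeι ≫ O.ι).ker
        rw [← Scheme.Hom.ker_comp_of_isIso k.toImage, ← Category.assoc]
        show J ≤ ((k.toImage ≫ k.imageι) ≫ O.ι).ker
        rw [Scheme.Hom.toImage_imageι, hk, Scheme.IdealSheafData.ker_subschemeι]
      calc ι.ker ≤ (IsClosedImmersion.lift ΓU k hle ≫ ι).ker := Scheme.Hom.le_ker_comp _ _
        _ = J := by
          show (_ ≫ ΓU ≫ O.ι).ker = _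
          rw [IsClosedImmersion.lift_fac_assoc, hk, Scheme.IdealSheafData.ker_subschemeι]
    · refine (J.le_map_comap O.ι).trans ?_
      show ((J.comap O.ι).subschemeι ≫ O.ι).ker ≤ (ΓU ≫ O.ι).ker
      rw [hJO]
      conv_rhs => rw [← ΓU.toImage_imageι, Category.assoc]
      exact Scheme.Hom.le_ker_comp _ _
  refine ⟨_, ι, inferInstance, ?_, hrange, ?_, hιker⟩
  · obtain ⟨hD, k, hk, e, ⟨φ⟩⟩ := hexc
    refine ⟨by rw [hιker]; exact hb.1, k, hk, e, ?_⟩
    obtain ⟨ψ⟩ := Inters29.nonempty_pullback_idealMod_iso O.ι J hb.1 (by rw [hJO]; exact hD)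
    rw [hιker]
    exact ⟨((Scheme.Modules.pullbackCongr (Category.assoc e.hom ΓU O.ι)).symm.app _) ≪≫
      ((Scheme.Modules.pullbackComp (e.hom ≫ ΓU) O.ι).symm.app _) ≪≫
      (Scheme.Modules.pullback (e.hom ≫ ΓU)).mapIso (ψ ≪≫ eqToIso (congrArg ClSub.idealMod hJO)) ≪≫ φ⟩
  · rw [Scheme.Hom.comp_base, TopCat.coe_comp, Set.range_comp, hrange]
    refine Set.eq_singleton_iff_nonempty_unique_mem.2 ⟨?_, fun w hw => ?_⟩
    · exact ⟨_, ι (genericPoint Γ.curve.left), hrange.le ⟨_, rfl⟩, rfl⟩
    · obtain ⟨x, hx, rfl⟩ := hw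
      exact hx

/-- A blow-up of an effective Cartier divisor is an isomorphism. -/
theorem isIso_blowUp_of_effCartier {Z X : Scheme.{u}} {I : Z.IdealSheafData} {b : X ⟶ Z}
    (hb : BlowUp.IsBlowUp b I) (hI : BlowUp.IsEffCartierIdeal I) : IsIso b := by
  obtain ⟨h, hh, -⟩ := hb.2 Z (𝟙 Z) (by rwa [Scheme.IdealSheafData.comap_id])
  obtain ⟨k, hk, huniq⟩ := hb.2 X b hb.1
  refine ⟨h, ?_, hh⟩
  rw [huniq (b ≫ h) (by show (b ≫ h) ≫ b = b; rw [Category.assoc, show h ≫ b = 𝟙 Z from hh, Category.comp_id]),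
    huniq (𝟙 X) (Category.id_comp b)]

/-- A composite of point blow-ups of a proper regular surface is a composite of contractions. -/
theorem PtSeq.contractionSeq {Y X : Scheme.{u}} {r : Y ⟶ X} (hr : PtSeq r) :
    ∀ (p : X ⟶ Spec (CommRingCat.of R)) [IsProper p] [IsIntegral X], RegSurf X →
      p (genericPoint X) ≠ closedPoint R →
      RegSurf Y ∧ IsProper r ∧ (∀ [IsIntegral Y], (r ≫ p) (genericPoint Y) ≠ closedPoint R) ∧
        ∀ {W : Scheme.{u}} (e : W ≅ Y), Models.IsContractionSeq (e.hom ≫ r) := by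
  induction hr with
  | @iso Y' X' e' =>
    intro p _ _ hX hpη
    haveI : Nonempty Y' := ⟨e'.inv (genericPoint X')⟩
    haveI := hX.noeth
    haveI : IsIntegral Y' := isIntegral_of_isOpenImmersion e'.hom
    refine ⟨⟨inferInstance, LocallyOfFiniteType.isLocallyNoetherian e'.hom,
      haveI := hX.compact; e'.inv.homeomorph.compactSpace, fun y => ?_, ?_⟩, inferInstance, fun {_} => ?_,
      fun e => (Iso.trans_hom e e') ▸ Models.IsContractionSeq.iso (e ≪≫ e')⟩
    · haveI := hX.regular (e'.hom y)
      exact IsRegularLocalRing.of_ringEquiv (R := X'.presheaf.stalk (e'.hom y))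
        (asIso (e'.hom.stalkMap y)).commRingCatIsoToRingEquiv
    · exact (e'.hom.homeomorph.isHomeomorph.topologicalKrullDim_eq _).le.trans hX.dim
    · rw [Scheme.Hom.comp_apply, genericPoint_eq_of_isOpenImmersion e'.hom]
      exact hpη
  | @step Y' Z' X' b r z hz hz0 hb hr ih =>
    intro p _ _ hX hpη
    obtain ⟨hZ, hrp, hη, hseq⟩ := ih p hX hpη
    haveI := hZ.integral
    haveI := hrp
    have hz1 : z ≠ genericPoint Z' := hz0
    obtain ⟨hY, hbp, hiso⟩ := hZ.pointBlowUp z hz hz1 b hb
    haveI := hbp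
    haveI := hY.integral
    haveI := hiso
    haveI := hZ.noeth
    obtain ⟨hgen, -⟩ := Coherent.birational_of_isIso_morphismRestrict (X := Y') b
      (⟨{z}ᶜ, hz.isOpen_compl⟩ : Z'.Opens) ⟨genericPoint Z', hz1.symm⟩
    refine ⟨hY, inferInstance, fun {_} => ?_, fun {W} e => ?_⟩
    · rw [Category.assoc, Scheme.Hom.comp_apply, hgen]; exact hη
    haveI := hY.integral
    haveI := hZ.regular z
    haveI := hZ.noeth
    haveI := hZ.compact
    have hle : ringKrullDim (Z'.presheaf.stalk z) ≤ 2 := (CurvesLib24.stalk_dim_le_topologicalKrullDim z).trans hZ.dim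
    by_cases hdim : ringKrullDim (Z'.presheaf.stalk z) = 2
    · obtain ⟨E, ι, hι, hE, -, hr, -⟩ := exists_excCurve_pointBlowUp R (r ≫ p) hZ hη z hz hz1 hdim (e.hom ≫ b)
        (isBlowUp_iso_comp e hb)
      rw [← Category.assoc]
      refine Models.IsContractionSeq.step ι (e.hom ≫ b) r hι hE ⟨{}, inferInstance, z, hz, hr, hZ.regular z, hdim,
        isBlowUp_iso_comp e hb⟩ ?_
      have h := hseq (Iso.refl Z')
      rwa [Iso.refl_hom, Category.id_comp] at h
    · have h1 : (maximalIdeal (Z'.presheaf.stalk z)).spanFinrank ≤ 1 := by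
        have h2 := IsRegularLocalRing.spanFinrank_maximalIdeal (R := Z'.presheaf.stalk z)
        have h3 : (maximalIdeal (Z'.presheaf.stalk z)).spanFinrank ≤ 2 := by exact_mod_cast h2.trans_le hle
        have h4 : (maximalIdeal (Z'.presheaf.stalk z)).spanFinrank ≠ 2 := fun h => hdim (by rw [← h2, h]; rfl)
        omega
      have hIc : BlowUp.IsEffCartierIdeal (Scheme.IdealSheafData.vanishingIdeal ⟨{z}, hz⟩) := by
        refine Inters29.isEffCartier_of_stk _ fun x => ?_
        by_cases hx : x = z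
        · subst hx
          rw [stk_vanishingIdeal_point x hz]
          obtain ⟨s, hs, hspan⟩ := Submodule.FG.exists_span_set_encard_eq_spanFinrank
            (IsNoetherian.noetherian (maximalIdeal (Z'.presheaf.stalk x)))
          refine ⟨?_, fun h0 => hz1 ?_⟩
          · have hle1 : s.encard ≤ 1 := by rw [hs]; exact_mod_cast h1
            rcases Set.encard_le_one_iff_eq.1 hle1 with rfl | ⟨d, rfl⟩
            · exact ⟨0, by rw [← hspan]; simp⟩
            · exact ⟨d, hspan.symm⟩
          · let A := Z'.presheaf.stalk x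
            let P : Spec A := ⟨⊥, Ideal.isPrime_bot⟩
            have hP : P = closedPoint A := PrimeSpectrum.ext h0.symm
            obtain ⟨Q, hQ⟩ : genericPoint Z' ∈ Set.range (Z'.fromSpecStalk x) :=
              Scheme.range_fromSpecStalk.ge (genericPoint_specializes _)
            have hPQ : P ⤳ Q := (PrimeSpectrum.le_iff_specializes P Q).1 bot_le
            have h1 : Z'.fromSpecStalk x P = genericPoint Z' :=
              ((hQ ▸ hPQ.map (Z'.fromSpecStalk x).continuous).antisymm (genericPoint_specializes _)).eq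
            rw [← h1, hP]
            exact Scheme.fromSpecStalk_closedPoint.symm
        · rw [stk_eq_top (fun h => hx ((Scheme.IdealSheafData.coe_support_vanishingIdeal _).le h))]
          exact ⟨⟨1, Ideal.span_singleton_one.symm⟩, top_ne_bot⟩
      haveI := isIso_blowUp_of_effCartier hb hIc
      have h := hseq (e ≪≫ asIso b)
      rwa [Iso.trans_hom, asIso_hom, Category.assoc] at h

end Groth.Agent.Models7
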