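import Groth.Agent.Models7.PointBlowUp
import Groth.Agent.BlowUpKoszul.StalkApps
import Groth.Agent.SDiv28.RegularImm
import Groth.Agent.SDiv28.BlowUp
import Groth.Agent.BlowUpLib.Proper
import Groth.Agent.BlowUpLib.Exists
import Groth.Agent.FlatMorAdm.ExtendLocFree

/-!
# A birational morphism collapsing one irreducible curve to a regular point is the blow-up of the point
-/

set_option autoImplicit false
set_option linter.style.haveILetI false
set_option backward.isDefEq.respectTransparency false
set_option maxHeartbeats 1000000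

universe u

open CategoryTheory CategoryTheory.Limits AlgebraicGeometry TopologicalSpace IsLocalRing Opposite
open Groth.Agent.Misc15.DivDescent Groth.Agent.SDiv28.CartierPart

namespace Groth.Agent.Models7

/-- Blowing up a closed point of a regular scheme gives a regular scheme. -/
theorem isRegular_pointBlowUp {Y Y' : Scheme.{u}} [IsLocallyNoetherian Y]
    (hY : ∀ y : Y, IsRegularLocalRing (Y.presheaf.stalk y)) (y : Y) (hy : IsClosed ({y} : Set Y)) (π : Y' ⟶ Y)
    (hπ : BlowUp.IsBlowUp π (Scheme.IdealSheafData.vanishingIdeal ⟨{y}, hy⟩)) (z : Y') :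
    IsRegularLocalRing (Y'.presheaf.stalk z) := by
  let C : Closeds Y := ⟨{y}, hy⟩
  let I := Scheme.IdealSheafData.vanishingIdeal C
  let i := I.subschemeι
  have hrange : Set.range i.base = {y} := by
    rw [Scheme.IdealSheafData.range_subschemeι]
    exact Scheme.IdealSheafData.coe_support_vanishingIdeal C
  haveI : IsReduced I.subscheme := Props12.isReduced_subscheme_vanishingIdeal C
  have hsub : Subsingleton I.subscheme := ⟨fun a b => i.isClosedEmbedding.injective
    ((Set.mem_singleton_iff.1 (hrange.le ⟨a, rfl⟩)).trans (Set.mem_singleton_iff.1 (hrange.le ⟨b, rfl⟩)).symm)⟩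
  haveI : IrreducibleSpace I.subscheme :=
    { isPreirreducible_univ := Set.subsingleton_univ.isPreirreducible
      toNonempty := ⟨(hrange.ge rfl).choose⟩ }
  haveI : IsIntegral I.subscheme := isIntegral_of_irreducibleSpace_of_isReduced _
  haveI : IsLocallyNoetherian I.subscheme := LocallyOfFiniteType.isLocallyNoetherian i
  have hZ : ∀ w : I.subscheme, IsRegularLocalRing (I.subscheme.presheaf.stalk w) := by
    intro w
    rw [hsub.elim w (genericPoint I.subscheme)]
    exact inferInstanceAs (IsRegularLocalRing I.subscheme.functionField)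
  have hker : i.ker = I := Scheme.IdealSheafData.ker_subschemeι I
  have hJ : RegImm.IsRegularIdeal RegImm.Kind.regular I := by
    intro x hx
    obtain ⟨w, rfl⟩ : x ∈ Set.range i.base := (Scheme.IdealSheafData.range_subschemeι I).ge hx
    obtain ⟨U, hU, -, rs, hrs, hk⟩ := (SDiv28.RegImm.isRegularImmersion i hY hZ).2 w
    exact ⟨U, hU, rs, hrs, (congrArg (fun J : Y.IdealSheafData => J.ideal U) hker).symm.trans
      ((Scheme.Hom.ker_apply i U).trans hk)⟩
  exact BlowUpKoszul.isRegularLocalRing_stalk_blowUp hY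
    (fun U => hker ▸ BlowUpKoszul.isRegularRing_quotient_of_closedImmersion i hZ U) hJ hπ z

theorem isNormalScheme_of_regular {X : Scheme.{u}} [IsIntegral X]
    (hX : ∀ x : X, IsRegularLocalRing (X.presheaf.stalk x)) : Pi1.IsNormalScheme X := fun x => by
  haveI := hX x
  haveI : UniqueFactorizationMonoid (X.presheaf.stalk x) := CAlgH3.ufm_of_regular _
  exact ⟨inferInstance, inferInstance⟩

theorem isIntegral_pointBlowUp {Y Y' : Scheme.{u}} [IsIntegral Y] [IsLocallyNoetherian Y]
    (hY : ∀ y : Y, IsRegularLocalRing (Y.presheaf.stalk y)) (y : Y) (hy : IsClosed ({y} : Set Y))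
    (hy0 : y ≠ genericPoint Y) (π : Y' ⟶ Y)
    (hπ : BlowUp.IsBlowUp π (Scheme.IdealSheafData.vanishingIdeal ⟨{y}, hy⟩)) : IsIntegral Y' := by
  let I := Scheme.IdealSheafData.vanishingIdeal ⟨{y}, hy⟩
  haveI : IsReduced Y' :=
    haveI : ∀ z : Y', _root_.IsReduced (Y'.presheaf.stalk z) := fun z => by
      haveI := isRegular_pointBlowUp hY y hy π hπ z
      haveI := CAlgH3.isDomain_of_isRegularLocalRing (Y'.presheaf.stalk z)
      infer_instance
    isReduced_of_isReduced_stalk _
  let W : Y.Opens := I.support.compl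
  have hη : genericPoint Y ∈ (W : Set Y) := fun h =>
    hy0 ((Set.mem_singleton_iff.1 ((Scheme.IdealSheafData.coe_support_vanishingIdeal _).le h)).symm)
  haveI := SDiv28.isIso_off_center hπ
  let V : Y'.Opens := SDiv28.offCenter π I
  haveI : Nonempty W.toScheme := ⟨⟨_, hη⟩⟩
  haveI : IsIntegral W.toScheme := inferInstance
  let e : V.toScheme ≅ W.toScheme := asIso (π ∣_ W)
  haveI : IrreducibleSpace V.toScheme :=
    e.inv.homeomorph.surjective.irreducibleSpace e.inv.continuous
  have hVirr : IsIrreducible (V : Set Y') := by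
    have h := (IrreducibleSpace.isIrreducible_univ V.toScheme).image V.ι V.ι.continuous.continuousOn
    rwa [Set.image_univ, Scheme.Opens.range_ι] at h
  have hd : Dense (V : Set Y') := by
    rw [dense_iff_inter_open]
    intro O hO hne
    by_contra hempty
    rw [Set.not_nonempty_iff_eq_empty] at hempty
    let O' : Y'.Opens := ⟨O, hO⟩
    have hbot : O' ⊓ SDiv28.offCenter π I = ⊥ := Opens.ext hempty
    have hsub : Subsingleton Γ(Y', O' ⊓ SDiv28.offCenter π I) := by rw [hbot]; infer_instance
    have h1 := SDiv28.isDenseOpen_offCenter hπ O' 1 (Subsingleton.elim _ _)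
    obtain ⟨x, hx⟩ := hne
    exact one_ne_zero (α := Y'.presheaf.stalk x)
      (by rw [← map_one (Y'.presheaf.germ O' x hx).hom, h1, map_zero])
  have h := hVirr.closure
  rw [hd.closure_eq] at h
  haveI : IrreducibleSpace Y' := irreducibleSpace_def (X := Y') |>.2 h
  exact isIntegral_of_irreducibleSpace_of_isReduced _

/-- A birational morphism of regular surfaces contracting one irreducible curve is the blow-up of its image. -/
theorem isBlowUp_of_irreducible_fibre {X Y : Scheme.{u}} [IsIntegral X] [IsLocallyNoetherian X] [CompactSpace X]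
    [IsIntegral Y] [IsLocallyNoetherian Y] [X.IsSeparated]
    (hX : ∀ x : X, IsRegularLocalRing (X.presheaf.stalk x)) (hY : ∀ y : Y, IsRegularLocalRing (Y.presheaf.stalk y))
    (hdX : topologicalKrullDim X ≤ 2) (hdY : topologicalKrullDim Y ≤ 2)
    (f : X ⟶ Y) [IsProper f] (y : Y) (hy : IsClosed ({y} : Set Y)) (hy0 : y ≠ genericPoint Y)
    (hiso : IsIso (f ∣_ (⟨{y}ᶜ, hy.isOpen_compl⟩ : Y.Opens)))
    (hirr : IsPreirreducible (f.base ⁻¹' {y})) (hbig : ∃ x x' : X, x ≠ x' ∧ f x = y ∧ f x' = y) :
    BlowUp.IsBlowUp f (Scheme.IdealSheafData.vanishingIdeal ⟨{y}, hy⟩) := by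
  let C : Closeds Y := ⟨{y}, hy⟩
  let I := Scheme.IdealSheafData.vanishingIdeal C
  have hYn := isNormalScheme_of_regular hY
  let U : Y.Opens := ⟨{y}ᶜ, hy.isOpen_compl⟩
  have hU : (U : Set Y).Nonempty := ⟨genericPoint Y, hy0.symm⟩
  obtain ⟨hgen, hbij⟩ := Coherent.birational_of_isIso_morphismRestrict f U hU
  haveI hbir : IsIso (f.stalkMap (genericPoint X)) := (ConcreteCategory.isIso_iff_bijective _).2 hbij
  have hcart := isEffCartier_comap_point hX hY hdX hdY hYn f hgen hbir y hy hy0 hbig
  obtain ⟨Y', π, hπ⟩ := BlowUpLib.exists_isBlowUp I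
  haveI := isIntegral_pointBlowUp hY y hy hy0 π hπ
  have hY' := isRegular_pointBlowUp hY y hy π hπ
  have hY'n := isNormalScheme_of_regular hY'
  haveI : IsProper π := BlowUpLib.isProper_of_isBlowUp hπ (FlatMorAdm.isFiniteTypeIdeal_of_noetherian I)
  haveI : IsLocallyNoetherian Y' := LocallyOfFiniteType.isLocallyNoetherian π
  obtain ⟨g, hg, -⟩ := hπ.2 X f hcart
  haveI : IsProper (g ≫ π) := by rw [hg]; infer_instance
  haveI : IsProper g := IsProper.of_comp g π
  have hgπ : ∀ x, π (g x) = f x := fun x => congrArg (fun k : X ⟶ Y => k x) hg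
  have hπU : IsIso (π ∣_ U) := ProjLib.isIso_morphismRestrict hπ _
    (Set.disjoint_left.mpr fun _ h h' => h' ((Scheme.IdealSheafData.coe_support_vanishingIdeal C).le h))
  obtain ⟨hπgen, hπbij⟩ := Coherent.birational_of_isIso_morphismRestrict π U hU
  have hinjU : ∀ {S : Scheme.{u}} (h : S ⟶ Y), IsIso (h ∣_ U) → ∀ a b : S, h a = h b → h a ∈ U → a = b := by
    intro S h hh a b hab ha
    have e : (h ∣_ U) ⟨a, ha⟩ = (h ∣_ U) ⟨b, by show h b ∈ U; exact hab ▸ ha⟩ :=
      Subtype.ext (by rw [morphismRestrict_base_coe, morphismRestrict_base_coe]; exact hab)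
    exact congrArg Subtype.val ((h ∣_ U).homeomorph.injective e)
  have hgη : g (genericPoint X) = genericPoint Y' :=
    hinjU π hπU _ _ ((hgπ _).trans (hgen.trans hπgen.symm)) (by rw [hgπ, hgen]; exact hy0.symm)
  haveI hgbir : IsIso (g.stalkMap (genericPoint X)) := by
    have h1 : IsIso ((g ≫ π).stalkMap (genericPoint X)) := by subst hg; exact hbir
    rw [Scheme.Hom.stalkMap_comp] at h1
    haveI : IsIso (π.stalkMap (g (genericPoint X))) := by
      have key : ∀ z : Y', z = genericPoint Y' → IsIso (π.stalkMap z) := by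
        rintro z rfl; exact (ConcreteCategory.isIso_iff_bijective _).2 hπbij
      exact key _ hgη
    exact IsIso.of_isIso_comp_left (π.stalkMap (g (genericPoint X))) _
  haveI hgsurj : Surjective g := surjective_of_gen g hgη
  have hA : IsClosed (f.base ⁻¹' {y}) := hy.preimage f.continuous
  obtain ⟨x₁, x₂, hne, hx₁, hx₂⟩ := hbig
  obtain ⟨e, he⟩ := QuasiSober.sober (⟨⟨x₁, hx₁⟩, hirr⟩ : IsIrreducible (f.base ⁻¹' {y})) hA
  have heA : f e = y := he.mem
  have heη : e ≠ genericPoint X := fun h => hy0 (by rw [← heA, h, hgen])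
  have hE : ∀ x, f x = y → x ≠ e → IsClosed ({x} : Set X) := fun x hx hxe =>
    isClosed_of_specializes_dim_two hdX (he.specializes hx) (Ne.symm hxe) heη
  have hge : ¬ IsClosed ({g e} : Set Y') := by
    intro hc
    have hsingle : π.base ⁻¹' {y} ⊆ {g e} := by
      intro z hz
      obtain ⟨x, rfl⟩ := g.surjective z
      exact ((he.specializes (show f x = y from (hgπ x).symm.trans hz)).map g.continuous).mem_closed hc rfl
    have hfin : ∀ w ∈ (⊤ : Y.Opens), (π.base ⁻¹' {w}).Finite := by
      intro w _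
      by_cases hw : w = y
      · exact hw ▸ (Set.finite_singleton _).subset hsingle
      · refine Set.Subsingleton.finite fun a ha b hb => hinjU π hπU a b ?_ ?_
        · exact (Set.mem_singleton_iff.1 ha).trans (Set.mem_singleton_iff.1 hb).symm
        · rw [Set.mem_singleton_iff.1 ha]; exact hw
    haveI : IsIso (π ∣_ (⊤ : Y.Opens)) := isIso_morphismRestrict_of_finite_fibres π
      (fun W => Coherent.isIso_app_of_birational π hYn hπgen ((ConcreteCategory.isIso_iff_bijective _).2 hπbij) W)
      ⊤ hfin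
    haveI : IsIso π := (IsZariskiLocalAtTarget.iff_of_iSup_eq_top (P := MorphismProperty.isomorphisms Scheme.{u})
      (fun _ : Unit => (⊤ : Scheme.Opens _)) iSup_const).2 fun _ => ‹_›
    -- the maximal ideal at `y` is principal
    have hIc : BlowUp.IsEffCartierIdeal I := by
      have h := FlatMor12.BlowUpDisjoint.isEffCartierIdeal_comap (I.comap π) hπ.1 (inv π)
      rwa [← Scheme.IdealSheafData.comap_comp, IsIso.inv_hom_id, Scheme.IdealSheafData.comap_id] at h
    haveI := hY y
    have hp : (maximalIdeal (Y.presheaf.stalk y)).IsPrincipal := by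
      rw [← stk_vanishingIdeal_point y hy]
      obtain ⟨d, -, hd⟩ := exists_gen hIc y
      exact ⟨d, hd⟩
    haveI : ValuationRing (Y.presheaf.stalk y) := ((tfae_of_isNoetherianRing_of_isLocalRing_of_isDomain (Y.presheaf.stalk y)).out 4 1 :
      (maximalIdeal (Y.presheaf.stalk y)).IsPrincipal ↔ ValuationRing (Y.presheaf.stalk y)).1 hp
    haveI : ValuationRing (Y.presheaf.stalk (f x₁)) := by rw [hx₁]; infer_instance
    exact hne (eq_of_valuationRing f hgen hbir (hx₂.trans hx₁.symm))
  have hgfin : ∀ w ∈ (⊤ : Y'.Opens), (g.base ⁻¹' {w}).Finite := by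
    intro w _
    refine Set.Subsingleton.finite ?_
    by_cases hw : π w = y
    · have hsub : ∀ a ∈ g.base ⁻¹' {w}, f a = y := fun a ha => by
        rw [← hgπ, Set.mem_singleton_iff.1 ha, hw]
      by_cases hwe : g e = w
      · have h1 : ∀ a ∈ g.base ⁻¹' {w}, a = e := fun a ha => by_contra fun hae => hge (by
          have h := g.isClosedMap _ (hE a (hsub a ha) hae)
          rwa [Set.image_singleton, Set.mem_singleton_iff.1 ha, ← hwe] at h)
        exact fun a ha b hb => (h1 a ha).trans (h1 b hb).symm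
      · intro a ha b hb
        have hc : ∀ x ∈ g.base ⁻¹' {w}, IsClosed ({x} : Set X) := fun x hx =>
          hE x (hsub x hx) fun h => hwe (h ▸ Set.mem_singleton_iff.1 hx)
        have hwc : IsClosed ({w} : Set Y') := by
          have h := g.isClosedMap _ (hc a ha)
          rwa [Set.image_singleton, Set.mem_singleton_iff.1 ha] at h
        exact subsingleton_of_closedPoints (hwc.preimage g.continuous)
          (isPreconnected_preimage g hY'n hgη hgbir w) hc ha hb
    · intro a ha b hb
      refine hinjU f hiso a b ?_ ?_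
      · rw [← hgπ, ← hgπ, Set.mem_singleton_iff.1 ha, Set.mem_singleton_iff.1 hb]
      · rw [← hgπ, Set.mem_singleton_iff.1 ha]; exact hw
  haveI : IsIso (g ∣_ (⊤ : Y'.Opens)) := isIso_morphismRestrict_of_finite_fibres g
    (fun W => Coherent.isIso_app_of_birational g hY'n hgη hgbir W) ⊤ hgfin
  haveI : IsIso g := (IsZariskiLocalAtTarget.iff_of_iSup_eq_top (P := MorphismProperty.isomorphisms Scheme.{u})
    (fun _ : Unit => (⊤ : Scheme.Opens _)) iSup_const).2 fun _ => ‹_›
  refine ⟨hcart, fun S h hh => ?_⟩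
  obtain ⟨k, hk, huniq⟩ := hπ.2 S h hh
  refine ⟨k ≫ inv g, ?_, fun k' hk' => ?_⟩
  · show (k ≫ inv g) ≫ f = h
    rw [← hg, Category.assoc, IsIso.inv_hom_id_assoc]; exact hk
  · have := huniq (k' ≫ g) (by show (k' ≫ g) ≫ π = h; rw [Category.assoc, hg]; exact hk')
    rw [← this, Category.assoc, IsIso.hom_inv_id, Category.comp_id]

end Groth.Agent.Models7
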