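import Groth.Agent.Models7.ExcCriterion
import Groth.Agent.Coherent.ProjSpaceBase

/-!
# Projective lines with trivial constants
-/

set_option autoImplicit false
set_option linter.style.haveILetI false
set_option backward.isDefEq.respectTransparency false

universe u

open CategoryTheory CategoryTheory.Limits AlgebraicGeometry
open Groth.Agent.Coherent Groth.Agent.PicLib Groth.Agent.AmpleLib Groth.Agent.EulerLib

namespace Groth.Agent.Models7

/-- A projective line over an extension of `k` with one-dimensional `H⁰` is a projective line over `k`. -/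
theorem exists_iso_projLine {k k' : Type u} [Field k] [Field k'] {E : Scheme.{u}} (g : E ⟶ Spec (CommRingCat.of k))
    [IsProper g] (e : CohB1.ProjSpace 1 k' ≅ E)
    (h : Models.hRank k E g (Coh.structureModule E) 0 = 1) :
    ∃ e' : E ≅ CohB1.ProjSpace 1 k, e'.hom ≫ CohB1.ProjSpace.toSpec 1 k = g := by
  obtain ⟨ψ, hψ⟩ := exists_constants (e.hom ≫ g)
  have hd : Models.homDegree ψ = 1 := by
    letI : E.Over (Spec (CommRingCat.of k)) := ⟨g⟩
    haveI : CompactSpace E := QuasiCompact.compactSpace_of_compactSpace g
    haveI : E.IsSeparated := ⟨by rw [← terminal.comp_from g]; infer_instance⟩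
    letI oP : (CohB1.ProjSpace 1 k').Over (Spec (CommRingCat.of k)) := ⟨e.hom ≫ g⟩
    have hpb : IsPullback e.hom ((CohB1.ProjSpace 1 k') ↘ Spec (CommRingCat.of k)) (E ↘ Spec (CommRingCat.of k))
        (Spec.map (CommRingCat.ofHom (algebraMap k k))) := by
      rw [show CommRingCat.ofHom (algebraMap k k) = 𝟙 _ from rfl, Spec.map_id]
      exact IsPullback.of_horiz_isIso ⟨(Category.comp_id (e.hom ≫ g)).symm⟩
    have h1 : Models.hRank k E g (Coh.structureModule E) 0 =
        Models.homDegree ψ * Models.hRank k' _ (CohB1.ProjSpace.toSpec 1 k') (Coh.structureModule _) 0 := by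
      rw [← hRank_comp ψ, ← hψ]
      exact (CurveRR24.finrank_HH_structure_bc hpb 0).symm
    rw [show Models.hRank k' _ (CohB1.ProjSpace.toSpec 1 k') (Coh.structureModule (CohB1.ProjSpace 1 k')) 0 = 1 from
      CurveRR24.finrank_projLine_structure k', mul_one] at h1
    omega
  letI : Algebra k k' := ψ.toAlgebra
  have hb : Function.Bijective (algebraMap k k') :=
    Algebra.bijective_algebraMap_iff.2 (Subalgebra.bot_eq_top_iff_finrank_eq_one.2 hd).symm
  haveI : IsIso (Spec.map (CommRingCat.ofHom (algebraMap k k'))) := by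
    haveI : IsIso (CommRingCat.ofHom (algebraMap k k')) := (ConcreteCategory.isIso_iff_bijective _).2 hb
    infer_instance
  have hp := isPullback_projSpace 1 k k'
  haveI := hp.isIso_fst_of_isIso
  refine ⟨e.symm ≪≫ asIso (Proj.map (polyGradedMap 1 k k') (polyGradedMap_irrelevant 1 k k')), ?_⟩
  rw [Iso.trans_hom, asIso_hom, Category.assoc, hp.w, Iso.symm_hom, Iso.inv_comp_eq]
  exact hψ.symm

end Groth.Agent.Models7
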