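import Groth.Agent.Models7.DivChi
import Groth.Agent.Coherent.CohBC.FibreField
import Groth.Agent.EGA43.FibDepth.Unit
import Groth.Agent.Inters29.FibrePullback

/-!
# The Euler characteristic of the special fibre
-/

set_option autoImplicit false
set_option linter.style.haveILetI false
set_option backward.isDefEq.respectTransparency.types false
set_option maxHeartbeats 1000000

universe u

open CategoryTheory CategoryTheory.Limits AlgebraicGeometry Opposite TopologicalSpace
open Groth.Agent.Coherent Groth.Agent.PicLib Groth.Agent.AmpleLib Groth.Agent.EulerLib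

namespace Groth.Agent.Models7

variable {R : Type u} [CommRing R] [IsDomain R] [IsDiscreteValuationRing R]
variable {X : Scheme.{u}} {p : X ⟶ Spec (CommRingCat.of R)}

/-- The special fibre has the Euler characteristic of the generic fibre. -/
theorem chi_specialFibre [IsProper p] [Flat p] {C : Scheme.{u}} {f : C ⟶ Spec (CommRingCat.of (FractionRing R))}
    {g : C ⟶ X} (hg : IsPullback g f p (Spec.map (CommRingCat.ofHom (algebraMap R (FractionRing R)))))
    (hF : FinLen R (Over.mk p) (ClSub.quotMod (Models.specialFibreIdeal R (Over.mk p)))) :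
    (Models.lengthH R (Over.mk p) (ClSub.quotMod (Models.specialFibreIdeal R (Over.mk p))) 0 : ℤ) -
        Models.lengthH R (Over.mk p) (ClSub.quotMod (Models.specialFibreIdeal R (Over.mk p))) 1 =
      @Curv2.euler (FractionRing R) _ C ⟨f⟩ (Coh.structureModule C) := by
  let k := IsLocalRing.ResidueField R
  let K := FractionRing R
  haveI : IsProper f := MorphismProperty.of_isPullback hg inferInstance
  haveI : IsLocallyNoetherian X := LocallyOfFiniteType.isLocallyNoetherian p
  haveI : Coh.IsQCoh (Coh.structureModule X) := isQCoh_structureModule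
  have hfl : FlatMod.IsFlatOver p (Coh.structureModule X) := fun x =>
    (EGA43.FibDepth.isFlatOverAt_structureModule p x).2 (Flat.stalkMap p x)
  let σ := Spec.map (CommRingCat.ofHom (algebraMap R K))
  let c := Spec.map (CommRingCat.ofHom (IsLocalRing.residue R))
  haveI : IsClosedImmersion c := Inters29.isClosedImmersion_residue R
  let s₁ : Spec (CommRingCat.of R) := σ (IsLocalRing.closedPoint K)
  let s₀ : Spec (CommRingCat.of R) := c (IsLocalRing.closedPoint k)
  have hconst := (CohBC.isLocallyConstant_eulerChar p (isCoh_structureModule X) hfl).apply_eq_of_isPreconnected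
    (PreconnectedSpace.isPreconnected_univ) (Set.mem_univ s₀) (Set.mem_univ s₁)
  -- the generic fibre
  have hgen : PerfAux.eulerChar p (Coh.structureModule X) s₁ = @Curv2.euler K _ C ⟨f⟩ (Coh.structureModule C) := by
    refine (CohBC.eulerChar_eq_euler_of_point p (Coh.structureModule X) σ (IsLocalRing.closedPoint K)).trans ?_
    letI : (pullback p σ).Over (Spec (CommRingCat.of K)) := ⟨pullback.snd p σ⟩
    letI : C.Over (Spec (CommRingCat.of K)) := ⟨f⟩
    haveI : IsProper ((pullback p σ) ↘ Spec (CommRingCat.of K)) :=
      MorphismProperty.pullback_snd (P := @IsProper) _ _ inferInstance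
    haveI : CompactSpace ↥(pullback p σ) := QuasiCompact.compactSpace_of_compactSpace (pullback.snd p σ)
    haveI : (pullback p σ).IsSeparated :=
      ⟨by rw [← terminal.comp_from ((pullback p σ) ↘ Spec (CommRingCat.of K))]; infer_instance⟩
    haveI := CurveRR24.isLocallyNoetherian_of_proper K (X := pullback p σ)
    obtain ⟨e⟩ := exists_pullStructureIso (pullback.fst p σ)
    have hsq : IsPullback hg.isoPullback.hom (C ↘ Spec (CommRingCat.of K)) (pullback p σ ↘ Spec (CommRingCat.of K))
        (Spec.map (CommRingCat.ofHom (algebraMap K K))) := by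
      rw [show CommRingCat.ofHom (algebraMap K K) = 𝟙 _ from rfl, Spec.map_id]
      exact IsPullback.of_horiz_isIso ⟨by rw [Category.comp_id]; exact hg.isoPullback_hom_snd⟩
    rw [euler_congr K _ e]
    simp only [Curv2.euler, CurveRR24.finrank_HH_structure_bc hsq]
    rfl
  -- the closed fibre
  let I := Models.specialFibreIdeal R (Over.mk p)
  let Z : Scheme.{u} := I.subscheme
  let ι : Z ⟶ X := I.subschemeι
  let j := pullback.fst p c
  haveI : IsClosedImmersion j := MorphismProperty.pullback_fst _ _ inferInstance
  haveI : QuasiCompact (Over.mk p).hom := inferInstanceAs (QuasiCompact p)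
  have hk : j.ker = I := Inters29.ker_fst_specialFibre R (X := Over.mk p)
  let t₀ : pullback p c ⟶ j.ker.subscheme := j.toImage
  haveI : IsIso t₀ := inferInstanceAs (IsIso j.toImage)
  obtain ⟨t, ht, hti⟩ : ∃ t : pullback p c ⟶ Z, t ≫ ι = j ∧ IsIso t := by
    show ∃ t : pullback p c ⟶ I.subscheme, t ≫ I.subschemeι = j ∧ IsIso t
    rw [← hk]
    exact ⟨t₀, j.toImage_imageι, inferInstance⟩
  let gZ : Z ⟶ Spec (CommRingCat.of k) := inv t ≫ pullback.snd p c
  have hgR : ι ≫ p = gZ ≫ c := by
    show ι ≫ p = (inv t ≫ pullback.snd p c) ≫ c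
    rw [Category.assoc, ← pullback.condition, IsIso.eq_inv_comp, reassoc_of% ht]
  haveI : IsProper (pullback.snd p c) := MorphismProperty.pullback_snd (P := @IsProper) _ _ inferInstance
  haveI : IsProper gZ := inferInstanceAs (IsProper (inv t ≫ pullback.snd p c))
  letI : X.Over (Spec (CommRingCat.of R)) := ⟨p⟩
  letI oK : Z.Over (Spec (CommRingCat.of k)) := ⟨gZ⟩
  letI oR : Z.Over (Spec (CommRingCat.of R)) := ⟨ι ≫ p⟩
  letI : (pullback p c).Over (Spec (CommRingCat.of k)) := ⟨pullback.snd p c⟩
  haveI : IsProper (Z ↘ Spec (CommRingCat.of k)) := ‹IsProper gZ›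
  haveI : CompactSpace Z := QuasiCompact.compactSpace_of_compactSpace gZ
  haveI : Z.IsSeparated := ⟨by rw [← terminal.comp_from gZ]; infer_instance⟩
  haveI := CurveRR24.isLocallyNoetherian_of_proper k (X := Z)
  haveI : Coh.IsQCoh (Coh.structureModule Z) := isQCoh_structureModule
  have key : ∀ q, Module.length R (Coh.HH (Over.mk p).left (ClSub.quotMod I) q) =
      Module.finrank k (Coh.HH Z (Coh.structureModule Z) q) := by
    intro q
    show Module.length R (Coh.HH X ((Coh.push ι).obj (Coh.structureModule Z)) q) = _
    rw [← (SerreDual.hpushA ι R (show ι ≫ (X ↘ Spec (CommRingCat.of R)) = _ from rfl)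
      (Coh.structureModule Z) q).length_eq]
    let W := Coh.HH Z (Coh.structureModule Z) q
    letI mk : Module k W := @Coh.moduleOver k _ _ oK _ q
    letI mR : Module R W := @Coh.moduleOver R _ _ oR _ q
    haveI : IsScalarTower R k W := IsScalarTower.of_algebraMap_smul fun a x => by
      show Coh.toGlobal gZ (IsLocalRing.residue R a) • x = Coh.toGlobal (ι ≫ p) a • x
      rw [hgR, toGlobal_comp_ringHom]
      rfl
    haveI : Module.Finite k W := CurveRR24.finite_HH_of_isCoh k (isCoh_structureModule Z) q
    rw [Module.length_eq_of_surjective (R := k) (S := R) (M := W) IsLocalRing.residue_surjective,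
      Module.length_eq_finrank]
  have hclosed : PerfAux.eulerChar p (Coh.structureModule X) s₀ =
      (Models.lengthH R (Over.mk p) (ClSub.quotMod I) 0 : ℤ) - Models.lengthH R (Over.mk p) (ClSub.quotMod I) 1 := by
    refine (CohBC.eulerChar_eq_euler_of_point p (Coh.structureModule X) c (IsLocalRing.closedPoint k)).trans ?_
    haveI : IsProper ((pullback p c) ↘ Spec (CommRingCat.of k)) := ‹IsProper (pullback.snd p c)›
    obtain ⟨e⟩ := exists_pullStructureIso (pullback.fst p c)
    have hsq : IsPullback t ((pullback p c) ↘ Spec (CommRingCat.of k)) (Z ↘ Spec (CommRingCat.of k))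
        (Spec.map (CommRingCat.ofHom (algebraMap k k))) := by
      rw [show CommRingCat.ofHom (algebraMap k k) = 𝟙 _ from rfl, Spec.map_id]
      exact IsPullback.of_horiz_isIso ⟨by rw [Category.comp_id]; exact IsIso.hom_inv_id_assoc t (pullback.snd p c)⟩
    rw [euler_congr k _ e]
    have he : Curv2.euler k (pullback p c) (Coh.structureModule (pullback p c)) =
        Curv2.euler k Z (Coh.structureModule Z) := by
      simp only [Curv2.euler, CurveRR24.finrank_HH_structure_bc hsq]
    have hv : ∀ q, 1 < q → Subsingleton (Coh.HH Z (Coh.structureModule Z) q) := fun q hq => by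
      haveI := hF.2 q hq
      have h := key q
      rw [Module.length_eq_zero] at h
      haveI : Module.Finite k (Coh.HH Z (Coh.structureModule Z) q) :=
        CurveRR24.finite_HH_of_isCoh k (isCoh_structureModule Z) q
      exact Module.finrank_zero_iff.1 (by exact_mod_cast h.symm)
    rw [he, euler_eq_sum k Z _ 1 hv]
    simp only [Models.lengthH, key, ENat.toNat_natCast, Finset.sum_range_succ, Finset.sum_range_zero, zero_add,
      pow_zero, pow_one, one_mul, neg_one_mul]
    ring
  rw [← hclosed, hconst, hgen]

end Groth.Agent.Models7
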