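import Groth.Agent.Models7.ContractBundle
import Groth.Agent.Models7.SteinContract

/-!
# Contraction of a projective line of negative self-intersection
-/

set_option autoImplicit false
set_option linter.style.haveILetI false
set_option backward.isDefEq.respectTransparency.types false
set_option maxHeartbeats 2000000

universe u

open CategoryTheory CategoryTheory.Limits AlgebraicGeometry TopologicalSpace Opposite
open Groth.Agent.Coherent Groth.Agent.PicLib Groth.Agent.AmpleLib Groth.Agent.EulerLib

namespace Groth.Agent.Models7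

variable {R : Type u} [CommRing R]

/-- A scheme projective over an affine base has an ample invertible module. -/
theorem exists_isAmple_of_isProjectiveOver {X : Over (Spec (CommRingCat.of R))} [IsProper X.hom]
    (h : Neron.IsProjectiveOver R X) : ∃ H : X.left.Modules, CohB1.IsAmple H := by
  obtain ⟨n, i, hi, hiX⟩ := h
  haveI := hi
  exact ⟨_, PnEmb.isAmple_of_isRelVeryAmplePn X.hom ⟨n, i, inferInstance, hiX, ⟨Iso.refl _⟩⟩⟩

/-- A fibre of the first of two composable morphisms has at most the dimension of the fibre of the composite. -/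
theorem topologicalKrullDim_fiber_le_comp {X Y S : Scheme.{u}} (g : X ⟶ Y) (q : Y ⟶ S) {p : X ⟶ S}
    (h : g ≫ q = p) (w : Y) : topologicalKrullDim ↥(g.fiber w) ≤ topologicalKrullDim ↥(p.fiber (q w)) := by
  subst h
  let T : Set X := (g ≫ q).base ⁻¹' {q w}
  have hmem : ∀ z : g.fiber w, (g.fiberHomeo w z).1 ∈ T := fun z => congrArg q (g.fiberHomeo w z).2
  let θ : g.fiber w → (g ≫ q).fiber (q w) :=
    ((g ≫ q).fiberHomeo (q w)).symm ∘ Set.codRestrict (Subtype.val ∘ g.fiberHomeo w) T hmem
  have hθ : Topology.IsInducing θ := ((g ≫ q).fiberHomeo (q w)).symm.isInducing.comp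
    ((Topology.IsInducing.subtypeVal.comp (g.fiberHomeo w).isInducing).codRestrict hmem)
  exact hθ.topologicalKrullDim_le

/-- A morphism to projective space with a point having an affine chart preimage has a finite fibre there. -/
theorem finite_preimage_of_isAffineOpen {n : ℕ} {X : Scheme.{u}} (φ : X ⟶ CohB1.ProjSpace n R) [IsProper φ]
    (i : Fin (n + 1)) (h : IsAffineOpen (φ ⁻¹ᵁ PnEmb.chartOpen n R i)) {w : CohB1.ProjSpace n R}
    (hw : w ∈ PnEmb.chartOpen n R i) : (φ.base ⁻¹' {w}).Finite := by
  let W := PnEmb.chartOpen n R i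
  haveI : IsAffine W.toScheme := PnEmb.isAffineOpen_chartOpen i
  haveI : IsAffine (φ ⁻¹ᵁ W).toScheme := h
  haveI : IsProper (φ ∣_ W) := IsZariskiLocalAtTarget.restrict ‹_› W
  haveI : IsFinite (φ ∣_ W) := IsFinite.iff_isProper_and_isAffineHom.2 ⟨inferInstance, inferInstance⟩
  refine (((φ ∣_ W).finite_preimage_singleton (⟨w, hw⟩ : W)).image fun z : (φ ⁻¹ᵁ W).toScheme => z.1).subset ?_
  intro x hx
  have hxw : φ x = w := hx
  refine ⟨⟨x, show φ x ∈ W from hxw.symm ▸ hw⟩, ?_, rfl⟩
  exact Subtype.ext ((morphismRestrict_base_coe φ W _).trans hxw)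

variable [IsNoetherianRing R]

/-- **Castelnuovo**: a projective line with conormal degree `d > 0` contracts to a normal point with
cotangent space of dimension `d + 1`. -/
theorem exists_contraction_line {X : Scheme.{u}} [IsIntegral X] (p : X ⟶ Spec (CommRingCat.of R)) [IsProper p]
    (hnor : ∀ x : X, IsIntegrallyClosed (X.presheaf.stalk x))
    (hfib : ∀ z : ↥(Spec (CommRingCat.of R)), topologicalKrullDim ↥(p.fiber z) ≤ 1) {H : X.Modules}
    (hH : CohB1.IsAmple H) (J : X.IdealSheafData) (hJ : BlowUp.IsEffCartierIdeal J) {k : Type u} [Field k]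
    (e : CohB1.ProjSpace 1 k ≅ J.subscheme) {d : ℕ} (hd1 : 1 ≤ d)
    (hd : P1Deg.HasDeg e ((Scheme.Modules.pullback J.subschemeι).obj (ClSub.idealMod J)) (d : ℤ)) :
    ∃ (Y : Scheme.{u}) (q : Y ⟶ Spec (CommRingCat.of R)) (g : X ⟶ Y) (y : Y) (hy : IsClosed ({y} : Set Y)),
      g ≫ q = p ∧ IsIntegral Y ∧ (∀ z : Y, IsIntegrallyClosed (Y.presheaf.stalk z)) ∧ IsProper q ∧
      Neron.IsProjectiveOver R (Over.mk q) ∧ Function.Surjective g.base ∧ IsProper g ∧
      g.base ⁻¹' {y} = (J.support : Set X) ∧ IsIso (g ∣_ (⟨{y}ᶜ, hy.isOpen_compl⟩ : Y.Opens)) ∧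
      Module.finrank (IsLocalRing.ResidueField (Y.presheaf.stalk y))
        (IsLocalRing.CotangentSpace (Y.presheaf.stalk y)) = d + 1 := by
  classical
  haveI : IsLocallyNoetherian X := LocallyOfFiniteType.isLocallyNoetherian p
  haveI : CompactSpace X := QuasiCompact.compactSpace_of_compactSpace p
  haveI : IsNoetherian X := {}
  obtain ⟨L, hL, hLd, hgl, hoff⟩ := exists_degZero_bundle J p hfib hH hJ e hd1 hd
  -- finitely many sections, including the affine ones
  let good : X → Γ(L, ⊤) := fun x => if hx : x ∈ (J.support : Set X) then (hgl x).choose else (hoff x hx).choose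
  have hgood : ∀ x, x ∈ glocus L (good x) := fun x => by
    by_cases hx : x ∈ (J.support : Set X)
    · simp only [good, dif_pos hx]; exact (hgl x).choose_spec
    · simp only [good, dif_neg hx]; exact (hoff x hx).choose_spec.1
  let Uc : X.Opens := ⟨(J.support : Set X)ᶜ, J.support.isClosed.isOpen_compl⟩
  obtain ⟨t₁, ht₁⟩ := isCompact_univ.elim_finite_subcover (fun x : X => (glocus L (good x) : Set X))
    (fun x => (glocus L (good x)).2) fun x _ => Set.mem_iUnion.2 ⟨x, hgood x⟩
  obtain ⟨t₂, ht₂⟩ := (NoetherianSpace.isCompact (Uc : Set X)).elim_finite_subcover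
    (fun x : Uc => (glocus L (good x.1) : Set X)) (fun x => (glocus L (good x.1)).2)
    fun x hx => Set.mem_iUnion.2 ⟨⟨x, hx⟩, hgood x⟩
  let S : Finset Γ(L, ⊤) := t₁.image good ∪ t₂.image fun x => good x.1
  let σ : Fin (S.card + 1) → Γ(L, ⊤) := Fin.cons 0 fun i => (S.equivFin.symm i).1
  have hσS : ∀ s ∈ S, ∃ i, σ i = s := fun s hs => ⟨(S.equivFin ⟨s, hs⟩).succ, by simp [σ]⟩
  have hcov : ∀ x : X, ∃ i, x ∈ glocus L (σ i) := fun x => by
    obtain ⟨z, hz, hxz⟩ := Set.mem_iUnion₂.1 (ht₁ (Set.mem_univ x))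
    obtain ⟨i, hi⟩ := hσS _ (Finset.mem_union_left _ (Finset.mem_image_of_mem good hz))
    exact ⟨i, hi ▸ hxz⟩
  have hcov' : ∀ x ∉ (J.support : Set X), ∃ i, x ∈ glocus L (σ i) ∧ IsAffineOpen (glocus L (σ i)) ∧
      Disjoint (glocus L (σ i) : Set X) (J.support : Set X) := fun x hx => by
    obtain ⟨z, hz, hxz⟩ := Set.mem_iUnion₂.1 (ht₂ hx)
    obtain ⟨i, hi⟩ := hσS _ (Finset.mem_union_right _ (Finset.mem_image_of_mem (fun x : Uc => good x.1) hz))
    have hzS : z.1 ∉ (J.support : Set X) := z.2
    refine ⟨i, hi ▸ hxz, ?_⟩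
    rw [hi]
    simp only [good, dif_neg hzS]
    exact (hoff z.1 hzS).choose_spec.2
  obtain ⟨φ, hφ, τ, hτ⟩ := UPLib.exists_hom_projSpace S.card p hL σ hcov
  let n := S.card
  have hσ : ∀ i, φ ⁻¹ᵁ PnEmb.chartOpen n R i = glocus L (σ i) := fun i => PnEmb.preimage_chartOpen φ τ hτ i
  haveI : IsProper (CohB1.ProjSpace.toSpec n R) := Coherent.isProper_projSpace_toSpec n R
  haveI : IsLocallyNoetherian (CohB1.ProjSpace n R) :=
    LocallyOfFiniteType.isLocallyNoetherian (CohB1.ProjSpace.toSpec n R)
  haveI : IsProper (φ ≫ CohB1.ProjSpace.toSpec n R) := by rw [hφ]; infer_instance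
  haveI : IsProper φ := IsProper.of_comp φ (CohB1.ProjSpace.toSpec n R)
  -- Stein factorisation
  have hXn : Pi1.IsNormalScheme X := fun x => ⟨inferInstance, hnor x⟩
  let f := φ.toNormalization
  let g := φ.fromNormalization
  have hfg : f ≫ g = φ := φ.toNormalization_fromNormalization
  haveI : IsProper f := Coherent.isProper_toNormalization φ
  haveI : IsFinite g := Coherent.isFinite_fromNormalization_of_isProper φ
  haveI : IsLocallyNoetherian φ.normalization := Coherent.isLocallyNoetherian_normalization φ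
  have hsurj : Function.Surjective f := Coherent.surjective_toNormalization φ
  have happ : ∀ U, IsIso (f.app U) := Coherent.isIso_toNormalization_app φ
  haveI : IrreducibleSpace φ.normalization := by
    haveI : Nonempty φ.normalization := ⟨f (genericPoint X)⟩
    have h := (IrreducibleSpace.isIrreducible_univ X).image f.base f.continuous.continuousOn
    rw [Set.image_univ, hsurj.range_eq] at h
    exact { isPreirreducible_univ := h.2, toNonempty := inferInstance }
  have hYn : Pi1.IsNormalScheme φ.normalization := (CAlgSmall.NormalNormalization.main φ hXn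
    fun x => ⟨Set.univ, Filter.univ_mem, by
      haveI := (NoetherianSpace.finite_irreducibleComponents (α := X)).to_subtype
      exact Set.toFinite _⟩).1
  haveI : IsReduced φ.normalization :=
    haveI : ∀ y : φ.normalization, _root_.IsReduced (φ.normalization.presheaf.stalk y) := fun y => by
      haveI := (hYn y).1; infer_instance
    isReduced_of_isReduced_stalk _
  haveI : IsIntegral φ.normalization := isIntegral_of_irreducibleSpace_of_isReduced _
  let q := g ≫ CohB1.ProjSpace.toSpec n R
  have hfq : f ≫ q = p := by rw [← Category.assoc, hfg, hφ]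
  haveI : IsProper q := inferInstanceAs (IsProper (g ≫ CohB1.ProjSpace.toSpec n R))
  have hgφ : ∀ x, g (f x) = φ x := fun x => congrArg (fun k : X ⟶ CohB1.ProjSpace n R => k x) hfg
  -- the line goes to a point
  haveI : IsIntegral J.subscheme := IsIntegral.of_isIso e.hom
  obtain ⟨ψ⟩ := SplitP1.nonempty_twist_zero k
  obtain ⟨θ⟩ := hLd.iso_pullback e
  obtain ⟨θ₀⟩ := exists_pullStructureIso (X := CohB1.ProjSpace 1 k) e.inv
  have h1 : (φ.base '' Set.range J.subschemeι.base).Subsingleton :=
    subsingleton_range_of_trivial φ hL σ hcov hσ J.subschemeι (P1Deg.isField_sections e)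
      (θ.symm ≪≫ (Scheme.Modules.pullback e.inv).mapIso ψ ≪≫ θ₀)
  let z₀ : X := J.subschemeι (genericPoint J.subscheme)
  let y := f z₀
  have hsub : f.base '' Set.range J.subschemeι.base ⊆ {y} := by
    have h2 : _root_.IsPreconnected (f.base '' Set.range J.subschemeι.base) :=
      (isPreconnected_range J.subschemeι.continuous).image _ f.continuous.continuousOn
    have hsub' : f.base '' Set.range J.subschemeι.base ⊆ g.base ⁻¹' {φ z₀} := by
      rintro _ ⟨x, hx, rfl⟩
      show g (f x) = φ z₀
      rw [hgφ]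
      exact h1 ⟨x, hx, rfl⟩ ⟨_, ⟨_, rfl⟩, rfl⟩
    haveI : DiscreteTopology (f.base '' Set.range J.subschemeι.base : Set φ.normalization) :=
      isDiscrete_iff_discreteTopology.1 ((g.isDiscrete_preimage_singleton (φ z₀)).mono hsub')
    haveI : PreconnectedSpace (f.base '' Set.range J.subschemeι.base : Set φ.normalization) :=
      Subtype.preconnectedSpace h2
    haveI : Subsingleton (f.base '' Set.range J.subschemeι.base : Set φ.normalization) :=
      PreconnectedSpace.trivial_of_discrete
    intro a ha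
    exact Set.mem_singleton_iff.2 (congrArg Subtype.val (Subsingleton.elim
      (⟨a, ha⟩ : (f.base '' Set.range J.subschemeι.base : Set φ.normalization)) ⟨y, ⟨_, ⟨_, rfl⟩, rfl⟩⟩))
  have hrange : Set.range J.subschemeι.base = (J.support : Set X) := J.range_subschemeι
  rw [hrange] at hsub
  have hz₀ : z₀ ∈ (J.support : Set X) := hrange ▸ Set.mem_range_self _
  have himg : f.base '' (J.support : Set X) = {y} :=
    hsub.antisymm (Set.singleton_subset_iff.2 ⟨z₀, hz₀, rfl⟩)
  have hy : IsClosed ({y} : Set φ.normalization) := himg ▸ f.isClosedMap _ J.support.isClosed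
  -- fibres away from the line are finite
  have hout : ∀ x ∉ (J.support : Set X), (φ.base ⁻¹' {φ x}).Finite ∧ φ.base ⁻¹' {φ x} ⊆ (J.support : Set X)ᶜ := by
    intro x hx
    obtain ⟨i, hxi, haff, hdis⟩ := hcov' x hx
    have hxw : φ x ∈ PnEmb.chartOpen n R i := by
      have : x ∈ φ ⁻¹ᵁ PnEmb.chartOpen n R i := (hσ i).symm ▸ hxi
      exact this
    refine ⟨finite_preimage_of_isAffineOpen φ i ((hσ i).symm ▸ haff) hxw, fun z hz hzJ => ?_⟩
    refine Set.disjoint_left.1 hdis ?_ hzJ
    show z ∈ glocus L (σ i)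
    rw [← hσ i]
    show φ z ∈ PnEmb.chartOpen n R i
    rwa [Set.mem_singleton_iff.1 hz]
  have hpre : f.base ⁻¹' {y} = (J.support : Set X) := by
    refine Set.Subset.antisymm (fun x hx => ?_) fun x hx => hsub ⟨x, hx, rfl⟩
    by_contra hxJ
    refine (hout x hxJ).2 (show φ z₀ = φ x from ?_) hz₀
    rw [← hgφ, ← hgφ, Set.mem_singleton_iff.1 hx]
  have hfin : ∀ w, w ≠ y → (f.base ⁻¹' {w}).Finite := by
    intro w hw
    obtain ⟨x, rfl⟩ := hsurj w
    have hxJ : x ∉ (J.support : Set X) := fun h => hw (Set.mem_singleton_iff.1 (hpre.ge h))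
    refine (hout x hxJ).1.subset fun z hz => ?_
    show φ z = φ x
    rw [← hgφ, ← hgφ, Set.mem_singleton_iff.1 hz]
  haveI : IsProper (Over.mk q).hom := ‹IsProper q›
  refine ⟨φ.normalization, q, f, y, hy, hfq, inferInstance, fun z => (hYn z).2, inferInstance,
    isProjectiveOver_of_finite (Y := Over.mk q) g, hsurj, inferInstance, hpre, ?_, ?_⟩
  · exact isIso_morphismRestrict_of_finite_fibres f happ _ fun w hw => hfin w hw
  · exact finrank_cotangent_of_contraction f happ
      (fun w => (topologicalKrullDim_fiber_le_comp f q hfq w).trans (hfib _)) J hJ e hd y hy hpre hfin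

end Groth.Agent.Models7
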