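import Groth.Agent.Models7.ContractCotangent
import Groth.Agent.Inters29.PullIdeal
import Groth.Agent.ModPairLib.AmbProd
import Groth.Agent.FlatMor12.IdealModGen

/-!
# The cotangent space at the image of a contracted projective line
-/

set_option autoImplicit false
set_option linter.style.haveILetI false
set_option backward.isDefEq.respectTransparency.types false
set_option maxHeartbeats 2000000

universe u

open CategoryTheory CategoryTheory.Limits AlgebraicGeometry TopologicalSpace Opposite
open Groth.Agent.Coherent Groth.Agent.PicLib Groth.Agent.AmpleLib Groth.Agent.EulerLib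

namespace Groth.Agent.Models7

/-- Degrees only depend on the curve up to isomorphism. -/
theorem P1Deg.HasDeg.transfer {k : Type u} [Field k] {E E' : Scheme.{u}} (e : CohB1.ProjSpace 1 k ≅ E)
    (σ : E' ≅ E) {N : E.Modules} {m : ℤ} (h : P1Deg.HasDeg e N m) :
    P1Deg.HasDeg (e ≪≫ σ.symm) ((Scheme.Modules.pullback σ.hom).obj N) m := by
  obtain ⟨φ⟩ := h
  exact ⟨(Scheme.Modules.pullbackComp (e ≪≫ σ.symm).hom σ.hom).app N ≪≫
    (Scheme.Modules.pullbackCongr (show (e ≪≫ σ.symm).hom ≫ σ.hom = e.hom by simp)).app N ≪≫ φ⟩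

/-- The cotangent space of a localization at a maximal ideal. -/
theorem finrank_cotangentSpace_atPrime {A S : Type u} [CommRing A] [CommRing S] [Algebra A S] [IsLocalRing S]
    (m : Ideal A) [m.IsMaximal] [IsLocalization.AtPrime S m] :
    Module.finrank (IsLocalRing.ResidueField S) (IsLocalRing.CotangentSpace S) =
      Module.finrank (A ⧸ m) m.Cotangent := by
  let M := IsLocalRing.maximalIdeal S
  have hle : m ≤ M.comap (Algebra.ofId A S) := (IsLocalization.AtPrime.under_maximalIdeal S m).ge
  let j : m.Cotangent →ₗ[A] M.Cotangent := Ideal.mapCotangent m M (Algebra.ofId A S) hle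
  let q := IsLocalization.AtPrime.equivQuotMaximalIdealPow m S 2
  have hj : Function.Bijective j := by
    refine ⟨(injective_iff_map_eq_zero j).2 fun x hx => ?_, fun y => ?_⟩
    · obtain ⟨a, rfl⟩ := m.toCotangent_surjective x
      rw [Ideal.mapCotangent_toCotangent, Ideal.toCotangent_eq_zero] at hx
      refine (Ideal.toCotangent_eq_zero _ a).2 (Ideal.Quotient.eq_zero_iff_mem.1 (q.injective ?_))
      rw [IsLocalization.AtPrime.equivQuotMaximalIdealPow_apply_mk, map_zero]
      exact Ideal.Quotient.eq_zero_iff_mem.2 hx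
    · obtain ⟨z, rfl⟩ := M.toCotangent_surjective y
      obtain ⟨a, ha⟩ := Ideal.Quotient.mk_surjective (q.symm (Ideal.Quotient.mk _ (z : S)))
      have h2 : algebraMap A S a - (z : S) ∈ M ^ 2 := by
        refine Ideal.Quotient.eq.1 ?_
        rw [← IsLocalization.AtPrime.equivQuotMaximalIdealPow_apply_mk m S 2 a]
        exact (congrArg q ha).trans (q.apply_symm_apply _)
      have ham : a ∈ m := by
        rw [← IsLocalization.AtPrime.under_maximalIdeal S m, Ideal.mem_under]
        have := M.add_mem (Ideal.pow_le_self two_ne_zero h2) z.2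
        rwa [sub_add_cancel] at this
      exact ⟨m.toCotangent ⟨a, ham⟩, (Ideal.mapCotangent_toCotangent _ _ _ hle _).trans
        (M.toCotangent_eq.2 h2)⟩
  let i : A ⧸ m ≃+* IsLocalRing.ResidueField S := IsLocalization.AtPrime.equivQuotMaximalIdeal m S
  refine (congrArg Cardinal.toNat (rank_eq_of_equiv_equiv (M := m.Cotangent) (M₁ := IsLocalRing.CotangentSpace S)
    i (AddEquiv.ofBijective j.toAddMonoidHom hj) i.bijective fun r x => ?_)).symm
  obtain ⟨c, rfl⟩ := Ideal.Quotient.mk_surjective r
  show j (algebraMap A (A ⧸ m) c • x) = algebraMap S (IsLocalRing.ResidueField S) (algebraMap A S c) • j x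
  rw [algebraMap_smul (A ⧸ m) c x, j.map_smul, algebraMap_smul, algebraMap_smul]

variable {X Y : Scheme.{u}}

/-- The cotangent space at the point to which a projective line is contracted. -/
theorem finrank_cotangent_of_contraction [IsLocallyNoetherian Y] (g : X ⟶ Y) [IsProper g]
    (happ : ∀ U : Y.Opens, IsIso (g.app U)) (hfib : ∀ w : Y, topologicalKrullDim ↥(g.fiber w) ≤ 1)
    (J : X.IdealSheafData) (hJ : BlowUp.IsEffCartierIdeal J) {k : Type u} [Field k]
    (e : CohB1.ProjSpace 1 k ≅ J.subscheme) {d : ℕ}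
    (hd : P1Deg.HasDeg e ((Scheme.Modules.pullback J.subschemeι).obj (ClSub.idealMod J)) (d : ℤ))
    (y : Y) (hy : IsClosed ({y} : Set Y)) (hpre : g.base ⁻¹' {y} = (J.support : Set X))
    (hfin : ∀ w : Y, w ≠ y → (g.base ⁻¹' {w}).Finite) :
    Module.finrank (IsLocalRing.ResidueField (Y.presheaf.stalk y))
      (IsLocalRing.CotangentSpace (Y.presheaf.stalk y)) = d + 1 := by
  obtain ⟨V, hV, hyV, -⟩ := exists_isAffineOpen_mem_and_subset (x := y) (U := ⊤) trivial
  haveI : IsAffine V.toScheme := hV
  let A := Γ(Y, V)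
  haveI : IsNoetherianRing A := IsLocallyNoetherian.component_noetherian ⟨V, hV⟩
  let U := g ⁻¹ᵁ V
  let ε := hV.isoSpec.hom
  let g' : U.toScheme ⟶ Spec (CommRingCat.of A) := (g ∣_ V) ≫ ε
  haveI : IsProper (g ∣_ V) := IsZariskiLocalAtTarget.restrict ‹_› V
  haveI : IsProper g' := inferInstanceAs (IsProper ((g ∣_ V) ≫ ε))
  have hA : Function.Bijective (Coh.toGlobal g') := by
    haveI : IsIso (g ∣_ V).appTop := by rw [morphismRestrict_appTop]; exact IsIso.comp_isIso' (happ _) (Functor.map_isIso X.presheaf _)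
    haveI : IsIso ε.appTop := inferInstanceAs (IsIso (ε.app ⊤))
    haveI : IsIso g'.appTop := by rw [Scheme.Hom.comp_appTop]; infer_instance
    exact (ConcreteCategory.bijective_of_isIso g'.appTop).comp
      (ConcreteCategory.bijective_of_isIso (Scheme.ΓSpecIso (CommRingCat.of A)).inv)
  let p : PrimeSpectrum A := hV.primeIdealOf ⟨y, hyV⟩
  have hp : IsClosed ({p} : Set (PrimeSpectrum A)) := by
    have h1 : IsClosed ({⟨y, hyV⟩} : Set V.toScheme) := by
      convert hy.preimage V.ι.continuous using 1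
      ext z
      exact ⟨fun h => h ▸ rfl, fun h => Subtype.ext h⟩
    have h2 := ε.homeomorph.isClosedMap _ h1
    rw [Set.image_singleton] at h2
    exact h2
  haveI : p.asIdeal.IsMaximal := (PrimeSpectrum.isClosed_singleton_iff_isMaximal p).1 hp
  have hbase : ∀ z : U.toScheme, ∀ w : V.toScheme, g' z = ε w ↔ g z.1 = w.1 := fun z w => by
    show ε ((g ∣_ V) z) = ε w ↔ _
    have h1 : ((g ∣_ V) z).1 = g z.1 := morphismRestrict_base_coe g V z
    constructor
    · intro h
      rw [← h1]
      exact congrArg Subtype.val (ε.homeomorph.injective h)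
    · intro h
      exact congrArg ε (Subtype.ext (h1.trans h))
  have hfibre : ∀ q : ↥(Spec (CommRingCat.of A)), ∃ w : Y, U.ι.base '' (g'.base ⁻¹' {q}) ⊆ g.base ⁻¹' {w} ∧
      (q ≠ p → w ≠ y) := fun q => by
    obtain ⟨w, rfl⟩ := ε.homeomorph.surjective q
    refine ⟨w.1, ?_, fun hne h => hne ?_⟩
    · rintro _ ⟨z, hz, rfl⟩
      exact (hbase z w).1 hz
    · exact congrArg ε (Subtype.ext h : w = ⟨y, hyV⟩)
  let J' := J.comap U.ι
  have hJ' : BlowUp.IsEffCartierIdeal J' := by
    haveI := ModPairLib.isAffineHom_interior hJ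
    exact ModPairLib.isEffCartier_comap_of_dense hJ U.ι
      (ModPairLib.IsDenseOpen.preimage_openImmersion U.ι _ (ModPairLib.isDenseOpen_interior hJ))
  have hsub : Set.range J.subschemeι ⊆ (U : Set X) := by
    rw [J.range_subschemeι, ← hpre]
    intro z hz
    show g z ∈ V
    rwa [Set.mem_singleton_iff.1 hz]
  let snd := pullback.snd U.ι J.subschemeι
  haveI : IsIso snd := isIso_of_isOpenImmersion_of_opensRange_eq_top snd (by
    refine Opens.ext ((Scheme.Pullback.range_snd U.ι J.subschemeι).trans ?_)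
    rw [Scheme.Opens.range_ι]
    exact Set.eq_univ_of_forall fun z => hsub ⟨z, rfl⟩)
  let σ : J'.subscheme ≅ J.subscheme := J.comapIso U.ι ≪≫ asIso snd
  have hσ : σ.hom ≫ J.subschemeι = J'.subschemeι ≫ U.ι := by
    show ((J.comapIso U.ι).hom ≫ snd) ≫ _ = _
    rw [Category.assoc, ← pullback.condition, ← Category.assoc, Scheme.IdealSheafData.comapIso_hom_fst]
  obtain ⟨t⟩ := Inters29.nonempty_pullback_idealMod_iso U.ι J hJ hJ'
  have hd' : P1Deg.HasDeg (e ≪≫ σ.symm) ((Scheme.Modules.pullback J'.subschemeι).obj (ClSub.idealMod J')) (d : ℤ) :=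
    (hd.transfer e σ).of_iso _ ((Scheme.Modules.pullbackComp σ.hom J.subschemeι).app _ ≪≫
      (Scheme.Modules.pullbackCongr hσ).app _ ≪≫
      ((Scheme.Modules.pullbackComp J'.subschemeι U.ι).app _).symm ≪≫
      (Scheme.Modules.pullback J'.subschemeι).mapIso t)
  have hLC : LineContraction g' J' (e ≪≫ σ.symm) (d : ℤ) p.asIdeal := by
    refine ⟨inferInstance, fun q => ?_, FlatMor12.IdealModGen.isInvertible_idealMod J' hJ', hd', Int.natCast_nonneg d, ?_, fun n hn hne => ?_⟩
    · obtain ⟨w, hw, -⟩ := hfibre q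
      let θ : g'.fiber q → g.fiber w := fun z => (g.fiberHomeo w).symm
        ⟨U.ι ((g'.fiberHomeo q z).1), hw ⟨_, (g'.fiberHomeo q z).2, rfl⟩⟩
      have hθ : Topology.IsInducing θ := (g.fiberHomeo w).symm.isInducing.comp
        (Topology.IsInducing.codRestrict ((U.ι.isOpenEmbedding.isInducing.comp Topology.IsInducing.subtypeVal).comp
          (g'.fiberHomeo q).isInducing) _)
      exact hθ.topologicalKrullDim_le.trans (hfib w)
    · show ((J.comap U.ι).support : Set U.toScheme) = _
      rw [Scheme.IdealSheafData.support_comap]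
      ext z
      show U.ι z ∈ (J.support : Set X) ↔ g' z = ε ⟨y, hyV⟩
      rw [hbase, ← hpre]
      exact Iff.rfl
    · obtain ⟨w, hw, hwy⟩ := hfibre (⟨n, hn.isPrime⟩ : PrimeSpectrum A)
      refine Set.Finite.of_finite_image ((hfin w (hwy fun h => hne (congrArg PrimeSpectrum.asIdeal h))).subset hw) ?_
      exact U.ι.isOpenEmbedding.injective.injOn
  letI := TopCat.Presheaf.algebra_section_stalk Y.presheaf (⟨y, hyV⟩ : V)
  haveI : IsLocalization.AtPrime (Y.presheaf.stalk y) p.asIdeal := hV.isLocalization_stalk ⟨y, hyV⟩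
  exact (finrank_cotangentSpace_atPrime p.asIdeal).trans (hLC.finrank_cotangent hA)

end Groth.Agent.Models7
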