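import Groth.Agent.Models7.ContractVanish
import Groth.Agent.Clifford24.Lipman.Castelnuovo
import Groth.Agent.H8Lim.ModSections

/-!
# The cotangent space at the point to which a projective line is contracted
-/

set_option autoImplicit false
set_option linter.style.haveILetI false
set_option backward.isDefEq.respectTransparency.types false
set_option maxHeartbeats 2000000

universe u

open CategoryTheory CategoryTheory.Limits AlgebraicGeometry TopologicalSpace Opposite
open Groth.Agent.Coherent Groth.Agent.PicLib Groth.Agent.AmpleLib Groth.Agent.EulerLib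

namespace Groth.Agent.Models7

/-- The sections of degree `m` on a projective line have rank `m + 1`. -/
theorem P1Deg.HasDeg.rank_sections {k : Type u} [Field k] {E : Scheme.{u}} (e : CohB1.ProjSpace 1 k ≅ E)
    {M : E.Modules} (hM : PicF.IsInvertible M) {m : ℕ} (h : P1Deg.HasDeg e M (m : ℤ)) :
    Module.rank Γ(E, ⊤) Γ(M, ⊤) = (m + 1 : ℕ) := by
  obtain ⟨φ⟩ := h
  let P := CohB1.ProjSpace 1 k
  let T := Twist.twistProjSpace 1 k (m : ℤ)
  let b := baseHom k P
  have hk : Function.Bijective b := by
    haveI := Coherent.isIso_appTop_toSpec (n := 1) (R := k)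
    exact (ConcreteCategory.bijective_of_isIso (CohB1.ProjSpace.toSpec 1 k).appTop).comp
      (ConcreteCategory.bijective_of_isIso (Scheme.ΓSpecIso (CommRingCat.of k)).inv)
  haveI : IsIso e.hom.appTop := inferInstanceAs (IsIso (e.hom.app ⊤))
  have he : Function.Bijective e.hom.appTop := ConcreteCategory.bijective_of_isIso e.hom.appTop
  have hpb : Function.Bijective (pullSec e.hom (L := M) (U := ⊤)) :=
    bijective_pullSec_of_le e.hom hM ⊤ fun V _ => ConcreteCategory.bijective_of_isIso (e.hom.app V)
  let j : Γ(M, ⊤) →+ GA b T := AddMonoidHom.mk' (fun s => φ.hom.app ⊤ (pullSec e.hom s)) fun s t => by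
    rw [H8Lim.pullSec_add]; exact map_add (φ.hom.app ⊤).hom _ _
  have hj : Function.Bijective j := (app_hom_bijective φ ⊤).comp hpb
  let κ := RingEquiv.ofBijective b hk
  let i : Γ(E, ⊤) → k := fun r => κ.symm (e.hom.appTop r)
  have hi : Function.Bijective i := κ.symm.bijective.comp he
  have hfr : Module.finrank k (GA b T) = m + 1 := by
    rw [← (CurveRR24.hhZero k (X := P) T).finrank_eq, SplitP1.h0_twist k (m : ℤ)]
    omega
  haveI : Module.Finite k (GA b T) := Module.finite_of_finrank_pos (by omega)
  rw [rank_eq_of_equiv_equiv i (AddEquiv.ofBijective j hj) hi fun r s => ?_,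
    ← Module.finrank_eq_rank, hfr]
  show φ.hom.app ⊤ (pullSec e.hom (r • s)) = b (κ.symm (e.hom.appTop r)) • φ.hom.app ⊤ (pullSec e.hom s)
  rw [pullSec_smul, show b (κ.symm (e.hom.appTop r)) = e.hom.appTop r from κ.apply_symm_apply _]
  exact Scheme.Modules.Hom.app_smul φ.hom _ _

variable {X : Scheme.{u}} {A : Type u} [CommRing A] [IsNoetherianRing A]
  {f : X ⟶ Spec (CommRingCat.of A)} {J : X.IdealSheafData} {k : Type u} [Field k]
  {e : CohB1.ProjSpace 1 k ≅ J.subscheme} {d : ℕ} {m : Ideal A} [m.IsMaximal]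

theorem LineContraction.isLocallyNoetherian (h : LineContraction f J e (d : ℤ) m) : IsLocallyNoetherian X := by
  haveI := h.proper
  exact LocallyOfFiniteType.isLocallyNoetherian f

theorem LineContraction.subsingleton_H1_structure (h : LineContraction f J e (d : ℤ) m) :
    Subsingleton (Coh.HH X (Coh.structureModule X) 1) := by
  obtain ⟨t⟩ := exists_pullStructureIso (X := X) J.subschemeι
  exact h.subsingleton_H1 isInvertible_structureModule (by omega) ((P1Deg.hasDeg_structure e).of_iso e t.symm)

theorem LineContraction.subsingleton_H1_sq (h : LineContraction f J e (d : ℤ) m) :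
    Subsingleton (Coh.HH X (CohB1.tensorMod (ClSub.idealMod J) (ClSub.idealMod J)) 1) := by
  obtain ⟨t⟩ := exists_pullTensorIso J.subschemeι h.invertible h.invertible
  exact h.subsingleton_H1 (isInvertible_tensorMod h.invertible h.invertible) (by omega)
    ((h.deg.tensor e (PicLoc.isInvertible_pullback _ h.invertible) (PicLoc.isInvertible_pullback _ h.invertible)
      h.deg).of_iso e t.symm)

/-- A base element vanishes on the line iff it lies in the maximal ideal. -/
theorem LineContraction.app_eq_zero_iff (h : LineContraction f J e (d : ℤ) m) (a : A) :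
    J.subschemeι.appTop (Coh.toGlobal f a) = 0 ↔ a ∈ m := by
  haveI : IsIntegral J.subscheme := IsIntegral.of_isIso e.hom
  have hbo : ∀ z : J.subscheme, z ∈ J.subscheme.basicOpen (J.subschemeι.appTop (Coh.toGlobal f a)) ↔ a ∉ m := by
    intro z
    have hz : f (J.subschemeι z) = (⟨m, inferInstance⟩ : PrimeSpectrum A) := by
      have h1 : J.subschemeι z ∈ (J.support : Set X) := J.range_subschemeι ▸ Set.mem_range_self z
      rwa [h.support] at h1
    rw [← Scheme.preimage_basicOpen_top, Scheme.Hom.mem_preimage]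
    show J.subschemeι z ∈ X.basicOpen (f.appTop ((Scheme.ΓSpecIso (CommRingCat.of A)).inv a)) ↔ _
    rw [← Scheme.preimage_basicOpen_top, Scheme.Hom.mem_preimage, hz, basicOpen_eq_of_affine]
    exact PrimeSpectrum.mem_basicOpen _ _
  constructor
  · intro h0
    by_contra ha
    have hz := (hbo (genericPoint J.subscheme)).2 ha
    rw [h0, Scheme.basicOpen_zero] at hz
    exact hz
  · intro ha
    exact eq_zero_of_basicOpen_eq_bot _ (eq_bot_iff.2 fun z hz => absurd ha ((hbo z).1 hz))

theorem LineContraction.surjective_res (h : LineContraction f J e (d : ℤ) m) (hA : Function.Bijective (Coh.toGlobal f)) :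
    Function.Surjective ((J.subschemeι.appTop.hom).comp (Coh.toGlobal f)) := by
  have h1 : Subsingleton (Coh.HH X (ClSub.idealMod J) 1) := h.subsingleton_H1 h.invertible (by omega) h.deg
  intro r
  obtain ⟨s, hs⟩ := Lipman24.surjective_app_top (CurveRR24.shortExact_ideal J) h1 r
  obtain ⟨a, rfl⟩ := hA.2 s
  exact ⟨a, hs⟩

/-- The cotangent space of the base at the image point has dimension `d + 1`. -/
theorem LineContraction.finrank_cotangent (h : LineContraction f J e (d : ℤ) m)
    (hA : Function.Bijective (Coh.toGlobal f)) : Module.finrank (A ⧸ m) m.Cotangent = d + 1 := by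
  classical
  haveI := h.isLocallyNoetherian
  haveI := h.proper
  haveI : CompactSpace X := QuasiCompact.compactSpace_of_compactSpace f
  let I := ClSub.idealMod J
  let ι := J.subschemeι
  let φA : A →+* Γ(X, ⊤) := Coh.toGlobal f
  have hI : PicF.IsInvertible I := h.invertible
  let ja : Γ(I, ⊤) → Γ(X, ⊤) := fun s => (ClSub.idealModι J).app ⊤ s
  have hja_inj : Function.Injective ja := by
    haveI := mono_idealModι J
    exact app_injective_of_mono (ClSub.idealModι J) ⊤
  have hlift : ∀ a : m, ∃ s, ja s = Coh.toGlobal f a.1 := fun a =>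
    (mem_range_idealModι J ⊤ (Coh.toGlobal f a.1)).2 ((h.app_eq_zero_iff a.1).2 a.2)
  choose s hs using hlift
  have hsur : ∀ u : Γ(I, ⊤), ∃ a : m, s a = u := fun u => by
    obtain ⟨c, hc⟩ := hA.2 (ja u)
    have hcm : c ∈ m := (h.app_eq_zero_iff c).1 (by
      rw [hc]; exact (mem_range_idealModι J ⊤ (ja u)).1 ⟨u, rfl⟩)
    exact ⟨⟨c, hcm⟩, hja_inj ((hs _).trans hc)⟩
  have hsadd : ∀ a b : m, s (a + b) = s a + s b := fun a b => hja_inj (by
    rw [hs]; show _ = (ClSub.idealModι J).app ⊤ (s a + s b); rw [map_add]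
    exact (map_add (Coh.toGlobal f) a.1 b.1).trans (congrArg₂ (· + ·) (hs a).symm (hs b).symm))
  have hssmul : ∀ (c : A) (a : m), s (c • a) = φA c • s a := fun c a => hja_inj (by
    rw [hs]; show _ = (ClSub.idealModι J).app ⊤ (φA c • s a); rw [Scheme.Modules.Hom.app_smul]
    exact (map_mul (Coh.toGlobal f) c a.1).trans (congrArg (Coh.toGlobal f c * ·) (hs a).symm))
  let N := (Scheme.Modules.pullback ι).obj I
  let q : m →+ Γ(N, ⊤) := AddMonoidHom.mk' (fun a => pullSec ι (s a)) fun a b => by
    rw [hsadd]; exact H8Lim.pullSec_add ι _ _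
  let res : A →+* Γ(J.subscheme, ⊤) := (ι.appTop.hom).comp (Coh.toGlobal f)
  have hqsmul : ∀ (c : A) (a : m), q (c • a) = res c • q a := fun c a => by
    show pullSec ι (s (c • a)) = _
    rw [hssmul]; exact pullSec_smul ι _ _
  have hsurjP : Function.Surjective (pullSec ι (L := I) (U := ⊤)) :=
    Lipman24.surjective_pullSec_of_H1 ι (Lipman24.subsingleton_H1_kernel_clUnit J h.noH2 hI h.subsingleton_H1_sq)
  have hqsurj : Function.Surjective q := fun t => by
    obtain ⟨u, rfl⟩ := hsurjP t
    obtain ⟨a, rfl⟩ := hsur u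
    exact ⟨a, rfl⟩
  have hgl : Lipman24.Gl I := fun x => by
    by_cases hx : x ∈ (J.support : Set X)
    · rw [← J.range_subschemeι] at hx
      obtain ⟨z, rfl⟩ := hx
      exact Lipman24.exists_mem_glocus_of_pullback ι hI hsurjP (h.deg.gl e (by omega)) z
    · rw [h.support] at hx
      have hne : ¬ m ≤ (f x).asIdeal := fun hle => hx (PrimeSpectrum.ext
        ((inferInstance : m.IsMaximal).eq_of_le (f x).isPrime.ne_top hle).symm)
      obtain ⟨a, ha, ha'⟩ := SetLike.not_le_iff_exists.1 hne
      refine ⟨s ⟨a, ha⟩, ?_⟩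
      have hxa : x ∈ X.basicOpen (ja (s ⟨a, ha⟩)) := by
        rw [hs]
        show x ∈ X.basicOpen (f.appTop ((Scheme.ΓSpecIso (CommRingCat.of A)).inv a))
        rw [← Scheme.preimage_basicOpen_top, Scheme.Hom.mem_preimage, basicOpen_eq_of_affine]
        exact ha'
      obtain ⟨W, hxW, g, hg⟩ := exists_isGen hI x
      have hb := glocus_inf (s ⟨a, ha⟩) hg
      let r := hg.coef le_rfl (resM I le_top (s ⟨a, ha⟩))
      have hr : r • g = resM I le_top (s ⟨a, ha⟩) := by
        have := hg.coef_spec le_rfl (resM I le_top (s ⟨a, ha⟩))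
        rwa [resM_self] at this
      have heq : (r * (show Γ(X, W) from (ClSub.idealModι J).app W g) : Γ(X, W)) =
          X.presheaf.map (homOfLE (le_top : W ≤ ⊤)).op (ja (s ⟨a, ha⟩)) := by
        have h1 := congrArg ((ClSub.idealModι J).app W) hr
        rw [Scheme.Modules.Hom.app_smul, app_resM] at h1
        exact h1
      have hxr : x ∈ X.basicOpen r := by
        have h2 : x ∈ X.basicOpen (r * (show Γ(X, W) from (ClSub.idealModι J).app W g) : Γ(X, W)) := by
          rw [heq, Scheme.basicOpen_res]; exact ⟨hxW, hxa⟩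
        rw [Scheme.basicOpen_mul] at h2
        exact h2.1
      exact (hb.ge hxr).1
  have hker : ∀ a : m, q a = 0 → a ∈ (m • ⊤ : Submodule A m) := fun a ha => by
    obtain ⟨z, hz⟩ := exists_twistMul_eq J hI (s a) ha
    let η := Coherent.tensorIso (unitTensorIso I).symm (Iso.refl I)
    obtain ⟨n, t, w, hw⟩ := hgl.exists_sum_tmul h.noH2 hI isQCoh_structureModule h.subsingleton_H1_structure
      (η.hom.app ⊤ z)
    have hz' : z = ∑ i, tmul ((unitTensorIso I).hom.app ⊤ (w i)) (t i) := by
      refine (app_hom_bijective η ⊤).1 ?_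
      rw [hw, map_sum]
      refine Finset.sum_congr rfl fun i _ => ?_
      show _ = η.hom.app ⊤ _
      rw [Coherent.tensorIso_tmul]
      exact congrArg (tmul · (t i))
        (congrArg (fun θ : CohB1.tensorMod (Coh.structureModule X) I ⟶ _ => θ.app ⊤ (w i))
          (unitTensorIso I).hom_inv_id).symm
    choose α hα using fun i => hsur ((unitTensorIso I).hom.app ⊤ (w i))
    choose β hβ using fun i => hsur (t i)
    have hsum : a.1 = ∑ i, (α i).1 * (β i).1 := by
      apply hA.1
      rw [← hs, ← hz, hz', map_sum, map_sum]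
      show (ClSub.idealModι J).app ⊤ (∑ i, _) = _
      rw [map_sum]
      refine Finset.sum_congr rfl fun i _ => ?_
      rw [twistMul_tmul, Scheme.Modules.Hom.app_smul, map_mul, ← hs, ← hs, hα, hβ]
      rfl
    have : a = ∑ i, (α i).1 • β i := Subtype.ext (by
      rw [hsum, AddSubmonoidClass.coe_finsetSum]; rfl)
    rw [this]
    exact Submodule.sum_mem _ fun i _ => Submodule.smul_mem_smul (α i).2 Submodule.mem_top
  have hres0 : ∀ c ∈ m, res c = 0 := fun c hc => (h.app_eq_zero_iff c).2 hc
  have hq0 : ∀ a ∈ (m • ⊤ : Submodule A m), q a = 0 := fun a ha => by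
    refine Submodule.smul_induction_on (p := fun y => q y = 0) ha (fun c hc b _ => ?_) fun b b' hb hb' => ?_
    · rw [hqsmul, hres0 c hc, zero_smul]
    · rw [map_add, hb, hb', add_zero]
  let i : A ⧸ m →+* Γ(J.subscheme, ⊤) := Ideal.Quotient.lift m res hres0
  have hi : Function.Bijective i := by
    letI := Ideal.Quotient.field m
    haveI : Nontrivial Γ(J.subscheme, ⊤) := by
      haveI : IsIntegral J.subscheme := IsIntegral.of_isIso e.hom
      infer_instance
    exact ⟨i.injective, Ideal.Quotient.lift_surjective_of_surjective m hres0 (h.surjective_res hA)⟩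
  let j : m.Cotangent →+ Γ(N, ⊤) := QuotientAddGroup.lift _ q hq0
  have hj : Function.Bijective j := by
    refine ⟨(injective_iff_map_eq_zero j).2 fun x hx => ?_, fun t => ?_⟩
    · obtain ⟨a, rfl⟩ := Submodule.Quotient.mk_surjective _ x
      exact (Submodule.Quotient.mk_eq_zero _).2 (hker a hx)
    · obtain ⟨a, rfl⟩ := hqsurj t
      exact ⟨Submodule.Quotient.mk a, rfl⟩
  have hr := rank_eq_of_equiv_equiv (M := m.Cotangent) i (AddEquiv.ofBijective j hj) hi fun r x => by
    obtain ⟨c, rfl⟩ := Ideal.Quotient.mk_surjective r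
    obtain ⟨a, rfl⟩ := Submodule.Quotient.mk_surjective _ x
    exact hqsmul c a
  rw [Module.finrank, hr, h.deg.rank_sections e (PicLoc.isInvertible_pullback ι hI), Cardinal.toNat_natCast]

end Groth.Agent.Models7
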