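import Groth.Agent.PicDef15.Lift
import Groth.Agent.FSchLib.Thickening
import Groth.Agent.FSchLib.Systems
import Groth.Agent.CurveRR24.RR
import Groth.Agent.MorProj.OmegaAffine
import Groth.Agent.PicLib.PicMonoid
import Groth.Agent.Resolve13.StrictLength

/-!
# Invertible modules lift along thickenings of proper curves
-/

set_option autoImplicit false
set_option linter.style.haveILetI false
set_option backward.isDefEq.respectTransparency.types false
set_option maxHeartbeats 1000000

universe u

open CategoryTheory CategoryTheory.Limits AlgebraicGeometry TopologicalSpace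
open Groth.Agent.PicLib

namespace Groth.Agent.Models7

theorem exists_pow_ker_eq_bot {Y Y₀ : Scheme.{u}} [IsLocallyNoetherian Y] [CompactSpace Y] (i : Y₀ ⟶ Y)
    [QuasiCompact i] [Surjective i] : ∃ N : ℕ, i.ker ^ N = ⊥ := by
  obtain ⟨s, hs⟩ := CompactSpace.elim_nhds_subcover
    (fun x : Y => ((Y.affineCover.f (Y.affineCover.idx x)).opensRange : Set Y))
    fun x => (Y.affineCover.f _).opensRange.isOpen.mem_nhds (Y.affineCover.covers x)
  choose N hN using fun x : Y => FSchLib.isNilpotent_ker_of_surjective i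
    ⟨(Y.affineCover.f (Y.affineCover.idx x)).opensRange, isAffineOpen_opensRange _⟩
  refine ⟨∑ x ∈ s, N x, Scheme.IdealSheafData.ext_of_iSup_eq_top (ι := s)
    (fun x => ⟨(Y.affineCover.f (Y.affineCover.idx x.1)).opensRange, isAffineOpen_opensRange _⟩)
    (top_le_iff.1 fun y _ => ?_) fun x => ?_⟩
  · obtain ⟨x, hx, hy⟩ : ∃ x ∈ s, y ∈ ((Y.affineCover.f (Y.affineCover.idx x)).opensRange : Set Y) := by
      simpa using hs.ge (Set.mem_univ y)
    exact Opens.mem_iSup.2 ⟨⟨x, hx⟩, hy⟩
  · rw [Scheme.IdealSheafData.ideal_pow, Pi.pow_apply, Scheme.IdealSheafData.ideal_bot, Pi.bot_apply]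
    exact eq_bot_iff.2 ((Ideal.pow_le_pow_right (Finset.single_le_sum (fun i _ => Nat.zero_le (N i)) x.2)).trans
      (hN x.1).le)

theorem exists_lift_of_pow_eq_bot (k : Type u) [Field k] :
    ∀ (N : ℕ) (X : Scheme.{u}) (f : X ⟶ Spec (CommRingCat.of k)) (_ : IsProper f)
      (_ : topologicalKrullDim X ≤ 1) (I : X.IdealSheafData), I ^ N = ⊥ →
      ∀ c : PicM I.subscheme, ∃ d : PicM X, PicM.pull I.subschemeι d = c := by
  intro N
  induction N using Nat.strong_induction_on with
  | _ N ih =>
    intro X f hf hdim I hI c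
    letI : X.Over (Spec (CommRingCat.of k)) := ⟨f⟩
    haveI : IsProper (X ↘ Spec (CommRingCat.of k)) := hf
    haveI : X.IsSeparated := ⟨by rw [← terminal.comp_from f]; infer_instance⟩
    have hsq : ∀ J : X.IdealSheafData, J ^ 2 = ⊥ → ∀ c : PicM J.subscheme,
        ∃ d : PicM X, PicM.pull J.subschemeι d = c := fun J hJ c => by
      obtain ⟨L₀, hL₀, rfl⟩ := c.exists_eq_of
      haveI := MorProj.isQCoh_idealMod J
      obtain ⟨L, hL, he⟩ := PicDef15.exists_invertible_lift J hJ
        (CurveRR24.subsingleton_HH_ge_two k hdim _ (MorProj.isQCoh_idealMod J) Nat.one_lt_two) hL₀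
      exact ⟨PicM.of hL, by rw [PicM.pull_of, PicM.of_eq_iff]; exact he⟩
    rcases Nat.lt_or_ge N 3 with h3 | h3
    · refine hsq I (eq_bot_iff.2 (le_of_le_of_eq ?_ hI)) c
      intro U
      rw [Scheme.IdealSheafData.ideal_pow, Scheme.IdealSheafData.ideal_pow, Pi.pow_apply, Pi.pow_apply]
      exact Ideal.pow_le_pow_right (by omega)
    · let J := I ^ (N - 1)
      have hJ : J ^ 2 = ⊥ := by
        refine eq_bot_iff.2 (le_of_le_of_eq ?_ hI)
        intro U
        show ((I ^ (N - 1)) ^ 2).ideal U ≤ _
        rw [← pow_mul, Scheme.IdealSheafData.ideal_pow, Scheme.IdealSheafData.ideal_pow, Pi.pow_apply, Pi.pow_apply]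
        exact Ideal.pow_le_pow_right (by omega)
      let I' := I.comap J.subschemeι
      have hI' : I' ^ (N - 1) = ⊥ := by
        rw [← FSchLib.comap_pow]
        have h := Resolve13.comap_ker_self J.subschemeι
        rwa [Scheme.IdealSheafData.ker_subschemeι] at h
      haveI : IsProper (J.subschemeι ≫ f) := inferInstance
      have hdimJ : topologicalKrullDim J.subscheme ≤ 1 :=
        J.subschemeι.isClosedEmbedding.isInducing.topologicalKrullDim_le.trans hdim
      -- the two thickenings have the same subscheme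
      have hle : J.subschemeι.ker ≤ I.subschemeι.ker := by
        rw [Scheme.IdealSheafData.ker_subschemeι, Scheme.IdealSheafData.ker_subschemeι]
        intro U
        show (I ^ (N - 1)).ideal U ≤ _
        rw [Scheme.IdealSheafData.ideal_pow, Pi.pow_apply]
        exact Ideal.pow_le_self (by omega)
      let t := IsClosedImmersion.lift J.subschemeι I.subschemeι hle
      have ht : t ≫ J.subschemeι = I.subschemeι := IsClosedImmersion.lift_fac _ _ hle
      haveI : IsClosedImmersion (t ≫ J.subschemeι) := by rw [ht]; infer_instance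
      haveI : IsClosedImmersion t := IsClosedImmersion.of_comp t J.subschemeι
      have hk : t.ker = I' := by
        have sq : IsPullback t (𝟙 _) J.subschemeι I.subschemeι :=
          IsPullback.of_isLimit' ⟨by rw [Category.id_comp, ht]⟩ (PullbackCone.IsLimit.mk _ (fun s => s.snd)
            (fun s => (cancel_mono J.subschemeι).1 ((Category.assoc _ _ _).trans
              ((congrArg (s.snd ≫ ·) ht).trans s.condition.symm)))
            (fun s => Category.comp_id _) fun s m _ h2 => (Category.comp_id m).symm.trans h2)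
        rw [← sq.isoPullback_hom_fst, Scheme.Hom.ker_comp_of_isIso, Scheme.IdealSheafData.ker_fst_of_isClosedImmersion,
          Scheme.IdealSheafData.ker_subschemeι]
      obtain ⟨d₁, hd₁⟩ := ih (N - 1) (by omega) J.subscheme (J.subschemeι ≫ f) inferInstance hdimJ t.ker
        (hk ▸ hI') (PicM.pull (inv t.toImage) c)
      obtain ⟨d, hd⟩ := hsq J hJ d₁
      refine ⟨d, ?_⟩
      rw [← ht, ← PicM.pull_pull, hd]
      show PicM.pull t d₁ = c
      rw [← t.toImage_imageι, ← PicM.pull_pull]
      show PicM.pull t.toImage (PicM.pull t.ker.subschemeι d₁) = c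
      rw [hd₁, PicM.pull_pull, IsIso.hom_inv_id, PicM.pull_id]

/-- Classes lift along a surjective closed immersion into a proper scheme of dimension at most one. -/
theorem exists_pull_eq_thickening (k : Type u) [Field k] {X X₀ : Scheme.{u}} (f : X ⟶ Spec (CommRingCat.of k))
    [IsProper f] (hdim : topologicalKrullDim X ≤ 1) (i : X₀ ⟶ X) [IsClosedImmersion i] [Surjective i]
    (c : PicM X₀) : ∃ d : PicM X, PicM.pull i d = c := by
  haveI := LocallyOfFiniteType.isLocallyNoetherian f
  haveI := QuasiCompact.compactSpace_of_compactSpace f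
  obtain ⟨N, hN⟩ := exists_pow_ker_eq_bot i
  obtain ⟨d, hd⟩ := exists_lift_of_pow_eq_bot k N X f ‹_› hdim i.ker hN (PicM.pull (inv i.toImage) c)
  refine ⟨d, ?_⟩
  rw [← i.toImage_imageι, ← PicM.pull_pull]
  show PicM.pull i.toImage (PicM.pull i.ker.subschemeι d) = c
  rw [hd, PicM.pull_pull, IsIso.hom_inv_id, PicM.pull_id]

end Groth.Agent.Models7
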