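import Groth.Agent.Models7.DivSeq
import Groth.Agent.Models7.ExcCriterion
import Groth.Agent.Coherent.ProjFormula
import Groth.Agent.SerreDual.PushEquiv
import Groth.Agent.VarietyLib.NakaiTransfer

/-!
# Euler characteristics of divisors in the special fibre
-/

set_option autoImplicit false
set_option linter.style.haveILetI false
set_option backward.isDefEq.respectTransparency.types false
set_option maxHeartbeats 1000000

universe u

open CategoryTheory CategoryTheory.Limits AlgebraicGeometry Opposite TopologicalSpace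
open Groth.Agent.Coherent Groth.Agent.PicLib Groth.Agent.AmpleLib Groth.Agent.EulerLib

namespace Groth.Agent.Models7

theorem toGlobal_comp_ringHom {A B : Type u} [CommRing A] [CommRing B] (ψ : A →+* B) {Y : Scheme.{u}}
    (g' : Y ⟶ Spec (CommRingCat.of B)) :
    Coh.toGlobal (g' ≫ Spec.map (CommRingCat.ofHom ψ)) = (Coh.toGlobal g').comp ψ := by
  ext a
  show (g' ≫ Spec.map (CommRingCat.ofHom ψ)).appTop ((Scheme.ΓSpecIso (CommRingCat.of A)).inv a) =
    g'.appTop ((Scheme.ΓSpecIso (CommRingCat.of B)).inv (ψ a))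
  rw [Scheme.Hom.comp_appTop]
  exact congrArg g'.appTop (congr($(Scheme.ΓSpecIso_inv_naturality (CommRingCat.ofHom ψ)) a)).symm

variable (R : Type u) [CommRing R] [IsDomain R] [IsDiscreteValuationRing R]
variable {X : Over (Spec (CommRingCat.of R))}

/-- All cohomology has finite length and there is none beyond degree one. -/
def FinLen (X : Over (Spec (CommRingCat.of R))) (M : X.left.Modules) : Prop :=
  (∀ q, IsFiniteLength R (Coh.HH X.left M q)) ∧ ∀ q, 2 ≤ q → Subsingleton (Coh.HH X.left M q)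

theorem FinLen.of_iso {M N : X.left.Modules} (e : M ≅ N) (h : FinLen R X M) : FinLen R X N := by
  let i := fun q => (HHBaseEquiv R M q).trans ((isoA _ e ⊤ q).trans (HHBaseEquiv R N q).symm)
  exact ⟨fun q => (i q).isFiniteLength (h.1 q), fun q hq => haveI := h.2 q hq; (i q).symm.toEquiv.subsingleton⟩

theorem lengthH_congr {M N : X.left.Modules} (e : M ≅ N) (q : ℕ) :
    Models.lengthH R X M q = Models.lengthH R X N q :=
  congrArg ENat.toNat ((HHBaseEquiv R M q).trans ((isoA _ e ⊤ q).trans (HHBaseEquiv R N q).symm)).length_eq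

/-- Finite length and Euler characteristics in a short exact sequence. -/
theorem finLen_middle {S : ShortComplex X.left.Modules} (hS : S.ShortExact) (h1 : FinLen R X S.X₁)
    (h3 : FinLen R X S.X₃) :
    FinLen R X S.X₂ ∧
      (Models.lengthH R X S.X₂ 0 : ℤ) - Models.lengthH R X S.X₂ 1 =
        ((Models.lengthH R X S.X₁ 0 : ℤ) - Models.lengthH R X S.X₁ 1) +
          ((Models.lengthH R X S.X₃ 0 : ℤ) - Models.lengthH R X S.X₃ 1) := by
  let φ := baseHom R X.left
  haveI a1 : ∀ q, IsNoetherian R (HA φ S.X₁ ⊤ q) := fun q =>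
    (isFiniteLength_iff_isNoetherian_isArtinian.1 ((HHBaseEquiv R S.X₁ q).isFiniteLength (h1.1 q))).1
  haveI b1 : ∀ q, IsArtinian R (HA φ S.X₁ ⊤ q) := fun q =>
    (isFiniteLength_iff_isNoetherian_isArtinian.1 ((HHBaseEquiv R S.X₁ q).isFiniteLength (h1.1 q))).2
  haveI a3 : ∀ q, IsNoetherian R (HA φ S.X₃ ⊤ q) := fun q =>
    (isFiniteLength_iff_isNoetherian_isArtinian.1 ((HHBaseEquiv R S.X₃ q).isFiniteLength (h3.1 q))).1
  haveI b3 : ∀ q, IsArtinian R (HA φ S.X₃ ⊤ q) := fun q =>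
    (isFiniteLength_iff_isNoetherian_isArtinian.1 ((HHBaseEquiv R S.X₃ q).isFiniteLength (h3.1 q))).2
  have hex := fun q => exact_postA φ hS ⊤ q
  haveI a2 : ∀ q, IsNoetherian R (HA φ S.X₂ ⊤ q) := fun q =>
    isNoetherian_of_range_eq_ker (postA φ S.f ⊤ q) (postA φ S.g ⊤ q) (LinearMap.exact_iff.1 (hex q)).symm
  haveI b2 : ∀ q, IsArtinian R (HA φ S.X₂ ⊤ q) := fun q =>
    isArtinian_of_range_eq_ker (postA φ S.f ⊤ q) (postA φ S.g ⊤ q) (LinearMap.exact_iff.1 (hex q)).symm
  have hv2 : ∀ q, 2 ≤ q → Subsingleton (HA φ S.X₂ (⊤ : X.left.Opens) q) := fun q hq => by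
    haveI := h1.2 q hq
    haveI := h3.2 q hq
    haveI : Subsingleton (HA φ S.X₁ (⊤ : X.left.Opens) q) := (HHBaseEquiv R S.X₁ q).symm.toEquiv.subsingleton
    haveI : Subsingleton (HA φ S.X₃ (⊤ : X.left.Opens) q) := (HHBaseEquiv R S.X₃ q).symm.toEquiv.subsingleton
    refine subsingleton_of_forall_eq 0 fun x => ?_
    obtain ⟨y, rfl⟩ := (hex q x).1 (Subsingleton.elim _ _)
    rw [Subsingleton.elim y 0, map_zero]
  refine ⟨⟨fun q => (HHBaseEquiv R S.X₂ q).symm.isFiniteLength
      (isFiniteLength_iff_isNoetherian_isArtinian.2 ⟨a2 q, b2 q⟩),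
    fun q hq => haveI := hv2 q hq; (HHBaseEquiv R S.X₂ q).toEquiv.subsingleton⟩, ?_⟩
  haveI hN : Subsingleton (HA φ S.X₁ (⊤ : X.left.Opens) (1 + 1)) :=
    haveI := h1.2 2 le_rfl
    (HHBaseEquiv R S.X₁ 2).symm.toEquiv.subsingleton
  have h := length_les _ _ _ (fun q => postA φ S.f ⊤ q) (fun q => postA φ S.g ⊤ q) (fun q => deltaA φ hS ⊤ q)
    (postA_zero_injective _ hS ⊤) (exact_postA _ hS ⊤) (exact_postA_deltaA _ hS ⊤) (exact_deltaA_postA _ hS ⊤) 1 hN
  simp only [Models.lengthH, (HHBaseEquiv R _ _).length_eq]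
  simp only [Finset.sum_range_succ, Finset.sum_range_zero, zero_add, pow_zero, pow_one, one_mul, neg_one_mul] at h
  linarith

variable (Γ : ArSurf.VertComp R X) [IsProper Γ.curve.hom]

/-- A twisted structure sheaf of a vertical curve, on the surface. -/
theorem finLen_quot_tensor {M : X.left.Modules} (hM : PicF.IsInvertible M) :
    FinLen R X (CohB1.tensorMod (ClSub.quotMod Γ.ι.ker) M) ∧ ∀ q,
      Models.lengthH R X (CohB1.tensorMod (ClSub.quotMod Γ.ι.ker) M) q =
        Models.hRank (IsLocalRing.ResidueField R) Γ.curve.left Γ.curve.hom ((Scheme.Modules.pullback Γ.ι).obj M) q := by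
  let k := IsLocalRing.ResidueField R
  let ι := Γ.ι.ker.subschemeι
  let t : Γ.curve.left ⟶ Γ.ι.ker.subscheme := Γ.ι.toImage
  haveI : IsIso t := inferInstanceAs (IsIso Γ.ι.toImage)
  have ht : t ≫ ι = Γ.ι := Γ.ι.toImage_imageι
  let gZ : Γ.ι.ker.subscheme ⟶ Spec (CommRingCat.of k) := inv t ≫ Γ.curve.hom
  haveI : IsProper gZ := inferInstanceAs (IsProper (inv t ≫ Γ.curve.hom))
  letI : Γ.curve.left.Over (Spec (CommRingCat.of k)) := ⟨Γ.curve.hom⟩
  haveI : IsProper (Γ.curve.left ↘ Spec (CommRingCat.of k)) := ‹IsProper Γ.curve.hom›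
  letI oK : Γ.ι.ker.subscheme.Over (Spec (CommRingCat.of k)) := ⟨gZ⟩
  haveI : IsProper (Γ.ι.ker.subscheme ↘ Spec (CommRingCat.of k)) := ‹IsProper gZ›
  letI oR : Γ.ι.ker.subscheme.Over (Spec (CommRingCat.of R)) := ⟨ι ≫ X.hom⟩
  haveI : CompactSpace Γ.ι.ker.subscheme := QuasiCompact.compactSpace_of_compactSpace gZ
  haveI : Γ.ι.ker.subscheme.IsSeparated := ⟨by rw [← terminal.comp_from gZ]; infer_instance⟩
  haveI := CurveRR24.isLocallyNoetherian_of_proper k (X := Γ.ι.ker.subscheme)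
  have hgR : ι ≫ X.hom = gZ ≫ Spec.map (CommRingCat.ofHom (IsLocalRing.residue R)) := by
    show ι ≫ X.hom = (inv t ≫ Γ.curve.hom) ≫ _
    rw [Category.assoc, ← Γ.w, IsIso.eq_inv_comp, reassoc_of% ht]
  have hMF : FlatMod.IsFinLocFree M := fun x =>
    let ⟨U, hx, e⟩ := isFinLocFreeOfRank_one hM x; ⟨U, 1, hx, e⟩
  let O := Coh.structureModule Γ.ι.ker.subscheme
  let N := (Scheme.Modules.pullback ι).obj M
  have hN : PicF.IsInvertible N := PicLoc.isInvertible_pullback ι hM
  haveI : Coh.IsQCoh N := isQCoh_of_isInvertible hN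
  let A' := CohB1.tensorMod N O
  haveI : Coh.IsQCoh A' :=
    (isCoh_iso (tensorComm _ _) (isCoh_twist (F := O) hN (isCoh_structureModule Γ.ι.ker.subscheme))).1
  let ec : CohB1.tensorMod (ClSub.quotMod Γ.ι.ker) M ≅ (Coh.push ι).obj A' :=
    tensorComm _ _ ≪≫ (projIso (f := ι) hMF).app O
  let eA : A' ≅ N := tensorComm _ O ≪≫ unitTensorIso N
  have hpb : IsPullback t (Γ.curve.left ↘ Spec (CommRingCat.of k)) (Γ.ι.ker.subscheme ↘ Spec (CommRingCat.of k))
      (Spec.map (CommRingCat.ofHom (algebraMap k k))) := by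
    rw [show CommRingCat.ofHom (algebraMap k k) = 𝟙 _ from rfl, Spec.map_id]
    exact IsPullback.of_horiz_isIso ⟨by rw [Category.comp_id]; exact IsIso.hom_inv_id_assoc t Γ.curve.hom⟩
  have key : ∀ q, Module.length R (Coh.HH X.left (CohB1.tensorMod (ClSub.quotMod Γ.ι.ker) M) q) =
      Module.finrank k (Coh.HH Γ.ι.ker.subscheme N q) := by
    intro q
    rw [((HHBaseEquiv R _ q).trans ((isoA _ ec ⊤ q).trans (HHBaseEquiv R _ q).symm)).length_eq,
      ← (SerreDual.hpushA ι R (show ι ≫ (X.left ↘ Spec (CommRingCat.of R)) = _ from rfl) A' q).length_eq,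
      ((HHBaseEquiv R _ q).trans ((isoA _ eA ⊤ q).trans (HHBaseEquiv R N q).symm)).length_eq]
    let W := Coh.HH Γ.ι.ker.subscheme N q
    letI mk : Module k W := @Coh.moduleOver k _ _ oK N q
    letI mR : Module R W := @Coh.moduleOver R _ _ oR N q
    haveI : IsScalarTower R k W := IsScalarTower.of_algebraMap_smul fun a x => by
      show Coh.toGlobal gZ (IsLocalRing.residue R a) • x = Coh.toGlobal (ι ≫ X.hom) a • x
      rw [hgR, toGlobal_comp_ringHom]
      rfl
    haveI : Module.Finite k W := CurveRR24.finite_HH_of_isCoh k (CurveRR24.isCoh_of_isInvertible k hN) q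
    rw [Module.length_eq_of_surjective (R := k) (S := R) (M := W) IsLocalRing.residue_surjective,
      Module.length_eq_finrank]
  refine ⟨⟨fun q => ?_, fun q hq => ?_⟩, fun q => ?_⟩
  · rw [← Module.length_ne_top_iff, key q]
    exact ENat.natCast_ne_top _
  · have hdim : topologicalKrullDim Γ.ι.ker.subscheme ≤ 1 :=
      (t.homeomorph.isHomeomorph.topologicalKrullDim_eq _).symm.trans_le Γ.dim_eq.le
    haveI := CurveRR24.subsingleton_HH_ge_two k hdim N inferInstance (q := q) hq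
    have h := key q
    rw [Module.finrank_zero_of_subsingleton, Nat.cast_zero] at h
    exact Module.length_eq_zero_iff.1 h
  · rw [Models.lengthH, key q, ENat.toNat_natCast, ← CurveRR24.finrank_HH_bc hpb N q]
    exact CurveRR24.finrank_HH_congr k (((Scheme.Modules.pullbackComp t ι).app M) ≪≫
      (Scheme.Modules.pullbackCongr ht).app M) q

/-- Adding a component to a divisor. -/
theorem chi_add [IsLocallyNoetherian X.left] (hΓ : BlowUp.IsEffCartierIdeal Γ.ι.ker) (J : X.left.IdealSheafData)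
    (hJ : BlowUp.IsEffCartierIdeal J) (hF : FinLen R X (ClSub.quotMod J)) :
    FinLen R X (ClSub.quotMod (Γ.ι.ker * J)) ∧
      (Models.lengthH R X (ClSub.quotMod (Γ.ι.ker * J)) 0 : ℤ) - Models.lengthH R X (ClSub.quotMod (Γ.ι.ker * J)) 1 =
        ((Models.lengthH R X (ClSub.quotMod J) 0 : ℤ) - Models.lengthH R X (ClSub.quotMod J) 1) +
          (ArSurf.inter R X (ClSub.idealMod J) Γ + ((Models.wdeg R X Γ : ℤ) - Models.h1 R X Γ)) := by
  obtain ⟨S, hS, ⟨e1⟩, ⟨e2⟩, ⟨e3⟩⟩ := exists_divSeq Γ.ι.ker J hΓ hJ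
  obtain ⟨hT, hlen⟩ := finLen_quot_tensor R Γ (FlatMor12.IdealModGen.isInvertible_idealMod J hJ)
  obtain ⟨h2, hchi⟩ := finLen_middle R hS (hT.of_iso R e1.symm) (hF.of_iso R e3.symm)
  refine ⟨h2.of_iso R e2, ?_⟩
  rw [lengthH_congr R e2, lengthH_congr R e2, lengthH_congr R e1, lengthH_congr R e1, lengthH_congr R e3,
    lengthH_congr R e3, hlen, hlen] at hchi
  rw [hchi, ArSurf.inter, curveDeg_eq_hRank R Γ]
  show _ = _ + (_ + ((Models.hRank _ _ Γ.curve.hom (Coh.structureModule _) 0 : ℤ) -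
    Models.hRank _ _ Γ.curve.hom (Coh.structureModule _) 1))
  ring

/-- The empty divisor. -/
theorem finLen_one [IsLocallyNoetherian X.left] : FinLen R X (ClSub.quotMod (1 : X.left.IdealSheafData)) ∧
    ∀ q, Models.lengthH R X (ClSub.quotMod (1 : X.left.IdealSheafData)) q = 0 := by
  let I : X.left.IdealSheafData := 1
  haveI : IsEmpty I.subscheme := ⟨fun z => by
    have hz : I.subschemeι z ∈ (I.support : Set X.left) := by
      rw [← Scheme.IdealSheafData.range_subschemeι]; exact ⟨z, rfl⟩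
    simp [I, Scheme.IdealSheafData.one_eq_top] at hz⟩
  have hz : IsZero (ClSub.quotMod I) := by
    refine isZero_of_sections_cover (CurveRR24.isCoh_quotMod I).1 (fun U : X.left.affineOpens => U.1) (fun U => U.2)
      (fun x => by
        obtain ⟨_, ⟨U, hU, rfl⟩, hxU, -⟩ :=
          X.left.isBasis_affineOpens.exists_subset_of_mem_open (Set.mem_univ x) isOpen_univ
        exact ⟨⟨U, hU⟩, hxU⟩) fun U => ?_
    show Subsingleton Γ(I.subscheme, I.subschemeι ⁻¹ᵁ U.1)
    rw [show I.subschemeι ⁻¹ᵁ U.1 = ⊥ from Opens.ext (Set.eq_empty_of_isEmpty _)]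
    exact CommRingCat.subsingleton_of_isTerminal I.subscheme.sheaf.isTerminalOfEmpty
  have hs : ∀ q, Subsingleton (Coh.HH X.left (ClSub.quotMod I) q) := fun q =>
    subsingleton_HH_of_isZero hz q
  refine ⟨⟨fun q => haveI := hs q; .of_subsingleton, fun q _ => hs q⟩, fun q => ?_⟩
  haveI := hs q
  show (Module.length R (Coh.HH X.left (ClSub.quotMod I) q)).toNat = 0
  rw [Module.length_eq_zero]
  rfl

end Groth.Agent.Models7
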