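import Groth.Agent.Models7.P1Deg
import Groth.Agent.Models7.DivChi
import Groth.Agent.Clifford24.Lipman.Induction
import Groth.Agent.CurveRR24.Sky

/-!
# Twisting by a curve isomorphic to the projective line
-/

set_option autoImplicit false
set_option linter.style.haveILetI false
set_option backward.isDefEq.respectTransparency.types false
set_option maxHeartbeats 1000000

universe u

open CategoryTheory CategoryTheory.Limits AlgebraicGeometry TopologicalSpace Opposite
open Groth.Agent.Coherent Groth.Agent.PicLib Groth.Agent.AmpleLib Groth.Agent.EulerLib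

namespace Groth.Agent.Models7

variable {X : Scheme.{u}} (J : X.IdealSheafData)

/-- A twist of the structure module of a subscheme has the cohomology of the restriction. -/
theorem subsingleton_H1_quot_tensor (hv : Lipman24.NoH2 X) {M : X.Modules} (hM : PicF.IsInvertible M)
    (h : Subsingleton (Coh.HH J.subscheme ((Scheme.Modules.pullback J.subschemeι).obj M) 1)) :
    Subsingleton (Coh.HH X (CohB1.tensorMod (ClSub.quotMod J) M) 1) := by
  let ι := J.subschemeι
  let O := Coh.structureModule J.subscheme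
  let N := (Scheme.Modules.pullback ι).obj M
  have hN : PicF.IsInvertible N := PicLoc.isInvertible_pullback ι hM
  haveI hNq : Coh.IsQCoh N := isQCoh_of_isInvertible hN
  haveI hO : Coh.IsQCoh O := isQCoh_structureModule (X := J.subscheme)
  have hMF : FlatMod.IsFinLocFree M := fun x =>
    let ⟨U, hx, e⟩ := isFinLocFreeOfRank_one hM x; ⟨U, 1, hx, e⟩
  let A' := CohB1.tensorMod N O
  haveI hA : Coh.IsQCoh A' := isQCoh_of_isInvertible (isInvertible_tensorMod hN isInvertible_structureModule)
  haveI : Coh.IsQCoh ((Coh.push ι).obj A') := isQCoh_push ι _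
  let ec : CohB1.tensorMod (ClSub.quotMod J) M ≅ (Coh.push ι).obj A' :=
    tensorComm _ _ ≪≫ (projIso (f := ι) hMF).app O
  let eA : A' ≅ N := tensorComm _ O ≪≫ unitTensorIso N
  have hvS : Lipman24.NoH2 J.subscheme := Lipman24.NoH2.closedImmersion ι hv
  have h1 : Subsingleton (Coh.HH J.subscheme A' 1) :=
    Lipman24.subsingleton_H1_of_epi hvS hNq hA eA.inv h
  exact Lipman24.subsingleton_H1_of_epi hv inferInstance (isQCoh_of_iso ec.symm) ec.inv
    ((HHAffinePushEquiv ι A' 1).toEquiv.subsingleton_congr.1 h1)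

/-- The restriction sequence of an invertible module. -/
theorem twistMul_seq {M : X.Modules} (hM : PicF.IsInvertible M) :
    Mono (twistMul J M) ∧ ∀ (hv : Lipman24.NoH2 X),
      Subsingleton (Coh.HH J.subscheme ((Scheme.Modules.pullback J.subschemeι).obj M) 1) →
      (Subsingleton (Coh.HH X (CohB1.tensorMod (ClSub.idealMod J) M) 1) → Subsingleton (Coh.HH X M 1)) ∧
      ∀ {A : Type u} [CommRing A] (φ : A →+* Γ(X, ⊤)),
        Function.Surjective (postA φ (twistMul J M) (⊤ : X.Opens) 1) := by
  let T := twistSeq (ShortComplex.mk (ClSub.idealModι J) (ClSub.toSubscheme J)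
    (kernel.condition (ClSub.toSubscheme J))) M
  have hT : T.ShortExact := twistSeq_shortExact hM (CurveRR24.shortExact_ideal J)
  have e : twistMul J M = T.f ≫ (unitTensorIso M).hom := rfl
  haveI := hT.mono_f
  refine ⟨by rw [e]; exact mono_comp T.f _, fun hv h => ?_⟩
  have h3 : Subsingleton (Coh.HH X T.X₃ 1) := subsingleton_H1_quot_tensor J hv hM h
  refine ⟨fun h1 => ?_, fun {A} _ φ x => ?_⟩
  · have h2 : Subsingleton (Coh.HH X T.X₂ 1) := subsingleton_HH_X₂ hT 1 h1 h3
    haveI : Coh.IsQCoh (Coh.structureModule X) := isQCoh_structureModule (X := X)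
    exact Lipman24.subsingleton_H1_of_epi hv (isQCoh_tensor_invertible _ hM) (isQCoh_of_isInvertible hM)
      (unitTensorIso M).hom h2
  · haveI : Subsingleton (HA φ T.X₃ (⊤ : X.Opens) 1) :=
      (HHTopEquiv T.X₃ 1).symm.toEquiv.subsingleton_congr.2 h3
    obtain ⟨z, hz⟩ := (exact_postA φ hT ⊤ 1 (postA φ (unitTensorIso M).inv ⊤ 1 x)).1 (Subsingleton.elim _ _)
    refine ⟨z, ?_⟩
    refine Eq.trans ?_ (((postA_comp φ (unitTensorIso M).inv (unitTensorIso M).hom 1 x).symm).trans
      (by rw [Iso.inv_hom_id, postA_id]))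
    exact (postA_comp φ T.f (unitTensorIso M).hom 1 z).trans (congrArg _ hz)

/-- A section whose restriction vanishes comes from the twist by the ideal. -/
theorem exists_twistMul_eq {M : X.Modules} (hM : PicF.IsInvertible M) [IsLocallyNoetherian X] (k : Γ(M, ⊤))
    (hk : pullSec J.subschemeι k = 0) : ∃ z, (twistMul J M).app ⊤ z = k := by
  have hz : twistMul J M ≫ clUnit J.subschemeι M = 0 := AmpleLib.hom_ext fun U a b => by
    show pullSec J.subschemeι ((twistMul J M).app U (tmul a b)) = _
    rw [twistMul_tmul, pullSec_smul, (mem_range_idealModι J U _).1 ⟨a, rfl⟩, zero_smul]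
    rfl
  let μ : CohB1.tensorMod (ClSub.idealMod J) M ⟶ kernel (clUnit J.subschemeι M) :=
    kernel.lift _ (twistMul J M) hz
  haveI : Mono μ := by
    haveI := (twistMul_seq J hM).1
    haveI : Mono (μ ≫ kernel.ι (clUnit J.subschemeι M)) := by rw [kernel.lift_ι]; infer_instance
    exact mono_of_mono μ (kernel.ι _)
  haveI : Epi μ := by
    refine epi_of_locally_surjective _ fun W m y hy => ?_
    obtain ⟨V, hyV, g, hg⟩ := exists_isGen hM y
    let U := W ⊓ V
    let g' := resM M (inf_le_right : U ≤ V) g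
    have hg' : IsGen M U g' := hg.restrict inf_le_right
    let m' : Γ(M, U) := (kernel.ι (clUnit J.subschemeι M)).app U (resM _ inf_le_left m)
    obtain ⟨r, hr⟩ := (hg' U le_rfl).2 m'
    beta_reduce at hr
    rw [resM_self] at hr
    have h0 : pullSec J.subschemeι m' = 0 := kernel_ι_app_zero (clUnit J.subschemeι M) U _
    rw [← hr, pullSec_smul] at h0
    have hr0 : J.subschemeι.app U r = 0 := by
      refine ((isGen_pullSec J.subschemeι hg' hM) _ le_rfl).1 ?_
      show J.subschemeι.app U r • resM _ le_rfl _ = (0 : Γ(J.subscheme, _)) • resM _ le_rfl _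
      rw [resM_self, h0, zero_smul]
    obtain ⟨c, hc⟩ := (mem_range_idealModι J U r).2 hr0
    refine ⟨U, inf_le_left, ⟨hy, hyV⟩, tmul c g', ?_⟩
    refine app_injective_of_mono (kernel.ι (clUnit J.subschemeι M)) U ?_
    refine Eq.trans ?_ hr
    show ((μ ≫ kernel.ι _).app U) (tmul c g') = _
    rw [kernel.lift_ι, twistMul_tmul, hc]
  haveI : IsIso μ := isIso_of_mono_of_epi μ
  obtain ⟨w, hw⟩ := kernel_sections_exact (clUnit J.subschemeι M) (U := ⊤) k hk
  refine ⟨(inv μ).app ⊤ w, ?_⟩
  rw [← hw]
  show ((inv μ ≫ twistMul J M).app ⊤) w = _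
  rw [show inv μ ≫ twistMul J M = kernel.ι _ from (IsIso.inv_comp_eq μ).2 (kernel.lift_ι _ _ _).symm]

end Groth.Agent.Models7
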