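import Groth.Agent.Inters29.Class
import Groth.Agent.EulerLib.Twist
import Groth.Agent.CurveRR24.Sky
import Mathlib.CategoryTheory.Abelian.DiagramLemmas.KernelCokernelComp

/-!
# The restriction sequence of a sum of effective Cartier divisors
-/

set_option autoImplicit false
set_option linter.style.haveILetI false
set_option backward.isDefEq.respectTransparency.types false

universe u

open CategoryTheory CategoryTheory.Limits AlgebraicGeometry Opposite TopologicalSpace
open Groth.Agent.Coherent Groth.Agent.PicLib Groth.Agent.AmpleLib Groth.Agent.EulerLib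

namespace Groth.Agent.Models7

/-- The cokernels of two composable monomorphisms form a short exact sequence. -/
theorem shortExact_cokernels {C : Type*} [Category C] [Abelian C] {X Y Z : C} (f : X ⟶ Y) (g : Y ⟶ Z) [Mono g] :
    (kernelCokernelCompSequence.snakeInput f g).L₃.ShortExact := by
  let S := kernelCokernelCompSequence.snakeInput f g
  haveI : Epi S.L₃.g := by
    show Epi (cokernel.map (f ≫ g) g f (𝟙 _) (by simp))
    haveI : Epi (cokernel.π (f ≫ g) ≫ cokernel.map (f ≫ g) g f (𝟙 _) (by simp)) := by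
      rw [cokernel.π_desc, Category.id_comp]
      infer_instance
    exact epi_of_epi (cokernel.π (f ≫ g)) _
  haveI : Mono S.L₃.f := by
    have hz : IsZero S.L₀.X₃ := by
      show IsZero (kernel g)
      exact IsZero.of_iso (isZero_zero C) (kernel.ofMono g)
    exact S.L₂'_exact.mono_g (hz.eq_of_src _ _)
  exact ⟨S.L₃_exact⟩

variable {X : Scheme.{u}}

/-- The ideal of a sum, compatibly with the inclusions. -/
theorem exists_mul_iso (I J : X.IdealSheafData) (hI : BlowUp.IsEffCartierIdeal I)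
    (hJ : BlowUp.IsEffCartierIdeal J) :
    ∃ e : CohB1.tensorMod (ClSub.idealMod I) (ClSub.idealMod J) ≅ ClSub.idealMod (I * J),
      e.hom ≫ ClSub.idealModι (I * J) = twistMul I (ClSub.idealMod J) ≫ ClSub.idealModι J := by
  let ψ : CohB1.tensorMod (ClSub.idealMod I) (ClSub.idealMod J) ⟶ Coh.structureModule X :=
    twistMul I (ClSub.idealMod J) ≫ ClSub.idealModι J
  have hloc : ∀ x : X, ∃ (V : X.Opens) (t : Γ(CohB1.tensorMod (ClSub.idealMod I) (ClSub.idealMod J), V))
      (k' : Γ(ClSub.idealMod (I * J), V)), x ∈ V ∧ IsGen _ V t ∧ IsGen (ClSub.idealMod (I * J)) V k' ∧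
        (ClSub.idealModι (I * J)).app V k' = ψ.app V t := by
    intro x
    obtain ⟨U, hxU, f, hf, hfI⟩ := hI x
    obtain ⟨V, hxV, hVU, g, hg, hgJ⟩ := ModPairLib.exists_local hJ x U.1 hxU
    let f' : Γ(X, V.1) := PicLib.res hVU f
    have hf' : f' ∈ nonZeroDivisors Γ(X, V.1) := ModPairLib.res_mem_nonZeroDivisors hVU hf
    have hfI' : I.ideal V = Ideal.span {f'} := ModPairLib.ideal_restrict I hVU hfI
    obtain ⟨k, hk, hkf⟩ := Inters29.exists_gen_idealMod I V hf' hfI'
    obtain ⟨l, hl, hlg⟩ := Inters29.exists_gen_idealMod J V hg hgJ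
    have hfg : (I * J).ideal V = Ideal.span {f' * g} := by
      rw [Scheme.IdealSheafData.ideal_mul, Pi.mul_apply, hfI', hgJ, Ideal.span_singleton_mul_span_singleton]
    obtain ⟨k', hk', hk'f⟩ := Inters29.exists_gen_idealMod (I * J) V (mul_mem hf' hg) hfg
    refine ⟨V.1, tmul k l, k', hxV, isGen_tmul hk hl, hk', ?_⟩
    rw [hk'f]
    show f' * g = (ClSub.idealModι J).app V.1 ((twistMul I (ClSub.idealMod J)).app V.1 (tmul k l))
    rw [twistMul_tmul, Scheme.Modules.Hom.app_smul, hkf, hlg]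
    rfl
  choose V t k' hxV ht hk' hψk using hloc
  haveI := AmpleLib.mono_idealModι (I * J)
  obtain ⟨e, he⟩ := AmpleLib.exists_iso_of_gens V
    (top_le_iff.1 fun y _ => Opens.mem_iSup.2 ⟨y, hxV y⟩) t ht k' hk' (fun a b W ha hb c hc => by
      apply Coherent.app_injective_of_mono (ClSub.idealModι (I * J)) W
      rw [Scheme.Modules.Hom.app_smul, app_resM, app_resM, hψk, hψk, ← app_resM, ← app_resM,
        ← Scheme.Modules.Hom.app_smul, hc])
  refine ⟨e, ?_⟩
  refine hom_ext_gen V (top_le_iff.1 fun y _ => Opens.mem_iSup.2 ⟨y, hxV y⟩) t ht _ _ fun i => ?_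
  show (ClSub.idealModι (I * J)).app (V i) (e.hom.app (V i) (t i)) = _
  rw [he i]
  exact hψk i

/-- `0 → O_D ⊗ I_{D'} → O_{D + D'} → O_{D'} → 0`. -/
theorem exists_divSeq [IsLocallyNoetherian X] (I J : X.IdealSheafData) (hI : BlowUp.IsEffCartierIdeal I)
    (hJ : BlowUp.IsEffCartierIdeal J) :
    ∃ S : ShortComplex X.Modules, S.ShortExact ∧
      Nonempty (S.X₁ ≅ CohB1.tensorMod (ClSub.quotMod I) (ClSub.idealMod J)) ∧
      Nonempty (S.X₂ ≅ ClSub.quotMod (I * J)) ∧ Nonempty (S.X₃ ≅ ClSub.quotMod J) := by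
  obtain ⟨e, he⟩ := exists_mul_iso I J hI hJ
  let M := ClSub.idealMod J
  let a := twistMul I M
  let b := ClSub.idealModι J
  haveI : Mono b := AmpleLib.mono_idealModι J
  let T := twistSeq (ShortComplex.mk (ClSub.idealModι I) (ClSub.toSubscheme I)
    (kernel.condition (ClSub.toSubscheme I))) M
  have hT : T.ShortExact :=
    twistSeq_shortExact (FlatMor12.IdealModGen.isInvertible_idealMod J hJ) (CurveRR24.shortExact_ideal I)
  let c1 : cokernel a ≅ T.X₃ :=
      (cokernel.mapIso T.f a (Iso.refl _) (unitTensorIso M) (by show T.f ≫ (unitTensorIso M).hom = 𝟙 _ ≫ a; rw [Category.id_comp]; rfl)).symm ≪≫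
        (cokernelIsCokernel T.f).coconePointUniqueUpToIso hT.gIsCokernel
  have hsJ := CurveRR24.shortExact_ideal J
  have hsIJ := CurveRR24.shortExact_ideal (I * J)
  refine ⟨(kernelCokernelCompSequence.snakeInput a b).L₃, shortExact_cokernels a b, ⟨c1⟩, ⟨?_⟩, ⟨?_⟩⟩
  · exact cokernel.mapIso (a ≫ b) (ClSub.idealModι (I * J)) e (Iso.refl _) (by rw [Iso.refl_hom, Category.comp_id, he]) ≪≫
      (cokernelIsCokernel (ClSub.idealModι (I * J))).coconePointUniqueUpToIso hsIJ.gIsCokernel
  · exact (cokernelIsCokernel (ClSub.idealModι J)).coconePointUniqueUpToIso hsJ.gIsCokernel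

end Groth.Agent.Models7
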