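import Groth.Agent.Models7.MinimalModel
import Groth.Agent.Models7.ExcCriterion
import Groth.Agent.Models7.DivSeq

/-!
# The exceptional fibre of the blow-up of a point of an arithmetic surface
-/

set_option autoImplicit false
set_option linter.style.haveILetI false
set_option backward.isDefEq.respectTransparency false

universe u

open CategoryTheory CategoryTheory.Limits AlgebraicGeometry TopologicalSpace IsLocalRing Opposite

namespace Groth.Agent.Models7

variable {R : Type u} [CommRing R] [IsDomain R] [IsDiscreteValuationRing R]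

theorem regSurf_of_isArithSurface {Y : Over (Spec (CommRingCat.of R))} (hY : ArSurf.IsArithSurface R Y) :
    IsProper Y.hom ∧ RegSurf Y.left := by
  haveI := hY.2.1
  haveI : IsProper Y.hom := Models7.isProper_of_projective hY.2.2.2.2
  exact ⟨inferInstance, inferInstance, LocallyOfFiniteType.isLocallyNoetherian Y.hom,
    QuasiCompact.compactSpace_of_compactSpace Y.hom, hY.1, hY.2.2.1.le⟩

theorem genericPoint_ne_closedPoint {Y : Over (Spec (CommRingCat.of R))} [IsIntegral Y.left] [Flat Y.hom] :
    Y.hom (genericPoint Y.left) ≠ closedPoint R := by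
  rw [Inters29.hom_genericPoint R (genericPoint Y.left)]
  exact Inters29.bot_ne_closedPoint R

/-- The points of a curve are not all equal. -/
theorem exists_ne_of_dim_one {E : Scheme.{u}} [Nonempty E] (h : topologicalKrullDim E = 1) : ∃ a b : E, a ≠ b := by
  by_contra hc
  push Not at hc
  haveI : Subsingleton E := ⟨fun a b => hc a b⟩
  haveI : DiscreteTopology E := Subsingleton.discreteTopology
  have h0 : topologicalKrullDim E ≤ 0 := topologicalKrullDim_zero_of_discreteTopology E
  rw [h] at h0
  exact absurd h0 (by decide)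

/-- A vertical curve filling the fibre of the blow-up of a closed point is exceptional. -/
theorem isExcCurve_of_blowUp_fibre {Y : Over (Spec (CommRingCat.of R))} (hY : ArSurf.IsArithSurface R Y)
    (y : Y.left) (hy : IsClosed ({y} : Set Y.left)) (hy0 : ∀ [IrreducibleSpace Y.left], y ≠ genericPoint Y.left)
    {X : Scheme.{u}} (b : X ⟶ Y.left)
    (hb : BlowUp.IsBlowUp b (Scheme.IdealSheafData.vanishingIdeal ⟨{y}, hy⟩))
    {E : Scheme.{u}} (ι : E ⟶ X) [IsClosedImmersion ι] [IsIntegral E] (hdim : topologicalKrullDim E = 1)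
    (hE : Set.range ι.base = b.base ⁻¹' {y}) : Models.IsExcCurve ι := by
  haveI := hY.2.1
  haveI := hY.2.2.2.1
  obtain ⟨hp, hS⟩ := regSurf_of_isArithSurface hY
  haveI := hp
  have hy1 : y ≠ genericPoint Y.left := hy0
  have hbi : ¬ IsIso b := fun h => by
    obtain ⟨a, a', hne⟩ := exists_ne_of_dim_one hdim
    refine hne (ι.isClosedEmbedding.injective ((b.homeomorph.injective) ?_))
    exact (show b (ι a) = y from hE.le ⟨a, rfl⟩).trans (show b (ι a') = y from hE.le ⟨a', rfl⟩).symm
  obtain ⟨F, φ, hφ, hF, hFr, -, -⟩ := exists_excCurve_pointBlowUp R Y.hom hS genericPoint_ne_closedPoint y hy hy1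
    (ringKrullDim_eq_two_of_not_isIso hS y hy hy1 b hb hbi) b hb
  exact isExcCurve_of_range_eq φ ι (hFr.trans hE.symm) hF

end Groth.Agent.Models7
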