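import Groth.Agent.Models7.ContractP1
import Groth.Agent.Models7.ExcOfBlowUp

/-!
# Castelnuovo's contraction on an arithmetic surface
-/

set_option autoImplicit false
set_option linter.style.haveILetI false
set_option backward.isDefEq.respectTransparency.types false
set_option maxHeartbeats 1000000

universe u

open CategoryTheory CategoryTheory.Limits AlgebraicGeometry TopologicalSpace IsLocalRing
open Groth.Agent.Coherent Groth.Agent.PicLib Groth.Agent.AmpleLib Groth.Agent.EulerLib

namespace Groth.Agent.Models7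

variable {R : Type u} [CommRing R] [IsDomain R] [IsDiscreteValuationRing R]

/-- The fibres of a surface proper over a discrete valuation ring, dominating it, are curves. -/
theorem topologicalKrullDim_fiber_le_one {X : Scheme.{u}} [IsIntegral X] (p : X ⟶ Spec (CommRingCat.of R))
    [IsProper p] (hdim : topologicalKrullDim X ≤ 2) (hη : p (genericPoint X) ≠ closedPoint R)
    (w : ↥(Spec (CommRingCat.of R))) : topologicalKrullDim ↥(p.fiber w) ≤ 1 := by
  haveI : IsLocallyNoetherian X := LocallyOfFiniteType.isLocallyNoetherian p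
  let e := p.fiberHomeo w
  letI := specializationOrder (p.fiber w)
  rw [CommAlg6.topologicalKrullDim_eq_krullDim_points]
  refine iSup_le fun c => ?_
  by_contra hlt
  have hl : 2 ≤ c.length := by
    by_contra h
    exact hlt (by exact_mod_cast Nat.lt_succ_iff.1 (not_le.1 h))
  have h1 : c ⟨0, by omega⟩ < c ⟨1, by omega⟩ := c.strictMono (Fin.mk_lt_mk.2 Nat.zero_lt_one)
  have h2 : c ⟨1, by omega⟩ < c ⟨2, by omega⟩ := c.strictMono (Fin.mk_lt_mk.2 Nat.one_lt_two)
  let ι : p.fiber w → X := fun z => (e z).1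
  have hinj : Function.Injective ι := fun a b h => e.injective (Subtype.ext h)
  have s01 : ι (c ⟨1, by omega⟩) ⤳ ι (c ⟨0, by omega⟩) := h1.le.map (continuous_subtype_val.comp e.continuous)
  have s12 : ι (c ⟨2, by omega⟩) ⤳ ι (c ⟨1, by omega⟩) := h2.le.map (continuous_subtype_val.comp e.continuous)
  have n01 : ι (c ⟨1, by omega⟩) ≠ ι (c ⟨0, by omega⟩) := fun h => h1.ne (hinj h).symm
  have n12 : ι (c ⟨2, by omega⟩) ≠ ι (c ⟨1, by omega⟩) := fun h => h2.ne (hinj h).symm
  have hw : ∀ z, p (ι z) = w := fun z => (e z).2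
  by_cases h2η : ι (c ⟨2, by omega⟩) = genericPoint X
  · have h0 := isClosed_of_specializes_dim_two hdim s01 n01 fun h => n12 (h2η.trans h.symm)
    have h0' := p.isClosedMap _ h0
    rw [Set.image_singleton] at h0'
    have hs : p (ι (c ⟨0, by omega⟩)) = closedPoint R :=
      ((IsLocalRing.specializes_closedPoint (p (ι (c ⟨0, by omega⟩)))).mem_closed h0' rfl).symm
    exact hη (by rw [← h2η, hw, ← hw (c ⟨0, by omega⟩), hs])
  · have h1c := isClosed_of_specializes_dim_two hdim s12 n12 h2η
    exact n01 (s01.mem_closed h1c rfl).symm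

/-- A nonzero degree on a vertical projective line forces a finite field of constants. -/
theorem homDegree_pos_of_curveDeg_ne_zero {X : Over (Spec (CommRingCat.of R))} (Γ : ArSurf.VertComp R X)
    [IsProper Γ.curve.hom] {k' : Type u} [Field k'] (e : CohB1.ProjSpace 1 k' ≅ Γ.curve.left)
    (ψ : IsLocalRing.ResidueField R →+* k')
    (he : e.hom ≫ Γ.curve.hom = CohB1.ProjSpace.toSpec 1 k' ≫ Spec.map (CommRingCat.ofHom ψ))
    {M : Γ.curve.left.Modules} (hc : ArSurf.curveDeg (IsLocalRing.ResidueField R) Γ.curve.left M ≠ 0) :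
    0 < Models.homDegree ψ := by
  by_contra h0
  have h0' : Models.homDegree ψ = 0 := by omega
  have hz : ∀ (N : Γ.curve.left.Modules) (q : ℕ),
      Models.hRank (IsLocalRing.ResidueField R) Γ.curve.left Γ.curve.hom N q = 0 := fun N q => by
    letI : Γ.curve.left.Over (Spec (CommRingCat.of (IsLocalRing.ResidueField R))) := ⟨Γ.curve.hom⟩
    have hg : Γ.curve.hom = (e.inv ≫ CohB1.ProjSpace.toSpec 1 k') ≫ Spec.map (CommRingCat.ofHom ψ) := by
      rw [Category.assoc, ← he, e.inv_hom_id_assoc]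
    rw [hg, hRank_comp ψ _ N q, h0', zero_mul]
  rw [curveDeg_eq_hRank R Γ, hz, hz, hz, hz] at hc
  exact hc (by norm_num)

/-- A module of nonnegative degree on a vertical projective line has nonnegative degree over the constants. -/
theorem exists_hasDeg_of_curveDeg_nonneg {X : Over (Spec (CommRingCat.of R))} (Γ : ArSurf.VertComp R X)
    [IsProper Γ.curve.hom] {k' : Type u} [Field k'] (e : CohB1.ProjSpace 1 k' ≅ Γ.curve.left)
    (ψ : IsLocalRing.ResidueField R →+* k')
    (he : e.hom ≫ Γ.curve.hom = CohB1.ProjSpace.toSpec 1 k' ≫ Spec.map (CommRingCat.ofHom ψ))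
    (hψ : 0 < Models.homDegree ψ) {M : Γ.curve.left.Modules} (hM : PicF.IsInvertible M)
    (hc : 0 ≤ ArSurf.curveDeg (IsLocalRing.ResidueField R) Γ.curve.left M) :
    ∃ m : ℕ, P1Deg.HasDeg e M (m : ℤ) ∧
      ArSurf.curveDeg (IsLocalRing.ResidueField R) Γ.curve.left M = (Models.homDegree ψ : ℤ) * m := by
  let k := IsLocalRing.ResidueField R
  haveI : Coh.IsQCoh M := isQCoh_of_isInvertible hM
  obtain ⟨l, hl⟩ := P1Deg.exists_hasDeg e hM
  obtain ⟨φ⟩ := hl
  let E := Γ.curve.left
  let g := Γ.curve.hom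
  letI : E.Over (Spec (CommRingCat.of k)) := ⟨g⟩
  haveI : CompactSpace E := QuasiCompact.compactSpace_of_compactSpace g
  haveI : E.IsSeparated := ⟨by rw [← terminal.comp_from g]; infer_instance⟩
  letI oP : (CohB1.ProjSpace 1 k').Over (Spec (CommRingCat.of k)) := ⟨e.hom ≫ g⟩
  have hpb : IsPullback e.hom ((CohB1.ProjSpace 1 k') ↘ Spec (CommRingCat.of k)) (E ↘ Spec (CommRingCat.of k))
      (Spec.map (CommRingCat.ofHom (algebraMap k k))) := by
    rw [show CommRingCat.ofHom (algebraMap k k) = 𝟙 _ from rfl, Spec.map_id]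
    exact IsPullback.of_horiz_isIso ⟨(Category.comp_id (e.hom ≫ g)).symm⟩
  have tr : ∀ (N : (CohB1.ProjSpace 1 k').Modules) (q : ℕ), Models.hRank k _ (e.hom ≫ g) N q =
      Models.homDegree ψ * Models.hRank k' _ (CohB1.ProjSpace.toSpec 1 k') N q := fun N q => by
    rw [show e.hom ≫ g = _ from he]; exact hRank_comp ψ _ N q
  have hMq : ∀ q, Models.hRank k E g M q =
      Models.homDegree ψ * Models.hRank k' _ (CohB1.ProjSpace.toSpec 1 k') (Twist.twistProjSpace 1 k' l) q :=
    fun q => by
      rw [← tr]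
      exact (CurveRR24.finrank_HH_bc hpb M q).symm.trans (CurveRR24.finrank_HH_congr k φ q)
  have hOq : ∀ q, Models.hRank k E g (Coh.structureModule E) q =
      Models.homDegree ψ * Models.hRank k' _ (CohB1.ProjSpace.toSpec 1 k') (Coh.structureModule _) q :=
    fun q => by
      rw [← tr]
      exact (CurveRR24.finrank_HH_structure_bc hpb q).symm
  haveI := subsingleton_HH_structureModule (R := k') (n := 1) 1 one_pos
  have a0 : Models.hRank k' _ (CohB1.ProjSpace.toSpec 1 k') (Coh.structureModule (CohB1.ProjSpace 1 k')) 0 = 1 :=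
    CurveRR24.finrank_projLine_structure k'
  have a1 : Models.hRank k' _ (CohB1.ProjSpace.toSpec 1 k') (Coh.structureModule (CohB1.ProjSpace 1 k')) 1 = 0 :=
    Module.finrank_zero_of_subsingleton
  have b0 : Models.hRank k' _ (CohB1.ProjSpace.toSpec 1 k') (Twist.twistProjSpace 1 k' l) 0 = (l + 1).toNat :=
    SplitP1.h0_twist k' l
  have h := curveDeg_eq_hRank R Γ (M := M)
  rw [hMq, hMq, hOq, hOq, a0, a1, b0] at h
  rcases le_or_gt l (-1) with hneg | hpos
  · exfalso
    rw [show (l + 1).toNat = 0 by omega] at h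
    push_cast at h
    rw [h] at hc
    have hψ' : (0 : ℤ) < Models.homDegree ψ := by exact_mod_cast hψ
    nlinarith [Int.natCast_nonneg (Models.hRank k' _ (CohB1.ProjSpace.toSpec 1 k') (Twist.twistProjSpace 1 k' l) 1)]
  · haveI := subsingleton_HH_twist (R := k') (n := 1) (d := l) 1 (by omega) (by omega)
    have b1 : Models.hRank k' _ (CohB1.ProjSpace.toSpec 1 k') (Twist.twistProjSpace 1 k' l) 1 = 0 :=
      Module.finrank_zero_of_subsingleton
    obtain ⟨m, rfl⟩ := Int.eq_ofNat_of_zero_le (show 0 ≤ l by omega)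
    rw [b1, show ((m : ℤ) + 1).toNat = m + 1 by omega] at h
    push_cast at h
    exact ⟨m, ⟨φ⟩, by rw [h]; ring⟩

/-- A module of positive degree on a vertical projective line has positive degree over the constants. -/
theorem exists_hasDeg_of_curveDeg {X : Over (Spec (CommRingCat.of R))} (Γ : ArSurf.VertComp R X)
    [IsProper Γ.curve.hom] {k' : Type u} [Field k'] (e : CohB1.ProjSpace 1 k' ≅ Γ.curve.left)
    (ψ : IsLocalRing.ResidueField R →+* k')
    (he : e.hom ≫ Γ.curve.hom = CohB1.ProjSpace.toSpec 1 k' ≫ Spec.map (CommRingCat.ofHom ψ))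
    {M : Γ.curve.left.Modules} (hM : PicF.IsInvertible M)
    (hc : 0 < ArSurf.curveDeg (IsLocalRing.ResidueField R) Γ.curve.left M) :
    ∃ m : ℕ, 1 ≤ m ∧ P1Deg.HasDeg e M (m : ℤ) ∧
      ArSurf.curveDeg (IsLocalRing.ResidueField R) Γ.curve.left M = (Models.homDegree ψ : ℤ) * m := by
  have hψ : 0 < Models.homDegree ψ := homDegree_pos_of_curveDeg_ne_zero Γ e ψ he hc.ne'
  obtain ⟨m, hm, hval⟩ := exists_hasDeg_of_curveDeg_nonneg Γ e ψ he hψ hM hc.le
  refine ⟨m, ?_, hm, hval⟩
  by_contra h
  rw [hval, show m = 0 by omega, Nat.cast_zero, mul_zero] at hc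
  exact lt_irrefl _ hc

/-- A vertical projective line of self-intersection `-d·[k' : k]` as a subscheme with conormal degree `d`. -/
theorem exists_line_data {X : Over (Spec (CommRingCat.of R))} (hX : ArSurf.IsArithSurface R X)
    (E : ArSurf.VertComp R X) {k' : Type u} [Field k'] [Algebra (IsLocalRing.ResidueField R) k']
    (e : E.curve.left ≅ CohB1.ProjSpace 1 k')
    (he : e.hom ≫ CohB1.ProjSpace.toSpec 1 k' ≫
      Spec.map (CommRingCat.ofHom (algebraMap (IsLocalRing.ResidueField R) k')) = E.curve.hom)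
    {L : X.left.Modules} (hL : ClSub.IsInverseOf L (ClSub.idealMod E.ι.ker))
    (hneg : ArSurf.inter R X L E < 0) :
    BlowUp.IsEffCartierIdeal E.ι.ker ∧ ∃ (d : ℕ) (e' : CohB1.ProjSpace 1 k' ≅ E.ι.ker.subscheme), 1 ≤ d ∧
      P1Deg.HasDeg e' ((Scheme.Modules.pullback E.ι.ker.subschemeι).obj (ClSub.idealMod E.ι.ker)) (d : ℤ) ∧
      ArSurf.inter R X L E = -((d : ℤ) * (Module.finrank (IsLocalRing.ResidueField R) k' : ℤ)) := by
  obtain ⟨hp, hS⟩ := regSurf_of_isArithSurface hX
  haveI := hp
  haveI := hX.2.1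
  haveI := hX.2.2.2.1
  haveI : IsLocallyNoetherian X.left := LocallyOfFiniteType.isLocallyNoetherian X.hom
  have hD := Inters29.isEffCartier_comp R hX.1 hX.2.2.1.le E
  haveI : IsProper E.curve.hom := by
    haveI : IsProper (E.ι ≫ X.hom) := inferInstance
    rw [E.w] at this
    exact IsProper.of_comp E.curve.hom (Spec.map (CommRingCat.ofHom (IsLocalRing.residue R)))
  have hI := FlatMor12.IdealModGen.isInvertible_idealMod _ hD
  let M := (Scheme.Modules.pullback E.ι).obj (ClSub.idealMod E.ι.ker)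
  have hc : ArSurf.curveDeg (IsLocalRing.ResidueField R) E.curve.left M = - ArSurf.inter R X L E :=
    curveDeg_conormal R E hD hL
  obtain ⟨m, hm, hdeg, hval⟩ := exists_hasDeg_of_curveDeg E e.symm (algebraMap (IsLocalRing.ResidueField R) k')
    (by rw [← he, Iso.symm_hom, e.inv_hom_id_assoc]) (M := M) (PicLoc.isInvertible_pullback E.ι hI) (by omega)
  let σ : E.ι.ker.subscheme ≅ E.curve.left := (asIso E.ι.toImage).symm
  have hσ : σ.hom ≫ E.ι = E.ι.ker.subschemeι := by
    show inv E.ι.toImage ≫ E.ι = _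
    rw [IsIso.inv_comp_eq]
    exact (E.ι.toImage_imageι).symm
  refine ⟨hD, m, e.symm ≪≫ σ.symm, hm, (hdeg.transfer e.symm σ).of_iso _
    ((Scheme.Modules.pullbackComp σ.hom E.ι).app _ ≪≫ (Scheme.Modules.pullbackCongr hσ).app _), ?_⟩
  have hd : Models.homDegree (algebraMap (IsLocalRing.ResidueField R) k') =
      Module.finrank (IsLocalRing.ResidueField R) k' := by
    unfold Models.homDegree
    congr 1
    exact congrArg (fun a : Algebra _ k' => a.toModule) (Algebra.algebra_ext _ _ fun _ => rfl)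
  rw [hd] at hval
  rw [← neg_neg (ArSurf.inter R X L E), ← hc, hval, mul_comm]

/-- **Castelnuovo's contraction** of a vertical projective line of negative self-intersection. -/
theorem exists_castelnuovo {X : Over (Spec (CommRingCat.of R))} (hX : ArSurf.IsArithSurface R X)
    (E : ArSurf.VertComp R X) {k' : Type u} [Field k'] [Algebra (IsLocalRing.ResidueField R) k']
    [FiniteDimensional (IsLocalRing.ResidueField R) k'] (e : E.curve.left ≅ CohB1.ProjSpace 1 k')
    (he : e.hom ≫ CohB1.ProjSpace.toSpec 1 k' ≫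
      Spec.map (CommRingCat.ofHom (algebraMap (IsLocalRing.ResidueField R) k')) = E.curve.hom)
    {L : X.left.Modules} (hL : ClSub.IsInverseOf L (ClSub.idealMod E.ι.ker))
    {d : ℕ} (hd : 1 ≤ d)
    (hself : ArSurf.inter R X L E = -((d : ℤ) * (Module.finrank (IsLocalRing.ResidueField R) k' : ℤ))) :
    ∃ (Y : Over (Spec (CommRingCat.of R))) (f : X ⟶ Y) (y : Y.left) (hy : IsClosed ({y} : Set Y.left)),
      IsIntegral Y.left ∧ IsLocallyNoetherian Y.left ∧ IsProper f.left ∧
      (∀ q : Y.left, IsIntegrallyClosed (Y.left.presheaf.stalk q)) ∧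
      topologicalKrullDim Y.left = 2 ∧ Flat Y.hom ∧ Neron.IsProjectiveOver R Y ∧
      2 ≤ ringKrullDim (Y.left.presheaf.stalk y) ∧
      Set.range ((E.ι ≫ f.left).base : E.curve.left → Y.left) = {y} ∧
      (f.left ⁻¹ᵁ (⟨{y}ᶜ, hy.isOpen_compl⟩ : Y.left.Opens) : Set X.left) = (Set.range E.ι.base)ᶜ ∧
      IsIso (f.left ∣_ (⟨{y}ᶜ, hy.isOpen_compl⟩ : Y.left.Opens)) ∧
      Module.finrank (IsLocalRing.ResidueField (Y.left.presheaf.stalk y))
        (IsLocalRing.CotangentSpace (Y.left.presheaf.stalk y)) = d + 1 := by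
  have hfin : 0 < Module.finrank (IsLocalRing.ResidueField R) k' := Module.finrank_pos
  have hpos : 0 < (d : ℤ) * (Module.finrank (IsLocalRing.ResidueField R) k' : ℤ) := by positivity
  obtain ⟨hD, d', e', hd', hdeg, hinter⟩ := exists_line_data hX E e he hL (by omega)
  have hdd : d' = d := by
    have := hinter.symm.trans hself
    have h2 : (d' : ℤ) = d := mul_right_cancel₀ (b := (Module.finrank (IsLocalRing.ResidueField R) k' : ℤ))
      (by exact_mod_cast hfin.ne') (by omega)
    exact_mod_cast h2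
  subst hdd
  obtain ⟨hp, hS⟩ := regSurf_of_isArithSurface hX
  haveI := hp
  haveI := hX.2.1
  haveI := hX.2.2.2.1
  have hdim : topologicalKrullDim X.left = 2 := hX.2.2.1
  obtain ⟨H, hH⟩ := exists_isAmple_of_isProjectiveOver (X := X) hX.2.2.2.2
  have hnor : ∀ x : X.left, IsIntegrallyClosed (X.left.presheaf.stalk x) := fun x =>
    haveI := hX.1 x
    CAlgH3.isIntegrallyClosed_of_regular _
  obtain ⟨Y₀, q, g, y, hy, hgq, hYi, hYn, hq, hproj, hsurj, hgp, hpre, hiso, hcot⟩ :=
    exists_contraction_line X.hom hnor (topologicalKrullDim_fiber_le_one X.hom hdim.le genericPoint_ne_closedPoint)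
      hH E.ι.ker hD e' hd' hdeg
  haveI := hYi
  haveI := hq
  haveI := hgp
  haveI : IsLocallyNoetherian Y₀ := LocallyOfFiniteType.isLocallyNoetherian q
  let Y : Over (Spec (CommRingCat.of R)) := Over.mk q
  haveI : IsIntegral Y.left := hYi
  haveI : IsProper Y.hom := hq
  have hsupp : (E.ι.ker.support : Set X.left) = Set.range E.ι.base := by
    rw [E.ι.support_ker]; exact E.ι.isClosedEmbedding.isClosed_range.closure_eq
  rw [hsupp] at hpre
  have hy2 : 2 ≤ ringKrullDim (Y₀.presheaf.stalk y) := by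
    by_contra hlt
    haveI := hYn y
    haveI : IsDomain (Y₀.presheaf.stalk y) := inferInstance
    have hprime : ∀ P : Ideal (Y₀.presheaf.stalk y), P ≠ ⊥ → P.IsPrime →
        P = IsLocalRing.maximalIdeal (Y₀.presheaf.stalk y) := by
      intro P hP hPp
      by_contra hne
      let b₀ : PrimeSpectrum (Y₀.presheaf.stalk y) := ⟨⊥, Ideal.isPrime_bot⟩
      let b₁ : PrimeSpectrum (Y₀.presheaf.stalk y) := ⟨P, hPp⟩
      let b₂ : PrimeSpectrum (Y₀.presheaf.stalk y) := ⟨IsLocalRing.maximalIdeal _, inferInstance⟩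
      have h1 : b₀ < b₁ := lt_of_le_of_ne (show (⊥ : Ideal _) ≤ P from bot_le) fun h => hP (congrArg PrimeSpectrum.asIdeal h).symm
      have h2 : b₁ < b₂ := lt_of_le_of_ne (show P ≤ IsLocalRing.maximalIdeal _ from IsLocalRing.le_maximalIdeal hPp.ne_top)
        fun h => hne (congrArg PrimeSpectrum.asIdeal h)
      exact hlt (le_iSup_of_le (((RelSeries.singleton _ b₂).cons b₁ h2).cons b₀ (by rw [RelSeries.head_cons]; exact h1)) le_rfl)
    have h := (tfae_of_isNoetherianRing_of_isLocalRing_of_isDomain (Y₀.presheaf.stalk y)).out 3 5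
    have h' := h.1 ⟨hYn y, hprime⟩
    omega
  have hgen : g (genericPoint X.left) = genericPoint Y₀ := by
    obtain ⟨x, hx⟩ := hsurj (genericPoint Y₀)
    exact (((genericPoint_specializes x).map g.continuous).antisymm
      (hx ▸ genericPoint_specializes _)).eq.trans hx
  haveI : Flat Y.hom := by
    let bot : Spec (CommRingCat.of R) := (⟨⊥, Ideal.isPrime_bot⟩ : PrimeSpectrum R)
    refine Hurwitz24.flat_of_dominant Y.hom ?_ ?_ fun z => ?_
    · show q (genericPoint Y₀) = _
      rw [← hgen]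
      show (g ≫ q) (genericPoint X.left) = _
      rw [hgq, Inters29.hom_genericPoint R (genericPoint X.left)]
      refine (((PrimeSpectrum.le_iff_specializes bot _).1 bot_le).antisymm ?_).eq
      exact genericPoint_specializes _
    · exact le_of_eq ((PrimeSpectrum.topologicalKrullDim_eq_ringKrullDim (R := R)).trans
        (IsDiscreteValuationRing.ringKrullDim_eq_one R))
    · haveI : IsIntegrallyClosed (Localization.AtPrime z.asIdeal) :=
        isIntegrallyClosed_of_isLocalization _ z.asIdeal.primeCompl z.asIdeal.primeCompl_le_nonZeroDivisors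
      exact IsIntegrallyClosed.of_equiv (Spec.stalkIso (CommRingCat.of R) z).commRingCatIsoToRingEquiv.symm
  have hdimY : topologicalKrullDim Y₀ = 2 := le_antisymm
    ((CommAlg6.topologicalKrullDim_le_of_specializingMap (f := g.base) hsurj
      g.isClosedMap.specializingMap).trans hdim.le)
    (hy2.trans (CurvesLib24.stalk_dim_le_topologicalKrullDim y))
  refine ⟨Y, Over.homMk g hgq, y, hy, hYi, inferInstanceAs (IsLocallyNoetherian Y₀), hgp, hYn, hdimY, inferInstance,
    hproj, hy2, ?_, ?_, hiso, hcot⟩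
  · refine Set.Subset.antisymm ?_ (Set.singleton_subset_iff.2 ?_)
    · rintro _ ⟨z, rfl⟩
      exact (hpre.ge ⟨z, rfl⟩ :)
    · exact ⟨genericPoint E.curve.left, (hpre.ge ⟨_, rfl⟩ :)⟩
  · show (g.base ⁻¹' {y}ᶜ) = _
    rw [Set.preimage_compl, hpre]

end Groth.Agent.Models7
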