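import Groth.Agent.Models7.Castelnuovo
import Groth.Agent.Inters29.Exist
import Groth.Agent.Inters29.Family
import Groth.Agent.VarietyLib.AmpleComponents
import Groth.Agent.S12128
import Groth.Agent.Clifford24.Lipman.VeryAmple

/-!
# A regular proper surface over a discrete valuation ring is projective
-/

set_option autoImplicit false
set_option linter.style.haveILetI false
set_option backward.isDefEq.respectTransparency.types false
set_option maxHeartbeats 1000000

universe u

open CategoryTheory CategoryTheory.Limits AlgebraicGeometry TopologicalSpace IsLocalRing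
open Groth.Agent.Coherent Groth.Agent.PicLib Groth.Agent.AmpleLib Groth.Agent.EulerLib
open Groth.Agent.Misc15.DivDescent Groth.Agent.SDiv28.CartierPart

namespace Groth.Agent.Models7

/-- A two-dimensional regular local ring has a nonzero prime avoiding a given nonzero element. -/
theorem exists_prime_notMem {A : Type u} [CommRing A] [IsDomain A] [IsLocalRing A] [IsNoetherianRing A]
    (hA : 1 < (maximalIdeal A).height) {π : A} (hπ0 : π ≠ 0) :
    ∃ P : Ideal A, P.IsPrime ∧ P ≠ ⊥ ∧ π ∉ P := by
  classical
  by_cases hπu : IsUnit π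
  · exact ⟨maximalIdeal A, inferInstance, fun h => by rw [h, Ideal.height_bot] at hA; exact absurd hA (by simp),
      fun h => (mem_maximalIdeal π).1 h hπu⟩
  have hfin : ((Ideal.span {π}).minimalPrimes).Finite := Ideal.finite_minimalPrimes_of_isNoetherianRing A _
  have hnsub : ¬ ((maximalIdeal A : Set A) ⊆ ⋃ Q ∈ (↑hfin.toFinset : Set (Ideal A)), (Q : Set A)) := by
    rw [Ideal.subset_union_prime (f := fun Q : Ideal A => Q) ⊥ ⊥ fun Q hQ _ _ => (hfin.mem_toFinset.1 hQ).1.1]
    rintro ⟨Q, hQ, hle⟩
    haveI := (hfin.mem_toFinset.1 hQ).1.1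
    have hQ1 : Q.height ≤ 1 := Ideal.height_le_one_of_isPrincipal_of_mem_minimalPrimes (Ideal.span {π}) Q
      (hfin.mem_toFinset.1 hQ)
    exact (hA.trans_le ((Ideal.height_mono hle).trans hQ1)).false
  obtain ⟨a, ham, ha⟩ := Set.not_subset.1 hnsub
  have ha0 : a ≠ 0 := by
    rintro rfl
    obtain ⟨Q, hQ, -⟩ := Ideal.exists_minimalPrimes_le (J := maximalIdeal A) (I := Ideal.span {π})
      ((Ideal.span_singleton_le_iff_mem _).2 ((mem_maximalIdeal π).2 hπu))
    exact ha (Set.mem_iUnion₂.2 ⟨Q, hfin.mem_toFinset.2 hQ, Q.zero_mem⟩)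
  obtain ⟨P, hP, -⟩ := Ideal.exists_minimalPrimes_le (J := maximalIdeal A) (I := Ideal.span {a})
    ((Ideal.span_singleton_le_iff_mem _).2 ham)
  haveI := hP.1.1
  have haP : a ∈ P := hP.1.2 (Ideal.mem_span_singleton_self a)
  have hP0 : P ≠ ⊥ := fun h => ha0 (by simpa [h] using haP)
  refine ⟨P, inferInstance, hP0, fun hπP => ?_⟩
  obtain ⟨Q, hQ, hQP⟩ := Ideal.exists_minimalPrimes_le (J := P) (I := Ideal.span {π})
    ((Ideal.span_singleton_le_iff_mem _).2 hπP)
  haveI := hQ.1.1
  rcases hQP.lt_or_eq with hlt | heq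
  · have hQ0 : (⊥ : Ideal A) < Q := bot_lt_iff_ne_bot.2 fun h => hπ0 (by
      simpa [h] using hQ.1.2 (Ideal.mem_span_singleton_self π))
    have h1 := Ideal.height_strict_mono_of_isPrime_of_isPrime hlt
    have h2 := Ideal.height_strict_mono_of_isPrime_of_isPrime hQ0
    have h3 : P.height ≤ 1 := Ideal.height_le_one_of_isPrincipal_of_mem_minimalPrimes (Ideal.span {a}) P hP
    rw [Ideal.height_bot] at h2
    have h4 : Q.height < 1 := h1.trans_le h3
    rw [ENat.lt_one_iff_eq_zero] at h4
    rw [h4] at h2
    exact lt_irrefl _ h2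
  · exact ha (Set.mem_iUnion₂.2 ⟨Q, hfin.mem_toFinset.2 hQ, heq ▸ haP⟩)

variable {R : Type u} [CommRing R] [IsDomain R] [IsDiscreteValuationRing R]

/-- A regular proper surface over a discrete valuation ring has a horizontal curve through any closed point. -/
theorem exists_horizontal {X : Over (Spec (CommRingCat.of R))} [IsIntegral X.left] [IsProper X.hom] [Flat X.hom]
    (hreg : ∀ x : X.left, IsRegularLocalRing (X.left.presheaf.stalk x)) (hdim : topologicalKrullDim X.left ≤ 2)
    {z g : X.left} (hg : g ⤳ z) (hgz : g ≠ z) (hgη : g ≠ genericPoint X.left) :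
    ∃ w : X.left, w ⤳ z ∧ w ≠ genericPoint X.left ∧ X.hom w ≠ closedPoint R := by
  haveI : IsLocallyNoetherian X.left := LocallyOfFiniteType.isLocallyNoetherian X.hom
  let A := X.left.presheaf.stalk z
  haveI := hreg z
  haveI := CAlgH3.isDomain_of_isRegularLocalRing A
  obtain ⟨π, hπ⟩ := IsDiscreteValuationRing.exists_irreducible R
  let ρ : R →+* A := (X.left.presheaf.germ ⊤ z trivial).hom.comp (Coh.toGlobal X.hom)
  have hA : 1 < (maximalIdeal A).height := by
    have h4 := dim_add_one_le hg hgz
    have h5 := dim_add_one_le ((genericPoint_spec X.left).specializes (Set.mem_univ g)) (Ne.symm hgη)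
    have h2 := ringKrullDim_stalk_eq_coheight (X := X.left) z
    rw [← IsLocalRing.maximalIdeal_height_eq_ringKrullDim] at h2
    rw [WithBot.coe_inj.1 h2]
    calc (1 : ℕ∞) < 2 := by norm_num
      _ ≤ Order.coheight (genericPoint X.left) + 1 + 1 := by
        rw [add_assoc]; exact le_add_of_le_right (by norm_num)
      _ ≤ Order.coheight g + 1 := add_le_add_left h5 1
      _ ≤ Order.coheight z := h4
  have hmem : ∀ P : PrimeSpectrum A, X.hom (X.left.fromSpecStalk z P) = closedPoint R → ρ π ∈ P.asIdeal := by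
    intro P hP
    by_contra hπP
    have h1 : X.left.fromSpecStalk z P ∈ X.left.basicOpen (Coh.toGlobal X.hom π) := by
      show P ∈ X.left.fromSpecStalk z ⁻¹ᵁ X.left.basicOpen (Coh.toGlobal X.hom π)
      rw [Scheme.preimage_basicOpen_top, Scheme.fromSpecStalk_appTop, CategoryTheory.comp_apply,
        CategoryTheory.comp_apply]
      exact (SetLike.ext_iff.1 (basicOpen_eq_of_affine (R := A) (ρ π)) P).2 hπP
    have h2 : X.hom (X.left.fromSpecStalk z P) ∈
        (Spec (CommRingCat.of R)).basicOpen ((Scheme.ΓSpecIso (CommRingCat.of R)).inv π) := by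
      rw [← Scheme.Hom.mem_preimage, Scheme.preimage_basicOpen_top]; exact h1
    rw [hP, basicOpen_eq_of_affine] at h2
    exact h2 ((mem_maximalIdeal π).2 hπ.not_isUnit)
  have hπ0 : ρ π ≠ 0 := by
    intro h0
    obtain ⟨Q, hQ⟩ : genericPoint X.left ∈ Set.range (X.left.fromSpecStalk z) :=
      Scheme.range_fromSpecStalk.ge ((genericPoint_spec X.left).specializes trivial)
    have hne : X.hom (genericPoint X.left) ≠ closedPoint R := genericPoint_ne_closedPoint
    refine hne ?_
    by_contra hh
    have hb : X.left.fromSpecStalk z Q ∈ X.left.basicOpen (Coh.toGlobal X.hom π) := by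
      show X.left.fromSpecStalk z Q ∈ X.left.basicOpen (X.hom.appTop ((Scheme.ΓSpecIso (CommRingCat.of R)).inv π))
      rw [← Scheme.preimage_basicOpen_top, Scheme.Hom.mem_preimage, basicOpen_eq_of_affine, hQ]
      intro hmem'
      refine hh (PrimeSpectrum.ext ?_)
      refine le_antisymm (IsLocalRing.le_maximalIdeal (X.hom (genericPoint X.left)).isPrime.ne_top) ?_
      show maximalIdeal R ≤ _
      rw [hπ.maximalIdeal_eq, Ideal.span_singleton_le_iff_mem]
      exact hmem'
    have hQ' : Q ∈ X.left.fromSpecStalk z ⁻¹ᵁ X.left.basicOpen (Coh.toGlobal X.hom π) := hb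
    rw [Scheme.preimage_basicOpen_top, Scheme.fromSpecStalk_appTop, CategoryTheory.comp_apply,
      CategoryTheory.comp_apply] at hQ'
    exact ((SetLike.ext_iff.1 (basicOpen_eq_of_affine (R := A) (ρ π)) Q).1 hQ') (by rw [h0]; exact Q.asIdeal.zero_mem)
  obtain ⟨P, hPp, hP0, hπP⟩ := exists_prime_notMem hA hπ0
  let p : PrimeSpectrum A := ⟨P, hPp⟩
  refine ⟨X.left.fromSpecStalk z p, Scheme.range_fromSpecStalk.le ⟨p, rfl⟩, fun hw => hP0 ?_, fun h => hπP (hmem p h)⟩
  let o : PrimeSpectrum A := ⟨⊥, Ideal.isPrime_bot⟩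
  have h1 : X.left.fromSpecStalk z o = genericPoint X.left := by
    have := ((PrimeSpectrum.le_iff_specializes o p).1 bot_le).map (X.left.fromSpecStalk z).continuous
    rw [hw] at this
    exact (this.antisymm ((genericPoint_spec X.left).specializes trivial)).eq
  exact congrArg PrimeSpectrum.asIdeal ((X.left.fromSpecStalk z).isEmbedding.injective (hw.trans h1.symm) : p = o)

/-- The closure of a horizontal point is an effective Cartier divisor. -/
theorem isEffCartier_closure {X : Over (Spec (CommRingCat.of R))} [IsIntegral X.left] [IsLocallyNoetherian X.left]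
    (hreg : ∀ x : X.left, IsRegularLocalRing (X.left.presheaf.stalk x)) (hdim : topologicalKrullDim X.left ≤ 2)
    {w z : X.left} (hwz : w ⤳ z) (hne : w ≠ z) (hw : w ≠ genericPoint X.left) :
    BlowUp.IsEffCartierIdeal (Scheme.IdealSheafData.vanishingIdeal ⟨closure {w}, isClosed_closure⟩) := by
  let D := Scheme.IdealSheafData.vanishingIdeal (⟨closure {w}, isClosed_closure⟩ : Closeds X.left)
  haveI : IsIntegral D.subscheme := VarietyLib.isIntegral_vanishingIdeal _ isIrreducible_singleton.closure
  have hgen : gen D = w := (isGenericPoint_gen D).eq (by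
    rw [Scheme.IdealSheafData.coe_support_vanishingIdeal]; exact isGenericPoint_closure)
  refine Inters29.isEffCartier_of_coheight_one hreg D ?_ (by rw [hgen]; exact hw)
  rw [hgen]
  have h1 := dim_add_one_le hwz hne
  have h2 := (CurvesLib24.stalk_dim_le_topologicalKrullDim z).trans hdim
  rw [ringKrullDim_stalk_eq_coheight] at h2
  have h2' : Order.coheight z ≤ (2 : ℕ∞) := WithBot.coe_le_coe.1 h2
  exact (ENat.add_le_add_iff_right ENat.one_ne_top).1 ((h1.trans h2').trans_eq (by norm_num))

/-- Tensor products of the modules attached to finitely many effective divisors add up degrees. -/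
theorem exists_sum_bundle {X : Scheme.{u}} : ∀ {m : ℕ} (D : Fin m → X.IdealSheafData)
    (_ : ∀ i, BlowUp.IsEffCartierIdeal (D i)),
    ∃ L : X.Modules, PicF.IsInvertible L ∧ ∀ (k : Type u) [Field k] (Y : Scheme.{u})
      [Y.Over (Spec (CommRingCat.of k))] [IsProper (Y ↘ Spec (CommRingCat.of k))] [IsIntegral Y] (j : Y ⟶ X),
      topologicalKrullDim Y ≤ 1 → (∀ i, j (genericPoint Y) ∉ ((D i).support : Set X)) →
        0 ≤ Curv2.deg k Y ((Scheme.Modules.pullback j).obj L) 1 ∧
          ((∃ i y, j y ∈ ((D i).support : Set X)) → 0 < Curv2.deg k Y ((Scheme.Modules.pullback j).obj L) 1) := by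
  intro m
  induction m with
  | zero =>
    intro D _
    refine ⟨_, isInvertible_structureModule, fun k _ Y _ _ _ j _ _ => ?_⟩
    obtain ⟨t⟩ := exists_pullStructureIso (X := X) j
    rw [CurveRR24.deg_congr k t, CurveRR24.deg_structure]
    exact ⟨le_rfl, fun ⟨i, _⟩ => i.elim0⟩
  | succ m ih =>
    intro D hD
    obtain ⟨L', hL', hdeg⟩ := ih (fun i => D i.castSucc) fun i => hD _
    have hI := FlatMor12.IdealModGen.isInvertible_idealMod _ (hD (Fin.last m))
    obtain ⟨M, ⟨tM⟩⟩ := VarietyLib.exists_isInverseOf hI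
    have hM : PicF.IsInvertible M :=
      PicM.isInvertible_of_tensor hI (glocus_isInvertible_of_iso tM.symm isInvertible_structureModule)
    refine ⟨_, isInvertible_tensorMod hL' hM, fun k _ Y _ _ _ j hY hgen => ?_⟩
    obtain ⟨t⟩ := exists_pullTensorIso j hL' hM
    rw [CurveRR24.deg_congr k t, CurveRR24.deg_tensor k hY (PicLoc.isInvertible_pullback j hL')
      (PicLoc.isInvertible_pullback j hM)]
    have hval := Inters29.curveDeg_inverse_eq k hY j (D (Fin.last m)) (hD _) (hgen _) (L := M) ⟨tensorComm _ _ ≪≫ tM⟩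
    rw [Inters29.curveDeg_eq_deg k hY (PicLoc.isInvertible_pullback j hM)] at hval
    obtain ⟨h1, h2⟩ := hdeg k Y j hY fun i => hgen _
    rw [hval]
    refine ⟨add_nonneg h1 (Int.natCast_nonneg _), fun ⟨i, y, hy⟩ => ?_⟩
    induction i using Fin.lastCases with
    | last =>
      refine add_pos_of_nonneg_of_pos h1 (Int.natCast_pos.2 (Nat.pos_of_ne_zero fun h0 => ?_))
      have h3 := Inters29.support_eq_empty_of_finrank k _ h0
      rw [Scheme.IdealSheafData.support_comap] at h3
      exact (Set.eq_empty_iff_forall_notMem.1 h3 y) hy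
    | cast i => exact add_pos_of_pos_of_nonneg (h2 ⟨i, y, hy⟩) (Int.natCast_nonneg _)

/-- A regular surface, proper and flat over a discrete valuation ring, has an ample invertible module. -/
theorem exists_isAmple_of_regular {X : Over (Spec (CommRingCat.of R))} [IsIntegral X.left] [IsProper X.hom]
    [Flat X.hom] (hreg : ∀ x : X.left, IsRegularLocalRing (X.left.presheaf.stalk x))
    (hdim : topologicalKrullDim X.left = 2) : ∃ L : X.left.Modules, CohB1.IsAmple L := by
  classical
  haveI : IsLocallyNoetherian X.left := LocallyOfFiniteType.isLocallyNoetherian X.hom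
  obtain ⟨n, Γ, hΓ⟩ := Inters29.exists_componentList R (X := X) hdim
  have hη : X.hom (genericPoint X.left) ≠ closedPoint R := genericPoint_ne_closedPoint
  let gp := fun i => (Γ i).ι (genericPoint (Γ i).curve.left)
  have hgpη : ∀ i, gp i ≠ genericPoint X.left := fun i => Inters29.gen_ne_genericPoint R (Γ i)
  -- a closed point and a horizontal point on each component
  have hpts : ∀ i, ∃ z : X.left, ∃ w : X.left, gp i ⤳ z ∧ gp i ≠ z ∧ X.hom z = closedPoint R ∧
      w ⤳ z ∧ w ≠ genericPoint X.left ∧ X.hom w ≠ closedPoint R := fun i => by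
    obtain ⟨y, hy⟩ := Inters29.exists_ne_genericPoint R (Γ i)
    have hs : gp i ⤳ (Γ i).ι y := ((genericPoint_spec _).specializes trivial).map (Γ i).ι.continuous
    have hne : gp i ≠ (Γ i).ι y := (Γ i).ι.isClosedEmbedding.injective.ne hy.symm
    obtain ⟨w, h1, h2, h3⟩ := exists_horizontal hreg hdim.le hs hne (hgpη i)
    exact ⟨_, w, hs, hne, Inters29.hom_ι_eq R (Γ i) y, h1, h2, h3⟩
  choose z w hgz hgzne hzs hwz hwη hws using hpts
  have hwzne : ∀ i, w i ≠ z i := fun i h => hws i (h ▸ hzs i)
  let D := fun i => Scheme.IdealSheafData.vanishingIdeal (⟨closure {w i}, isClosed_closure⟩ : Closeds X.left)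
  have hD : ∀ i, BlowUp.IsEffCartierIdeal (D i) := fun i =>
    isEffCartier_closure hreg hdim.le (hwz i) (hwzne i) (hwη i)
  have hsupp : ∀ i, ((D i).support : Set X.left) = closure {w i} := fun i =>
    Scheme.IdealSheafData.coe_support_vanishingIdeal _
  obtain ⟨L, hL, hdeg⟩ := exists_sum_bundle D hD
  refine ⟨L, Lipman24.isAmple_of_isRelAmple_affine (f := X.hom) ((S12128.result X.hom L hL).2 fun s => ?_)⟩
  let k := (Spec (CommRingCat.of R)).residueField s
  letI : (X.hom.fiber s).Over (Spec (CommRingCat.of k)) := ⟨X.hom.fiberToSpecResidueField s⟩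
  haveI : IsProper ((X.hom.fiber s) ↘ Spec (CommRingCat.of k)) :=
    inferInstanceAs (IsProper (Limits.pullback.snd X.hom ((Spec (CommRingCat.of R)).fromSpecResidueField s)))
  let ιs := X.hom.fiberι s
  refine (VarietyLib.isAmple_iff_deg_pos_components k
    (topologicalKrullDim_fiber_le_one X.hom hdim.le hη s) (PicLoc.isInvertible_pullback ιs hL)).2 fun Z hZ hZ1 => ?_
  let I := Scheme.IdealSheafData.vanishingIdeal Z
  haveI : IsIntegral I.subscheme := VarietyLib.isIntegral_vanishingIdeal Z hZ.1
  letI : I.subscheme.Over (Spec (CommRingCat.of k)) :=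
    ⟨I.subschemeι ≫ ((X.hom.fiber s) ↘ Spec (CommRingCat.of k))⟩
  haveI : IsProper (I.subscheme ↘ Spec (CommRingCat.of k)) :=
    inferInstanceAs (IsProper (I.subschemeι ≫ ((X.hom.fiber s) ↘ Spec (CommRingCat.of k))))
  have hdimI : topologicalKrullDim I.subscheme = 1 := (VarietyLib.topologicalKrullDim_vanishingIdeal Z).trans hZ1
  let j : I.subscheme ⟶ X.left := I.subschemeι ≫ ιs
  let p := I.subschemeι (genericPoint I.subscheme)
  -- a second point on the component
  obtain ⟨a, b, hab⟩ := exists_ne_of_dim_one hdimI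
  obtain ⟨y₀, hy₀⟩ : ∃ y₀, y₀ ≠ genericPoint I.subscheme := by
    by_cases h : a = genericPoint I.subscheme
    · exact ⟨b, fun h' => hab (h.trans h'.symm)⟩
    · exact ⟨a, h⟩
  have hjinj : Function.Injective j := fun u v h => I.subschemeι.isEmbedding.injective (ιs.isEmbedding.injective
    (by rw [← Scheme.Hom.comp_apply, ← Scheme.Hom.comp_apply]; exact h))
  have hp10 : j (genericPoint I.subscheme) ⤳ j y₀ := ((genericPoint_spec _).specializes trivial).map j.continuous
  have hp10ne : j (genericPoint I.subscheme) ≠ j y₀ := fun h => hy₀ (hjinj h).symm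
  have hjs : ∀ v, X.hom (j v) = s := fun v => by
    have h : j v ∈ Set.range ιs := ⟨I.subschemeι v, (Scheme.Hom.comp_apply _ _ v).symm⟩
    rw [Scheme.Hom.range_fiberι] at h
    exact h
  -- points of the fibre specialised to from the generic point lie on the component
  have honto : ∀ q, j (genericPoint I.subscheme) ⤳ q → X.hom q = s → ∃ v, j v = q := by
    intro q hq hqs
    obtain ⟨q', rfl⟩ : q ∈ Set.range ιs := by rw [Scheme.Hom.range_fiberι]; exact hqs
    have hsp : p ⤳ q' := ιs.isEmbedding.isInducing.specializes_iff.1 (by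
      rw [show ιs p = j (genericPoint I.subscheme) from (Scheme.Hom.comp_apply _ _ _).symm]; exact hq)
    have hq' : q' ∈ Set.range I.subschemeι := hsp.mem_closed I.subschemeι.isClosedEmbedding.isClosed_range ⟨_, rfl⟩
    obtain ⟨v, rfl⟩ := hq'
    exact ⟨v, Scheme.Hom.comp_apply _ _ v⟩
  -- no divisor contains the component
  have hgen : ∀ i, j (genericPoint I.subscheme) ∉ ((D i).support : Set X.left) := by
    intro i hi
    rw [hsupp, ← specializes_iff_mem_closure] at hi
    have h := hws i
    by_cases he : w i = j (genericPoint I.subscheme)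
    · by_cases hs : s = closedPoint R
      · exact h (by rw [he, hjs, hs])
      · have hc : IsClosed ({j y₀} : Set X.left) :=
          isClosed_of_specializes_dim_two hdim.le hp10 hp10ne (he ▸ hwη i)
        have hc' := X.hom.isClosedMap _ hc
        rw [Set.image_singleton] at hc'
        exact hs ((hjs y₀).symm.trans ((IsLocalRing.specializes_closedPoint (X.hom (j y₀))).mem_closed hc' rfl).symm)
    · exact hp10ne (hp10.mem_closed (isClosed_of_specializes_dim_two hdim.le hi he (hwη i)) rfl).symm
  have hpull : Curv2.deg k I.subscheme ((Scheme.Modules.pullback I.subschemeι).obj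
      ((Scheme.Modules.pullback ιs).obj L)) 1 = Curv2.deg k I.subscheme ((Scheme.Modules.pullback j).obj L) 1 :=
    CurveRR24.deg_congr k ((Scheme.Modules.pullbackComp I.subschemeι ιs).app L) 1
  show 0 < Curv2.deg k I.subscheme _ 1
  rw [hpull]
  refine (hdeg k I.subscheme j hdimI.le hgen).2 ?_
  by_cases hs : s = closedPoint R
  · -- a component of the closed fibre
    obtain ⟨i, hi⟩ := Inters29.exists_genPt_specializes R Γ hΓ
      (show j (genericPoint I.subscheme) ∈ Models.specialFibreSet R X from (hjs _).trans hs)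
    have he : gp i = j (genericPoint I.subscheme) := by
      by_contra he
      exact hp10ne (hp10.mem_closed (isClosed_of_specializes_dim_two hdim.le hi he (hgpη i)) rfl).symm
    obtain ⟨v, hv⟩ := honto (z i) (he ▸ hgz i) ((hzs i).trans hs.symm)
    exact ⟨i, v, by rw [hv, hsupp]; exact (hwz i).mem_closure⟩
  · -- the generic fibre
    have hgenη : j (genericPoint I.subscheme) = genericPoint X.left := by
      by_contra hne
      have hc := isClosed_of_specializes_dim_two hdim.le hp10 hp10ne hne
      have hc' := X.hom.isClosedMap _ hc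
      rw [Set.image_singleton] at hc'
      exact hs ((hjs y₀).symm.trans ((IsLocalRing.specializes_closedPoint (X.hom (j y₀))).mem_closed hc' rfl).symm)
    obtain ⟨y, hy⟩ : ∃ y : X.left, X.hom y = closedPoint R := by
      have hc := X.hom.isClosedMap _ isClosed_univ
      obtain ⟨y, -, hy⟩ := (IsLocalRing.specializes_closedPoint (X.hom (genericPoint X.left))).mem_closed hc
        ⟨_, trivial, rfl⟩
      exact ⟨y, hy⟩
    obtain ⟨i, -⟩ := Inters29.exists_genPt_specializes R Γ hΓ (show y ∈ Models.specialFibreSet R X from hy)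
    have hsw : X.hom (w i) = s := by
      rw [← hjs (genericPoint I.subscheme), hgenη]
      have hbot : ∀ q : ↥(Spec (CommRingCat.of R)), q ≠ closedPoint R → q.asIdeal = ⊥ := fun q hq => by
        by_contra h0
        exact hq (PrimeSpectrum.ext (IsLocalRing.eq_maximalIdeal (q.isPrime.isMaximal h0)))
      exact PrimeSpectrum.ext ((hbot _ (hws i)).trans (hbot _ hη).symm)
    obtain ⟨v, hv⟩ := honto (w i) (hgenη ▸ (genericPoint_spec X.left).specializes trivial) hsw
    exact ⟨i, v, by rw [hv, hsupp]; exact subset_closure rfl⟩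

/-- A regular surface, proper and flat over a discrete valuation ring, is projective. -/
theorem isProjectiveOver_of_regular {X : Over (Spec (CommRingCat.of R))} [IsIntegral X.left] [IsProper X.hom]
    [Flat X.hom] (hreg : ∀ x : X.left, IsRegularLocalRing (X.left.presheaf.stalk x))
    (hdim : topologicalKrullDim X.left = 2) : Neron.IsProjectiveOver R X := by
  obtain ⟨L, hL⟩ := exists_isAmple_of_regular hreg hdim
  haveI := isLocallyNoetherian_Spec (R := CommRingCat.of R)
  obtain ⟨n₀, hn₀⟩ := MorProj.eventually_isRelVeryAmplePn_pow X.hom hL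
  obtain ⟨m, i, hi, hiw, -⟩ := hn₀ (n₀ + 1) (Nat.le_succ _)
  haveI := hi
  haveI : IsSeparated (CohB1.ProjSpaceOver.toBase m (Spec (CommRingCat.of R))) :=
    CAlgSmall.ProjMore.isSeparated_toBase m _
  haveI : IsProper (i ≫ CohB1.ProjSpaceOver.toBase m (Spec (CommRingCat.of R))) := by
    rw [show i ≫ CohB1.ProjSpaceOver.toBase m _ = X.hom from hiw]; infer_instance
  haveI : IsProper i := IsProper.of_comp i (CohB1.ProjSpaceOver.toBase m (Spec (CommRingCat.of R)))
  exact ⟨m, i, (IsClosedImmersion.iff_isProper_and_mono i).2 ⟨inferInstance, inferInstance⟩, hiw⟩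

end Groth.Agent.Models7
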