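import Groth.Agent.Models7.ContractP1
import Groth.Agent.Models7.ModelAmple
import Groth.Agent.Models7.Castelnuovo
import Groth.Agent.Inters29.Family
import Groth.Agent.Clifford24.Lipman.VeryAmple
import Groth.Agent.CubeLib.Deform
import Groth.Prelude.Def_ArSurf

/-!
# Artin's contractibility criterion
-/

set_option autoImplicit false
set_option linter.style.haveILetI false
set_option backward.isDefEq.respectTransparency.types false
set_option maxHeartbeats 2000000

universe u

open CategoryTheory CategoryTheory.Limits AlgebraicGeometry TopologicalSpace Opposite IsLocalRing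
open Groth.Agent.Coherent Groth.Agent.PicLib Groth.Agent.AmpleLib Groth.Agent.EulerLib
open scoped Matrix

namespace Groth.Agent.Models7

/-- A positive integral vector against which a negative definite matrix with nonnegative off-diagonal
entries gives a given negative vector, up to a factor. -/
theorem exists_pos_coeff {r : ℕ} (A : Matrix (Fin r) (Fin r) ℤ) (hoff : ∀ i j, i ≠ j → 0 ≤ A i j)
    (hneg : ∀ v : Fin r → ℤ, v ≠ 0 → ∑ q : Fin r × Fin r, v q.1 * v q.2 * A q.1 q.2 < 0)
    (d : Fin r → ℤ) (hd : ∀ i, 0 < d i) :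
    ∃ (a : Fin r → ℕ) (s : ℕ), 0 < s ∧ (∀ i, 0 < a i) ∧ ∀ i, ∑ j, (a j : ℤ) * A i j = -((s : ℤ) * d i) := by
  classical
  have hq : ∀ v : Fin r → ℤ, ∑ q : Fin r × Fin r, v q.1 * v q.2 * A q.1 q.2 = ∑ i, v i * ∑ j, v j * A i j :=
    fun v => by
      rw [Fintype.sum_prod_type]
      exact Finset.sum_congr rfl fun i _ => by
        rw [Finset.mul_sum]
        exact Finset.sum_congr rfl fun j _ => mul_assoc _ _ _
  have hdet : A.det ≠ 0 := by
    intro h0
    obtain ⟨v, hv, hAv⟩ := Matrix.exists_mulVec_eq_zero_iff.2 h0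
    have h := hneg v hv
    rw [hq] at h
    refine h.ne (Finset.sum_eq_zero fun i _ => ?_)
    have hi : ∑ j, A i j * v j = 0 := congrFun hAv i
    rw [Finset.sum_congr rfl fun j _ => mul_comm (v j) (A i j), hi, mul_zero]
  let D := A.det
  let b : Fin r → ℤ := -(D • (A.adjugate *ᵥ d))
  have hb : ∀ i, ∑ j, b j * A i j = -(D ^ 2 * d i) := by
    have h : A *ᵥ b = -((D ^ 2) • d) := by
      show A *ᵥ (-(D • (A.adjugate *ᵥ d))) = _
      rw [Matrix.mulVec_neg, Matrix.mulVec_smul, Matrix.mulVec_mulVec, Matrix.mul_adjugate, Matrix.smul_mulVec,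
        Matrix.one_mulVec, smul_smul, ← sq]
    intro i
    have hi : ∑ j, A i j * b j = -(D ^ 2 * d i) := by simpa [Matrix.mulVec, dotProduct] using congrFun h i
    rw [← hi]
    exact Finset.sum_congr rfl fun j _ => mul_comm _ _
  have hD2 : 0 < D ^ 2 := by positivity
  let n : Fin r → ℤ := fun i => max (-b i) 0
  have hn : n = 0 := by
    by_contra hne
    have h1 : 0 ≤ ∑ i, n i * ∑ j, (b j + n j) * A i j := by
      refine Finset.sum_nonneg fun i _ => ?_
      rw [Finset.mul_sum]
      refine Finset.sum_nonneg fun j _ => ?_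
      rcases eq_or_ne i j with rfl | hij
      · rcases le_total (-b i) 0 with h | h
        · simp [n, max_eq_right h]
        · simp [n, max_eq_left h]
      · refine mul_nonneg (le_max_right _ _) (mul_nonneg ?_ (hoff i j hij))
        have := le_max_left (-b j) 0
        show 0 ≤ b j + max (-b j) 0
        omega
    have h2 := hneg n hne
    rw [hq] at h2
    have h3 : ∑ i, n i * ∑ j, b j * A i j ≤ 0 := by
      refine Finset.sum_nonpos fun i _ => ?_
      rw [hb i, mul_neg]
      exact neg_nonpos.2 (mul_nonneg (le_max_right _ _) (mul_nonneg hD2.le (hd i).le))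
    have h4 : ∑ i, n i * ∑ j, (b j + n j) * A i j =
        (∑ i, n i * ∑ j, b j * A i j) + ∑ i, n i * ∑ j, n j * A i j := by
      rw [← Finset.sum_add_distrib]
      refine Finset.sum_congr rfl fun i _ => ?_
      rw [← mul_add, ← Finset.sum_add_distrib]
      exact congrArg _ (Finset.sum_congr rfl fun j _ => add_mul _ _ _)
    omega
  have hb0 : ∀ i, 0 ≤ b i := fun i => by
    have h : max (-b i) 0 = 0 := congrFun hn i
    have := le_max_left (-b i) 0
    omega
  have hbpos : ∀ i, 0 < b i := fun i => by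
    rcases (hb0 i).lt_or_eq with h | h
    · exact h
    exfalso
    have h1 : 0 ≤ ∑ j, b j * A i j := Finset.sum_nonneg fun j _ => by
      rcases eq_or_ne i j with rfl | hij
      · rw [← h, zero_mul]
      · exact mul_nonneg (hb0 j) (hoff i j hij)
    rw [hb i] at h1
    have := mul_pos hD2 (hd i)
    omega
  refine ⟨fun i => (b i).toNat, (D ^ 2).toNat, by omega, fun i => by
    have := hbpos i
    show 0 < (b i).toNat
    omega, fun i => ?_⟩
  rw [Int.toNat_of_nonneg hD2.le, ← hb i]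
  exact Finset.sum_congr rfl fun j _ => by rw [Int.toNat_of_nonneg (hb0 j)]

variable {R : Type u} [CommRing R] [IsDomain R] [IsDiscreteValuationRing R]
variable {X : Over (Spec (CommRingCat.of R))}

theorem mem_support_prod {Y : Scheme.{u}} {ι : Type*} (t : Finset ι) (I : ι → Y.IdealSheafData) {y : Y} :
    y ∈ ((∏ j ∈ t, I j).support : Set Y) ↔ ∃ j ∈ t, y ∈ ((I j).support : Set Y) := by
  classical
  induction t using Finset.induction_on with
  | empty => simp [Scheme.IdealSheafData.one_eq_top]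
  | insert a t ha ih =>
    rw [Finset.prod_insert ha, Scheme.IdealSheafData.support_mul]
    simp only [Finset.exists_mem_insert, ← ih]
    rfl

/-- An invertible module with sections generating it and a twist of it near some curves. -/
theorem exists_artin_bundle (hX : ArSurf.IsArithSurface R X)
    {r : ℕ} (Γ : Fin r → ArSurf.VertComp R X)
    (hΓ : Function.Injective fun i => Set.range ((Γ i).ι.base : (Γ i).curve.left → X.left))
    (L : Fin r → X.left.Modules) (hL : ∀ j, ClSub.IsInverseOf (L j) (ClSub.idealMod (Γ j).ι.ker))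
    (hneg : ∀ a : Fin r → ℤ, a ≠ 0 →
      (Finset.univ : Finset (Fin r × Fin r)).sum (fun p => a p.1 * a p.2 * ArSurf.inter R X (L p.2) (Γ p.1)) < 0)
    (hpic : ∀ (Z : Scheme.{u}) (z : Z ⟶ X.left) [IsClosedImmersion z], BlowUp.IsEffCartierIdeal z.ker →
      Nonempty Z → Set.range z.base ⊆ (⋃ i, Set.range (Γ i).ι.base) →
      ∀ N : Z.Modules, PicF.IsInvertible N →
        (∀ (i : Fin r) (g : (Γ i).curve.left ⟶ Z), g ≫ z = (Γ i).ι →
          ArSurf.curveDeg (IsLocalRing.ResidueField R) (Γ i).curve.left ((Scheme.Modules.pullback g).obj N) = 0) →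
        Nonempty (N ≅ Coh.structureModule Z))
    (M : X.left.Modules) (hM : PicF.IsInvertible M) (hM0 : ∀ i, ArSurf.inter R X M (Γ i) = 0) :
    ∃ (N : X.left.Modules), PicF.IsInvertible N ∧
      (∃ (t : Γ(N, ⊤)) (s : Γ(CohB1.tensorMod M N, ⊤)),
        (⋃ i, Set.range (Γ i).ι.base) ⊆ (glocus N t : Set X.left) ∧
        (⋃ i, Set.range (Γ i).ι.base) ⊆ (glocus (CohB1.tensorMod M N) s : Set X.left)) ∧
      ∀ x ∉ ⋃ i, Set.range (Γ i).ι.base, ∃ u : Γ(N, ⊤), x ∈ glocus N u ∧ IsAffineOpen (glocus N u) ∧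
        Disjoint (glocus N u : Set X.left) (⋃ i, Set.range (Γ i).ι.base) := by
  classical
  obtain ⟨hreg, hint, hdim, hflat, hproj⟩ := hX
  haveI := hint
  haveI := hflat
  haveI : IsProper X.hom := Inters29.isProper_of_isArithSurface R ⟨hreg, hint, hdim, hflat, hproj⟩
  haveI : IsLocallyNoetherian X.left := LocallyOfFiniteType.isLocallyNoetherian X.hom
  haveI : CompactSpace X.left := QuasiCompact.compactSpace_of_compactSpace X.hom
  let k := ResidueField R
  haveI : ∀ i, IsProper (Γ i).curve.hom := fun i => Inters29.isProper_curve R (Γ i)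
  obtain ⟨H, hH⟩ := exists_isAmple_of_isProjectiveOver (X := X) hproj
  have hHi := hH.1
  have hη : X.hom (genericPoint X.left) ≠ closedPoint R := by
    rw [Inters29.hom_genericPoint R (genericPoint X.left)]; exact Inters29.bot_ne_closedPoint R
  have hfib : ∀ z, topologicalKrullDim ↥(X.hom.fiber z) ≤ 1 :=
    topologicalKrullDim_fiber_le_one X.hom hdim.le hη
  let _ : X.left.Over (Spec (CommRingCat.of R)) := ⟨X.hom⟩
  haveI : IsProper (X.left ↘ Spec (CommRingCat.of R)) := ‹IsProper X.hom›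
  have hv : Lipman24.NoH2 X.left := fun F hF => by
    haveI := hF
    exact H8Lim.subsingleton_HH_of_fibre_dim X.hom 1 (fun y => by exact_mod_cast hfib y) F 2 (by omega)
  -- the coefficients
  have hec : ∀ j, BlowUp.IsEffCartierIdeal (Γ j).ι.ker := fun j => Inters29.isEffCartier_comp R hreg hdim.le (Γ j)
  let A : Matrix (Fin r) (Fin r) ℤ := Matrix.of fun i j => ArSurf.inter R X (L j) (Γ i)
  have hoff : ∀ i j, i ≠ j → 0 ≤ A i j := fun i j hij => by
    show 0 ≤ ArSurf.inter R X (L j) (Γ i)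
    rw [Inters29.inter_eq_lengthH R (Γ i) _ (hec j)
      (Inters29.genericPoint_notMem R (Γ i) (Γ j) hreg hdim.le fun h => hij (hΓ h)) (L j) (hL j)]
    exact Nat.cast_nonneg _
  have hd : ∀ i, 0 < ArSurf.inter R X H (Γ i) := fun i => by
    let C := (Γ i).curve.left
    letI : C.Over (Spec (CommRingCat.of k)) := ⟨(Γ i).curve.hom⟩
    haveI : IsProper (C ↘ Spec (CommRingCat.of k)) := inferInstanceAs (IsProper (Γ i).curve.hom)
    haveI : CompactSpace C := QuasiCompact.compactSpace_of_compactSpace (Γ i).curve.hom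
    show 0 < ArSurf.curveDeg k C _
    rw [Inters29.curveDeg_eq_deg k (Γ i).dim_eq.le (PicLoc.isInvertible_pullback (Γ i).ι hHi)]
    exact Lipman24.deg_pos_of_isAmple k (Γ i).ι (Γ i).dim_eq hH
  obtain ⟨a, s, hs, ha, has⟩ := exists_pos_coeff A hoff hneg (fun i => ArSurf.inter R X H (Γ i)) hd
  -- a power of the ample module and the divisor
  obtain ⟨n₀, hn₀⟩ := Coherent.Serre.exists_subsingleton_HH_twist R hH _ (isCoh_structureModule X.left)
  obtain ⟨n₁, hn₁⟩ := eventually_globallyGenerated hH _ (isCoh_structureModule X.left)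
  obtain ⟨n₂, hn₂⟩ := Coherent.Serre.exists_subsingleton_HH_twist R hH M (PicLib.isCoh_of_isInvertible hM)
  let m := n₀ + n₁ + n₂ + 1
  let N₀ := m * s
  have hmN : m ≤ N₀ := Nat.le_mul_of_pos_right _ hs
  have hgg : Curv2.IsGloballyGenerated (CohB1.tensorPow H N₀) :=
    globallyGenerated_of_iso (unitTensorIso _) (hn₁ N₀ (by omega))
  let H' := CohB1.tensorPow H N₀
  have hH' : PicF.IsInvertible H' := isInvertible_tensorPow hHi _
  let I : X.left.IdealSheafData := ∏ j, (Γ j).ι.ker ^ (m * a j)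
  have hI : BlowUp.IsEffCartierIdeal I :=
    Inters29.isEffCartier_prod _ _ fun j => Inters29.isEffCartier_pow (hec j) _
  have hIi : PicF.IsInvertible (ClSub.idealMod I) := FlatMor12.IdealModGen.isInvertible_idealMod I hI
  obtain ⟨LE, ⟨tI⟩⟩ := VarietyLib.exists_isInverseOf hIi
  have hLE : PicF.IsInvertible LE :=
    PicM.isInvertible_of_tensor hIi (glocus_isInvertible_of_iso tI.symm isInvertible_structureModule)
  have hinv : ClSub.IsInverseOf LE (ClSub.idealMod I) := ⟨tensorComm _ _ ≪≫ tI⟩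
  have hsupp : (I.support : Set X.left) = ⋃ i, Set.range (Γ i).ι.base := by
    ext x
    refine (mem_support_prod _ _).trans ?_
    simp only [Finset.mem_univ, true_and, Set.mem_iUnion]
    refine exists_congr fun j => ?_
    rw [Scheme.IdealSheafData.support_pow _ _ (Nat.mul_pos (by omega) (ha j)).ne', Inters29.support_ker_eq]
  have hLEd : ∀ i, ArSurf.inter R X LE (Γ i) = ∑ j, ((m * a j : ℕ) : ℤ) * A i j := fun i => by
    rw [Inters29.inter_inverse R (Γ i) hI hinv,
      Inters29.idealCl_prod _ _ fun j => Inters29.isEffCartier_pow (hec j) _, Inters29.intCl_prod,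
      ← Finset.sum_neg_distrib]
    refine Finset.sum_congr rfl fun j _ => ?_
    rw [Inters29.idealCl_pow (hec j), Inters29.intCl_pow, ← mul_neg, ← Inters29.inter_inverse R (Γ i) (hec j) (hL j)]
    rfl
  let N := CohB1.tensorMod H' LE
  have hN : PicF.IsInvertible N := isInvertible_tensorMod hH' hLE
  have hN0 : ∀ i, ArSurf.inter R X N (Γ i) = 0 := fun i => by
    rw [Inters29.inter_tensor R (Γ i) hH' hLE, hLEd, ← Inters29.intCl_of R (Γ i) hH', PicM.of_tensorPow hHi,
      Inters29.intCl_pow, Inters29.intCl_of]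
    have h := has i
    have e : ∑ j, ((m * a j : ℕ) : ℤ) * A i j = (m : ℤ) * ∑ j, (a j : ℤ) * A i j := by
      rw [Finset.mul_sum]
      exact Finset.sum_congr rfl fun j _ => by push_cast; ring
    rw [e, h]
    show ((m * s : ℕ) : ℤ) * _ + _ = 0
    push_cast; ring
  -- sections
  let ι := I.subschemeι
  have hrange : Set.range ι.base = ⋃ i, Set.range (Γ i).ι.base := by rw [← hsupp]; exact I.range_subschemeι
  have hsec : ∀ {P : X.left.Modules} (_ : PicF.IsInvertible P), (∀ i, ArSurf.inter R X P (Γ i) = 0) →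
      Subsingleton (Coh.HH X.left (CohB1.tensorMod (ClSub.idealMod I) P) 1) →
      ∃ t : Γ(P, ⊤), (⋃ i, Set.range (Γ i).ι.base) ⊆ (glocus P t : Set X.left) := by
    intro P hP hP0 hP1
    rcases isEmpty_or_nonempty I.subscheme with hZ | hZ
    · refine ⟨0, ?_⟩
      rw [← hrange]
      rintro _ ⟨z, rfl⟩
      exact isEmptyElim z
    obtain ⟨e⟩ := hpic I.subscheme ι (by rw [Scheme.IdealSheafData.ker_subschemeι]; exact hI) hZ hrange.le
      ((Scheme.Modules.pullback ι).obj P) (PicLoc.isInvertible_pullback ι hP) fun i g hg => by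
        have h := hP0 i
        letI : (Γ i).curve.left.Over (Spec (CommRingCat.of k)) := ⟨(Γ i).curve.hom⟩
        have e' : (Scheme.Modules.pullback g).obj ((Scheme.Modules.pullback ι).obj P) ≅
            (Scheme.Modules.pullback (Γ i).ι).obj P :=
          (Scheme.Modules.pullbackComp g ι).app P ≪≫ (Scheme.Modules.pullbackCongr hg).app P
        have hk := fun q => CurveRR24.finrank_HH_congr k e' q
        refine Eq.trans ?_ h
        simp only [ArSurf.inter, ArSurf.curveDeg, FGA.eulerCharLE]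
        congr 1
        exact Finset.sum_congr rfl fun q _ => by rw [hk q]
    obtain ⟨t, ht⟩ := Lipman24.surjective_pullSec_of_H1 ι
      (Lipman24.subsingleton_H1_kernel_clUnit I hv hP hP1) (e.inv.app ⊤ (oneSec ⊤))
    have htop : ι ⁻¹ᵁ glocus P t = ⊤ := by
      rw [← glocus_pullSec ι hP, ht]
      exact (glocus_map_iso e.symm (oneSec ⊤)).trans glocus_oneSec
    refine ⟨t, ?_⟩
    rw [← hrange]
    rintro _ ⟨z, rfl⟩
    exact htop.ge (Set.mem_univ z)
  have hq : ∀ {P : X.left.Modules}, PicF.IsInvertible P → Coh.IsQCoh P := fun h => isQCoh_of_isInvertible h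
  have hcl : Inters29.idealCl I hI * PicM.of hLE = 1 := by
    rw [Inters29.idealCl, PicM.of_mul, PicM.of_eq_one_iff]; exact ⟨tI⟩
  have hMN : PicF.IsInvertible (CohB1.tensorMod M N) := isInvertible_tensorMod hM hN
  have hMH : PicF.IsInvertible (CohB1.tensorMod M H') := isInvertible_tensorMod hM hH'
  obtain ⟨i₁⟩ : Nonempty (CohB1.tensorMod (ClSub.idealMod I) N ≅
      CohB1.tensorMod (Coh.structureModule X.left) H') := by
    refine (PicM.of_eq_iff (isInvertible_tensorMod hIi hN)
      (isInvertible_tensorMod isInvertible_structureModule hH')).1 ?_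
    rw [← PicM.of_mul hIi hN, ← PicM.of_mul hH' hLE, ← PicM.of_mul isInvertible_structureModule hH',
      PicM.of_structureModule, one_mul, mul_left_comm, show PicM.of hIi * PicM.of hLE = 1 from hcl, mul_one]
  obtain ⟨i₂⟩ : Nonempty (CohB1.tensorMod (ClSub.idealMod I) (CohB1.tensorMod M N) ≅ CohB1.tensorMod M H') := by
    refine (PicM.of_eq_iff (isInvertible_tensorMod hIi hMN) hMH).1 ?_
    rw [← PicM.of_mul hIi hMN, ← PicM.of_mul hM hN, ← PicM.of_mul hH' hLE, ← PicM.of_mul hM hH',
      mul_left_comm (PicM.of hIi), mul_left_comm (PicM.of hIi) (PicM.of hH'),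
      show PicM.of hIi * PicM.of hLE = 1 from hcl, mul_one]
  obtain ⟨t, ht⟩ := hsec hN hN0 (Lipman24.subsingleton_H1_of_epi hv
    (hq (isInvertible_tensorMod isInvertible_structureModule hH')) (hq (isInvertible_tensorMod hIi hN)) i₁.inv
    (hn₀ N₀ (by omega) 1 one_pos))
  obtain ⟨s', hs'⟩ := hsec hMN (fun i => by rw [Inters29.inter_tensor R (Γ i) hM hN, hM0, hN0, add_zero])
    (Lipman24.subsingleton_H1_of_epi hv (hq hMH) (hq (isInvertible_tensorMod hIi hMN)) i₂.inv
      (hn₂ N₀ (by omega) 1 one_pos))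
  refine ⟨N, hN, ⟨t, s', ht, hs'⟩, fun x hx => ?_⟩
  obtain ⟨u, hu⟩ := AbCubeLib.exists_section_of_effCartier I hI hLE hinv
  obtain ⟨t₀, ht₀⟩ := Desc19b.exists_mem_glocus_of_gg hH' hgg x
  have hg : glocus N (tmul t₀ u) = glocus H' t₀ ⊓ glocus LE u := glocus_tmul hH' hLE _ _
  rw [hsupp] at hu
  refine ⟨tmul t₀ u, ?_, ?_, ?_⟩
  · rw [hg]; exact ⟨ht₀, (hu ▸ hx : x ∈ (glocus LE u : Set X.left))⟩
  · rw [hg, inf_comm]
    exact isAffineOpen_glocus_inf hLE u
      (MorProj.isAffineOpen_glocus_of_universallyClosed X.hom ((isAmple_pow_iff hHi N₀ (by omega)).2 hH) t₀)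
  · rw [hg, Opens.coe_inf, hu]
    exact Set.disjoint_left.2 fun z hz hz' => hz.2 hz'

/-- An invertible module with a section generating it on an open is trivial there. -/
theorem pull_eq_one_of_le_glocus {Y : Scheme.{u}} {W : Y.Opens} {P : Y.Modules} (hP : PicF.IsInvertible P)
    (t : Γ(P, ⊤)) (h : W ≤ glocus P t) : PicM.pull W.ι (PicM.of hP) = 1 := by
  rw [PicM.pull_of]
  refine CubeLib.eq_one_of_isGen_top _ (t := pullSec W.ι t) ?_
  have htop : glocus ((Scheme.Modules.pullback W.ι).obj P) (pullSec W.ι t) = ⊤ := by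
    rw [glocus_pullSec W.ι hP]
    exact top_le_iff.1 fun z _ => h z.2
  have := (le_glocus_iff (pullSec W.ι t) ⊤).1 htop.ge
  rwa [resM_self] at this

/-- A module of degree zero is trivial near contractible curves. -/
theorem artin_trivial_near (hX : ArSurf.IsArithSurface R X)
    {r : ℕ} (Γ : Fin r → ArSurf.VertComp R X)
    (hΓ : Function.Injective fun i => Set.range ((Γ i).ι.base : (Γ i).curve.left → X.left))
    (L : Fin r → X.left.Modules) (hL : ∀ j, ClSub.IsInverseOf (L j) (ClSub.idealMod (Γ j).ι.ker))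
    (hneg : ∀ a : Fin r → ℤ, a ≠ 0 →
      (Finset.univ : Finset (Fin r × Fin r)).sum (fun p => a p.1 * a p.2 * ArSurf.inter R X (L p.2) (Γ p.1)) < 0)
    (hpic : ∀ (Z : Scheme.{u}) (z : Z ⟶ X.left) [IsClosedImmersion z], BlowUp.IsEffCartierIdeal z.ker →
      Nonempty Z → Set.range z.base ⊆ (⋃ i, Set.range (Γ i).ι.base) →
      ∀ N : Z.Modules, PicF.IsInvertible N →
        (∀ (i : Fin r) (g : (Γ i).curve.left ⟶ Z), g ≫ z = (Γ i).ι →
          ArSurf.curveDeg (IsLocalRing.ResidueField R) (Γ i).curve.left ((Scheme.Modules.pullback g).obj N) = 0) →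
        Nonempty (N ≅ Coh.structureModule Z))
    (M : X.left.Modules) (hM : PicF.IsInvertible M) (hM0 : ∀ i, ArSurf.inter R X M (Γ i) = 0) :
    ∃ W : X.left.Opens, (∀ i, Set.range ((Γ i).ι.base : (Γ i).curve.left → X.left) ⊆ (W : Set X.left)) ∧
      Nonempty (M.restrict W.ι ≅ Coh.structureModule (W : Scheme.{u})) := by
  obtain ⟨N, hN, ⟨t, s, ht, hs⟩, -⟩ := exists_artin_bundle hX Γ hΓ L hL hneg hpic M hM hM0
  let W := glocus N t ⊓ glocus (CohB1.tensorMod M N) s
  refine ⟨W, fun i x hx => ⟨ht (Set.mem_iUnion.2 ⟨i, hx⟩), hs (Set.mem_iUnion.2 ⟨i, hx⟩)⟩, ?_⟩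
  have h1 : PicM.pull W.ι (PicM.of hN) = 1 := pull_eq_one_of_le_glocus hN t inf_le_left
  have h2 : PicM.pull W.ι (PicM.of (isInvertible_tensorMod hM hN)) = 1 :=
    pull_eq_one_of_le_glocus _ s inf_le_right
  rw [← PicM.of_mul hM hN, map_mul, h1, mul_one, PicM.pull_of, PicM.of_eq_one_iff] at h2
  obtain ⟨e⟩ := h2
  exact ⟨(Scheme.Modules.restrictFunctorIsoPullback W.ι).app M ≪≫ e⟩

/-- Points in a specialisation with the same image in an affine chart preimage are equal. -/
theorem eq_of_specializes_of_isAffineOpen {n : ℕ} {Y : Scheme.{u}} (φ : Y ⟶ CohB1.ProjSpace n R) [IsProper φ]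
    (i : Fin (n + 1)) (h : IsAffineOpen (φ ⁻¹ᵁ PnEmb.chartOpen n R i)) {a b : Y} (hab : a ⤳ b)
    (himg : φ a = φ b) (ha : a ∈ φ ⁻¹ᵁ PnEmb.chartOpen n R i) : a = b := by
  let W := PnEmb.chartOpen n R i
  haveI : IsAffine W.toScheme := PnEmb.isAffineOpen_chartOpen i
  haveI : IsAffine (φ ⁻¹ᵁ W).toScheme := h
  haveI : IsProper (φ ∣_ W) := IsZariskiLocalAtTarget.restrict ‹_› W
  haveI : IsFinite (φ ∣_ W) := IsFinite.iff_isProper_and_isAffineHom.2 ⟨inferInstance, inferInstance⟩
  have hw : φ a ∈ W := ha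
  let w : W := ⟨φ a, hw⟩
  let a' : (φ ⁻¹ᵁ W).toScheme := ⟨a, ha⟩
  let b' : (φ ⁻¹ᵁ W).toScheme := ⟨b, show φ b ∈ W from himg ▸ hw⟩
  have hs : a' ⤳ b' := (subtype_specializes_iff a' b').2 hab
  haveI : DiscreteTopology ((φ ∣_ W).base ⁻¹' {w} : Set (φ ⁻¹ᵁ W).toScheme) :=
    isDiscrete_iff_discreteTopology.1 ((φ ∣_ W).isDiscrete_preimage_singleton w)
  have ha' : a' ∈ (φ ∣_ W).base ⁻¹' {w} := Subtype.ext (morphismRestrict_base_coe φ W a')
  have hb' : b' ∈ (φ ∣_ W).base ⁻¹' {w} := Subtype.ext ((morphismRestrict_base_coe φ W b').trans himg.symm)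
  have hs' : (⟨a', ha'⟩ : ((φ ∣_ W).base ⁻¹' {w} : Set (φ ⁻¹ᵁ W).toScheme)) ⤳ ⟨b', hb'⟩ :=
    (subtype_specializes_iff _ _).2 hs
  exact congrArg Subtype.val (congrArg Subtype.val hs'.eq :)

/-- Artin's contraction theorem. -/
theorem artin_contraction (hX : ArSurf.IsArithSurface R X)
    {r : ℕ} (Γ : Fin r → ArSurf.VertComp R X)
    (hΓ : Function.Injective fun i => Set.range ((Γ i).ι.base : (Γ i).curve.left → X.left))
    (L : Fin r → X.left.Modules) (hL : ∀ j, ClSub.IsInverseOf (L j) (ClSub.idealMod (Γ j).ι.ker))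
    (hneg : ∀ a : Fin r → ℤ, a ≠ 0 →
      (Finset.univ : Finset (Fin r × Fin r)).sum (fun p => a p.1 * a p.2 * ArSurf.inter R X (L p.2) (Γ p.1)) < 0)
    (hpic : ∀ (Z : Scheme.{u}) (z : Z ⟶ X.left) [IsClosedImmersion z], BlowUp.IsEffCartierIdeal z.ker →
      Nonempty Z → Set.range z.base ⊆ (⋃ i, Set.range (Γ i).ι.base) →
      ∀ N : Z.Modules, PicF.IsInvertible N →
        (∀ (i : Fin r) (g : (Γ i).curve.left ⟶ Z), g ≫ z = (Γ i).ι →
          ArSurf.curveDeg (IsLocalRing.ResidueField R) (Γ i).curve.left ((Scheme.Modules.pullback g).obj N) = 0) →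
        Nonempty (N ≅ Coh.structureModule Z)) :
    ∃ (Y : Over (Spec (CommRingCat.of R))) (f : X ⟶ Y),
      IsIntegral Y.left ∧ (∀ q : Y.left, IsIntegrallyClosed (Y.left.presheaf.stalk q)) ∧
      topologicalKrullDim Y.left = 2 ∧ Flat Y.hom ∧ Neron.IsProjectiveOver R Y ∧
      (∀ i, ∃ y : Y.left, Set.range (((Γ i).ι ≫ f.left).base : (Γ i).curve.left → Y.left) = {y}) ∧
      f.left.base ⁻¹' (f.left.base '' ⋃ i, Set.range (Γ i).ι.base) = ⋃ i, Set.range (Γ i).ι.base ∧
      ∀ V : Y.left.Opens, (V : Set Y.left) ∩ f.left.base '' (⋃ i, Set.range (Γ i).ι.base) = ∅ →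
        IsIso (f.left ∣_ V) := by
  classical
  haveI : IsProper X.hom := Inters29.isProper_of_isArithSurface R hX
  haveI : ∀ i, IsProper (Γ i).curve.hom := fun i => Inters29.isProper_curve R (Γ i)
  haveI := hX.2.1
  obtain ⟨N, hN, ⟨t, -, ht, -⟩, hoff⟩ := exists_artin_bundle hX Γ hΓ L hL hneg hpic (Coh.structureModule X.left)
    isInvertible_structureModule fun i => by
      rw [← Inters29.intCl_of R (Γ i) isInvertible_structureModule, PicM.of_structureModule, Inters29.intCl_one]
  obtain ⟨hreg, -, hdim, hflat, -⟩ := hX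
  haveI := hflat
  haveI : IsLocallyNoetherian X.left := LocallyOfFiniteType.isLocallyNoetherian X.hom
  haveI : CompactSpace X.left := QuasiCompact.compactSpace_of_compactSpace X.hom
  haveI : IsNoetherian X.left := {}
  let G : Set X.left := ⋃ i, Set.range (Γ i).ι.base
  have hGc : IsClosed G := isClosed_iUnion_of_finite fun i => (Γ i).ι.isClosedEmbedding.isClosed_range
  -- finitely many sections
  let good : X.left → Γ(N, ⊤) := fun x => if hx : x ∈ G then t else (hoff x hx).choose
  have hgood : ∀ x, x ∈ glocus N (good x) := fun x => by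
    by_cases hx : x ∈ G
    · simp only [good, dif_pos hx]; exact ht hx
    · simp only [good, dif_neg hx]; exact (hoff x hx).choose_spec.1
  let Uc : X.left.Opens := ⟨Gᶜ, hGc.isOpen_compl⟩
  obtain ⟨t₂, ht₂⟩ := (NoetherianSpace.isCompact (Uc : Set X.left)).elim_finite_subcover
    (fun x : Uc => (glocus N (good x.1) : Set X.left)) (fun x => (glocus N (good x.1)).2)
    fun x hx => Set.mem_iUnion.2 ⟨⟨x, hx⟩, hgood x⟩
  let S : Finset Γ(N, ⊤) := t₂.image fun x => good x.1
  let σ : Fin (S.card + 1) → Γ(N, ⊤) := Fin.cons t fun i => (S.equivFin.symm i).1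
  have hσS : ∀ z ∈ S, ∃ i, σ i = z := fun z hz => ⟨(S.equivFin ⟨z, hz⟩).succ, by simp [σ]⟩
  have hcov' : ∀ x ∉ G, ∃ i, x ∈ glocus N (σ i) ∧ IsAffineOpen (glocus N (σ i)) ∧
      Disjoint (glocus N (σ i) : Set X.left) G := fun x hx => by
    obtain ⟨z, hz, hxz⟩ := Set.mem_iUnion₂.1 (ht₂ hx)
    obtain ⟨i, hi⟩ := hσS _ (Finset.mem_image_of_mem (fun x : Uc => good x.1) hz)
    have hzS : z.1 ∉ G := z.2
    refine ⟨i, hi ▸ hxz, ?_⟩
    rw [hi]
    simp only [good, dif_neg hzS]
    exact (hoff z.1 hzS).choose_spec.2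
  have hcov : ∀ x : X.left, ∃ i, x ∈ glocus N (σ i) := fun x => by
    by_cases hx : x ∈ G
    · exact ⟨0, by simpa [σ] using ht hx⟩
    · obtain ⟨i, hi, -⟩ := hcov' x hx; exact ⟨i, hi⟩
  obtain ⟨φ, hφ, τ, hτ⟩ := UPLib.exists_hom_projSpace S.card X.hom hN σ hcov
  let n := S.card
  have hσ : ∀ i, φ ⁻¹ᵁ PnEmb.chartOpen n R i = glocus N (σ i) := fun i => PnEmb.preimage_chartOpen φ τ hτ i
  haveI : IsProper (CohB1.ProjSpace.toSpec n R) := Coherent.isProper_projSpace_toSpec n R
  haveI : IsProper (φ ≫ CohB1.ProjSpace.toSpec n R) := by rw [hφ]; infer_instance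
  haveI : IsProper φ := IsProper.of_comp φ (CohB1.ProjSpace.toSpec n R)
  have hnor : ∀ x : X.left, IsIntegrallyClosed (X.left.presheaf.stalk x) := fun x => by
    haveI := hreg x
    exact CAlgH3.isIntegrallyClosed_of_regular _
  -- points off the curves with the same image
  have heq : ∀ {a b : X.left}, a ∉ G → a ⤳ b → φ a = φ b → a = b := by
    intro a b haG hab himg
    obtain ⟨i, hai, haff, -⟩ := hcov' a haG
    exact eq_of_specializes_of_isAffineOpen φ i ((hσ i).symm ▸ haff) hab himg ((hσ i).symm ▸ hai)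
  have hη : X.hom (genericPoint X.left) ≠ closedPoint R := by
    rw [Inters29.hom_genericPoint R (genericPoint X.left)]; exact Inters29.bot_ne_closedPoint R
  refine exists_contraction R X hnor hdim φ hφ ?_ Γ fun E => ?_
  · intro w
    by_contra hall
    push Not at hall
    letI := specializationOrder X.left
    obtain ⟨l, hl⟩ := Order.le_krullDim_iff.1
      (by rw [← CommAlg6.topologicalKrullDim_eq_krullDim_points, hdim]; rfl :
        ((2 : ℕ) : WithBot ℕ∞) ≤ Order.krullDim X.left)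
    have h01 : l ⟨0, by omega⟩ < l ⟨1, by omega⟩ := l.strictMono (Fin.mk_lt_mk.2 Nat.zero_lt_one)
    have h12 : l ⟨1, by omega⟩ < l ⟨2, by omega⟩ := l.strictMono (Fin.mk_lt_mk.2 Nat.one_lt_two)
    obtain ⟨v, -, hvη, hvs⟩ := exists_horizontal hreg hdim.le (X := X)
      (h01.le : l ⟨1, by omega⟩ ⤳ l ⟨0, by omega⟩) h01.ne'
      (fun h => h12.not_ge (by rw [h]; exact genericPoint_specializes _))
    refine hvη (heq (fun hm => ?_) (genericPoint_specializes v) ((hall _ hη).trans (hall _ hvs).symm)).symm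
    obtain ⟨i, hi⟩ := Set.mem_iUnion.1 hm
    exact hη (Inters29.range_subset_specialFibreSet R (Γ i) hi)
  · haveI := Inters29.isProper_curve R E
    constructor
    · intro h
      by_contra hno
      push Not at hno
      obtain ⟨y, hy⟩ := Inters29.exists_ne_genericPoint R E
      refine hy (E.ι.isClosedEmbedding.injective ?_)
      refine (heq (fun hm => ?_) ((genericPoint_specializes y).map E.ι.continuous)
        (h ⟨_, ⟨_, rfl⟩, rfl⟩ ⟨_, ⟨y, rfl⟩, rfl⟩)).symm
      obtain ⟨i, hi⟩ := Set.mem_iUnion.1 hm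
      exact Inters29.genericPoint_notMem R E (Γ i) hreg hdim.le (hno i) (by rwa [Inters29.support_ker_eq])
    · rintro ⟨i, hi⟩
      rw [hi]
      obtain ⟨e⟩ := nonempty_pullback_iso_of_glocus (Γ i).ι hN t
        ((Set.subset_iUnion (fun i => Set.range (Γ i).ι.base) i).trans ht)
      exact subsingleton_range_of_trivial φ hN σ hcov hσ (Γ i).ι
        (isField_of_universallyClosed (IsLocalRing.ResidueField R) (Γ i).curve.hom) e

end Groth.Agent.Models7
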