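import Groth.Agent.Models7.MinimalGenusZero
import Groth.Agent.SmoothLib.StalkCrit
import Groth.Agent.AbVarLib.GeomIntegralSmooth
import Groth.Agent.VarietyLib.SmoothStalk
import Groth.Agent.P1Lib24.Basic
import Groth.Agent.Coherent.CohBC.PushStructureIso

/-!
# Minimal models of curves with good reduction
-/

set_option autoImplicit false
set_option linter.style.haveILetI false
set_option backward.isDefEq.respectTransparency false
set_option maxHeartbeats 2000000

universe u

open CategoryTheory CategoryTheory.Limits AlgebraicGeometry TopologicalSpace IsLocalRing Opposite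

namespace Groth.Agent.Models7

variable {R : Type u} [CommRing R] [IsDomain R] [IsDiscreteValuationRing R]
variable {C : Scheme.{u}} {f : C ⟶ Spec (CommRingCat.of (FractionRing R))}

/-- A vertical curve cut out by the uniformiser is the special fibre. -/
theorem exists_iso_of_ker_eq {X : Scheme.{u}} {p : X ⟶ Spec (CommRingCat.of R)} [QuasiCompact p]
    {Γ : ArSurf.VertComp R (Over.mk p)}
    (hΓ : (show Γ.curve.left ⟶ X from Γ.ι).ker = Models.specialFibreIdeal R (Over.mk p)) :
    ∃ e : Models.specialFibre R X p ≅ Γ.curve.left,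
      e.hom ≫ Γ.curve.hom = pullback.snd p (Spec.map (CommRingCat.ofHom (algebraMap R (ResidueField R)))) := by
  haveI := Inters29.isClosedImmersion_residue R
  let c := Spec.map (CommRingCat.ofHom (algebraMap R (ResidueField R)))
  haveI : IsClosedImmersion c := Inters29.isClosedImmersion_residue R
  let j : Models.specialFibre R X p ⟶ X := pullback.fst p c
  haveI : IsClosedImmersion j := inferInstanceAs (IsClosedImmersion (pullback.fst p c))
  let ι : Γ.curve.left ⟶ X := Γ.ι
  haveI : IsClosedImmersion ι := Γ.isClosedImmersion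
  haveI : QuasiCompact (Over.mk p).hom := ‹QuasiCompact p›
  have hker : ι.ker = j.ker := hΓ.trans (Inters29.ker_fst_specialFibre R (X := Over.mk p)).symm
  let a := IsClosedImmersion.lift ι j hker.le
  let b := IsClosedImmersion.lift j ι hker.ge
  have hab : a ≫ b = 𝟙 _ := by
    rw [← cancel_mono j, Category.assoc, IsClosedImmersion.lift_fac, IsClosedImmersion.lift_fac, Category.id_comp]
  have hba : b ≫ a = 𝟙 _ := by
    rw [← cancel_mono ι, Category.assoc, IsClosedImmersion.lift_fac, IsClosedImmersion.lift_fac, Category.id_comp]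
  refine ⟨⟨a, b, hab, hba⟩, ?_⟩
  show a ≫ Γ.curve.hom = pullback.snd p c
  rw [← cancel_mono c, Category.assoc]
  refine Eq.trans (congrArg (a ≫ ·) (show Γ.curve.hom ≫ c = ι ≫ p from Γ.w.symm)) ?_
  rw [← Category.assoc, IsClosedImmersion.lift_fac]
  exact pullback.condition

/-- An integral closed fibre is the special fibre. -/
theorem IntFibre.exists_iso {X : Scheme.{u}} {p : X ⟶ Spec (CommRingCat.of R)} [QuasiCompact p]
    {Γ : ArSurf.VertComp R (Over.mk p)} (hΓ : IntFibre p Γ) :
    ∃ e : Models.specialFibre R X p ≅ Γ.curve.left,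
      e.hom ≫ Γ.curve.hom = pullback.snd p (Spec.map (CommRingCat.ofHom (algebraMap R (ResidueField R)))) :=
  exists_iso_of_ker_eq hΓ.ker_eq

/-- A model with smooth special fibre is smooth. -/
theorem smooth_of_specialFibre {X : Scheme.{u}} {p : X ⟶ Spec (CommRingCat.of R)} {gX : C ⟶ X}
    (hC : Curve.IsSmoothProperCurve (FractionRing R) C f) (hX : GenModel R C f X p gX)
    (hs : Smooth (pullback.snd p (Spec.map (CommRingCat.ofHom (algebraMap R (ResidueField R)))))) : Smooth p := by
  haveI : IsProper p := hX.model.2.1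
  haveI : Flat p := hX.model.1.1
  haveI : IsLocallyNoetherian X := LocallyOfFiniteType.isLocallyNoetherian p
  haveI : LocallyOfFinitePresentation p := Coherent.CohBC.locallyOfFinitePresentation_of_isLocallyNoetherian p
  haveI : Smooth f := hC.2.1
  haveI := hs
  let c := Spec.map (CommRingCat.ofHom (algebraMap R (ResidueField R)))
  rw [← Scheme.Hom.smoothLocus_eq_top_iff]
  refine top_unique fun x _ => ?_
  show (p.stalkMap x).hom.FormallySmooth
  have key : ∀ {Z S : Scheme.{u}} (a : Z ⟶ X) (b : Z ⟶ S) (σ : S ⟶ Spec (CommRingCat.of R)) [Smooth b],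
      IsPullback a b p σ → x ∈ Set.range a.base → (p.stalkMap x).hom.FormallySmooth := by
    rintro Z S a b σ _ H ⟨z, rfl⟩
    refine SmoothLib.formallySmooth_stalkMap_of_baseChange p σ H z (Flat.stalkMap p (a z)) ?_
    haveI : Smooth ((⊤ : Z.Opens).ι ≫ b) := inferInstance
    exact SmoothLib.formallySmooth_stalkMap_of_nhd b (U := ⊤) trivial
  by_cases hx : p x = closedPoint R
  · refine key (pullback.fst p c) (pullback.snd p c) c (IsPullback.of_hasPullback _ _) ?_
    rw [Scheme.Pullback.range_fst]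
    exact ⟨closedPoint (ResidueField R), by rw [hx]; exact IsLocalRing.comap_closedPoint (IsLocalRing.residue R)⟩
  · exact key gX f _ hX.pullback ((hX.mem_range_iff x).2 hx)

/-- A smooth model has no exceptional curves. -/
theorem no_exc_of_smooth [IsIntegral C] (hC : Curve.IsSmoothProperCurve (FractionRing R) C f) (hH0 : IsIso f.appTop)
    {X : Scheme.{u}} {p : X ⟶ Spec (CommRingCat.of R)} {gX : C ⟶ X} (hX : GenModel R C f X p gX) [Smooth p]
    (E : ArSurf.VertComp R (Over.mk p)) : ¬ Models.IsExcCurve E.ι := by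
  classical
  intro hE
  haveI := hX.isIntegral
  haveI : IsProper p := hX.model.2.1
  haveI : IsIntegral (Over.mk p).left := inferInstanceAs (IsIntegral X)
  haveI : IsLocallyNoetherian X := LocallyOfFiniteType.isLocallyNoetherian p
  haveI : IsLocallyNoetherian (Over.mk p).left := inferInstanceAs (IsLocallyNoetherian X)
  haveI : IsProper (Over.mk p).hom := hX.model.2.1
  haveI : Flat (Over.mk p).hom := hX.model.1.1
  let c := Spec.map (CommRingCat.ofHom (algebraMap R (ResidueField R)))
  haveI : IsClosedImmersion c := Inters29.isClosedImmersion_residue R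
  have hconn : _root_.IsConnected (Models.specialFibreSet R (Over.mk p)) :=
    Inters29.isConnected_specialFibreSet R hH0 gX hX.pullback
  have hrange : Set.range (pullback.fst p c).base = Models.specialFibreSet R (Over.mk p) := by
    rw [Scheme.Pullback.range_fst]
    ext z
    constructor
    · rintro ⟨w, hw⟩
      show p z = closedPoint R
      rw [← hw, Subsingleton.elim (α := PrimeSpectrum (ResidueField R)) w (closedPoint (ResidueField R))]
      exact IsLocalRing.comap_closedPoint (IsLocalRing.residue R)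
    · intro hz
      exact ⟨closedPoint (ResidueField R), by
        rw [show p z = closedPoint R from hz]; exact IsLocalRing.comap_closedPoint (IsLocalRing.residue R)⟩
  haveI : ConnectedSpace (pullback p c : Scheme.{u}) := by
    rw [connectedSpace_iff_univ]
    refine ⟨?_, ?_⟩
    · obtain ⟨z, hz⟩ := hconn.nonempty
      obtain ⟨w, -⟩ := hrange.ge hz
      exact ⟨w, trivial⟩
    · refine (pullback.fst p c).isClosedEmbedding.isInducing.isPreconnected_image.1 ?_
      rw [Set.image_univ, hrange]
      exact hconn.isPreconnected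
  haveI : Smooth (pullback.snd p c) := MorphismProperty.pullback_snd (P := @Smooth) _ _ ‹_›
  haveI : QuasiCompact (pullback.snd p c) := inferInstance
  haveI : IsIntegral (pullback p c) := AbVarLib.isIntegral_of_smooth_connected (pullback.snd p c)
  have hirr : IsIrreducible (Models.specialFibreSet R (Over.mk p)) := by
    rw [← hrange, ← Set.image_univ]
    exact (IrreducibleSpace.isIrreducible_univ _).image _ (pullback.fst p c).continuous.continuousOn
  obtain ⟨n, Δ, hΔ⟩ := Inters29.exists_componentList R (X := Over.mk p) (hX.isArithSurface hC).2.2.1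
  have hcomp : ∀ i, Set.range (Δ i).ι.base = Models.specialFibreSet R (Over.mk p) := fun i => by
    have h : Set.range (Δ i).ι.base ∈ Models.fibreComponents R (Over.mk p) := hΔ.2 ▸ Set.mem_range_self i
    exact h.1.2.antisymm (h.2 ⟨hirr, le_rfl⟩ h.1.2)
  have hD := Inters29.isEffCartier_listComp R Δ hX.model.2.2 hΔ
  choose L hL using fun i => Inters29.exists_inverse_ker R (X := Over.mk p) hX.model.2.2 (hD i)
  obtain ⟨i, hi⟩ := Inters29.exists_range_eq R (X := Over.mk p) hX.model.2.2 (hX.isArithSurface hC).2.2.1.le Δ hΔ E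
  haveI : IsProper (Δ i).curve.hom := Inters29.isProper_curve R (Δ i)
  haveI : IsClosedImmersion (show E.curve.left ⟶ X from E.ι) := E.isClosedImmersion
  obtain ⟨-, hself⟩ := of_isExcCurve R (Δ i)
    (isExcCurve_of_range_eq (show E.curve.left ⟶ X from E.ι) (Δ i).ι hi hE) (hL i)
  have hw : 0 < Models.wdeg R (Over.mk p) (Δ i) := (wdeg_pos_and_dvd R (Δ i)).1
  have hsum := sum_mult_inter hC hX.model hΔ L hL i
  rw [Finset.sum_eq_single i (fun j _ hj => absurd (hΔ.1 ((hcomp j).trans (hcomp i).symm)) hj)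
    (fun h => absurd (Finset.mem_univ i) h), hself] at hsum
  have hm := Inters29.mult_pos' R (X := Over.mk p) Δ hΔ hX.model.2.2 i
  rcases mul_eq_zero.1 hsum with h | h <;> omega

/-- In genus zero the closed fibres of two non-isomorphic minimal models are projective lines. -/
theorem specialFibre_iso_projLine [IsIntegral C] (hC : Curve.IsSmoothProperCurve (FractionRing R) C f)
    (hH0 : IsIso f.appTop) (hg : Models.curveGenus (FractionRing R) C f = 0)
    {X Y : Scheme.{u}} {p : X ⟶ Spec (CommRingCat.of R)} {q : Y ⟶ Spec (CommRingCat.of R)} {gX : C ⟶ X} {gY : C ⟶ Y}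
    (hX : GenModel R C f X p gX) (hY : GenModel R C f Y q gY)
    (hXm : ∀ Γ : ArSurf.VertComp R (Over.mk p), ¬ Models.IsExcCurve Γ.ι)
    (hYm : ∀ Γ : ArSurf.VertComp R (Over.mk q), ¬ Models.IsExcCurve Γ.ι)
    (hne : ¬ ∃ e : Y ≅ X, e.hom ≫ p = q ∧ gY ≫ e.hom = gX) :
    ∃ e : Models.specialFibre R X p ≅ CohB1.ProjSpace 1 (ResidueField R),
      e.hom ≫ CohB1.ProjSpace.toSpec 1 (ResidueField R) =
        pullback.snd p (Spec.map (CommRingCat.ofHom (algebraMap R (ResidueField R)))) := by
  obtain ⟨Γ, hΓ⟩ := exists_intFibre hC hH0 hg hX hXm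
  obtain ⟨Δ, hΔ⟩ := exists_intFibre hC hH0 hg hY hYm
  obtain ⟨W, π, g, gW, F, hW, hgp, h1, h2, hF, hFπ, hFg⟩ := (exists_iso_or_exc hC hX hY hYm).resolve_left hne
  obtain ⟨e, he⟩ := fibre_iso_projLine hC hX hY hΓ hΔ π g F hW hgp h1 h2 hF hFπ hFg
  haveI : IsProper p := hX.model.2.1
  obtain ⟨e', he'⟩ := hΓ.exists_iso
  exact ⟨e' ≪≫ e, by show (e'.hom ≫ e.hom) ≫ _ = _; rw [Category.assoc, he, he']⟩

/-- A minimal model of a curve with good reduction is smooth. -/
theorem smooth_of_goodReduction [IsIntegral C] (hC : Curve.IsSmoothProperCurve (FractionRing R) C f)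
    (hH0 : IsIso f.appTop) {X X₀ : Scheme.{u}} {p : X ⟶ Spec (CommRingCat.of R)} {p₀ : X₀ ⟶ Spec (CommRingCat.of R)}
    {gX : C ⟶ X} {g₀ : C ⟶ X₀} (hX : GenModel R C f X p gX) (h₀ : GenModel R C f X₀ p₀ g₀) [Smooth p₀]
    (hXm : ∀ Γ : ArSurf.VertComp R (Over.mk p), ¬ Models.IsExcCurve Γ.ι) : Smooth p := by
  have h₀m := no_exc_of_smooth hC hH0 h₀
  by_cases hiso : ∃ e : X₀ ≅ X, e.hom ≫ p = p₀ ∧ g₀ ≫ e.hom = gX
  · obtain ⟨e, he, -⟩ := hiso
    rw [show p = e.inv ≫ p₀ by rw [← he, e.inv_hom_id_assoc]]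
    infer_instance
  rcases Nat.eq_zero_or_pos (Models.curveGenus (FractionRing R) C f) with hg | hg
  · obtain ⟨e, he⟩ := specialFibre_iso_projLine hC hH0 hg hX h₀ hXm h₀m hiso
    refine smooth_of_specialFibre hC hX ?_
    rw [← he]
    haveI : Smooth (CohB1.ProjSpace.toSpec 1 (ResidueField R)) := P1Lib24.smooth_projLine (ResidueField R)
    infer_instance
  · exfalso
    obtain ⟨a, ⟨ha, ha'⟩, -⟩ := existsUnique_to_minimal hC hH0 hg hX h₀ hXm
    obtain ⟨b, ⟨hb, hb'⟩, -⟩ := existsUnique_to_minimal hC hH0 hg h₀ hX h₀m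
    obtain ⟨i, -, hi⟩ := existsUnique_to_minimal hC hH0 hg hX hX hXm
    obtain ⟨j, -, hj⟩ := existsUnique_to_minimal hC hH0 hg h₀ h₀ h₀m
    have hab : a ≫ b = 𝟙 X₀ :=
      (hj (a ≫ b) ⟨by rw [Category.assoc, hb, ha], by rw [reassoc_of% ha', hb']⟩).trans
        (hj (𝟙 X₀) ⟨Category.id_comp _, Category.comp_id _⟩).symm
    have hba : b ≫ a = 𝟙 X :=
      (hi (b ≫ a) ⟨by rw [Category.assoc, ha, hb], by rw [reassoc_of% hb', ha']⟩).trans
        (hi (𝟙 X) ⟨Category.id_comp _, Category.comp_id _⟩).symm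
    exact hiso ⟨⟨a, b, hab, hba⟩, ha, ha'⟩

end Groth.Agent.Models7
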