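import Groth.Agent.Models7.CurveImage
import Groth.Agent.Models7.MinimalSmooth
import Groth.Prelude.Def_ModelsSS

/-!
# Models with a component of full genus
-/

set_option autoImplicit false
set_option linter.style.haveILetI false
set_option backward.isDefEq.respectTransparency false
set_option maxHeartbeats 1000000

universe u

open CategoryTheory CategoryTheory.Limits AlgebraicGeometry TopologicalSpace IsLocalRing

namespace Groth.Agent.Models7

variable {R : Type u} [CommRing R] [IsDomain R] [IsDiscreteValuationRing R]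
variable {C : Scheme.{u}} {f : C ⟶ Spec (CommRingCat.of (FractionRing R))}
variable {Γ' : Scheme.{u}} [Γ'.Over (Spec (CommRingCat.of (ResidueField R)))] [IsIntegral Γ']

/-- A minimal model whose closed fibre contains the image of a smooth curve of genus at least that of the
generic fibre, which is at least two, is smooth. -/
theorem smooth_of_curveIn [IsIntegral C] (hC : Curve.IsSmoothProperCurve (FractionRing R) C f)
    (hH0 : IsIso f.appTop) (hg : 2 ≤ Models.curveGenus (FractionRing R) C f)
    [IsProper (Γ' ↘ Spec (CommRingCat.of (ResidueField R)))] [Smooth (Γ' ↘ Spec (CommRingCat.of (ResidueField R)))]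
    (hdim : topologicalKrullDim Γ' ≤ 1)
    (hgen : (Models.curveGenus (FractionRing R) C f : ℤ) ≤
      1 - Curv2.euler (ResidueField R) Γ' (Coh.structureModule Γ'))
    {X : Scheme.{u}} {p : X ⟶ Spec (CommRingCat.of R)} {gX : C ⟶ X} (hX : GenModel R C f X p gX)
    (hmin : ∀ Γ : ArSurf.VertComp R (Over.mk p), ¬ Models.IsExcCurve Γ.ι) {j : Γ' ⟶ X} (hj : CurveIn p j) :
    Smooth p := by
  classical
  haveI := hX.isIntegral
  haveI : IsProper p := hX.model.2.1
  haveI : IsIntegral (Over.mk p).left := inferInstanceAs (IsIntegral X)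
  haveI : IsLocallyNoetherian X := LocallyOfFiniteType.isLocallyNoetherian p
  haveI : IsLocallyNoetherian (Over.mk p).left := inferInstanceAs (IsLocallyNoetherian X)
  haveI : IsProper (Over.mk p).hom := hX.model.2.1
  haveI : Flat (Over.mk p).hom := hX.model.1.1
  obtain ⟨n, Δ, hΔ⟩ := Inters29.exists_componentList R (X := Over.mk p) (hX.isArithSurface hC).2.2.1
  obtain ⟨Δ₀, -, hΔ₀, -⟩ := hj.exists_vertComp hC hdim hX
  obtain ⟨i₀, hi₀⟩ := Inters29.exists_range_eq R (X := Over.mk p) hX.model.2.2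
    (hX.isArithSurface hC).2.2.1.le Δ hΔ Δ₀
  obtain ⟨ν, hν, hνk, -, U, hU, hUiso⟩ := hj.exists_map hC hdim hX (Δ i₀) (hi₀.symm.trans hΔ₀)
  haveI := hν
  haveI := hUiso
  have hD := Inters29.isEffCartier_listComp R Δ hX.model.2.2 hΔ
  choose L hL using fun i => Inters29.exists_inverse_ker R (X := Over.mk p) hX.model.2.2 (hD i)
  haveI : ∀ i, IsProper (Δ i).curve.hom := fun i => Inters29.isProper_curve R (Δ i)
  haveI : IsIntegral (Δ i₀).curve.left := (Δ i₀).isIntegral
  letI : (Δ i₀).curve.left.Over (Spec (CommRingCat.of (ResidueField R))) := ⟨(Δ i₀).curve.hom⟩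
  haveI : IsProper ((Δ i₀).curve.left ↘ Spec (CommRingCat.of (ResidueField R))) := Inters29.isProper_curve R (Δ i₀)
  obtain ⟨hχ, hχeq⟩ := euler_birational (ResidueField R) (Δ i₀).dim_eq.le ν hνk U hU
  rw [CurveRR24.euler_structure (ResidueField R) (Δ i₀).dim_eq.le] at hχ hχeq
  change (Models.wdeg R (Over.mk p) (Δ i₀) : ℤ) - (Models.h1 R (Over.mk p) (Δ i₀) : ℤ) ≤ _ at hχ
  change (Models.wdeg R (Over.mk p) (Δ i₀) : ℤ) - (Models.h1 R (Over.mk p) (Δ i₀) : ℤ) = _ → _ at hχeq
  have hconn : _root_.IsConnected (Models.specialFibreSet R (Over.mk p)) :=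
    Inters29.isConnected_specialFibreSet R hH0 gX hX.pullback
  have hformula := genus_formula hC hH0 hX.model hΔ L hL
  let m : Fin n → ℤ := fun i => (Models.mult R (Over.mk p) (Δ i) : ℤ)
  let h : Fin n → ℤ := fun i => (Models.h1 R (Over.mk p) (Δ i) : ℤ)
  let w : Fin n → ℤ := fun i => (Models.wdeg R (Over.mk p) (Δ i) : ℤ)
  let a : Fin n → ℤ := fun i => ArSurf.inter R (Over.mk p) (L i) (Δ i)
  change _ = 2 + ∑ i, m i * (2 * (h i - w i) - a i) at hformula
  have hm : ∀ i, 0 < m i := fun i =>
    Int.natCast_pos.2 (Inters29.mult_pos' R (X := Over.mk p) Δ hΔ hX.model.2.2 i)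
  have hw : ∀ i, 0 < w i := fun i => Int.natCast_pos.2 (wdeg_pos_and_dvd R (Δ i)).1
  have hh : ∀ i, h i = 0 ∨ w i ≤ h i := fun i => by
    rcases Nat.eq_zero_or_pos (Models.h1 R (Over.mk p) (Δ i)) with h0 | h0
    · exact Or.inl (by simp [h, h0])
    · exact Or.inr (Int.ofNat_le.2 (Nat.le_of_dvd h0 ((wdeg_pos_and_dvd R (Δ i)).2 (Coh.structureModule _) 1)))
  have hsum : ∀ i, ∑ l, m l * ArSurf.inter R (Over.mk p) (L i) (Δ l) = 0 := fun i =>
    sum_mult_inter hC hX.model hΔ L hL i
  have hbig : (Models.curveGenus (FractionRing R) C f : ℤ) - 1 ≤ h i₀ - w i₀ := by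
    show _ ≤ (Models.h1 R (Over.mk p) (Δ i₀) : ℤ) - (Models.wdeg R (Over.mk p) (Δ i₀) : ℤ)
    omega
  have hn1 : n = 1 := by
    by_contra hne
    have hneg : ∀ i, a i < 0 := by
      intro i
      obtain ⟨i', hi', l, hl, hil⟩ := Inters29.inter_connected_of_list R (X := Over.mk p) hX.model.2.2 Δ hΔ L hL
        hconn {i} (Finset.singleton_nonempty i) (fun hu => hne (by
          have := congrArg Finset.card hu
          rw [Finset.card_singleton, Finset.card_univ, Fintype.card_fin] at this
          exact this.symm))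
      rw [Finset.mem_singleton] at hi'
      rw [hi'] at hil
      clear hi' i'
      have hl' : l ≠ i := fun e => hl (Finset.mem_singleton.2 e)
      have h0 := hsum i
      rw [← Finset.add_sum_erase _ _ (Finset.mem_univ i)] at h0
      have hpos : 0 < ∑ r ∈ Finset.univ.erase i, m r * ArSurf.inter R (Over.mk p) (L i) (Δ r) := by
        refine Finset.sum_pos' (fun r hr => mul_nonneg (hm r).le
          (Inters29.inter_offDiag R (X := Over.mk p) hX.model.2.2 Δ hΔ L hL (Finset.ne_of_mem_erase hr)).1)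
          ⟨l, Finset.mem_erase.2 ⟨hl', Finset.mem_univ _⟩, mul_pos (hm l) ?_⟩
        refine lt_of_le_of_ne (Inters29.inter_offDiag R (X := Over.mk p) hX.model.2.2 Δ hΔ L hL hl').1
          fun e => hil ?_
        rw [Inters29.inter_symm_of_list R (X := Over.mk p) hX.model.2.2 Δ hΔ L hL i l, ← e]
      by_contra hge
      have := mul_nonneg (hm i).le (not_lt.1 hge)
      change m i * a i + _ = 0 at h0
      omega
    have hterm : ∀ i, 0 ≤ m i * (2 * (h i - w i) - a i) := by
      intro i
      refine mul_nonneg (hm i).le ?_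
      obtain ⟨c, hc⟩ := wdeg_dvd_inter R (Δ i) (L i)
      have hc' : a i = w i * c := hc
      have := hneg i
      rcases hh i with h0 | h0
      · have hc1 : c ≠ -1 := fun h1 => hmin (Δ i) (isExcCurve_of R (Δ i) (hD i) (hL i)
          (Int.ofNat_inj.1 h0) (by rw [hc, h1, mul_neg, mul_one]))
        have hc0 : c ≤ -2 := by
          by_contra hlt
          rcases (show c = -1 ∨ 0 ≤ c by omega) with h1 | h1
          · exact hc1 h1
          · have := mul_nonneg (hw i).le h1
            omega
        have : w i * c ≤ w i * (-2) := mul_le_mul_of_nonneg_left hc0 (hw i).le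
        omega
      · omega
    have h2 := Finset.single_le_sum (f := fun i => m i * (2 * (h i - w i) - a i)) (fun i _ => hterm i)
      (Finset.mem_univ i₀)
    have h3 := hneg i₀
    have hm0 := hm i₀
    change m i₀ * (2 * (h i₀ - w i₀) - a i₀) ≤ ∑ i, m i * (2 * (h i - w i) - a i) at h2
    nlinarith
  subst hn1
  obtain rfl : i₀ = 0 := Subsingleton.elim _ _
  have ha0 : a 0 = 0 := by
    have h0 := hsum 0
    rw [Fin.sum_univ_one] at h0
    exact (mul_eq_zero.1 h0).resolve_left (hm 0).ne'
  rw [Fin.sum_univ_one, ha0, sub_zero] at hformula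
  have hm1 : m 0 = 1 := by
    have := hm 0
    by_contra hne
    nlinarith [show (2 : ℤ) ≤ m 0 by omega]
  rw [hm1, one_mul] at hformula
  haveI : IsIso ν := hχeq (by
    have e1 : (Models.wdeg R (Over.mk p) (Δ 0) : ℤ) = w 0 := rfl
    have e2 : (Models.h1 R (Over.mk p) (Δ 0) : ℤ) = h 0 := rfl
    omega)
  have hker : (show (Δ 0).curve.left ⟶ X from (Δ 0).ι).ker = Models.specialFibreIdeal R (Over.mk p) := by
    rw [Inters29.specialFibreIdeal_eq_prod R Δ hX.model.2.2 hΔ, Fin.prod_univ_one,
      show Models.mult R (Over.mk p) (Δ 0) = 1 from Int.ofNat_inj.1 hm1, pow_one]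
  obtain ⟨e, he⟩ := exists_iso_of_ker_eq hker
  refine smooth_of_specialFibre hC hX ?_
  rw [← he]
  haveI : Smooth (Δ 0).curve.hom := by
    rw [show (Δ 0).curve.hom = inv ν ≫ (Γ' ↘ Spec (CommRingCat.of (ResidueField R))) by rw [← hνk, IsIso.inv_hom_id_assoc]]
    infer_instance
  infer_instance

/-- Good reduction from a component of full genus. -/
theorem hasGoodReduction_of_component [IsIntegral C] (hC : Curve.IsSmoothProperCurve (FractionRing R) C f)
    (hH0 : IsIso f.appTop) (hg : 2 ≤ Models.curveGenus (FractionRing R) C f)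
    {X : Scheme.{u}} {p : X ⟶ Spec (CommRingCat.of R)} (hX : Models.IsRegularProperModel R X p C f)
    [IsProper (Γ' ↘ Spec (CommRingCat.of (ResidueField R)))] [Smooth (Γ' ↘ Spec (CommRingCat.of (ResidueField R)))]
    (Γ : ArSurf.VertComp R (Over.mk p)) (ν : Γ' ⟶ Γ.curve.left) [IsFinite ν]
    (hν : ν ≫ Γ.curve.hom = Γ' ↘ Spec (CommRingCat.of (ResidueField R)))
    (U : Γ.curve.left.Opens) (hU : (U : Set Γ.curve.left).Nonempty) [IsIso (ν ∣_ U)]
    (hgen : (Models.curveGenus (FractionRing R) C f : ℤ) ≤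
      1 - Curv2.euler (ResidueField R) Γ' (Coh.structureModule Γ')) :
    Models.HasGoodReduction R C f := by
  obtain ⟨gX, hgX⟩ := hX.1.2.2.2
  have hXm : GenModel R C f X p gX := ⟨hX, hgX⟩
  haveI : IsIntegral Γ.curve.left := Γ.isIntegral
  let ι : Γ.curve.left ⟶ X := Γ.ι
  haveI : IsClosedImmersion ι := Γ.isClosedImmersion
  have hdim : topologicalKrullDim Γ' ≤ 1 :=
    (AlgSpLib.topologicalKrullDim_le_of_isIntegralHom ν).trans Γ.dim_eq.le
  have hη : genericPoint Γ.curve.left ∈ U :=
    ((genericPoint_spec Γ.curve.left).mem_open_set_iff U.2).2 (by simpa using hU)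
  obtain ⟨⟨b, hb⟩, hbU⟩ := (ν ∣_ U).homeomorph.surjective (⟨genericPoint Γ.curve.left, hη⟩ : U)
  have hbη : ν b = genericPoint Γ.curve.left :=
    (morphismRestrict_base_coe ν U ⟨b, hb⟩).symm.trans (congrArg Subtype.val hbU)
  have hgenν : ν (genericPoint Γ') = genericPoint Γ.curve.left := by
    have h1 := (genericPoint_specializes b).map ν.continuous
    rw [hbη] at h1
    exact (h1.antisymm (genericPoint_specializes _)).eq
  have hmem : genericPoint Γ' ∈ ν ⁻¹ᵁ U := by show ν _ ∈ U; rw [hgenν]; exact hη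
  haveI := isIso_stalkMap_of_isIso_restrict ν U _ hmem
  have hj : CurveIn p (ν ≫ ι) := by
    refine ⟨?_, fun h => ?_, ?_⟩
    · rw [Category.assoc]
      refine (congrArg (ν ≫ ·) Γ.w).trans ?_
      show ν ≫ Γ.curve.hom ≫ _ = _
      rw [← Category.assoc, hν]
      rfl
    · rw [Scheme.Hom.comp_apply, hgenν] at h
      obtain ⟨y, hy⟩ := Inters29.exists_ne_genericPoint R Γ
      exact hy (ι.isClosedEmbedding.injective
        (((genericPoint_specializes y).map ι.continuous).mem_closed h rfl))
    · exact surjective_stalkMap_comp ν ι _ (ConcreteCategory.bijective_of_isIso (ν.stalkMap _)).2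
        (ι.stalkMap_surjective _)
  obtain ⟨M, pM, gM, c, hM, hmin, hcp, hgc, -⟩ := hXm.exists_minimal hC
  have hseq := hXm.ptSeq hC hM c hcp hgc
  have hj' := CurveIn.of_ptSeq hC hdim (by omega) hseq hM (j := ν ≫ ι) (by rw [hcp]; exact hj)
  haveI := smooth_of_curveIn hC hH0 hg hdim hgen hM hmin hj'
  exact ⟨M, pM, hM.model.1, hM.model.2.1, inferInstance⟩

end Groth.Agent.Models7
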