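import Groth.Agent.BlowUpCoh.Exceptional
import Groth.Agent.BlowUpCoh.IdealPush
import Groth.Agent.BlowUpCoh.Regular
import Groth.Agent.VarietyLib.PushEuler
import Groth.Agent.Clifford24.Lipman.GG
import Groth.Agent.Models7.DivChi

/-!
# Functions and cohomology on thickenings of the exceptional divisor of a blow-up of an affine scheme
-/

set_option autoImplicit false
set_option linter.style.haveILetI false
set_option backward.isDefEq.respectTransparency.types false
set_option maxHeartbeats 1000000

universe u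

open CategoryTheory CategoryTheory.Limits AlgebraicGeometry TopologicalSpace Opposite
open Groth.Agent.Coherent Groth.Agent.PicLib Groth.Agent.AmpleLib Groth.Agent.EulerLib
open Groth.Agent.BlowUpCoh Groth.Agent.CAlgH.KoszulRegular

namespace Groth.Agent.Models7

/-- Over an affine base, vanishing higher direct images give vanishing cohomology. -/
theorem subsingleton_HH_of_isZero_rpush {X Y : Scheme.{u}} [IsAffine Y] (b : X ⟶ Y) [QuasiCompact b] [QuasiSeparated b]
    (M : X.Modules) [Coh.IsQCoh M] (q : ℕ) (hz : IsZero ((Coh.RpushAb b q).obj (Coh.toAb M))) :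
    Subsingleton (Coh.HH X M q) := by
  have h := VarietyLib.subsingleton_H'_preimage_of_isZero b M q hz (isAffineOpen_top Y)
  rw [Scheme.Hom.preimage_top] at h
  exact (HHTopEquiv M q).subsingleton

variable {X Y : Scheme.{u}} [IsAffine Y] {I : Y.IdealSheafData} {b : X ⟶ Y} (hb : BlowUp.IsBlowUp b I)
  {n : ℕ} (f : Fin (n + 1) → Γ(Y, ⊤))
  (hspan : I.ideal ⟨⊤, isAffineOpen_top Y⟩ = Ideal.span (Set.range f)) (hf : KReg f)

include hspan hf in
theorem koszulBasis_affine : KoszulBasis I 0 :=
  koszulBasis_of_local fun _ _ => ⟨⟨⊤, isAffineOpen_top Y⟩, n, f, trivial, Nat.zero_le _, hspan, hf⟩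

include hb hspan hf in
theorem subsingleton_HH_idealPow (m q : ℕ) (hq : 1 ≤ q) :
    Subsingleton (Coh.HH X (ClSub.idealMod ((I.comap b) ^ m)) q) ∧
      Subsingleton (Coh.HH X (Coh.structureModule X) q) := by
  have hI := koszulBasis_affine f hspan hf
  haveI := BlowUpLib.isProper_of_isBlowUp hb (isFiniteType_of_koszulBasis hI)
  constructor
  · haveI := MorProj.isQCoh_idealMod ((I.comap b) ^ m)
    obtain ⟨T⟩ := exists_twistPow (I.comap b) m
    exact subsingleton_HH_of_isZero_rpush b _ q (isZero_rpushAb hb hI T (by omega) q hq)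
  · haveI : Coh.IsQCoh (Coh.structureModule X) := isQCoh_structureModule
    exact subsingleton_HH_of_isZero_rpush b _ q (isZero_rpushAb hb hI (twistO (I.comap b)) (by simp) q hq)

include hb hspan hf in
/-- Thickenings of the exceptional divisor have no higher cohomology. -/
theorem subsingleton_HH_quotPow (m q : ℕ) (hq : 1 ≤ q) :
    Subsingleton (Coh.HH X (ClSub.quotMod ((I.comap b) ^ m)) q) :=
  Lipman24.subsingleton_HH_X₃ (CurveRR24.shortExact_ideal ((I.comap b) ^ m)) q
    (subsingleton_HH_idealPow hb f hspan hf m q hq).2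
    (subsingleton_HH_idealPow hb f hspan hf m (q + 1) (by omega)).1

include hb hspan hf in
/-- The functions on a thickening of the exceptional divisor are those on the thickening of the centre. -/
theorem functions_quotPow (m : ℕ) :
    Function.Surjective (fun r => ((I.comap b) ^ m).subschemeι.app ⊤ (b.appTop r)) ∧
      ∀ r, ((I.comap b) ^ m).subschemeι.app ⊤ (b.appTop r) = 0 ↔ r ∈ Ideal.span (Set.range f) ^ m := by
  have hI := koszulBasis_affine f hspan hf
  haveI := BlowUpLib.isProper_of_isBlowUp hb (isFiniteType_of_koszulBasis hI)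
  haveI : X.IsSeparated := ⟨by
    rw [show terminal.from X = b ≫ terminal.from Y from terminal.hom_ext _ _]; infer_instance⟩
  haveI := isIso_unitMap hb hI
  have hbij : Function.Bijective (b.appTop) :=
    (ConcreteCategory.bijective_of_isIso ((StMod.unitMap b).app ⊤) :)
  let K := (I.comap b) ^ m
  refine ⟨fun x => ?_, fun r => ⟨fun h => ?_, fun h => ?_⟩⟩
  · obtain ⟨y, hy⟩ := Lipman24.surjective_app_top (CurveRR24.shortExact_ideal K)
      (subsingleton_HH_idealPow hb f hspan hf m 1 le_rfl).1 x
    obtain ⟨r, rfl⟩ := hbij.2 y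
    exact ⟨r, hy⟩
  · refine mem_pow_of_section b f hb hspan hf fun W => ?_
    rw [← Scheme.IdealSheafData.ker_subschemeι_app, RingHom.mem_ker]
    have e : (b.appLE ⊤ W.1 le_top).hom r = X.presheaf.map (homOfLE (le_top : W.1 ≤ ⊤)).op (b.appTop r) := rfl
    show K.subschemeι.app W.1 ((b.appLE ⊤ W.1 le_top).hom r) = 0
    rw [e]
    refine (congrArg (fun φ => φ.hom (b.appTop r)) (K.subschemeι.naturality (homOfLE (le_top : W.1 ≤ ⊤)).op)).trans ?_
    show K.subscheme.presheaf.map _ (K.subschemeι.app ⊤ (b.appTop r)) = 0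
    rw [show K.subschemeι.app ⊤ (b.appTop r) = 0 from h, map_zero]
  · refine sec_ext (ClSub.quotMod K) _ _ fun y _ => ?_
    obtain ⟨W, hW, hyW, -⟩ := Opens.isBasis_iff_nbhd.mp X.isBasis_affineOpens (show y ∈ (⊤ : X.Opens) from trivial)
    refine ⟨W, le_top, hyW, ?_⟩
    refine Eq.trans ?_ (map_zero _).symm
    have hmem : (b.appLE ⊤ W le_top).hom r ∈ K.ideal ⟨W, hW⟩ := by
      rw [Scheme.IdealSheafData.ideal_pow, Pi.pow_apply,
        ProjLib.comap_ideal_eq I b ⟨⊤, isAffineOpen_top Y⟩ ⟨W, hW⟩ le_top, hspan, ← Ideal.map_pow]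
      exact Ideal.mem_map_of_mem _ h
    rw [← Scheme.IdealSheafData.ker_subschemeι_app, RingHom.mem_ker] at hmem
    refine Eq.trans ?_ hmem
    exact (congrArg (fun φ => φ.hom (b.appTop r)) (K.subschemeι.naturality (homOfLE (le_top : W ≤ ⊤)).op)).symm

section lengths

variable {R : Type u} [CommRing R] [IsDomain R] [IsDiscreteValuationRing R] (p : Y ⟶ Spec (CommRingCat.of R))

include hb hspan hf in
/-- The colength of a power of the exceptional ideal is that of the power of the centre. -/
theorem length_quotPow (m : ℕ) :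
    letI : Algebra R Γ(Y, ⊤) := RingHom.toAlgebra (R := R) (S := Γ(Y, ⊤)) (Coh.toGlobal p)
    Module.length R (Coh.HH (Over.mk (b ≫ p)).left
      (ClSub.quotMod (X := (Over.mk (b ≫ p)).left) ((I.comap b) ^ m)) 0) =
      Module.length R (Γ(Y, ⊤) ⧸ Ideal.span (Set.range f) ^ m) := by
  letI : Algebra R Γ(Y, ⊤) := RingHom.toAlgebra (R := R) (S := Γ(Y, ⊤)) (Coh.toGlobal p)
  obtain ⟨hsurj, hker⟩ := functions_quotPow hb f hspan hf m
  let K := (I.comap b) ^ m
  let G := GA (baseHom R (Over.mk (b ≫ p)).left) (ClSub.quotMod (X := (Over.mk (b ≫ p)).left) K)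
  let φ : Γ(Y, ⊤) →ₗ[R] G :=
    { toFun := fun r => (show G from K.subschemeι.app ⊤ (b.appTop r))
      map_add' := fun r s => by
        show K.subschemeι.app ⊤ (b.appTop (r + s)) = _
        rw [map_add, map_add]; rfl
      map_smul' := fun a r => by
        show K.subschemeι.app ⊤ (b.appTop (algebraMap R Γ(Y, ⊤) a * r)) = _
        rw [map_mul, map_mul]
        rfl }
  have hk : LinearMap.ker φ = (Ideal.span (Set.range f) ^ m).restrictScalars R :=
    Submodule.ext fun r => hker r
  rw [(CurveRR24.hhZero R _).length_eq, ← (φ.quotKerEquivOfSurjective hsurj).length_eq]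
  exact (Submodule.quotEquivOfEq _ _ hk).length_eq.trans
    (Submodule.Quotient.restrictScalarsEquiv R (Ideal.span (Set.range f) ^ m)).length_eq

end lengths

end Groth.Agent.Models7
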