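import Groth.Agent.Models7.ExcOfBlowUp
import Groth.Agent.Models7.ProjLineConst
import Groth.Agent.Models7.BlowUpSections

/-!
# Functions on the exceptional curve of the blow-up of a point
-/

set_option autoImplicit false
set_option linter.style.haveILetI false
set_option backward.isDefEq.respectTransparency false
set_option maxHeartbeats 1000000

universe u

open CategoryTheory CategoryTheory.Limits AlgebraicGeometry TopologicalSpace IsLocalRing Opposite
open Groth.Agent.Misc15.DivDescent Groth.Agent.SDiv28.CartierPart Groth.Agent.BlowUpCoh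

namespace Groth.Agent.Models7

/-- The functions on the scheme-theoretic exceptional divisor of the blow-up of a point with two-dimensional
regular local ring all come from the residue field of the point. -/
theorem surjective_residue_to_exceptional {Z X E : Scheme.{u}} [IsIntegral Z] (hZ : RegSurf Z) (z : Z)
    (hz : IsClosed ({z} : Set Z)) (hdim : ringKrullDim (Z.presheaf.stalk z) = 2) (b : X ⟶ Z)
    (hb : BlowUp.IsBlowUp b (Scheme.IdealSheafData.vanishingIdeal ⟨{z}, hz⟩)) (ι : E ⟶ X) [IsClosedImmersion ι]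
    (hker : ι.ker = (Scheme.IdealSheafData.vanishingIdeal ⟨{z}, hz⟩).comap b)
    (φ : E ⟶ Spec (Z.residueField z)) (hφ : φ ≫ Z.fromSpecResidueField z = ι ≫ b) :
    Function.Surjective φ.appTop := by
  let I := Scheme.IdealSheafData.vanishingIdeal ⟨{z}, hz⟩
  haveI := hZ.noeth
  haveI := hZ.compact
  let i := I.subschemeι
  have hsupp : (I.support : Set Z) = {z} := Scheme.IdealSheafData.coe_support_vanishingIdeal _
  haveI : IsReduced I.subscheme := Props12.isReduced_subscheme_vanishingIdeal _
  obtain ⟨z₀, hz₀⟩ := I.range_subschemeι.ge (hsupp.ge rfl)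
  have hsub : Subsingleton I.subscheme := ⟨fun a c => i.isClosedEmbedding.injective
    ((Set.mem_singleton_iff.1 (hsupp.le (I.range_subschemeι.le ⟨a, rfl⟩))).trans
      (Set.mem_singleton_iff.1 (hsupp.le (I.range_subschemeι.le ⟨c, rfl⟩))).symm)⟩
  haveI : IrreducibleSpace I.subscheme :=
    { isPreirreducible_univ := Set.subsingleton_univ.isPreirreducible
      toNonempty := ⟨z₀⟩ }
  haveI : IsIntegral I.subscheme := isIntegral_of_irreducibleSpace_of_isReduced _
  haveI : IsLocallyNoetherian I.subscheme := LocallyOfFiniteType.isLocallyNoetherian i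
  have hI0 : ∀ w : I.subscheme, IsRegularLocalRing (I.subscheme.presheaf.stalk w) := by
    intro w
    rw [hsub.elim w (genericPoint I.subscheme)]
    exact inferInstanceAs (IsRegularLocalRing I.subscheme.functionField)
  obtain ⟨U, hzU, -, rs, hrs, hk⟩ := (SDiv28.RegImm.isRegularImmersion i hZ.regular hI0).2 z₀
  obtain ⟨U, hU⟩ := U
  rw [hz₀] at hzU
  have hk' : I.ideal ⟨U, hU⟩ = Ideal.ofList rs :=
    (congrArg (fun J : Z.IdealSheafData => J.ideal ⟨U, hU⟩) (Scheme.IdealSheafData.ker_subschemeι I)).symm.trans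
      ((Scheme.Hom.ker_apply i ⟨U, hU⟩).trans hk)
  have hne : rs ≠ [] := by
    rintro rfl
    haveI := hZ.regular z
    have h1 : maximalIdeal (Z.presheaf.stalk z) = ⊥ := by
      rw [← stk_vanishingIdeal_point z hz, stk_eq I ⟨U, hU⟩ hzU, hk', Ideal.ofList_nil, Ideal.map_bot]
    have h2 := IsRegularLocalRing.spanFinrank_maximalIdeal (R := Z.presheaf.stalk z)
    rw [h1, hdim, Submodule.spanFinrank_bot] at h2
    exact absurd h2 (by decide)
  obtain ⟨n, f, -, hspan, hf⟩ := BlowUpCoh.exists_family_of_list rs hne (BlowUpCoh.isKoszulRegularSeq_of_isRegular hrs)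
  have hI : BlowUpCoh.KoszulBasis I 0 := BlowUpCoh.koszulBasis_of_local fun x hx => by
    rw [Set.mem_singleton_iff.1 (hsupp.le hx)]
    exact ⟨⟨U, hU⟩, n, f, hzU, Nat.zero_le _, hk'.trans hspan, hf⟩
  obtain ⟨f', hspan', hf', -⟩ := BlowUpCoh.exists_restrict_data hb hI hU (hk'.trans hspan) hf
  haveI : IsAffine (U : Scheme.{u}) := hU
  let O : X.Opens := b ⁻¹ᵁ U
  let I' : (U : Scheme.{u}).IdealSheafData := I.comap U.ι
  have hbU : BlowUp.IsBlowUp (b ∣_ U) I' := BlowUpLib.isBlowUp_restrict hb U
  obtain ⟨hsurj, -⟩ := functions_quotPow hbU f' hspan' hf' 1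
  have key : ∀ K : O.toScheme.IdealSheafData, K = (I'.comap (b ∣_ U)) ^ 1 →
      Function.Surjective (fun r => K.subschemeι.app ⊤ ((b ∣_ U).appTop r)) := by
    rintro K rfl; exact hsurj
  let J := ι.ker
  let K := J.comap O.ι
  have hK : K = (I'.comap (b ∣_ U)) ^ 1 := by
    rw [pow_one]
    show ι.ker.comap O.ι = _
    rw [hker, BlowUpCoh.comap_restrict]
  -- the exceptional divisor lies over `U`
  have hJsupp : (J.support : Set X) ⊆ (O : Set X) := by
    intro x hx
    have hx' : x ∈ ((I.comap b).support : Set X) := by rw [← hker]; exact hx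
    rw [Scheme.IdealSheafData.support_comap] at hx'
    show b x ∈ U
    rw [show b x = z from hsupp.le hx']
    exact hzU
  haveI : Surjective (pullback.snd O.ι J.subschemeι) := ⟨fun w => by
    have : w ∈ Set.range (pullback.snd O.ι J.subschemeι) := by
      rw [Scheme.Pullback.range_snd]
      show J.subschemeι w ∈ Set.range O.ι
      rw [Scheme.Opens.range_ι]
      exact hJsupp (J.range_subschemeι.le ⟨w, rfl⟩)
    exact this⟩
  haveI : IsIso (pullback.snd O.ι J.subschemeι) := by
    haveI : Epi (pullback.snd O.ι J.subschemeι).base :=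
      (TopCat.epi_iff_surjective _).2 (pullback.snd O.ι J.subschemeι).surjective
    exact IsOpenImmersion.isIso _
  let k : K.subscheme ⟶ E :=
    (Scheme.IdealSheafData.comapIso J O.ι).hom ≫ pullback.snd O.ι J.subschemeι ≫ inv ι.toImage
  have hk : k ≫ ι = K.subschemeι ≫ O.ι := by
    have h0 : inv ι.toImage ≫ ι = J.subschemeι := by
      rw [IsIso.inv_comp_eq]; exact ι.toImage_imageι.symm
    show ((Scheme.IdealSheafData.comapIso J O.ι).hom ≫ pullback.snd O.ι J.subschemeι ≫ inv ι.toImage) ≫ ι = _
    rw [Category.assoc, Category.assoc, h0, ← pullback.condition, ← Category.assoc]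
    congr 1
    exact Scheme.IdealSheafData.comapIso_hom_fst _ _
  have hr : Set.range (Z.fromSpecResidueField z).base ⊆ Set.range U.ι.base := by
    rw [Scheme.range_fromSpecResidueField, Scheme.Opens.range_ι]
    exact Set.singleton_subset_iff.2 hzU
  let ρ := IsOpenImmersion.lift U.ι (Z.fromSpecResidueField z) hr
  have hρ : k ≫ φ ≫ ρ = K.subschemeι ≫ (b ∣_ U) := by
    have hρU : ρ ≫ U.ι = Z.fromSpecResidueField z := IsOpenImmersion.lift_fac _ _ _
    clear_value k ρ
    rw [← cancel_mono U.ι, Category.assoc, Category.assoc, hρU, hφ, reassoc_of% hk,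
      Category.assoc, morphismRestrict_ι]
  intro s
  obtain ⟨r, hr'⟩ := key K hK (k.appTop s)
  refine ⟨ρ.appTop r, (ConcreteCategory.bijective_of_isIso k.appTop).1 ?_⟩
  have h1 : (k ≫ φ ≫ ρ).appTop r = (K.subschemeι ≫ (b ∣_ U)).appTop r := by rw [hρ]
  rw [Scheme.Hom.comp_appTop, Scheme.Hom.comp_appTop, Scheme.Hom.comp_appTop] at h1
  exact h1.trans hr'

end Groth.Agent.Models7
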