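import Groth.Agent.Inters29.NilSection
import Groth.Agent.Inters29.Constants
import Groth.Agent.Coherent.ProperFinite

/-!
# Chains of divisors in the special fibre whose functions form fields
-/

set_option autoImplicit false
set_option linter.style.haveILetI false
set_option backward.isDefEq.respectTransparency false
set_option maxHeartbeats 1000000

universe u

open CategoryTheory CategoryTheory.Limits AlgebraicGeometry TopologicalSpace IsLocalRing

namespace Groth.Agent.Models7

variable (R : Type u) [CommRing R] [IsDomain R] [IsDiscreteValuationRing R]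
variable {X : Over (Spec (CommRingCat.of R))} [IsIntegral X.left] [IsLocallyNoetherian X.left] [Flat X.hom]
  [IsProper X.hom]
variable (hreg : ∀ x : X.left, IsRegularLocalRing (X.left.presheaf.stalk x))
variable {n : ℕ} (Γ : Fin n → ArSurf.VertComp R X)
variable (L : Fin n → X.left.Modules) (hL : ∀ i, ClSub.IsInverseOf (L i) (ClSub.idealMod (Γ i).ι.ker))
variable (hΓ : Models.IsComponentList R X Γ) (hconn : _root_.IsConnected (Models.specialFibreSet R X))

/-- No smaller divisor has nonpositive degree on all the components it misses: the divisor has no room for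
nilpotent functions. -/
def Rigid (a : Fin n → ℕ) : Prop :=
  ∀ e : Fin n → ℕ, (∀ i, 1 ≤ e i) → (∀ i, e i ≤ a i) → e ≠ a →
    ∃ l, e l < a l ∧ 0 < ∑ i, (e i : ℤ) * ArSurf.inter R X (L i) (Γ l)

omit [IsIntegral X.left] [IsLocallyNoetherian X.left] [Flat X.hom] [IsProper X.hom] in
theorem rigid_one : Rigid R Γ L fun _ => 1 := fun e h1 h2 hne =>
  absurd (funext fun i => le_antisymm (h2 i) (h1 i)) hne

include hreg hL hΓ hconn

/-- The functions on a rigid divisor form a field, finite over the base. -/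
theorem isField_of_rigid (a : Fin n → ℕ) (ha : ∀ i, 1 ≤ a i) (hrig : Rigid R Γ L a) :
    IsField ↑(Γ((∏ j, (Γ j).ι.ker ^ a j).subscheme, ⊤)) ∧
      (((∏ j, (Γ j).ι.ker ^ a j).subschemeι ≫ X.hom).appTop.hom.comp
        (Scheme.ΓSpecIso (CommRingCat.of R)).inv.hom).Finite := by
  classical
  haveI : ∀ i, IsProper (Γ i).curve.hom := fun i => Inters29.isProper_curve R (Γ i)
  have hD := Inters29.isEffCartier_listComp R Γ hreg hΓ
  let I : X.left.IdealSheafData := ∏ j, (Γ j).ι.ker ^ a j
  let j := I.subschemeι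
  have hcov : (⋃ i, Set.range (Γ i).ι.base) = Models.specialFibreSet R X := by
    refine subset_antisymm (Set.iUnion_subset fun i => Inters29.range_subset_specialFibreSet R (Γ i)) fun z hz => ?_
    obtain ⟨i, hi⟩ := Inters29.exists_genPt_specializes R Γ hΓ hz
    exact Set.mem_iUnion.2 ⟨i, hi.mem_closed (Γ i).ι.isClosedEmbedding.isClosed_range ⟨_, rfl⟩⟩
  have hr : Set.range j.base = Models.specialFibreSet R X := by
    rw [← hcov, Scheme.IdealSheafData.range_subschemeι]
    ext x
    rw [SetLike.mem_coe, SDiv28.CartierPart.mem_support_iff_stk, SDiv28.CartierPart.stk_prod, Set.mem_iUnion]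
    constructor
    · intro h
      obtain ⟨i, -, hi⟩ := (Ideal.IsPrime.prod_le (inferInstance : (maximalIdeal _).IsPrime)).1 h
      rw [SDiv28.CartierPart.stk_pow, Ideal.IsPrime.pow_le_iff (Nat.one_le_iff_ne_zero.1 (ha i))] at hi
      exact ⟨i, (Inters29.support_ker_eq R (Γ i)).le ((SDiv28.CartierPart.mem_support_iff_stk _ x).2 hi)⟩
    · rintro ⟨i, hi⟩
      refine (Ideal.IsPrime.prod_le (inferInstance : (maximalIdeal _).IsPrime)).2 ⟨i, Finset.mem_univ i, ?_⟩
      rw [SDiv28.CartierPart.stk_pow, Ideal.IsPrime.pow_le_iff (Nat.one_le_iff_ne_zero.1 (ha i))]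
      exact (SDiv28.CartierPart.mem_support_iff_stk _ x).1 ((Inters29.support_ker_eq R (Γ i)).ge hi)
  let A := Γ(I.subscheme, ⊤)
  have hred : ∀ s : A, IsNilpotent s → s = 0 := by
    intro s hs
    by_contra hs0
    obtain ⟨e, hb, hne, hdeg⟩ := Inters29.exists_orders R hreg Γ hD
      (Inters29.gen_injective R hreg Γ hΓ) L hL a ha j (Scheme.IdealSheafData.ker_subschemeι I) s hs hs0
    obtain ⟨l, hl, hpos⟩ := hrig e (fun i => (hb i).1) (fun i => (hb i).2) hne
    exact not_le.2 hpos (hdeg l hl)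
  haveI : PreconnectedSpace I.subscheme := ⟨by
    refine j.isEmbedding.isInducing.isPreconnected_image.1 ?_
    rw [Set.image_univ, hr]; exact hconn.isPreconnected⟩
  obtain ⟨x, hx⟩ := hconn.nonempty
  obtain ⟨x', hx'⟩ := hr.ge hx
  haveI : Nontrivial A := RingHom.domain_nontrivial (I.subscheme.presheaf.germ ⊤ x' trivial).hom
  haveI : _root_.IsReduced A := ⟨hred⟩
  let eR := (Scheme.ΓSpecIso (CommRingCat.of R)).symm.commRingCatIsoToRingEquiv
  let str : R →+* A := (j ≫ X.hom).appTop.hom.comp eR.toRingHom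
  have hfin : str.Finite := RingHom.Finite.comp
    (Coherent.finite_app_of_isProper (j ≫ X.hom) (isAffineOpen_top _))
    (RingHom.Finite.of_surjective _ eR.surjective)
  obtain ⟨ϖ, hϖ⟩ := IsDiscreteValuationRing.exists_irreducible R
  haveI : CompactSpace I.subscheme := QuasiCompact.compactSpace_of_compactSpace (j ≫ X.hom)
  have hπ : str ϖ = 0 := by
    refine hred _ ((Scheme.isNilpotent_iff_basicOpen_eq_bot _).2 (TopologicalSpace.Opens.ext ?_))
    refine Set.eq_empty_of_forall_notMem fun y hy => ?_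
    have hyF : j y ∈ Models.specialFibreSet R X := hr.le ⟨y, rfl⟩
    have hy' : j y ∈ X.left.basicOpen (Inters29.unif R (X := X) ϖ) := by
      rw [← Scheme.Hom.mem_preimage, Scheme.preimage_basicOpen]
      exact hy
    exact (Inters29.mem_basicOpen_unif R hϖ (j y)).1 hy' hyF
  let φ : ResidueField R →+* A := Ideal.Quotient.lift (maximalIdeal R) str (fun b hb => by
    rw [hϖ.maximalIdeal_eq, Ideal.mem_span_singleton] at hb
    obtain ⟨c, rfl⟩ := hb
    rw [map_mul, hπ, zero_mul])
  letI : Algebra (ResidueField R) A := φ.toAlgebra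
  haveI : Module.Finite (ResidueField R) A :=
    RingHom.Finite.of_comp_finite (f := IsLocalRing.residue R) (g := φ) hfin
  exact ⟨Inters29.isField_of_finite (k := ResidueField R) (A := A) Inters29.idempotent_eq_zero_or_one, hfin⟩

omit hconn in
/-- Rigidity propagates along steps of positive degree. -/
theorem rigid_step (a : Fin n → ℕ) (hrig : Rigid R Γ L a) (i : Fin n) (ha : ∀ j, 1 ≤ a j)
    (hpos : 0 < ∑ l, (a l : ℤ) * ArSurf.inter R X (L l) (Γ i)) :
    Rigid R Γ L fun j => a j + if j = i then 1 else 0 := by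
  intro e h1 h2 hne
  by_cases hle : ∀ j, a j ≤ e j
  · have hei : e i = a i := by
      by_contra hc
      refine hne (funext fun j => le_antisymm (h2 j) ?_)
      show a j + (if j = i then 1 else 0) ≤ e j
      split_ifs with hj
      · subst hj; have := hle j; omega
      · simpa using hle j
    refine ⟨i, by show e i < a i + (if i = i then 1 else 0); rw [hei, if_pos rfl]; omega, hpos.trans_le (Finset.sum_le_sum fun l _ => ?_)⟩
    rcases eq_or_ne l i with rfl | hli
    · rw [hei]
    · exact mul_le_mul_of_nonneg_right (by exact_mod_cast hle l)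
        (Inters29.inter_offDiag R hreg Γ hΓ L hL hli.symm).1
  · let e' : Fin n → ℕ := fun j => min (e j) (a j)
    obtain ⟨l, hl, hp⟩ := hrig e' (fun j => le_min (h1 j) (ha j)) (fun j => min_le_right _ _) (fun h => hle fun j => by
      have := congrFun h j; simp only [e'] at this; omega)
    have hel : e' l = e l := by simp only [e'] at hl ⊢; omega
    refine ⟨l, ?_, hp.trans_le (Finset.sum_le_sum fun j _ => ?_)⟩
    · show e l < a l + _
      omega
    · rcases eq_or_ne j l with rfl | hjl
      · rw [hel]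
      · exact mul_le_mul_of_nonneg_right (by exact_mod_cast min_le_left (e j) (a j))
          (Inters29.inter_offDiag R hreg Γ hΓ L hL hjl.symm).1

/-- A chain from the reduced fibre to the primitive multiple of the fibre. -/
theorem exists_chain : ∃ (s : ℕ) (a : Fin (s + 1) → Fin n → ℕ), (a 0 = fun _ => 1) ∧
    (a (Fin.last s) = fun i => Models.mult R X (Γ i) / Models.multGcd R X Γ) ∧
    (∀ j : Fin s, ∃ i, a j.succ = a j.castSucc + Pi.single i 1) ∧ ∀ j, (∀ i, 1 ≤ a j i) ∧ Rigid R Γ L (a j) := by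
  classical
  let d := Models.multGcd R X Γ
  let m := fun i => Models.mult R X (Γ i)
  let m' := fun i => m i / d
  obtain ⟨z, hz⟩ := hconn.nonempty
  obtain ⟨i₀, -⟩ := Inters29.exists_genPt_specializes R Γ hΓ hz
  have hmpos : ∀ i, 0 < m i := Inters29.mult_pos' R Γ hΓ hreg
  have hdvd : ∀ i, d ∣ m i := fun i => Finset.gcd_dvd (Finset.mem_univ i)
  have hd : 0 < d := Nat.pos_of_dvd_of_pos (hdvd i₀) (hmpos i₀)
  have hmd : ∀ i, m i = d * m' i := fun i => (Nat.mul_div_cancel' (hdvd i)).symm
  have hm'pos : ∀ i, 1 ≤ m' i := fun i => by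
    have h := hmd i
    have := hmpos i
    rcases Nat.eq_zero_or_pos (m' i) with h0 | h0
    · rw [h0, mul_zero] at h; omega
    · exact h0
  have hgcd : Finset.univ.gcd m' = 1 := Finset.gcd_div_eq_one (Finset.mem_univ i₀) (hmpos i₀).ne'
  -- from any vector below the target, one more step
  have step : ∀ a : Fin n → ℕ, (∀ i, 1 ≤ a i) → (∀ i, a i ≤ m' i) → a ≠ m' →
      ∃ i, a i < m' i ∧ 0 < ∑ l, (a l : ℤ) * ArSurf.inter R X (L l) (Γ i) := by
    intro a h1 h2 hne
    by_contra hc
    push Not at hc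
    have hzero : ∑ i, (m' i : ℤ) * (∑ l, (a l : ℤ) * ArSurf.inter R X (L l) (Γ i)) = 0 := by
      have h : (d : ℤ) * ∑ i, (m' i : ℤ) * (∑ l, (a l : ℤ) * ArSurf.inter R X (L l) (Γ i)) = 0 := by
        rw [Finset.mul_sum]
        simp only [← mul_assoc, ← Nat.cast_mul, ← hmd, Finset.mul_sum]
        rw [Finset.sum_comm]
        refine Finset.sum_eq_zero fun l _ => ?_
        have h0 := Inters29.sum_mult_mul_inter R hreg Γ hΓ L hL (Γ l)
        rw [← mul_zero ((a l : ℕ) : ℤ), ← h0, Finset.mul_sum]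
        refine Finset.sum_congr rfl fun i _ => ?_
        rw [Inters29.inter_symm_of_list R hreg Γ hΓ L hL i l]
        simp only [m]
        push_cast
        ring
      exact (mul_eq_zero.1 h).resolve_left (Int.natCast_ne_zero.2 hd.ne')
    have hle : ∑ i, ((m' i : ℤ) - a i) * (∑ l, (a l : ℤ) * ArSurf.inter R X (L l) (Γ i)) ≤ 0 :=
      Finset.sum_nonpos fun i _ => by
        rcases eq_or_lt_of_le (h2 i) with h | h
        · rw [h, sub_self, zero_mul]
        · exact mul_nonpos_of_nonneg_of_nonpos (sub_nonneg.2 (by exact_mod_cast h2 i)) (hc i h)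
    simp only [sub_mul, Finset.sum_sub_distrib, hzero] at hle
    let x : Fin n → ℚ := fun i => (a i : ℚ)
    have hquad := Inters29.quad_nonpos_and_of_connected R hreg Γ hΓ L hL hconn x
    have hdot : dotProduct x (Matrix.mulVec (Inters29.interMat R Γ L ℚ) x) =
        ((∑ l, (a l : ℤ) * (∑ i, (a i : ℤ) * ArSurf.inter R X (L i) (Γ l)) : ℤ) : ℚ) := by
      simp only [dotProduct, Matrix.mulVec, Inters29.interMat_apply, x]
      push_cast
      exact Finset.sum_congr rfl fun l _ => congrArg _ (Finset.sum_congr rfl fun i _ => mul_comm _ _)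
    obtain ⟨q, hq⟩ := hquad.2.1 (le_antisymm hquad.1 (by
      rw [hdot]; exact_mod_cast (by omega : (0 : ℤ) ≤ ∑ l, (a l : ℤ) * (∑ i, (a i : ℤ) * ArSurf.inter R X (L i) (Γ l)))))
    let t : ℚ := q * d
    have hqi : ∀ i, (a i : ℤ) * (t.den : ℤ) = t.num * (m' i : ℤ) := fun i => by
      have h1 : (a i : ℚ) = t * (m' i : ℚ) := by
        rw [show (a i : ℚ) = q * (m i : ℚ) from congrFun hq i, hmd i]; simp only [t]; push_cast; ring
      have h2 : (a i : ℚ) * (t.den : ℚ) = (t.num : ℚ) * (m' i : ℚ) := by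
        rw [h1, mul_right_comm, Rat.mul_den_eq_num]
      exact_mod_cast h2
    have hden : t.den ∣ Finset.univ.gcd m' := Finset.dvd_gcd fun i _ => by
      have h1 : (t.den : ℤ) ∣ t.num * (m' i : ℤ) := ⟨a i, by rw [← hqi i]; ring⟩
      have h2 := Int.natAbs_dvd_natAbs.2 h1
      simp only [Int.natAbs_natCast, Int.natAbs_mul] at h2
      exact t.reduced.symm.dvd_of_dvd_mul_left h2
    rw [hgcd, Nat.dvd_one] at hden
    obtain ⟨l, hl⟩ : ∃ l, a l ≠ m' l := Function.ne_iff.1 hne
    have h := hqi l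
    rw [hden, Nat.cast_one, mul_one] at h
    have h2l := h2 l
    have h1l := h1 l
    have h1n : (1 : ℤ) ≤ t.num := by nlinarith [Int.natCast_nonneg (m' l)]
    have h3 : (m' l : ℤ) ≤ a l := by rw [h]; nlinarith [Int.natCast_nonneg (m' l)]
    exact hl (by omega)
  -- iterate
  suffices H : ∀ (r : ℕ) (a₀ : Fin n → ℕ), (∀ i, 1 ≤ a₀ i) → (∀ i, a₀ i ≤ m' i) → Rigid R Γ L a₀ →
      (∑ i, (m' i - a₀ i)) = r → ∃ (s : ℕ) (a : Fin (s + 1) → Fin n → ℕ), a 0 = a₀ ∧ a (Fin.last s) = m' ∧
      (∀ j : Fin s, ∃ i, a j.succ = a j.castSucc + Pi.single i 1) ∧ ∀ j, (∀ i, 1 ≤ a j i) ∧ Rigid R Γ L (a j) from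
    H _ (fun _ => 1) (fun _ => le_rfl) hm'pos (rigid_one R Γ L) rfl
  intro r
  induction r with
  | zero =>
    intro a₀ h1 h2 h3 h4
    refine ⟨0, fun _ => a₀, rfl, funext fun i => le_antisymm (h2 i) ?_, fun j => j.elim0, fun _ => ⟨h1, h3⟩⟩
    have := Finset.sum_eq_zero_iff.1 h4 i (Finset.mem_univ i)
    show m' i ≤ a₀ i
    omega
  | succ r ih =>
    intro a₀ h1 h2 h3 h4
    have hne : a₀ ≠ m' := fun h => by rw [h] at h4; simp at h4
    obtain ⟨i, hi, hpos⟩ := step a₀ h1 h2 hne
    let a₁ : Fin n → ℕ := fun j => a₀ j + if j = i then 1 else 0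
    have hr : ∑ j, (m' j - a₁ j) = r := by
      have hj : ∀ j, m' j - a₀ j = (m' j - a₁ j) + if j = i then 1 else 0 := fun j => by
        simp only [a₁]; split_ifs with h
        · subst h; omega
        · omega
      rw [Finset.sum_congr rfl fun j _ => hj j, Finset.sum_add_distrib, Finset.sum_ite_eq'] at h4
      simp at h4
      omega
    obtain ⟨s, a, ha0, halast, hastep, harig⟩ := ih a₁ (fun j => (h1 j).trans (Nat.le_add_right _ _))
      (fun j => by simp only [a₁]; split_ifs with h; · subst h; omega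
                   · simpa using h2 j)
      (rigid_step R hreg Γ L hL hΓ a₀ h3 i h1 hpos) hr
    refine ⟨s + 1, Fin.cons a₀ a, rfl, ?_, fun j => ?_, fun j => ?_⟩
    · rw [← Fin.succ_last, Fin.cons_succ, halast]
    · refine Fin.cases ?_ (fun j' => ?_) j
      · refine ⟨i, ?_⟩
        rw [Fin.cons_succ, ha0, Fin.castSucc_zero, Fin.cons_zero]
        funext l
        simp [a₁, Pi.single_apply]
      · obtain ⟨i', hi'⟩ := hastep j'
        exact ⟨i', by rw [← Fin.succ_castSucc, Fin.cons_succ, Fin.cons_succ]; exact hi'⟩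
    · exact Fin.cases ⟨h1, h3⟩ (fun j' => harig j') j

end Groth.Agent.Models7
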