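import Groth.Agent.Models7.DualizingRestrict
import Groth.Agent.Coherent.FiniteType
import Groth.Agent.AmpleLib.FTIdeal
import Groth.Agent.CurveRR24.RR
import Groth.Agent.FSchLib.IdealSheaf
import Groth.Prelude.Def_ModelsG

/-!
# Cohomological flatness in degree zero and torsion in the first cohomology
-/

set_option autoImplicit false
set_option linter.style.haveILetI false
set_option backward.isDefEq.respectTransparency false

universe u

open CategoryTheory CategoryTheory.Limits AlgebraicGeometry Opposite TopologicalSpace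
open Groth.Agent.Coherent Groth.Agent.EulerLib

namespace Groth.Agent.Models7

/-- Surjectivity onto the sections of the special fibre is torsion-freeness of `H¹(O)`. -/
theorem H0_surjective_iff (R : Type u) [CommRing R] [IsDomain R]
    [IsDiscreteValuationRing R] (X : Scheme.{u}) [X.Over (Spec (CommRingCat.of R))]
    [IsProper (X ↘ Spec (CommRingCat.of R))] [Flat (X ↘ Spec (CommRingCat.of R))] :
    Function.Surjective (Sheaf.H.map ((SheafOfModules.toSheaf X.ringCatSheaf).map
      (ClSub.toSubscheme (Models.specialFibreIdeal R (Over.mk (X ↘ Spec (CommRingCat.of R)))))) 0) ↔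
      NoZeroSMulDivisors R (Coh.HH X (Coh.structureModule X) 1) := by
  obtain ⟨π, hπ⟩ := IsDiscreteValuationRing.exists_irreducible R
  let q := X ↘ Spec (CommRingCat.of R)
  let φ := baseHom R X
  haveI : IsLocallyNoetherian X := LocallyOfFiniteType.isLocallyNoetherian q
  let I : X.IdealSheafData := Models.specialFibreIdeal R (Over.mk q)
  let μ : Coh.structureModule X ⟶ Coh.structureModule X := unitDesc (Coh.structureModule X) (φ π)
  have hμ : ∀ (V : X.Opens) (r : Γ(X, V)), (show Γ(X, V) from μ.app V r) =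
      r * X.presheaf.map (homOfLE (le_top : V ≤ ⊤)).op (φ π) := fun V r => by
    have h := app_unit μ r
    rw [unitVal_unitDesc] at h
    exact h
  have hres : ∀ (V : X.Opens) (hV : IsAffineOpen V),
      I.ideal ⟨V, hV⟩ = Ideal.span {X.presheaf.map (homOfLE (le_top : V ≤ ⊤)).op (φ π)} := fun V hV => by
    have h : (Curv2.idealSheaf R (IsLocalRing.maximalIdeal R)).ideal ⟨⊤, isAffineOpen_top _⟩ =
        (IsLocalRing.maximalIdeal R).map (Scheme.ΓSpecIso (CommRingCat.of R)).inv.hom := by
      simp [Curv2.idealSheaf]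
    show ((Curv2.idealSheaf R (IsLocalRing.maximalIdeal R)).comap q).ideal ⟨V, hV⟩ = _
    rw [FSchLib.ideal_comap_eq_map q _ ⟨V, hV⟩ ⟨⊤, isAffineOpen_top _⟩ (fun _ _ => trivial), h, Ideal.map_map,
      hπ.maximalIdeal_eq, Ideal.map_span, Set.image_singleton]
    rfl
  have hinj : ∀ (V : X.Opens), Function.Injective (μ.app V) := fun V => by
    refine (injective_iff_map_eq_zero _).2 fun r hr => ?_
    refine TopCat.Presheaf.section_ext X.sheaf V _ _ fun x hx => ?_
    obtain ⟨U, hU, hxU, (hUV : U ≤ V)⟩ := exists_isAffineOpen_mem_and_subset hx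
    have hflat := q.flat_appLE (isAffineOpen_top _) hU (show U ≤ q ⁻¹ᵁ ⊤ from fun _ _ => trivial)
    let ψ : R →+* Γ(X, U) := (q.appLE ⊤ U (show U ≤ q ⁻¹ᵁ ⊤ from fun _ _ => trivial)).hom.comp
      (Scheme.ΓSpecIso (CommRingCat.of R)).inv.hom
    have hψ : ψ.Flat :=
      RingHom.Flat.comp (RingHom.Flat.of_bijective (ConcreteCategory.bijective_of_isIso (Scheme.ΓSpecIso (CommRingCat.of R)).inv)) hflat
    letI : Algebra R Γ(X, U) := ψ.toAlgebra
    haveI : Module.Flat R Γ(X, U) := hψ
    have hreg : IsSMulRegular Γ(X, U) π :=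
      Module.Flat.isSMulRegular_of_nonZeroDivisors (mem_nonZeroDivisors_of_ne_zero hπ.ne_zero)
    have h0 : X.presheaf.map (homOfLE hUV).op r = 0 := by
      refine hreg.right_eq_zero_of_smul ?_
      rw [Algebra.smul_def, mul_comm]
      show _ * X.presheaf.map (homOfLE (le_top : U ≤ ⊤)).op (φ π) = 0
      rw [← hμ]
      exact (app_resM μ hUV r).trans ((congrArg (resM (Coh.structureModule X) hUV) hr).trans (map_zero _))
    show X.presheaf.germ V x hx r = X.presheaf.germ V x hx 0
    rw [map_zero, ← TopCat.Presheaf.germ_res_apply X.presheaf (homOfLE hUV) x hxU]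
    exact (congrArg (X.presheaf.germ U x hxU) h0).trans (map_zero _)
  haveI : Mono μ := Preadditive.mono_of_cancel_zero _ fun {P} t ht => Scheme.Modules.hom_ext _ _ fun U => by
    ext m
    exact hinj U ((congrArg (fun z : P ⟶ Coh.structureModule X => z.app U m) ht).trans (map_zero (μ.app U).hom).symm)
  haveI := AmpleLib.mono_idealModι I
  have hker : ∀ (V : X.Opens), IsAffineOpen V → ∀ (r : Γ(X, V)),
      I.subschemeι.app V r = 0 ↔ ∃ s, r = s * X.presheaf.map (homOfLE (le_top : V ≤ ⊤)).op (φ π) := fun V hV r => by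
    rw [← RingHom.mem_ker, I.ker_subschemeι_app ⟨V, hV⟩, hres V hV, Ideal.mem_span_singleton']
    exact exists_congr fun s => eq_comm
  have hcomp : μ ≫ ClSub.toSubscheme I = 0 := by
    refine Scheme.Modules.hom_ext _ _ fun V => ConcreteCategory.hom_ext _ _ fun r => ?_
    show I.subschemeι.app V (μ.app V r) = 0
    refine TopCat.Presheaf.section_ext I.subscheme.sheaf _ _ _ fun z hz => ?_
    obtain ⟨U, hU, hzU, hUV⟩ := exists_isAffineOpen_mem_and_subset (show I.subschemeι z ∈ V from hz)
    show I.subscheme.presheaf.germ _ z hz (I.subschemeι.app V (μ.app V r)) = I.subscheme.presheaf.germ _ z hz 0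
    rw [map_zero, ← TopCat.Presheaf.germ_res_apply I.subscheme.presheaf
      ((Opens.map I.subschemeι.base).map (homOfLE hUV)) z hzU]
    refine (congrArg (I.subscheme.presheaf.germ _ z hzU) ?_).trans (map_zero _)
    refine (ConcreteCategory.congr_hom (I.subschemeι.naturality (homOfLE hUV).op) _).symm.trans ?_
    exact (hker U hU _).2 ⟨_, (app_resM μ hUV r).symm.trans (hμ U _)⟩
  let ψ : Coh.structureModule X ⟶ ClSub.idealMod I := kernel.lift (ClSub.toSubscheme I) μ hcomp
  have hψ : ψ ≫ ClSub.idealModι I = μ := kernel.lift_ι _ _ _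
  haveI : Mono ψ := by
    haveI : Mono (ψ ≫ ClSub.idealModι I) := by rw [hψ]; infer_instance
    exact mono_of_mono ψ (ClSub.idealModι I)
  haveI : Epi ψ := epi_of_locally_surjective ψ fun W a y hy => by
    obtain ⟨V, hV, hyV, hVW⟩ := exists_isAffineOpen_mem_and_subset hy
    obtain ⟨s, hs⟩ := (hker V hV _).1 ((AmpleLib.mem_range_idealModι I V _).1 ⟨resM _ hVW a, rfl⟩)
    refine ⟨V, hVW, hyV, s, app_injective_of_mono (ClSub.idealModι I) V ?_⟩
    exact (congrArg (fun ρ : Coh.structureModule X ⟶ Coh.structureModule X => ρ.app V s) hψ).trans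
      ((hμ V s).trans hs.symm)
  haveI : IsIso ψ := isIso_of_mono_of_epi ψ
  let S : ShortComplex X.Modules := ShortComplex.mk μ (ClSub.toSubscheme I) hcomp
  have hS : S.ShortExact := ShortComplex.shortExact_of_iso
    (ShortComplex.isoMk (asIso ψ).symm (Iso.refl _) (Iso.refl _)
      (by simp [S, ← hψ]) (by simp [S]) :
      ShortComplex.mk (ClSub.idealModι I) (ClSub.toSubscheme I) (kernel.condition _) ≅ S)
    (CurveRR24.shortExact_ideal I)
  have hsmul : ∀ x : HA φ (Coh.structureModule X) (⊤ : X.Opens) 1, postA φ μ ⊤ 1 x = π • x := fun x => by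
    have h : (toAbFunctor X).map μ = smulEndAb (Coh.structureModule X) (φ π) := by
      ext V r
      refine (hμ V.unop r).trans ((mul_comm _ _).trans ?_)
      exact (smulEndAb_app (Coh.structureModule X) (φ π) V.unop r).symm
    show postHM μ 1 ⊤ x = postH (smulEndAb (Coh.structureModule X) (φ π)) 1 ⊤ x
    rw [← h]
    rfl
  have h1 : Function.Surjective (Sheaf.H.map ((SheafOfModules.toSheaf X.ringCatSheaf).map (ClSub.toSubscheme I)) 0) ↔
      Function.Surjective (postA φ S.g ⊤ 0) := by
    constructor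
    · intro h y
      obtain ⟨x, hx⟩ := h ((HHBaseEquiv R _ 0).symm y)
      refine ⟨HHBaseEquiv R _ 0 x, ?_⟩
      rw [← hhBaseEquiv_natural_ring, hx, LinearEquiv.apply_symm_apply]
    · intro h y
      obtain ⟨x, hx⟩ := h (HHBaseEquiv R _ 0 y)
      refine ⟨(HHBaseEquiv R _ 0).symm x, (HHBaseEquiv R _ 0).injective ?_⟩
      rw [hhBaseEquiv_natural_ring, LinearEquiv.apply_symm_apply]
      exact hx
  refine h1.trans ⟨fun h => ⟨fun {a x} hax => ?_⟩, fun h y => ?_⟩
  · by_cases ha : a = 0
    · exact Or.inl ha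
    refine Or.inr ?_
    obtain ⟨k, v, rfl⟩ := IsDiscreteValuationRing.eq_unit_mul_pow_irreducible ha hπ
    have hpi : ∀ z : Coh.HH X (Coh.structureModule X) 1, π • z = 0 → z = 0 := fun z hz => by
      have hz' : postA φ μ ⊤ 1 (HHBaseEquiv R _ 1 z) = 0 := by
        rw [hsmul, ← map_smul, hz, map_zero]
      obtain ⟨w, hw⟩ := (exact_deltaA_postA φ hS ⊤ 0 _).1 hz'
      obtain ⟨t, rfl⟩ := h w
      refine (HHBaseEquiv R _ 1).injective ?_
      rw [map_zero, ← hw]
      exact (exact_postA_deltaA φ hS ⊤ 0).apply_apply_eq_zero t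
    rw [mul_smul] at hax
    have hx' : π ^ k • x = 0 := v.isUnit.smul_eq_zero.1 hax
    clear hax ha
    induction k with
    | zero => simpa using hx'
    | succ k ih =>
      rw [pow_succ', mul_smul] at hx'
      exact ih (hpi _ hx')
  · refine (exact_postA_deltaA φ hS ⊤ 0 y).1 ?_
    have hz : postA φ μ ⊤ 1 (deltaA φ hS ⊤ 0 y) = 0 := (exact_deltaA_postA φ hS ⊤ 0).apply_apply_eq_zero y
    rw [hsmul] at hz
    refine (HHBaseEquiv R (Coh.structureModule X) 1).symm.injective ?_
    rw [map_zero]
    refine (h.eq_zero_or_eq_zero_of_smul_eq_zero (c := π) ?_).resolve_left hπ.ne_zero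
    rw [← map_smul]
    exact (congrArg _ hz).trans (map_zero _)

end Groth.Agent.Models7
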