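import Groth.Agent.PicLib.LiftGen
import Groth.Agent.PicLib.FlatTriv
import Groth.Agent.PicLib.PicMonoid
import Mathlib.Dynamics.Newton

/-!
# Torsion invertible modules trivial on a surjective closed subscheme

A root of a polynomial with invertible derivative lifts uniquely along a surjective closed immersion, so
a trivialisation of a power of `L` compatible with one on the subscheme can be normalised and glued.
-/

set_option autoImplicit false
set_option linter.style.haveILetI false
set_option backward.isDefEq.respectTransparency false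

universe u

open CategoryTheory CategoryTheory.Limits AlgebraicGeometry Opposite TopologicalSpace Polynomial
open Groth.Agent.Coherent Groth.Agent.PicLib Groth.Agent.AmpleLib

namespace Groth.Agent.Models7

variable {X T : Scheme.{u}} (σ : T ⟶ X)

theorem app_res {U V : X.Opens} (h : V ≤ U) (r : Γ(X, U)) :
    σ.app V (res h r) = res ((Opens.map σ.base).map (homOfLE h)).le (σ.app U r) :=
  congr($(σ.naturality (homOfLE h).op) r)

variable [IsClosedImmersion σ] [Surjective σ]

theorem isNilpotent_of_app_eq_zero {U : X.Opens} (hU : IsAffineOpen U) {a : Γ(X, U)} (h : σ.app U a = 0) :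
    IsNilpotent a := by
  have h0 : X.basicOpen a = ⊥ := by
    refine Opens.ext (Set.eq_empty_iff_forall_notMem.2 fun x hx => ?_)
    obtain ⟨z, rfl⟩ := σ.surjective x
    have hz : z ∈ σ ⁻¹ᵁ X.basicOpen a := hx
    rw [Scheme.preimage_basicOpen, h, Scheme.basicOpen_zero] at hz
    exact hz.elim
  refine PrimeSpectrum.basicOpen_eq_bot_iff a |>.1 ?_
  have h1 := hU.fromSpec_preimage_basicOpen a
  rw [h0] at h1
  exact h1.symm

theorem existsUnique_root {U : X.Opens} (hU : IsAffineOpen U) (P : Γ(X, U)[X]) (b : Γ(T, σ ⁻¹ᵁ U))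
    (h0 : P.eval₂ (σ.app U).hom b = 0) (h1 : IsUnit (P.derivative.eval₂ (σ.app U).hom b)) :
    ∃! a : Γ(X, U), σ.app U a = b ∧ P.eval a = 0 := by
  obtain ⟨v, rfl⟩ := σ.app_surjective _ hU b
  have hv : IsNilpotent (aeval v P) := by
    refine isNilpotent_of_app_eq_zero σ hU ?_
    rw [coe_aeval_eq_eval]
    exact (eval₂_hom (σ.app U).hom v).symm.trans h0
  have hv' : IsUnit (aeval v P.derivative) := by
    rw [coe_aeval_eq_eval]
    have h := (eval₂_hom (σ.app U).hom v (p := P.derivative)).symm ▸ h1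
    refine isUnit_of_pullback_isUnit σ ?_
    exact h
  obtain ⟨r, ⟨hr, hr0⟩, huniq⟩ := existsUnique_nilpotent_sub_and_aeval_eq_zero hv hv'
  have hvr : σ.app U r = σ.app U v := by
    -- the nilpotent difference maps to zero as soon as the root on the subscheme is simple
    have hw := existsUnique_nilpotent_sub_and_aeval_eq_zero (R := Γ(T, σ ⁻¹ᵁ U)) (P := P.map (σ.app U).hom)
      (x := σ.app U v) (by rw [coe_aeval_eq_eval, eval_map, h0]; exact IsNilpotent.zero)
      (by rw [coe_aeval_eq_eval, derivative_map, eval_map]; exact h1)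
    refine hw.unique ⟨?_, ?_⟩ ⟨?_, ?_⟩
    · rw [← map_sub]; exact hr.map _
    · rw [coe_aeval_eq_eval, eval_map, eval₂_hom, ← coe_aeval_eq_eval, hr0, map_zero]
    · rw [sub_self]; exact IsNilpotent.zero
    · rw [coe_aeval_eq_eval, eval_map, h0]
  refine ⟨r, ⟨hvr, by rw [← coe_aeval_eq_eval]; exact hr0⟩, fun r' ⟨h2, h3⟩ => huniq r' ⟨?_, ?_⟩⟩
  · exact isNilpotent_of_app_eq_zero σ hU (by rw [map_sub, h2, sub_self])
  · rw [coe_aeval_eq_eval]; exact h3

theorem eq_of_root {W : X.Opens} (P : Γ(X, W)[X]) {a a' : Γ(X, W)} (he : σ.app W a = σ.app W a')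
    (h0 : P.eval a = 0) (h0' : P.eval a' = 0) (h1 : IsUnit (σ.app W (P.derivative.eval a))) : a = a' := by
  choose U hU hUW using fun y : W => exists_isAffineOpen_mem_and_subset (x := (y : X)) (U := W) y.2
  refine TopCat.Sheaf.eq_of_locally_eq' X.sheaf U W (fun y => homOfLE (hUW y).2)
    (fun y hy => Opens.mem_iSup.2 ⟨⟨y, hy⟩, (hUW ⟨y, hy⟩).1⟩) a a' fun y => ?_
  show res (hUW y).2 a = res (hUW y).2 a'
  have heval : ∀ (Q : Γ(X, W)[X]) (c : Γ(X, W)),
      (Q.map (res (hUW y).2)).eval (res (hUW y).2 c) = res (hUW y).2 (Q.eval c) := fun Q c => by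
    rw [eval_map, eval₂_hom]
  refine (existsUnique_root σ (hU y) (P.map (res (hUW y).2)) (σ.app _ (res (hUW y).2 a)) ?_ ?_).unique
    ⟨rfl, ?_⟩ ⟨?_, ?_⟩
  · rw [eval₂_hom, heval, h0, map_zero, map_zero]
  · rw [derivative_map, eval₂_hom, heval, app_res]
    exact h1.map _
  · rw [heval, h0, map_zero]
  · rw [app_res, app_res, he]
  · rw [heval, h0', map_zero]

theorem exists_global_root (P : Γ(X, ⊤)[X]) (b : Γ(T, ⊤))
    (h0 : P.eval₂ σ.appTop.hom b = 0) (h1 : IsUnit (P.derivative.eval₂ σ.appTop.hom b)) :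
    ∃ a : Γ(X, ⊤), σ.appTop a = b ∧ P.eval a = 0 := by
  choose U hU hUW using fun y : X => exists_isAffineOpen_mem_and_subset (x := y) (U := ⊤) (Set.mem_univ _)
  have hle : ∀ y, U y ≤ ⊤ := fun y => le_top
  have hP : ∀ (y : X) (Q : Γ(X, ⊤)[X]), (Q.map (res (hle y))).eval₂ (σ.app (U y)).hom
      (res ((Opens.map σ.base).map (homOfLE (hle y))).le b) =
      res ((Opens.map σ.base).map (homOfLE (hle y))).le (Q.eval₂ σ.appTop.hom b) := fun y Q => by
    rw [eval₂_map, hom_eval₂]
    congr 1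
    exact RingHom.ext fun r => app_res σ (hle y) r
  choose a ha using fun y => (existsUnique_root σ (hU y) (P.map (res (hle y)))
    (res ((Opens.map σ.base).map (homOfLE (hle y))).le b)
    (by rw [hP, h0, map_zero]) (by rw [derivative_map, hP]; exact h1.map _)).exists
  have hcov : ⊤ ≤ iSup U := fun y _ => Opens.mem_iSup.2 ⟨y, (hUW y).1⟩
  obtain ⟨(s : Γ(X, ⊤)), hs, -⟩ := TopCat.Sheaf.existsUnique_gluing' X.sheaf U ⊤ (fun y => homOfLE (hle y)) hcov a
    (fun y y' => by
      show res inf_le_left (a y) = res inf_le_right (a y')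
      refine eq_of_root σ (P.map (res (le_top : U y ⊓ U y' ≤ ⊤))) ?_ ?_ ?_ ?_
      · rw [app_res, app_res, (ha y).1, (ha y').1, PicLib.res_res, PicLib.res_res]
      · rw [show P.map (res (le_top : U y ⊓ U y' ≤ ⊤)) = (P.map (res (hle y))).map (res inf_le_left) by
          rw [Polynomial.map_map]; congr 1; exact RingHom.ext fun r => (PicLib.res_res _ _ r).symm]
        rw [eval_map, eval₂_hom, (ha y).2, map_zero]
      · rw [show P.map (res (le_top : U y ⊓ U y' ≤ ⊤)) = (P.map (res (hle y'))).map (res inf_le_right) by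
          rw [Polynomial.map_map]; congr 1; exact RingHom.ext fun r => (PicLib.res_res _ _ r).symm]
        rw [eval_map, eval₂_hom, (ha y').2, map_zero]
      · rw [derivative_map, ← eval₂_hom, app_res, (ha y).1, PicLib.res_res, eval₂_map]
        have e : ((σ.app (U y ⊓ U y')).hom.comp (res (le_top : U y ⊓ U y' ≤ ⊤))) =
            (res ((Opens.map σ.base).map (homOfLE (le_top : U y ⊓ U y' ≤ ⊤))).le).comp σ.appTop.hom :=
          RingHom.ext fun r => app_res σ _ r
        rw [e, ← hom_eval₂]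
        exact h1.map _)
  have hs' : ∀ y, res (hle y) s = a y := hs
  have hcov' : (⊤ : T.Opens) ≤ ⨆ y, σ ⁻¹ᵁ U y := fun z _ => Opens.mem_iSup.2 ⟨σ z, (hUW _).1⟩
  refine ⟨s, TopCat.Sheaf.eq_of_locally_eq' T.sheaf (fun y => σ ⁻¹ᵁ U y) ⊤ (fun y => homOfLE le_top) hcov' _ _
    fun y => ?_, TopCat.Sheaf.eq_of_locally_eq' X.sheaf U ⊤ (fun y => homOfLE (hle y)) hcov _ _ fun y => ?_⟩
  · show res le_top (σ.app ⊤ s) = res le_top b
    exact (app_res σ (hle y) s).symm.trans ((congrArg (σ.app (U y)).hom (hs' y)).trans (ha y).1)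
  · show res (hle y) (P.eval s) = res (hle y) 0
    rw [map_zero, ← eval₂_hom, ← eval_map, hs', (ha y).2]

variable {L : X.Modules} (hL : PicF.IsInvertible L)

include hL in
/-- A torsion invertible module trivial on a surjective closed subscheme is torsion of every order `q` for
which the `q`-th powers of functions on the subscheme lift. -/
theorem exists_tensorPow_trivial (h : ℕ) (hh : IsUnit (h : Γ(X, ⊤)))
    (ht : Nonempty (CohB1.tensorPow L h ≅ Coh.structureModule X))
    (hs : Nonempty ((Scheme.Modules.pullback σ).obj L ≅ Coh.structureModule T))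
    (hlift : ∀ u : Γ(T, ⊤), IsUnit u → ∃ q : ℕ, Nat.Coprime q h ∧ ∃ a : Γ(X, ⊤), σ.appTop a = u ^ q) :
    ∃ q : ℕ, Nat.Coprime q h ∧ PicM.of hL ^ q = 1 := by
  obtain ⟨e0⟩ := hs
  obtain ⟨e1⟩ := ht
  have : Coh.IsQCoh L := isQCoh_of_isInvertible hL
  let s₀ := e0.inv.app ⊤ (oneSec ⊤)
  have hs₀ : IsGen _ ⊤ s₀ := isGen_app_iso e0.symm (isGen_oneSec ⊤)
  let t := e1.inv.app ⊤ (oneSec ⊤)
  have ht : IsGen _ ⊤ t := isGen_app_iso e1.symm (isGen_oneSec ⊤)
  choose U hU hUW using fun y : X => exists_isAffineOpen_mem_and_subset (x := y) (U := ⊤) (Set.mem_univ _)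
  choose e he using fun y => surjective_pullSec σ (L := L) (hU y) (resM _ le_top s₀)
  have hgen : ∀ y, IsGen L (U y) (e y) := fun y => isGen_of_pullSec σ hL (by rw [he]; exact hs₀.restrict _)
  let v : ∀ y, Γ(X, U y) := fun y => ht.coef le_top (powSec (e y) h)
  have hv : ∀ y, v y • resM _ le_top t = powSec (e y) h := fun y => ht.coef_spec le_top _
  have hvu : ∀ y, IsUnit (v y) := fun y => by
    have := (ht.restrict (le_top : U y ≤ ⊤)).isUnit_coef (isGen_powSec (hgen y) h)
    rwa [(ht.restrict (le_top : U y ≤ ⊤)).coef_eq le_rfl (r := v y) (by rw [resM_self]; exact hv y)] at this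
  let W := fun y y' => U y ⊓ U y'
  -- the cocycle of the lifts
  let c : ∀ y y', Γ(X, W y y') := fun y y' => (hgen y').coef inf_le_right (resM L (inf_le_left : W y y' ≤ U y) (e y))
  have hc : ∀ y y', c y y' • resM L inf_le_right (e y') = resM L inf_le_left (e y) := fun y y' =>
    (hgen y').coef_spec _ _
  have hc1 : ∀ y y', σ.app (W y y') (c y y') = 1 := fun y y' => by
    have hg := isGen_pullSec σ ((hgen y').restrict (inf_le_right : W y y' ≤ U y')) hL
    have h2 := congrArg (pullSec σ) (hc y y')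
    rw [pullSec_smul, ← resM_pullSec σ inf_le_left, ← resM_pullSec σ inf_le_right, he, he, resM_resM, resM_resM] at h2
    have hg' : IsGen _ (σ ⁻¹ᵁ W y y') (resM _ le_top s₀) := hs₀.restrict _
    refine (hg' _ le_rfl).1 ?_
    show σ.app _ (c y y') • resM _ le_rfl _ = (1 : Γ(T, σ ⁻¹ᵁ W y y')) • resM _ le_rfl _
    rw [one_smul, resM_self]
    exact h2
  have hvc : ∀ y y', res inf_le_left (v y) = c y y' ^ h * res inf_le_right (v y') := fun y y' => by
    refine ((ht.restrict (le_top : W y y' ≤ ⊤)) _ le_rfl).1 ?_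
    show _ • resM _ le_rfl _ = _ • resM _ le_rfl _
    rw [resM_self, mul_smul]
    have e2 := congrArg (resM _ (inf_le_left : W y y' ≤ U y)) (hv y)
    have e3 := congrArg (resM _ (inf_le_right : W y y' ≤ U y')) (hv y')
    rw [resM_smul, resM_resM, resM_powSec] at e2 e3
    refine e2.trans ?_
    refine Eq.trans ?_ (congrArg (c y y' ^ h • ·) e3.symm)
    rw [← powSec_smul, hc]
  -- the function comparing the two trivialisations
  obtain ⟨(u : Γ(T, ⊤)), hu, -⟩ := TopCat.Sheaf.existsUnique_gluing' T.sheaf (fun y => σ ⁻¹ᵁ U y) ⊤ (fun y => homOfLE le_top)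
    (fun z _ => Opens.mem_iSup.2 ⟨σ z, (hUW _).1⟩) (fun y => σ.app (U y) (v y)) (fun y y' => by
      show res inf_le_left (σ.app (U y) (v y)) = res inf_le_right (σ.app (U y') (v y'))
      have h2 := congrArg (σ.app (W y y')) (hvc y y')
      rw [map_mul, map_pow, hc1, one_pow, one_mul, app_res, app_res] at h2
      exact h2)
  have hu' : ∀ y, res le_top u = σ.app (U y) (v y) := hu
  have huu : IsUnit u := T.toRingedSpace.isUnit_of_isUnit_germ ⊤ u fun z hz => by
    have h2 := ((hu' (σ z)).symm ▸ (hvu (σ z)).map (σ.app (U (σ z))).hom :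
      IsUnit (res (le_top : σ ⁻¹ᵁ U (σ z) ≤ ⊤) u)).map (T.presheaf.germ (σ ⁻¹ᵁ U (σ z)) z (hUW _).1).hom
    rwa [TopCat.Presheaf.germ_res_apply] at h2
  obtain ⟨q, hq, a, ha⟩ := hlift u huu
  -- normalise the lifts of the `q`-th powers
  let r : ∀ y, Γ(X, U y) := fun y => res (le_top : U y ≤ ⊤) a * ↑((hvu y).pow q).unit⁻¹
  have hr : ∀ y, r y * v y ^ q = res (le_top : U y ≤ ⊤) a := fun y => by
    simp only [r]
    rw [mul_assoc, IsUnit.val_inv_mul, mul_one]
  have hr1 : ∀ y, σ.app (U y) (r y) = 1 := fun y => by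
    have h2 := congrArg (σ.app (U y)) (hr y)
    rw [map_mul, map_pow, app_res, show σ.app ⊤ a = u ^ q from ha, map_pow, ← hu' y] at h2
    exact (((huu.map (res (le_top : σ ⁻¹ᵁ U y ≤ ⊤))).pow q).mul_eq_right).1 h2
  choose w hw using fun y => (existsUnique_root σ (hU y) (Polynomial.X ^ h - Polynomial.C (r y)) 1
    (by rw [eval₂_sub, eval₂_X_pow, eval₂_C, one_pow, hr1, sub_self])
    (by
      rw [derivative_sub, derivative_C, sub_zero, derivative_X_pow, eval₂_mul, eval₂_C, eval₂_X_pow, one_pow,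
        mul_one, map_natCast]
      simpa using hh.map ((σ.app (U y)).hom.comp (res (le_top : U y ≤ ⊤))))).exists
  have hwe : ∀ y, w y ^ h = r y := fun y => by
    have h2 := (hw y).2
    rw [eval_sub, eval_pow, eval_X, eval_C, sub_eq_zero] at h2
    exact h2
  have hwu : ∀ y, IsUnit (w y) := fun y => isUnit_of_pullback_isUnit σ ((hw y).1.symm ▸ isUnit_one)
  have hkey : ∀ y y', res inf_le_left (w y) * c y y' ^ q = res (inf_le_right : W y y' ≤ U y') (w y') := fun y y' => by
    refine eq_of_root σ (Polynomial.X ^ h - Polynomial.C (res inf_le_right (r y'))) ?_ ?_ ?_ ?_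
    · rw [map_mul, map_pow, hc1, one_pow, mul_one, app_res, app_res, (hw y).1, (hw y').1, map_one, map_one]
    · rw [eval_sub, eval_pow, eval_X, eval_C, sub_eq_zero]
      refine (((hvu y').map (res (inf_le_right : W y y' ≤ U y'))).pow q).mul_right_cancel ?_
      rw [mul_pow, ← map_pow, hwe, ← map_pow (res inf_le_right), ← map_mul (res inf_le_right), hr, PicLib.res_res,
        mul_assoc, ← pow_mul, mul_comm q h, pow_mul, map_pow, ← mul_pow, ← hvc, ← map_pow, ← map_mul, hr, PicLib.res_res]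
    · rw [eval_sub, eval_pow, eval_X, eval_C, ← map_pow, hwe, sub_self]
    · rw [derivative_sub, derivative_C, sub_zero, derivative_X_pow, eval_mul, eval_C, eval_pow, eval_X,
        map_mul, map_pow, map_natCast, map_mul (σ.app (W y y')).hom, map_pow (σ.app (W y y')).hom, hc1, one_pow,
        mul_one, app_res, (hw y).1, map_one, one_pow, mul_one]
      simpa using hh.map ((σ.app (W y y')).hom.comp (res (le_top : W y y' ≤ ⊤)))
  let P := CohB1.tensorPow L q
  have hcov : ⊤ ≤ iSup U := fun y _ => Opens.mem_iSup.2 ⟨y, (hUW y).1⟩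
  obtain ⟨(g : Γ(P, ⊤)), hg, -⟩ := TopCat.Sheaf.existsUnique_gluing'
    (⟨P.presheaf, P.isSheaf⟩ : TopCat.Sheaf Ab X) U ⊤ (fun y => homOfLE le_top) hcov
    (fun y => w y • powSec (e y) q) (fun y y' => by
      show resM P inf_le_left (w y • powSec (e y) q) = resM P inf_le_right (w y' • powSec (e y') q)
      rw [resM_smul, resM_smul, resM_powSec, resM_powSec, ← hc y y', powSec_smul, ← mul_smul]
      exact congrArg (· • _) (hkey y y'))
  have hgg : IsGen P ⊤ g := isGen_of_cover U (fun y => le_top) hcov fun y => by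
    rw [show resM P le_top g = w y • powSec (e y) q from hg y]
    exact (isGen_smul_iff (hwu y)).2 (isGen_powSec (hgen y) q)
  refine ⟨q, hq, ?_⟩
  rw [← PicM.of_tensorPow hL q, PicM.of_eq_one_iff]
  have : IsIso (unitDesc P g) := isIso_of_isGen _ (by rw [unitVal_unitDesc, resM_self]; exact hgg)
  exact ⟨(asIso (unitDesc P g)).symm⟩

include hL in
/-- A torsion invertible module trivial on a surjective closed subscheme is trivial. -/
theorem trivial_of_thickening (h : ℕ) (hh : IsUnit (h : Γ(X, ⊤)))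
    (ht : Nonempty (CohB1.tensorPow L h ≅ Coh.structureModule X))
    (hs : Nonempty ((Scheme.Modules.pullback σ).obj L ≅ Coh.structureModule T))
    (hlift : ∀ u : Γ(T, ⊤), IsUnit u → ∃ q : ℕ, Nat.Coprime q h ∧
      ∃ P : Γ(X, ⊤)[X], P.eval₂ σ.appTop.hom (u ^ q) = 0 ∧ IsUnit (P.derivative.eval₂ σ.appTop.hom (u ^ q))) :
    Nonempty (L ≅ Coh.structureModule X) := by
  obtain ⟨q, hq, hpow⟩ := exists_tensorPow_trivial σ hL h hh ht hs fun u hu => by
    obtain ⟨q, hq, P, h0, h1⟩ := hlift u hu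
    obtain ⟨a, ha, -⟩ := exists_global_root σ P _ h0 h1
    exact ⟨q, hq, a, ha⟩
  have hpowh : PicM.of hL ^ h = 1 := by
    rw [← PicM.of_tensorPow hL h, PicM.of_eq_one_iff]; exact ht
  have hone : PicM.of hL ^ Nat.gcd q h = 1 := pow_gcd_eq_one.2 ⟨hpow, hpowh⟩
  rw [show Nat.gcd q h = 1 from hq, pow_one] at hone
  exact (PicM.of_eq_one_iff hL).1 hone

end Groth.Agent.Models7
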