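import Groth.Agent.Models7.EtaleRelMin
import Groth.Agent.CAlgH.RegularGenerization

/-!
# Surfaces along extensions of discrete valuation rings with the same residue field
-/

set_option autoImplicit false
set_option linter.style.haveILetI false
set_option backward.isDefEq.respectTransparency false
set_option maxHeartbeats 2000000

universe u

open CategoryTheory CategoryTheory.Limits AlgebraicGeometry TopologicalSpace IsLocalRing
open Groth.Agent.Coherent

namespace Groth.Agent.Models7

variable {D D' : Type u} [CommRing D] [IsDomain D] [IsDiscreteValuationRing D]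
  [CommRing D'] [IsDomain D'] [IsDiscreteValuationRing D'] [Algebra D D'] [IsLocalHom (algebraMap D D')]
  {X : Over (Spec (CommRingCat.of D))} {T : Over (Spec (CommRingCat.of D'))} {q : T.left ⟶ X.left}

/-- Along an extension with the same residue field the maximal ideals of points of the closed fibre are generated
from below, and the closed fibres are homeomorphic. -/
theorem sameResidue_facts (hq : IsPullback q T.hom X.hom (Spec.map (CommRingCat.ofHom (algebraMap D D'))))
    (hm : (maximalIdeal D).map (algebraMap D D') = maximalIdeal D')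
    (hres : Function.Bijective (algebraMap (ResidueField D) (ResidueField D'))) :
    (∀ t : T.left, T.hom t = closedPoint D' →
        (maximalIdeal (X.left.presheaf.stalk (q t))).map (q.stalkMap t).hom = maximalIdeal (T.left.presheaf.stalk t)) ∧
      (∀ x : X.left, X.hom x = closedPoint D → ∃ t, T.hom t = closedPoint D' ∧ q t = x) ∧
      ∀ t t' : T.left, T.hom t = closedPoint D' → T.hom t' = closedPoint D' → q t = q t' → t = t' := by
  let res := Spec.map (CommRingCat.ofHom (IsLocalRing.residue D))
  haveI : IsClosedImmersion res := IsClosedImmersion.spec_of_surjective _ IsLocalRing.residue_surjective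
  let F := pullback X.hom res
  let iX : F ⟶ X.left := pullback.fst X.hom res
  let sF := pullback.snd X.hom res
  let iT : pullback iX q ⟶ T.left := pullback.snd iX q
  let π : pullback iX q ⟶ F := pullback.fst iX q
  haveI : IsIso (Spec.map (CommRingCat.ofHom (algebraMap (ResidueField D) (ResidueField D')))) := by
    haveI : IsIso (CommRingCat.ofHom (algebraMap (ResidueField D) (ResidueField D'))) :=
      (ConcreteCategory.isIso_iff_bijective _).2 hres
    infer_instance
  have h1 := (IsPullback.of_hasPullback iX q).paste_vert hq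
  have hs := isPullback_residue (D := D) (D' := D') hm
  have hw : (π ≫ sF) ≫ res = (iT ≫ T.hom) ≫ Spec.map (CommRingCat.ofHom (algebraMap D D')) := by
    rw [Category.assoc, ← pullback.condition]; exact h1.w
  have sq : IsPullback π (hs.lift _ _ hw) sF
      (Spec.map (CommRingCat.ofHom (algebraMap (ResidueField D) (ResidueField D')))) := by
    refine IsPullback.of_bot ?_ (hs.lift_fst _ _ hw).symm hs
    rw [hs.lift_snd, show sF ≫ res = iX ≫ X.hom from pullback.condition.symm]
    exact h1
  haveI : IsIso π := MorphismProperty.of_isPullback (P := MorphismProperty.isomorphisms Scheme.{u}) sq.flip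
    (inferInstanceAs (IsIso (Spec.map (CommRingCat.ofHom (algebraMap (ResidueField D) (ResidueField D'))))))
  haveI : IsClosedImmersion iX := inferInstanceAs (IsClosedImmersion (pullback.fst X.hom res))
  haveI : IsClosedImmersion iT := inferInstanceAs (IsClosedImmersion (pullback.snd iX q))
  have hrX : Set.range iX.base = X.hom.base ⁻¹' {closedPoint D} := by
    rw [Scheme.Pullback.range_fst]
    refine congrArg _ (Set.Subset.antisymm ?_ (Set.singleton_subset_iff.2 ⟨closedPoint (ResidueField D), comap_closedPoint (IsLocalRing.residue D)⟩))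
    rintro _ ⟨w, rfl⟩
    rw [Set.mem_singleton_iff, Subsingleton.elim w (closedPoint (ResidueField D))]
    exact comap_closedPoint (IsLocalRing.residue D)
  have hcl : ∀ t : T.left, T.hom t = closedPoint D' → X.hom (q t) = closedPoint D := fun t ht => by
    rw [← Scheme.Hom.comp_apply, hq.w, Scheme.Hom.comp_apply, ht]
    exact comap_closedPoint (algebraMap D D')
  have hmem : ∀ t : T.left, T.hom t = closedPoint D' → t ∈ Set.range iT.base := fun t ht => by
    rw [Scheme.Pullback.range_snd, Set.mem_preimage, hrX]; exact hcl t ht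
  have hqi : ∀ v, q (iT v) = iX (π v) := fun v => by
    rw [← Scheme.Hom.comp_apply, ← pullback.condition, Scheme.Hom.comp_apply]
  refine ⟨fun t ht => ?_, fun x hx => ?_, fun t t' ht ht' h => ?_⟩
  · obtain ⟨v, rfl⟩ := hmem t ht
    refine le_antisymm (IsLocalRing.map_maximalIdeal_le _) fun a ha => ?_
    -- the kernel of restriction to the fibre comes from below
    have hker : RingHom.ker (iT.stalkMap v).hom =
        (Misc15.DivDescent.stk iX.ker (q (iT v))).map (q.stalkMap (iT v)).hom := by
      rw [Inters29.ker_stalkMap_eq_stk, FlatMorThick.ker_eq_comap_of_isPullback (IsPullback.of_hasPullback iX q).flip,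
        Misc15.DivDescent.stk_comap]
    have hle : Misc15.DivDescent.stk iX.ker (q (iT v)) ≤ maximalIdeal _ := by
      refine IsLocalRing.le_maximalIdeal ?_
      rw [hqi, ← Inters29.ker_stalkMap_eq_stk iX (π v)]
      exact RingHom.ker_ne_top _
    -- lift the class of `a` from below
    obtain ⟨y, hy⟩ := (ConcreteCategory.bijective_of_isIso (π.stalkMap v)).2 (iT.stalkMap v a)
    obtain ⟨b, hb⟩ := iX.stalkMap_surjective (π v) y
    have hnat := Scheme.Hom.stalkMap_comp iT q v
    have hnat' := Scheme.Hom.stalkMap_comp π iX v
    let b' : X.left.presheaf.stalk (q (iT v)) :=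
      X.left.presheaf.stalkSpecializes (specializes_of_eq (hqi v)) b
    have hb' : iT.stalkMap v (q.stalkMap (iT v) b') = iT.stalkMap v a := by
      have h2 := Scheme.Hom.stalkMap_congr_hom (iT ≫ q) (π ≫ iX) pullback.condition.symm v
      rw [Scheme.Hom.stalkMap_comp, Scheme.Hom.stalkMap_comp] at h2
      have h3 := ConcreteCategory.congr_hom h2 b'
      simp only [CommRingCat.comp_apply] at h3
      rw [h3, ← hy, ← hb]
      congr 2
      simp only [b']
      simp only [TopCat.Presheaf.stalkCongr_hom]
      rw [← CommRingCat.comp_apply]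
      erw [TopCat.Presheaf.stalkSpecializes_comp, TopCat.Presheaf.stalkSpecializes_refl]
      rfl
    have hbm : b' ∈ maximalIdeal _ := by
      rw [IsLocalRing.mem_maximalIdeal, mem_nonunits_iff]
      intro hu
      have h1 := (hu.map (q.stalkMap (iT v)).hom).map (iT.stalkMap v).hom
      rw [show (iT.stalkMap v).hom ((q.stalkMap (iT v)).hom b') = iT.stalkMap v a from hb'] at h1
      exact (IsLocalRing.mem_maximalIdeal a).1 ha (IsUnit.of_map (iT.stalkMap v).hom a h1)
    have hdiff : a - q.stalkMap (iT v) b' ∈ RingHom.ker (iT.stalkMap v).hom := by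
      rw [RingHom.mem_ker, map_sub, sub_eq_zero]; exact hb'.symm
    rw [hker] at hdiff
    have := Ideal.add_mem _ (Ideal.map_mono hle hdiff) (Ideal.mem_map_of_mem (q.stalkMap (iT v)).hom hbm)
    rwa [sub_add_cancel] at this
  · obtain ⟨w, rfl⟩ := hrX.ge hx
    obtain ⟨v, rfl⟩ := π.homeomorph.surjective w
    refine ⟨iT v, ?_, hqi v⟩
    rw [← Scheme.Hom.comp_apply, ← hs.lift_snd _ _ hw, Scheme.Hom.comp_apply,
      Subsingleton.elim (hs.lift _ _ hw v) (closedPoint (ResidueField D'))]
    exact comap_closedPoint (IsLocalRing.residue D')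
  · obtain ⟨v, rfl⟩ := hmem t ht
    obtain ⟨v', rfl⟩ := hmem t' ht'
    rw [hqi, hqi] at h
    exact congrArg _ (π.homeomorph.injective (iX.isClosedEmbedding.injective h))

/-- An integral base change along a flat extension with the same residue field is an arithmetic surface. -/
theorem isArithSurface_sameResidue (hX : ArSurf.IsArithSurface D X)
    (hq : IsPullback q T.hom X.hom (Spec.map (CommRingCat.ofHom (algebraMap D D'))))
    (hm : (maximalIdeal D).map (algebraMap D D') = maximalIdeal D')
    (hres : Function.Bijective (algebraMap (ResidueField D) (ResidueField D'))) [Module.Flat D D']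
    [IsIntegral T.left] : ArSurf.IsArithSurface D' T := by
  have hD : ¬ IsField D := IsDiscreteValuationRing.not_isField D
  obtain ⟨hmax, hsurj, -⟩ := sameResidue_facts hq hm hres
  haveI := hX.2.1
  haveI := hX.2.2.2.1
  haveI : IsProper X.hom := Models7.isProper_of_projective hX.2.2.2.2
  haveI : IsLocallyNoetherian X.left := LocallyOfFiniteType.isLocallyNoetherian X.hom
  haveI : CompactSpace X.left := QuasiCompact.compactSpace_of_compactSpace X.hom
  haveI : IsProper T.hom := MorphismProperty.of_isPullback (P := @IsProper) hq inferInstance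
  haveI : Flat q := MorphismProperty.of_isPullback (P := @Flat) hq.flip
    ((HasRingHomProperty.Spec_iff (P := @Flat)).2 (RingHom.flat_algebraMap_iff.2 inferInstance))
  haveI : Flat T.hom := MorphismProperty.of_isPullback (P := @Flat) hq hX.2.2.2.1
  haveI : IsLocallyNoetherian T.left := LocallyOfFiniteType.isLocallyNoetherian T.hom
  haveI : CompactSpace T.left := QuasiCompact.compactSpace_of_compactSpace T.hom
  have hspec : ∀ t : T.left, ∃ c, t ⤳ c ∧ T.hom c = closedPoint D' := fun t => by
    have hc := T.hom.isClosedMap _ (isClosed_closure (s := {t}))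
    obtain ⟨c, hc1, hc2⟩ := (IsLocalRing.specializes_closedPoint (T.hom t)).mem_closed hc ⟨t, subset_closure rfl, rfl⟩
    exact ⟨c, specializes_iff_mem_closure.2 hc1, hc2⟩
  have hstalk : ∀ c : T.left, T.hom c = closedPoint D' →
      IsRegularLocalRing (T.left.presheaf.stalk c) ∧
        ringKrullDim (T.left.presheaf.stalk c) = ringKrullDim (X.left.presheaf.stalk (q c)) := fun c hc => by
    letI := (q.stalkMap c).hom.toAlgebra
    haveI : Module.Flat (X.left.presheaf.stalk (q c)) (T.left.presheaf.stalk c) := (Flat.iff_flat_stalkMap q).1 ‹_› c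
    haveI : IsLocalHom (algebraMap (X.left.presheaf.stalk (q c)) (T.left.presheaf.stalk c)) :=
      inferInstanceAs (IsLocalHom (q.stalkMap c).hom)
    haveI := hX.1 (q c)
    exact ⟨AlgSpLib.isRegularLocalRing_of_unramified_flat _ _ (hmax c hc),
      Et18.ringKrullDim_eq_of_flat_of_map_maximalIdeal _ _ (hmax c hc)⟩
  refine ⟨fun t => ?_, inferInstance, ?_, inferInstance,
    CAlgSmall.ProjMore.isHProjective_baseChange hq hX.2.2.2.2⟩
  · obtain ⟨c, htc, hc⟩ := hspec t
    haveI := (hstalk c hc).1
    exact CAlgH.RegularGenerization.isRegularLocalRing_of_specializes htc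
  · refine topologicalKrullDim_eq_two_of_stalks (fun t => ?_) ?_
    · obtain ⟨c, htc, hc⟩ := hspec t
      calc ringKrullDim (T.left.presheaf.stalk t) ≤ ringKrullDim (T.left.presheaf.stalk c) := by
            rw [ringKrullDim_stalk_eq_coheight, ringKrullDim_stalk_eq_coheight]
            exact_mod_cast Order.coheight_anti (show c ≤ t from htc)
        _ = ringKrullDim (X.left.presheaf.stalk (q c)) := (hstalk c hc).2
        _ ≤ 2 := (CurvesLib24.stalk_dim_le_topologicalKrullDim _).trans hX.2.2.1.le
    · have hc : IsClosed ({closedPoint D} : Set (Spec (CommRingCat.of D))) := isClosed_singleton_closedPoint D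
      have hne : (X.hom.base ⁻¹' {closedPoint D}).Nonempty := by
        have hcl := X.hom.isClosedMap _ isClosed_univ
        rw [Set.image_univ] at hcl
        exact (IsLocalRing.specializes_closedPoint (X.hom (genericPoint X.left))).mem_closed hcl ⟨_, rfl⟩
      obtain ⟨x, hx, hxc⟩ := (hc.preimage X.hom.continuous).exists_closed_singleton hne
      obtain ⟨t, ht, rfl⟩ := hsurj x hx
      exact ⟨t, (hstalk t ht).2.trans (ringKrullDim_stalk_closed_eq_two hD hX _ hxc)⟩

/-- Having no exceptional curves is insensitive to extensions with the same residue field. -/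
theorem no_exc_iff_sameResidue (hX : ArSurf.IsArithSurface D X) (hT : ArSurf.IsArithSurface D' T)
    (hq : IsPullback q T.hom X.hom (Spec.map (CommRingCat.ofHom (algebraMap D D'))))
    (hm : (maximalIdeal D).map (algebraMap D D') = maximalIdeal D')
    (hres : Function.Bijective (algebraMap (ResidueField D) (ResidueField D'))) [Module.Flat D D'] :
    (∀ Γ : ArSurf.VertComp D X, ¬ Models.IsExcCurve Γ.ι) ↔
      ∀ E : ArSurf.VertComp D' T, ¬ Models.IsExcCurve E.ι := by
  haveI : FiniteDimensional (ResidueField D) (ResidueField D') :=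
    Module.Finite.of_surjective (Algebra.linearMap (ResidueField D) (ResidueField D')) hres.2
  haveI : Algebra.IsSeparable (ResidueField D) (ResidueField D') :=
    ⟨fun z => by obtain ⟨w, rfl⟩ := hres.2 z; exact isSeparable_algebraMap w⟩
  obtain ⟨-, hsurj, hinj⟩ := sameResidue_facts hq hm hres
  haveI := hX.2.1
  haveI := hX.2.2.2.1
  haveI := hT.2.1
  haveI := hT.2.2.2.1
  haveI : IsProper X.hom := Models7.isProper_of_projective hX.2.2.2.2
  haveI : IsProper T.hom := Models7.isProper_of_projective hT.2.2.2.2
  haveI hflat : Flat q := MorphismProperty.of_isPullback (P := @Flat) hq.flip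
    ((HasRingHomProperty.Spec_iff (P := @Flat)).2 (RingHom.flat_algebraMap_iff.2 inferInstance))
  constructor
  · intro h E hE
    have hcl : ∀ e, T.hom (E.ι e) = closedPoint D' := fun e => Inters29.range_subset_specialFibreSet _ E ⟨e, rfl⟩
    have hcl' : ∀ e, X.hom (q (E.ι e)) = closedPoint D := fun e => by
      rw [← Scheme.Hom.comp_apply, hq.w, Scheme.Hom.comp_apply, hcl]
      exact comap_closedPoint (algebraMap D D')
    obtain ⟨e₁, he₁⟩ := Inters29.exists_ne_genericPoint D' E
    let η := E.ι (genericPoint E.curve.left)
    have hηe : η ⤳ E.ι e₁ := (genericPoint_specializes e₁).map E.ι.continuous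
    have hnc : ¬ IsClosed ({q η} : Set X.left) := fun hc => he₁ (E.ι.isClosedEmbedding.injective
      (hinj _ _ (hcl _) (hcl _) ((hηe.map q.continuous).mem_closed hc rfl)))
    have hη0 : X.hom (genericPoint X.left) ≠ closedPoint D := by
      rw [Inters29.hom_genericPoint D (X := X) (genericPoint X.left)]
      exact Inters29.bot_ne_closedPoint D
    obtain ⟨Γ, hΓ⟩ := exists_vertComp D (X := X) hX.2.2.1.le hη0 (hcl' _) hnc
    have hEgen := (genericPoint_spec E.curve.left).image E.ι.continuous
    rw [Set.image_univ, E.ι.isClosedEmbedding.isClosed_range.closure_eq] at hEgen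
    have hsub : Set.range E.ι.base ⊆ q.base ⁻¹' Set.range Γ.ι.base := by
      rintro _ ⟨e, rfl⟩
      rw [Set.mem_preimage, hΓ]
      exact specializes_iff_mem_closure.1 (((genericPoint_specializes e).map E.ι.continuous).map q.continuous)
    refine h Γ (exc_down hq hX hT hflat hm Γ E hE hsub fun t ht x hx htx => ?_)
    obtain ⟨ex, rfl⟩ := hx
    have htcl : T.hom t = closedPoint D' := by
      obtain ⟨s, hs⟩ := ht
      obtain ⟨t₀, ht₀, hqt₀⟩ := hsurj (q t) (by rw [← hs]; exact Inters29.hom_ι_eq D Γ s)
      have hmax : X.hom (q t) = closedPoint D := by rw [← hs]; exact Inters29.hom_ι_eq D Γ s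
      rw [← Scheme.Hom.comp_apply, hq.w, Scheme.Hom.comp_apply] at hmax
      have h2 : Ideal.comap (algebraMap D D') (show PrimeSpectrum D' from T.hom t).asIdeal = maximalIdeal D :=
        congrArg PrimeSpectrum.asIdeal hmax
      refine PrimeSpectrum.ext (le_antisymm (IsLocalRing.le_maximalIdeal (PrimeSpectrum.isPrime _).ne_top) ?_)
      show maximalIdeal D' ≤ _
      rw [← hm, Ideal.map_le_iff_le_comap]
      exact h2.ge
    by_cases hqt : q t = q η
    · exact ⟨_, (hinj _ _ htcl (hcl _) hqt).symm⟩
    · have h1 : q η ⤳ q t := specializes_iff_mem_closure.2 (hΓ.le ht)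
      have h2 : IsClosed ({q t} : Set X.left) :=
        isClosed_of_specializes_dim_two hX.2.2.1.le h1 (Ne.symm hqt) (fun e => hη0 (e ▸ hcl' _))
      exact ⟨ex, hinj _ _ (hcl _) htcl ((htx.map q.continuous).mem_closed h2 rfl)⟩
  · intro h Γ hΓ
    obtain ⟨a, -, ha⟩ := hsurj (Γ.ι (genericPoint Γ.curve.left)) (Inters29.hom_ι_eq D Γ _)
    obtain ⟨A, hA, -⟩ := exists_exc_up hq hX hT hflat hm Γ hΓ a ⟨_, ha.symm⟩
    exact h A hA

/-- Relative minimality over a discrete valuation ring is the absence of exceptional curves. -/
theorem isRelMinimal_iff_no_exc (hX : ArSurf.IsArithSurface D X) :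
    Neron.IsRelMinimalRegularModel D X ↔ ∀ Γ : ArSurf.VertComp D X, ¬ Models.IsExcCurve Γ.ι := by
  haveI := hX.2.1
  haveI := hX.2.2.2.1
  haveI : IsProper X.hom := Models7.isProper_of_projective hX.2.2.2.2
  have hR : ¬ IsField D := IsDiscreteValuationRing.not_isField D
  have hP : ∀ (P : Ideal D) [P.IsMaximal], Function.Bijective (algebraMap D (Localization.AtPrime P)) := by
    intro P _
    have hu : P.primeCompl ≤ IsUnit.submonoid D := fun x hx => by
      by_contra hxu
      exact hx ((IsLocalRing.eq_maximalIdeal ‹P.IsMaximal›).ge hxu)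
    exact (IsLocalization.atUnits D P.primeCompl (S := Localization.AtPrime P) hu).bijective
  constructor
  · intro hm Γ hΓ
    let P := maximalIdeal D
    haveI := isDVR_atPrime P hR
    haveI : IsLocalHom (algebraMap D (Localization.AtPrime P)) :=
      ⟨fun a ha => by
        obtain ⟨b, hb⟩ := (hP P).2 ↑ha.unit⁻¹
        exact IsUnit.of_mul_eq_one b ((hP P).1 (by rw [map_mul, hb, map_one, ha.mul_val_inv]))⟩
    have hm' : (maximalIdeal D).map (algebraMap D (Localization.AtPrime P)) = maximalIdeal _ :=
      IsLocalization.AtPrime.map_eq_maximalIdeal P (Localization.AtPrime P)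
    have hres' : Function.Bijective (algebraMap (ResidueField D) (ResidueField (Localization.AtPrime P))) :=
      ⟨RingHom.injective _, fun z => by
        obtain ⟨z, rfl⟩ := IsLocalRing.residue_surjective z
        obtain ⟨w, rfl⟩ := (hP P).2 z
        exact ⟨IsLocalRing.residue D w, rfl⟩⟩
    haveI : Module.Flat D (Localization.AtPrime P) := IsLocalization.flat _ P.primeCompl
    haveI : IsIso (locMap P) := by
      haveI : IsIso (CommRingCat.ofHom (algebraMap D (Localization.AtPrime P))) :=
        (ConcreteCategory.isIso_iff_bijective _).2 (hP P)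
      exact inferInstanceAs (IsIso (Spec.map _))
    let XP : Over (Spec (CommRingCat.of (Localization.AtPrime P))) := Over.mk (pullback.snd X.hom (locMap P))
    haveI : IsIso (pullback.fst X.hom (locMap P)) := inferInstance
    haveI : Nonempty XP.left := ⟨inv (pullback.fst X.hom (locMap P)) (genericPoint X.left)⟩
    haveI : IsIntegral XP.left := isIntegral_of_isOpenImmersion (pullback.fst X.hom (locMap P))
    have hXP := isArithSurface_sameResidue (T := XP) (q := pullback.fst X.hom (locMap P)) hX
      (IsPullback.of_hasPullback _ _) hm' hres'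
    exact (no_exc_iff_sameResidue hX hXP (IsPullback.of_hasPullback _ _) hm' hres').2
      (fun E => no_exc_localisation hR hX hm P E) Γ hΓ
  · intro h
    refine isRelMinimal_of_no_exc hR hX fun P _ _ Γ hΓ => ?_
    haveI : IsLocalHom (algebraMap D (Localization.AtPrime P)) :=
      ⟨fun a ha => by
        obtain ⟨b, hb⟩ := (hP P).2 ↑ha.unit⁻¹
        exact IsUnit.of_mul_eq_one b ((hP P).1 (by rw [map_mul, hb, map_one, ha.mul_val_inv]))⟩
    have hm' : (maximalIdeal D).map (algebraMap D (Localization.AtPrime P)) = maximalIdeal _ :=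
      (congrArg (Ideal.map (algebraMap D (Localization.AtPrime P))) (IsLocalRing.eq_maximalIdeal ‹P.IsMaximal›).symm).trans
        (IsLocalization.AtPrime.map_eq_maximalIdeal P (Localization.AtPrime P))
    have hres' : Function.Bijective (algebraMap (ResidueField D) (ResidueField (Localization.AtPrime P))) :=
      ⟨RingHom.injective _, fun z => by
        obtain ⟨z, rfl⟩ := IsLocalRing.residue_surjective z
        obtain ⟨w, rfl⟩ := (hP P).2 z
        exact ⟨IsLocalRing.residue D w, rfl⟩⟩
    haveI : Module.Flat D (Localization.AtPrime P) := IsLocalization.flat _ P.primeCompl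
    let XP : Over (Spec (CommRingCat.of (Localization.AtPrime P))) := Over.mk (pullback.snd X.hom (locMap P))
    haveI : IsIso (locMap P) := by
      haveI : IsIso (CommRingCat.ofHom (algebraMap D (Localization.AtPrime P))) :=
        (ConcreteCategory.isIso_iff_bijective _).2 (hP P)
      exact inferInstanceAs (IsIso (Spec.map _))
    haveI : IsIso (pullback.fst X.hom (locMap P)) := inferInstance
    haveI : Nonempty XP.left := ⟨inv (pullback.fst X.hom (locMap P)) (genericPoint X.left)⟩
    haveI : IsIntegral XP.left := isIntegral_of_isOpenImmersion (pullback.fst X.hom (locMap P))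
    have hXP := isArithSurface_sameResidue (T := XP) (q := pullback.fst X.hom (locMap P)) hX
      (IsPullback.of_hasPullback _ _) hm' hres'
    exact (no_exc_iff_sameResidue hX hXP (IsPullback.of_hasPullback _ _) hm' hres').1 h Γ hΓ

end Groth.Agent.Models7
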