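import Groth.Agent.NormalExtLib.Basic
import Mathlib.RingTheory.IntegralClosure.GoingDown
import Mathlib.AlgebraicGeometry.Morphisms.Finite
import Mathlib.AlgebraicGeometry.Morphisms.SchemeTheoreticallyDominant

/-!
# Finite dominant morphisms to normal schemes satisfy going down
-/

set_option autoImplicit false
set_option linter.style.haveILetI false
set_option backward.isDefEq.respectTransparency false

universe u

open CategoryTheory CategoryTheory.Limits AlgebraicGeometry TopologicalSpace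

namespace Groth.Agent.Models7

theorem generalizingMap_of_finite_normal {W Z : Scheme.{u}} [IsIntegral W] [IsIntegral Z]
    (hn : Pi1.IsNormalScheme Z) (ψ : W ⟶ Z) [IsFinite ψ] [Surjective ψ] : GeneralizingMap ψ := by
  intro w z hz
  obtain ⟨U, hU, hwU, -⟩ := exists_isAffineOpen_mem_and_subset (x := ψ w) (U := ⊤) trivial
  have hzU : z ∈ U := hz.mem_open U.isOpen hwU
  have hV : IsAffineOpen (ψ ⁻¹ᵁ U) := hU.preimage ψ
  haveI : Nonempty U := ⟨⟨ψ w, hwU⟩⟩
  haveI : Nonempty (ψ ⁻¹ᵁ U : W.Opens) := ⟨⟨w, hwU⟩⟩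
  haveI := NormalExtLib.isIntegrallyClosed_sections hn U hU
  letI : Algebra Γ(Z, U) Γ(W, ψ ⁻¹ᵁ U) := (ψ.app U).hom.toAlgebra
  haveI : Module.Finite Γ(Z, U) Γ(W, ψ ⁻¹ᵁ U) := ψ.finite_app U hU
  haveI : Algebra.IsIntegral Γ(Z, U) Γ(W, ψ ⁻¹ᵁ U) := inferInstance
  haveI : IsDominant ψ := inferInstance
  haveI := IsSchemeTheoreticallyDominant.of_isDominant ψ
  haveI : FaithfulSMul Γ(Z, U) Γ(W, ψ ⁻¹ᵁ U) :=
    (faithfulSMul_iff_algebraMap_injective _ _).2 (ψ.app_injective U)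
  have hg : GeneralizingMap (PrimeSpectrum.comap (algebraMap Γ(Z, U) Γ(W, ψ ⁻¹ᵁ U))) :=
    Algebra.HasGoingDown.iff_generalizingMap_primeSpectrumComap.1 inferInstance
  have hcomm : ∀ q : Spec Γ(W, ψ ⁻¹ᵁ U),
      ψ (hV.fromSpec q) = hU.fromSpec (Spec.map (ψ.app U) q) := by
    intro q
    have h := IsAffineOpen.SpecMap_appLE_fromSpec ψ hU hV le_rfl
    rw [← Scheme.Hom.app_eq_appLE] at h
    rw [← Scheme.Hom.comp_apply, ← Scheme.Hom.comp_apply, h]
  obtain ⟨p, hp⟩ : w ∈ Set.range hV.fromSpec := hV.range_fromSpec.ge hwU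
  obtain ⟨r, hr⟩ : z ∈ Set.range hU.fromSpec := hU.range_fromSpec.ge hzU
  subst hp
  subst hr
  rw [hcomm] at hz
  obtain ⟨p', hp', hpr⟩ := hg (hU.fromSpec.isOpenEmbedding.isInducing.specializes_iff.1 hz)
  exact ⟨hV.fromSpec p', hp'.map hV.fromSpec.continuous, by rw [hcomm]; exact congrArg _ hpr⟩

end Groth.Agent.Models7
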