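import Groth.Prelude.Def_ModelsG
import Groth.Agent.Models7.FiniteNormal

/-!
# Components of closed fibres along finite surjective morphisms to normal schemes
-/

set_option autoImplicit false
set_option linter.style.haveILetI false
set_option backward.isDefEq.respectTransparency false

universe u

open CategoryTheory CategoryTheory.Limits AlgebraicGeometry TopologicalSpace

namespace Groth.Agent.Models7

variable (R : Type u) [CommRing R] [IsDomain R] [IsDiscreteValuationRing R]

theorem isClosed_fibreComponent (X : Over (Spec (CommRingCat.of R))) {Z : Set X.left}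
    (hZ : Z ∈ Models.fibreComponents R X) : IsClosed Z := by
  rw [← closure_eq_iff_isClosed]
  exact Set.Subset.antisymm (hZ.2 ⟨hZ.1.1.closure,
    (Models.isClosed_specialFibreSet R X).closure_subset_iff.2 hZ.1.2⟩ subset_closure) subset_closure

theorem finite_fibreComponents (X : Over (Spec (CommRingCat.of R))) [LocallyOfFiniteType X.hom] [QuasiCompact X.hom] :
    (Models.fibreComponents R X).Finite := by
  haveI : IsNoetherianRing R := inferInstance
  haveI : IsLocallyNoetherian X.left := LocallyOfFiniteType.isLocallyNoetherian X.hom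
  haveI : CompactSpace X.left := (quasiCompact_iff_compactSpace X.hom).1 inferInstance
  haveI : IsNoetherian X.left := ⟨⟩
  obtain ⟨S, hSf, hSc, hSi, hS⟩ :=
    NoetherianSpace.exists_finite_set_isClosed_irreducible (Models.isClosed_specialFibreSet R X)
  refine hSf.subset fun Z hZ => ?_
  have hcov : Z ⊆ ⋃₀ ↑hSf.toFinset := by rw [hSf.coe_toFinset, ← hS]; exact hZ.1.2
  obtain ⟨t, ht, hZt⟩ := isIrreducible_iff_sUnion_isClosed.1 hZ.1.1 hSf.toFinset
    (fun t ht => hSc t (hSf.mem_toFinset.1 ht)) hcov
  rw [hSf.mem_toFinset] at ht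
  rwa [le_antisymm hZt (hZ.2 ⟨hSi t ht, hS ▸ Set.subset_sUnion_of_mem ht⟩ hZt)]

/-- Every component through the image of a point is the image of a component through the point. -/
theorem exists_component_over (W Z : Over (Spec (CommRingCat.of R))) [IsIntegral W.left] [IsIntegral Z.left]
    (hZn : Pi1.IsNormalScheme Z.left) (ψ : W ⟶ Z) [IsFinite ψ.left] [Surjective ψ.left]
    (w : W.left) (Δ : Set Z.left) (hΔ : Δ ∈ Models.fibreComponents R Z) (hw : ψ.left.base w ∈ Δ) :
    ∃ Γ ∈ Models.fibreComponents R W, w ∈ Γ ∧ ψ.left.base '' Γ = Δ := by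
  have hΔc := isClosed_fibreComponent R Z hΔ
  obtain ⟨δ, hδ⟩ := QuasiSober.sober hΔ.1.1 hΔc
  obtain ⟨γ, hγw, hγ⟩ := generalizingMap_of_finite_normal hZn ψ.left (hδ.specializes hw)
  have hmap : ∀ a : W.left, Z.hom (ψ.left a) = W.hom a := fun a => by
    rw [← Scheme.Hom.comp_apply, Over.w]
  have hfib : ∀ a : W.left, a ∈ Models.specialFibreSet R W ↔ ψ.left a ∈ Models.specialFibreSet R Z := fun a => by
    show W.hom a = IsLocalRing.closedPoint R ↔ Z.hom (ψ.left a) = IsLocalRing.closedPoint R
    rw [hmap]
  have hδf : δ ∈ Models.specialFibreSet R Z := hΔ.1.2 hδ.mem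
  refine ⟨closure {γ}, ⟨⟨isIrreducible_singleton.closure,
    (Models.isClosed_specialFibreSet R W).closure_subset_iff.2
      (Set.singleton_subset_iff.2 ((hfib γ).2 (hγ ▸ hδf)))⟩, fun S ⟨hS, hSf⟩ hle => ?_⟩,
    specializes_iff_mem_closure.1 hγw, ?_⟩
  · obtain ⟨s, hs⟩ := QuasiSober.sober hS.closure isClosed_closure
    have hsf : s ∈ Models.specialFibreSet R W :=
      (Models.isClosed_specialFibreSet R W).closure_subset_iff.2 hSf hs.mem
    have hsγ : s ⤳ γ := hs.specializes (subset_closure (hle (subset_closure rfl)))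
    have h1 : ψ.left s ⤳ δ := hγ ▸ hsγ.map ψ.left.continuous
    have h2 : closure {ψ.left s} ⊆ Δ := by
      refine hΔ.2 ⟨isIrreducible_singleton.closure,
        (Models.isClosed_specialFibreSet R Z).closure_subset_iff.2 (Set.singleton_subset_iff.2 ((hfib s).1 hsf))⟩ ?_
      rw [← hδ.def]
      exact h1.closure_subset
    have h3 : ψ.left s = δ := (h1.antisymm (hδ.specializes (h2 (subset_closure rfl)))).eq
    have h4 : s = γ := by
      haveI : DiscreteTopology ↥(ψ.left ⁻¹' {δ}) := (ψ.left.isDiscrete_preimage_singleton δ).to_subtype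
      have h : (⟨s, h3⟩ : ↥(ψ.left ⁻¹' {δ})) ⤳ ⟨γ, hγ⟩ := (subtype_specializes_iff _ _).2 hsγ
      exact congrArg Subtype.val h.eq
    rw [← h4, hs.def]
    exact subset_closure
  · refine Set.Subset.antisymm ((image_closure_subset_closure_image ψ.left.continuous).trans ?_) ?_
    · rw [Set.image_singleton, hγ, hδ.def]
    · rw [← hδ.def]
      refine closure_minimal (Set.singleton_subset_iff.2 ⟨γ, subset_closure rfl, hγ⟩) ?_
      exact ψ.left.isClosedMap _ isClosed_closure

end Groth.Agent.Models7
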