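import Groth.Agent.Models7.RationalPoint

/-!
# Constants along nested closed subschemes
-/

set_option autoImplicit false
set_option linter.style.haveILetI false
set_option backward.isDefEq.respectTransparency false
set_option maxHeartbeats 1000000

universe u

open CategoryTheory CategoryTheory.Limits AlgebraicGeometry Opposite TopologicalSpace IsLocalRing
open Groth.Agent.Coherent Groth.Agent.PicLib Groth.Agent.AmpleLib Groth.Agent.EulerLib

namespace Groth.Agent.Models7

variable (R : Type u) [CommRing R] [IsDomain R] [IsDiscreteValuationRing R]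
variable {X : Over (Spec (CommRingCat.of R))}

/-- If `H⁰` of a closed subscheme has length one, its functions are the constants. -/
theorem surjective_of_lengthH_zero (I : X.left.IdealSheafData) (hA : IsField Γ(I.subscheme, ⊤))
    (h : Models.lengthH R X (ClSub.quotMod I) 0 = 1) :
    Function.Surjective (Coh.toGlobal (I.subschemeι ≫ X.hom)) := by
  let A := GA (baseHom R X.left) (ClSub.quotMod I)
  let one : A := (show Γ(I.subscheme, ⊤) from 1)
  have hlen : Module.length R A = 1 := by
    have h' : (Module.length R (Coh.HH X.left (ClSub.quotMod I) 0)).toNat = 1 := h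
    rw [(CurveRR24.hhZero R (ClSub.quotMod I)).length_eq] at h'
    exact (ENat.toNat_eq_iff one_ne_zero).1 h'
  haveI : IsSimpleModule R A := Module.length_eq_one_iff.1 hlen
  letI := hA.toField
  have hone : one ≠ 0 := fun h0 => one_ne_zero (α := Γ(I.subscheme, ⊤)) h0
  intro c
  obtain ⟨r, hr⟩ := IsSimpleModule.toSpanSingleton_surjective R hone (show A from c)
  refine ⟨r, Eq.trans ?_ hr⟩
  show Coh.toGlobal (I.subschemeι ≫ X.hom) r =
    (show Γ(I.subscheme, ⊤) from (I.subschemeι.app ⊤) (baseHom R X.left r)) * (1 : Γ(I.subscheme, ⊤))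
  rw [mul_one]
  rfl

/-- Constants pass to a larger closed subscheme whose functions form a field. -/
theorem surjective_of_le {I J : X.left.IdealSheafData} (hIJ : I ≤ J) (hI : IsField Γ(I.subscheme, ⊤))
    (hJ : IsField Γ(J.subscheme, ⊤)) (hs : Function.Surjective (Coh.toGlobal (J.subschemeι ≫ X.hom))) :
    Function.Surjective (Coh.toGlobal (I.subschemeι ≫ X.hom)) := by
  letI := hI.toField
  letI := hJ.toField
  let t : J.subscheme ⟶ I.subscheme := Scheme.IdealSheafData.inclusion hIJ
  have ht : t ≫ I.subschemeι = J.subschemeι := Scheme.IdealSheafData.inclusion_subschemeι hIJ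
  intro c
  obtain ⟨r, hr⟩ := hs (t.appTop c)
  refine ⟨r, RingHom.injective t.appTop.hom (Eq.trans ?_ hr)⟩
  show t.appTop ((I.subschemeι ≫ X.hom).appTop _) = (J.subschemeι ≫ X.hom).appTop _
  rw [← ht, Category.assoc, Scheme.Hom.comp_appTop t]
  rfl

end Groth.Agent.Models7
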