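import Groth.Agent.CurveRR24.RR
import Groth.Prelude.Def_ModelsG

/-!
# Cohomology dimensions and change of the base field
-/

set_option autoImplicit false
set_option linter.style.haveILetI false

universe u

open CategoryTheory CategoryTheory.Limits AlgebraicGeometry

namespace Groth.Agent.Models7

variable {k k' : Type u} [Field k] [Field k'] (ψ : k →+* k') {Y : Scheme.{u}}
  (g' : Y ⟶ Spec (CommRingCat.of k'))

omit g' in
theorem toGlobal_comp (g' : Y ⟶ Spec (CommRingCat.of k')) :
    Coh.toGlobal (g' ≫ Spec.map (CommRingCat.ofHom ψ)) = (Coh.toGlobal g').comp ψ := by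
  ext a
  show (g' ≫ Spec.map (CommRingCat.ofHom ψ)).appTop ((Scheme.ΓSpecIso (CommRingCat.of k)).inv a) =
    g'.appTop ((Scheme.ΓSpecIso (CommRingCat.of k')).inv (ψ a))
  rw [Scheme.Hom.comp_appTop]
  exact congrArg g'.appTop (congr($(Scheme.ΓSpecIso_inv_naturality (CommRingCat.ofHom ψ)) a)).symm

/-- Changing the base field multiplies dimensions of cohomology by the degree. -/
theorem hRank_comp (M : Y.Modules) (q : ℕ) :
    Models.hRank k Y (g' ≫ Spec.map (CommRingCat.ofHom ψ)) M q =
      Models.homDegree ψ * Models.hRank k' Y g' M q := by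
  let o : Y.Over (Spec (CommRingCat.of k)) := ⟨g' ≫ Spec.map (CommRingCat.ofHom ψ)⟩
  let o' : Y.Over (Spec (CommRingCat.of k')) := ⟨g'⟩
  letI : Algebra k k' := ψ.toAlgebra
  letI m : Module k (Coh.HH Y M q) := @Coh.moduleOver k _ Y o M q
  letI m' : Module k' (Coh.HH Y M q) := @Coh.moduleOver k' _ Y o' M q
  haveI : IsScalarTower k k' (Coh.HH Y M q) := IsScalarTower.of_algebraMap_smul fun a x => by
    show Coh.toGlobal g' (ψ a) • x = Coh.toGlobal (g' ≫ Spec.map (CommRingCat.ofHom ψ)) a • x
    rw [toGlobal_comp]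
    rfl
  exact (Module.finrank_mul_finrank k k' (Coh.HH Y M q)).symm

end Groth.Agent.Models7
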