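import Groth.Agent.Models7.BiratDesc
import Groth.Agent.Inters29.Comp
import Groth.Prelude.Def_Neron

/-!
# Uniqueness of contractions
-/

set_option autoImplicit false
set_option linter.style.haveILetI false
set_option backward.isDefEq.respectTransparency false

universe u

open CategoryTheory CategoryTheory.Limits AlgebraicGeometry Opposite TopologicalSpace

namespace Groth.Agent.Models7

theorem isProper_of_projective {R : Type u} [CommRing R] {X : Over (Spec (CommRingCat.of R))}
    (hX : Neron.IsProjectiveOver R X) : IsProper X.hom := by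
  obtain ⟨n, i, hi, hw⟩ := hX
  haveI := hi
  haveI := WeilLib.isProper_toBase n (Spec (CommRingCat.of R))
  rw [← hw]; infer_instance

/-- A proper morphism which is an isomorphism away from the image of finitely many curves that it collapses
is birational, and another morphism collapsing these curves collapses all its fibres. -/
theorem contraction_data {X Y : Scheme.{u}} [IsIntegral X] [IsIntegral Y] [IsLocallyNoetherian Y]
    (hY : Pi1.IsNormalScheme Y) (hY0 : ¬ IsClosed ({genericPoint Y} : Set Y)) (f : X ⟶ Y) [IsProper f]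
    {ι : Type*} [Finite ι] (C : ι → Set X) (hC : ∀ i, IsClosed (C i))
    (hpt : ∀ i, ∃ y : Y, f.base '' C i = {y}) (hpre : f.base ⁻¹' (f.base '' ⋃ i, C i) = ⋃ i, C i)
    (hiso : ∀ V : Y.Opens, (V : Set Y) ∩ f.base '' (⋃ i, C i) = ∅ → IsIso (f ∣_ V)) :
    (f (genericPoint X) = genericPoint Y ∧ IsIso (f.stalkMap (genericPoint X))) ∧
      ∀ {Z : Scheme.{u}} (h : X ⟶ Z) [IsProper h], (∀ i, ∃ z : Z, h.base '' C i = {z}) →
        ∀ y : Y, (h.base '' (f.base ⁻¹' {y})).Subsingleton := by
  choose p hp using hpt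
  have hclosed : ∀ i, IsClosed ({p i} : Set Y) := fun i => hp i ▸ f.isClosedMap _ (hC i)
  have hD : f.base '' (⋃ i, C i) = Set.range p := by
    rw [Set.image_iUnion]; simp only [hp]; exact Set.iUnion_singleton_eq_range p
  let V : Y.Opens := ⟨(Set.range p)ᶜ, by
    rw [← Set.iUnion_singleton_eq_range]
    exact (isClosed_iUnion_of_finite hclosed).isOpen_compl⟩
  haveI hV : IsIso (f ∣_ V) := hiso V (by rw [hD]; exact Set.compl_inter_self _)
  have hη : genericPoint Y ∈ V := by
    rintro ⟨i, hi⟩
    exact hY0 (hi ▸ hclosed i)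
  obtain ⟨hgen, hbij⟩ := Coherent.birational_of_isIso_morphismRestrict f V ⟨_, hη⟩
  haveI hbir : IsIso (f.stalkMap (genericPoint X)) := (ConcreteCategory.isIso_iff_bijective _).2 hbij
  refine ⟨⟨hgen, hbir⟩, fun {Z} h _ hh y => ?_⟩
  choose q hq using hh
  by_cases hy : y ∈ Set.range p
  · refine subsingleton_image h (isPreconnected_preimage f hY hgen hbir y) (Set.range q) (Set.finite_range q)
      (by rintro _ ⟨i, rfl⟩; exact hq i ▸ h.isClosedMap _ (hC i)) ?_
    rintro _ ⟨x, hx, rfl⟩
    have hxU : x ∈ ⋃ i, C i := hpre.le (show f x ∈ f.base '' ⋃ i, C i by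
      rw [hD, Set.mem_singleton_iff.1 hx]; exact hy)
    obtain ⟨i, hi⟩ := Set.mem_iUnion.1 hxU
    exact ⟨i, (Set.mem_singleton_iff.1 ((hq i).le ⟨x, hi, rfl⟩)).symm⟩
  · refine Set.Subsingleton.image ?_ _
    intro a ha b hb
    have hab : (f ∣_ V) ⟨a, by show f a ∈ V; rw [Set.mem_singleton_iff.1 ha]; exact hy⟩ =
        (f ∣_ V) ⟨b, by show f b ∈ V; rw [Set.mem_singleton_iff.1 hb]; exact hy⟩ := by
      refine Subtype.ext ?_
      rw [morphismRestrict_base_coe, morphismRestrict_base_coe]
      exact (Set.mem_singleton_iff.1 ha).trans (Set.mem_singleton_iff.1 hb).symm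
    exact congrArg Subtype.val ((f ∣_ V).homeomorph.injective hab)

end Groth.Agent.Models7
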