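import Groth.Agent.Models7.ContractLocal
import Groth.Agent.Models7.ProjMap
import Groth.Agent.Coherent.Serre.Vanishing
import Groth.Agent.AbCubeLib.CanonicalSection
import Groth.Agent.MorProj.QuasiAff
import Groth.Agent.AmpleLib.Generated
import Groth.Agent.H8Lim.FibreDimVanish

/-!
# A globally generated invertible module of degree zero on a projective line of negative self-intersection
-/

set_option autoImplicit false
set_option linter.style.haveILetI false
set_option backward.isDefEq.respectTransparency.types false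
set_option maxHeartbeats 2000000

universe u

open CategoryTheory CategoryTheory.Limits AlgebraicGeometry TopologicalSpace Opposite
open Groth.Agent.Coherent Groth.Agent.PicLib Groth.Agent.AmpleLib Groth.Agent.EulerLib

namespace Groth.Agent.Models7

variable {k : Type u} [Field k] {E : Scheme.{u}}

theorem P1Deg.isField_sections (e : CohB1.ProjSpace 1 k ≅ E) : IsField Γ(E, ⊤) := by
  haveI := Coherent.isIso_appTop_toSpec (n := 1) (R := k)
  haveI : IsIso e.hom.appTop := inferInstanceAs (IsIso (e.hom.app ⊤))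
  exact MulEquiv.isField (Field.toIsField k)
    (((asIso e.hom.appTop).commRingCatIsoToRingEquiv.trans
      (asIso (CohB1.ProjSpace.toSpec 1 k).appTop).commRingCatIsoToRingEquiv.symm).trans
      (Scheme.ΓSpecIso (CommRingCat.of k)).commRingCatIsoToRingEquiv).toMulEquiv

variable {X : Scheme.{u}} (J : X.IdealSheafData)

/-- An ample module with a section not vanishing on the line and affine loci has positive degree. -/
theorem P1Deg.HasDeg.pos_of_affine (e : CohB1.ProjSpace 1 k ≅ J.subscheme) {H : X.Modules}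
    (hH : PicF.IsInvertible H) {m : ℤ} (hm : P1Deg.HasDeg e ((Scheme.Modules.pullback J.subschemeι).obj H) m)
    (hgl : ∀ x : X, ∃ t : Γ(H, ⊤), x ∈ glocus H t) (haff : ∀ t : Γ(H, ⊤), IsAffineOpen (glocus H t)) : 0 < m := by
  let ι := J.subschemeι
  let N := (Scheme.Modules.pullback ι).obj H
  have hN : PicF.IsInvertible N := PicLoc.isInvertible_pullback ι hH
  haveI : IsIntegral J.subscheme := IsIntegral.of_isIso e.hom
  obtain ⟨t, ht⟩ := hgl (ι (genericPoint J.subscheme))
  have hz : genericPoint J.subscheme ∈ glocus N (pullSec ι t) := by rw [glocus_pullSec ι hH]; exact ht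
  rcases (hm.nonneg e hN hz).lt_or_eq with h | h
  · exact h
  exfalso
  subst h
  obtain ⟨φ⟩ := hm
  obtain ⟨ψ⟩ := SplitP1.nonempty_twist_zero k
  let P := CohB1.ProjSpace 1 k
  let j : P ⟶ X := e.hom ≫ ι
  let θ : (Scheme.Modules.pullback j).obj H ≅ Coh.structureModule P :=
    ((Scheme.Modules.pullbackComp e.hom ι).app H).symm ≪≫ φ ≪≫ ψ
  let c : Γ(P, ⊤) := θ.hom.app ⊤ (pullSec j t)
  have hc : j ⁻¹ᵁ glocus H t = P.basicOpen c := by
    rw [← glocus_pullSec j hH, ← glocus_map_iso θ]
    exact AmpleLib.glocus_structureModule c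
  have hF := P1Deg.isField_sections (Iso.refl P)
  letI := hF.toField
  have hne : c ≠ 0 := fun h0 => by
    have hmem : e.inv (genericPoint J.subscheme) ∈ j ⁻¹ᵁ glocus H t := by
      show ι (e.hom (e.inv _)) ∈ glocus H t
      rwa [← Scheme.Hom.comp_apply e.inv e.hom, e.inv_hom_id]
    rw [hc, h0, Scheme.basicOpen_zero] at hmem
    exact hmem
  have htop : P.basicOpen c = ⊤ := P.basicOpen_of_isUnit (isUnit_iff_ne_zero.2 hne)
  let W := glocus H t
  have hle : Set.range j.base ⊆ Set.range W.ι.base := by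
    rw [Scheme.Opens.range_ι]
    rintro _ ⟨z, rfl⟩
    show z ∈ j ⁻¹ᵁ W
    rw [hc, htop]; trivial
  haveI : IsAffine W.toScheme := haff t
  let l := IsOpenImmersion.lift W.ι j hle
  haveI : IsClosedImmersion (l ≫ W.ι) := by rw [IsOpenImmersion.lift_fac]; infer_instance
  haveI : IsClosedImmersion l := IsClosedImmersion.of_comp l W.ι
  haveI : IsAffine P := isAffine_of_isAffineHom l
  have hsub := subsingleton_range_of_isField (𝟙 P) hF
  haveI : Subsingleton P := ⟨fun a b => hsub ⟨a, rfl⟩ ⟨b, rfl⟩⟩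
  have h1 : topologicalKrullDim P ≤ 0 := by
    haveI : DiscreteTopology P := Subsingleton.discreteTopology
    exact topologicalKrullDim_zero_of_discreteTopology P
  rw [DimLib.PN.topologicalKrullDim_projSpace] at h1
  exact absurd h1 (by norm_num)

variable {R : Type u} [CommRing R] [IsNoetherianRing R]

/-- The twist of a high power of an ample module that is trivial on the line, with sections whose loci
off the line are affine. -/
theorem exists_degZero_bundle (p : X ⟶ Spec (CommRingCat.of R)) [IsProper p]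
    (hfib : ∀ z : ↥(Spec (CommRingCat.of R)), topologicalKrullDim ↥(p.fiber z) ≤ 1) {H : X.Modules}
    (hH : CohB1.IsAmple H) (hJ : BlowUp.IsEffCartierIdeal J) (e : CohB1.ProjSpace 1 k ≅ J.subscheme) {d : ℕ}
    (hd1 : 1 ≤ d) (hd : P1Deg.HasDeg e ((Scheme.Modules.pullback J.subschemeι).obj (ClSub.idealMod J)) (d : ℤ)) :
    ∃ L : X.Modules, PicF.IsInvertible L ∧ P1Deg.HasDeg e ((Scheme.Modules.pullback J.subschemeι).obj L) 0 ∧
      Lipman24.Gl L ∧ ∀ x ∉ (J.support : Set X), ∃ s : Γ(L, ⊤), x ∈ glocus L s ∧ IsAffineOpen (glocus L s) ∧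
        Disjoint (glocus L s : Set X) (J.support : Set X) := by
  classical
  let _ : X.Over (Spec (CommRingCat.of R)) := ⟨p⟩
  haveI : IsProper (X ↘ Spec (CommRingCat.of R)) := ‹_›
  haveI : IsLocallyNoetherian X := LocallyOfFiniteType.isLocallyNoetherian p
  haveI : CompactSpace X := QuasiCompact.compactSpace_of_compactSpace p
  have hv : Lipman24.NoH2 X := fun M hM => by
    haveI := hM
    exact H8Lim.subsingleton_HH_of_fibre_dim p 1 (fun y => by exact_mod_cast hfib y) M 2 (by omega)
  let ι := J.subschemeι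
  let I := ClSub.idealMod J
  have hI : PicF.IsInvertible I := FlatMor12.IdealModGen.isInvertible_idealMod J hJ
  have hHi := hH.1
  -- a power of the ample module
  obtain ⟨n₀, hn₀⟩ := Coherent.Serre.exists_subsingleton_HH_twist R hH _ (isCoh_structureModule X)
  obtain ⟨n₁, hn₁⟩ := eventually_globallyGenerated hH _ (isCoh_structureModule X)
  let N := n₀ + n₁ + 1
  have hgg : ∀ n, N ≤ n → Curv2.IsGloballyGenerated (CohB1.tensorPow H n) := fun n hn =>
    globallyGenerated_of_iso (unitTensorIso _) (hn₁ n (by omega))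
  obtain ⟨h₁, hh₁⟩ := P1Deg.exists_hasDeg e (PicLoc.isInvertible_pullback ι hHi)
  have hpowdeg : ∀ n, P1Deg.HasDeg e ((Scheme.Modules.pullback ι).obj (CohB1.tensorPow H n)) (n * h₁) := by
    intro n
    obtain ⟨t, -⟩ := exists_pullPowIso ι hHi n
    exact (hh₁.pow e (PicLoc.isInvertible_pullback ι hHi) n).of_iso e t.symm
  have haff : ∀ n, 0 < n → ∀ t : Γ(CohB1.tensorPow H n, ⊤), IsAffineOpen (glocus _ t) := fun n hn t =>
    MorProj.isAffineOpen_glocus_of_universallyClosed p ((isAmple_pow_iff hHi n hn).2 hH) t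
  have hpos : 0 < (N : ℤ) * h₁ :=
    (hpowdeg N).pos_of_affine J e (isInvertible_tensorPow hHi N)
      (Desc19b.exists_mem_glocus_of_gg (isInvertible_tensorPow hHi N) (hgg N le_rfl)) (haff N (by omega))
  obtain ⟨r, hr⟩ : ∃ r : ℕ, (N : ℤ) * h₁ = r := ⟨((N : ℤ) * h₁).toNat, by omega⟩
  have hr0 : 0 < r := by omega
  let H' := CohB1.tensorPow H (N * d)
  have hNd : N ≤ N * d := Nat.le_mul_of_pos_right _ hd1
  have hH' : PicF.IsInvertible H' := isInvertible_tensorPow hHi _
  have hH'd : P1Deg.HasDeg e ((Scheme.Modules.pullback ι).obj H') ((r : ℤ) * d) := by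
    have := hpowdeg (N * d)
    rwa [show ((N * d : ℕ) : ℤ) * h₁ = (r : ℤ) * d by rw [← hr]; push_cast; ring] at this
  -- the inverse of the ideal
  obtain ⟨LE, ⟨tI⟩⟩ := VarietyLib.exists_isInverseOf hI
  have hLE : PicF.IsInvertible LE :=
    PicM.isInvertible_of_tensor hI (glocus_isInvertible_of_iso tI.symm isInvertible_structureModule)
  have hLEd : P1Deg.HasDeg e ((Scheme.Modules.pullback ι).obj LE) (-(d : ℤ)) := by
    obtain ⟨a⟩ := exists_pullTensorIso ι hI hLE
    obtain ⟨b⟩ := exists_pullStructureIso (X := X) ι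
    exact P1Deg.HasDeg.inverse e (PicLoc.isInvertible_pullback ι hLE) (PicLoc.isInvertible_pullback ι hI)
      (tensorComm _ _ ≪≫ a.symm ≪≫ (Scheme.Modules.pullback ι).mapIso tI ≪≫ b) hd
  let Lf : ℕ → X.Modules := fun i => CohB1.tensorMod H' (CohB1.tensorPow LE i)
  have hLf : ∀ i, PicF.IsInvertible (Lf i) := fun i => isInvertible_tensorMod hH' (isInvertible_tensorPow hLE i)
  have hLfd : ∀ i : ℕ, P1Deg.HasDeg e ((Scheme.Modules.pullback ι).obj (Lf i)) (((r : ℤ) - i) * d) := by
    intro i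
    obtain ⟨a⟩ := exists_pullTensorIso ι hH' (isInvertible_tensorPow hLE i)
    obtain ⟨b, -⟩ := exists_pullPowIso ι hLE i
    have h2 := ((hLEd.pow e (PicLoc.isInvertible_pullback ι hLE) i).of_iso e b.symm)
    have h3 := (hH'd.tensor e (PicLoc.isInvertible_pullback ι hH')
      (PicLoc.isInvertible_pullback ι (isInvertible_tensorPow hLE i)) h2).of_iso e a.symm
    rwa [show (r : ℤ) * d + i * -(d : ℤ) = ((r : ℤ) - i) * d by ring] at h3
  have hq : ∀ {M : X.Modules}, PicF.IsInvertible M → Coh.IsQCoh M := fun h => isQCoh_of_isInvertible h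
  have hiso : ∀ i, Nonempty (CohB1.tensorMod I (Lf (i + 1)) ≅ Lf i) := by
    intro i
    have hP := isInvertible_tensorPow hLE i
    obtain ⟨a₁, -⟩ := exists_assocIso hH' hP hLE
    obtain ⟨a₂, -⟩ := exists_assocIso (hLf i) hLE hI
    exact ⟨tensorComm _ _ ≪≫ Coherent.tensorIso a₁.symm (Iso.refl I) ≪≫ a₂ ≪≫
      Coherent.tensorIso (Iso.refl (Lf i)) (tensorComm LE I ≪≫ tI) ≪≫ tensorComm _ _ ≪≫ unitTensorIso _⟩
  have hH1 : ∀ i ≤ r, Subsingleton (Coh.HH X (Lf i) 1) := by
    intro i hi
    induction i with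
    | zero =>
      let a : CohB1.tensorMod (Coh.structureModule X) H' ≅ Lf 0 := tensorComm _ _
      exact Lipman24.subsingleton_H1_of_epi hv (hq (isInvertible_tensorMod isInvertible_structureModule hH'))
        (hq (hLf 0)) a.hom (hn₀ (N * d) (by omega) 1 one_pos)
    | succ i ih =>
      obtain ⟨a⟩ := hiso i
      refine ((twistMul_seq J (hLf (i + 1))).2 hv ?_).1 ?_
      · exact (hLfd (i + 1)).subsingleton_H1 e (PicLoc.isInvertible_pullback ι (hLf _))
          (by have : (0 : ℤ) ≤ ((r : ℤ) - (i + 1 : ℕ)) * d := mul_nonneg (by omega) (by omega); omega)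
      · exact Lipman24.subsingleton_H1_of_epi hv (hq (hLf i)) (hq (isInvertible_tensorMod hI (hLf _))) a.inv
          (ih (by omega))
  have hLd : P1Deg.HasDeg e ((Scheme.Modules.pullback ι).obj (Lf r)) 0 := by
    have := hLfd r
    rwa [sub_self, zero_mul] at this
  obtain ⟨r', rfl⟩ : ∃ r', r = r' + 1 := ⟨r - 1, by omega⟩
  obtain ⟨a⟩ := hiso r'
  have hsurj : Function.Surjective (pullSec ι (L := Lf (r' + 1)) (U := ⊤)) :=
    Lipman24.surjective_pullSec_of_H1 ι (Lipman24.subsingleton_H1_kernel_clUnit J hv (hLf _)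
      (Lipman24.subsingleton_H1_of_epi hv (hq (hLf r')) (hq (isInvertible_tensorMod hI (hLf _))) a.inv
        (hH1 r' (by omega))))
  obtain ⟨u, hu⟩ := AbCubeLib.exists_section_of_effCartier J hJ hLE ⟨tensorComm _ _ ≪≫ tI⟩
  have hoff : ∀ x ∉ (J.support : Set X), ∃ s : Γ(Lf (r' + 1), ⊤), x ∈ glocus _ s ∧
      IsAffineOpen (glocus _ s) ∧ Disjoint (glocus _ s : Set X) (J.support : Set X) := by
    intro x hx
    obtain ⟨t, ht⟩ := Desc19b.exists_mem_glocus_of_gg hH' (hgg _ hNd) x
    have hg : glocus _ (tmul t (powSec u (r' + 1))) = glocus H' t ⊓ glocus LE u := by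
      rw [glocus_tmul hH' (isInvertible_tensorPow hLE _), glocus_powSec hLE]
    refine ⟨tmul t (powSec u (r' + 1)), ?_, ?_, ?_⟩
    · rw [hg]; exact ⟨ht, (hu ▸ hx : x ∈ (glocus LE u : Set X))⟩
    · rw [hg, inf_comm]
      exact isAffineOpen_glocus_inf hLE u (haff (N * d) (by omega) t)
    · rw [hg, Opens.coe_inf, hu]
      exact Set.disjoint_left.2 fun z hz hz' => hz.2 hz'
  refine ⟨Lf (r' + 1), hLf _, hLd, fun x => ?_, hoff⟩
  by_cases hx : x ∈ (J.support : Set X)
  · rw [← J.range_subschemeι] at hx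
    obtain ⟨z, rfl⟩ := hx
    exact Lipman24.exists_mem_glocus_of_pullback ι (hLf _) hsurj (hLd.gl e le_rfl) z
  · obtain ⟨s, hs, -⟩ := hoff x hx
    exact ⟨s, hs⟩

end Groth.Agent.Models7
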