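import Groth.Prelude.Def_Curve

/-!
# Proper integral curves, not assumed smooth
-/

set_option autoImplicit false

universe u

open CategoryTheory AlgebraicGeometry

namespace Groth.Agent.Models7

/-- A proper integral curve over a field (the shape of `Curve.IsSmoothProperCurve` without smoothness). -/
def PropCurve (k : Type u) [Field k] (X : Scheme.{u}) (f : X ⟶ Spec (CommRingCat.of k)) : Prop :=
  IsProper f ∧ True ∧ IsIntegral X ∧ topologicalKrullDim X = 1

theorem PropCurve.of_smooth {k : Type u} [Field k] {X : Scheme.{u}} {f : X ⟶ Spec (CommRingCat.of k)}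
    (h : Curve.IsSmoothProperCurve k X f) : PropCurve k X f :=
  ⟨h.1, trivial, h.2.2⟩

instance {k : Type u} [Field k] {X : Scheme.{u}} {f : X ⟶ Spec (CommRingCat.of k)} :
    Coe (Curve.IsSmoothProperCurve k X f) (PropCurve k X f) :=
  ⟨PropCurve.of_smooth⟩

end Groth.Agent.Models7
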