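import Groth.Agent.Models7.DivChi
import Groth.Agent.Inters29.ModelPic
import Groth.Agent.Models7.PropCurve

/-!
# Euler characteristics of sums of components on a model
-/

set_option autoImplicit false
set_option linter.style.haveILetI false
set_option backward.isDefEq.respectTransparency.types false
set_option maxHeartbeats 1000000

universe u

open CategoryTheory CategoryTheory.Limits AlgebraicGeometry TopologicalSpace
open Groth.Agent.PicLib

namespace Groth.Agent.Models7

variable {R : Type u} [CommRing R] [IsDomain R] [IsDiscreteValuationRing R]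
variable {C X : Scheme.{u}} {f : C ⟶ Spec (CommRingCat.of (FractionRing R))} {p : X ⟶ Spec (CommRingCat.of R)}
variable (hC : PropCurve (FractionRing R) C f) (hX : Models.IsRegularProperModel R X p C f)
variable {n : ℕ} {Γ : Fin n → ArSurf.VertComp R (Over.mk p)} (hΓ : Models.IsComponentList R (Over.mk p) Γ)
variable (L : Fin n → X.Modules) (hL : ∀ i, ClSub.IsInverseOf (L i) (ClSub.idealMod (Γ i).ι.ker))
include hC hX hΓ hL

theorem isEffCartier_propCurve (i : Fin n) : BlowUp.IsEffCartierIdeal (X := X) (Γ i).ι.ker := by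
  have hint : IsIntegral C := hC.2.2.1
  haveI := hint
  haveI := Inters29.isIntegral_model R hX.1 hX.2.2
  haveI := hX.2.1
  haveI : IsLocallyNoetherian X := LocallyOfFiniteType.isLocallyNoetherian p
  haveI : IsIntegral (Over.mk p).left := inferInstanceAs (IsIntegral X)
  haveI : IsLocallyNoetherian (Over.mk p).left := inferInstanceAs (IsLocallyNoetherian X)
  haveI : Flat (Over.mk p).hom := hX.1.1
  exact Inters29.isEffCartier_listComp R Γ (X := Over.mk p) hX.2.2 hΓ i

theorem inter_symm_model (i j : Fin n) :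
    ArSurf.inter R (Over.mk p) (L j) (Γ i) = ArSurf.inter R (Over.mk p) (L i) (Γ j) := by
  have hint : IsIntegral C := hC.2.2.1
  haveI := hint
  haveI := Inters29.isIntegral_model R hX.1 hX.2.2
  haveI := hX.2.1
  haveI : IsLocallyNoetherian X := LocallyOfFiniteType.isLocallyNoetherian p
  haveI : IsIntegral (Over.mk p).left := inferInstanceAs (IsIntegral X)
  haveI : IsLocallyNoetherian (Over.mk p).left := inferInstanceAs (IsLocallyNoetherian X)
  haveI : Flat (Over.mk p).hom := hX.1.1
  haveI : IsProper (Over.mk p).hom := hX.2.1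
  exact Inters29.inter_symm_of_list R (X := Over.mk p) hX.2.2 Γ hΓ L hL i j

theorem inter_idealMod_prod (a : Fin n → ℕ) (i : Fin n) :
    ArSurf.inter R (Over.mk p) (ClSub.idealMod (∏ j, (Γ j).ι.ker ^ a j)) (Γ i) =
      -∑ j, (a j : ℤ) * ArSurf.inter R (Over.mk p) (L i) (Γ j) := by
  haveI := hX.2.1
  haveI : IsProper (Over.mk p).hom := hX.2.1
  haveI := Inters29.isProper_curve R (Γ i)
  have hD := isEffCartier_propCurve hC hX hΓ L hL
  have hJ : ∀ j, BlowUp.IsEffCartierIdeal ((Γ j).ι.ker ^ a j) := fun j => Inters29.isEffCartier_pow (hD j) _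
  have h := Inters29.intCl_of R (Γ i)
    (FlatMor12.IdealModGen.isInvertible_idealMod _ (Inters29.isEffCartier_prod Finset.univ _ hJ))
  change Inters29.intCl R (Γ i) (Inters29.idealCl _ (Inters29.isEffCartier_prod Finset.univ _ hJ)) = _ at h
  rw [Inters29.idealCl_prod _ _ hJ, Inters29.intCl_prod] at h
  refine h.symm.trans ?_
  rw [← Finset.sum_neg_distrib]
  refine Finset.sum_congr rfl fun j _ => ?_
  rw [Inters29.idealCl_pow (hD j), Inters29.intCl_pow,
    ← inter_symm_model hC hX hΓ L hL i j, Inters29.inter_inverse R (Γ i) (hD j) (hL j)]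
  ring

/-- One step along a chain of divisors. -/
theorem chi_single (a : Fin n → ℕ) (i : Fin n)
    (hF : FinLen R (Over.mk p) (ClSub.quotMod (∏ j, (Γ j).ι.ker ^ a j))) :
    FinLen R (Over.mk p) (ClSub.quotMod (∏ j, (Γ j).ι.ker ^ (a j + if j = i then 1 else 0))) ∧
      (Models.lengthH R (Over.mk p) (ClSub.quotMod (∏ j, (Γ j).ι.ker ^ (a j + if j = i then 1 else 0))) 0 : ℤ) -
          Models.lengthH R (Over.mk p) (ClSub.quotMod (∏ j, (Γ j).ι.ker ^ (a j + if j = i then 1 else 0))) 1 =
        ((Models.lengthH R (Over.mk p) (ClSub.quotMod (∏ j, (Γ j).ι.ker ^ a j)) 0 : ℤ) -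
          Models.lengthH R (Over.mk p) (ClSub.quotMod (∏ j, (Γ j).ι.ker ^ a j)) 1) +
          (-(∑ j, (a j : ℤ) * ArSurf.inter R (Over.mk p) (L i) (Γ j)) +
            ((Models.wdeg R (Over.mk p) (Γ i) : ℤ) - Models.h1 R (Over.mk p) (Γ i))) := by
  haveI := hX.2.1
  haveI : IsProper (Over.mk p).hom := hX.2.1
  haveI : IsLocallyNoetherian (Over.mk p).left := LocallyOfFiniteType.isLocallyNoetherian p
  haveI := Inters29.isProper_curve R (Γ i)
  have hD := isEffCartier_propCurve hC hX hΓ L hL
  have he : (∏ j, (Γ j).ι.ker ^ (a j + if j = i then 1 else 0)) = (Γ i).ι.ker * ∏ j, (Γ j).ι.ker ^ a j := by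
    rw [show (∏ j, (Γ j).ι.ker ^ (a j + if j = i then 1 else 0)) =
        ∏ j, ((Γ j).ι.ker ^ (if j = i then 1 else 0) * (Γ j).ι.ker ^ a j) from
      Finset.prod_congr rfl fun j _ => by rw [← pow_add, add_comm],
      Finset.prod_mul_distrib, Finset.prod_eq_single i (fun j _ hj => by rw [if_neg hj, pow_zero])
      (fun h => absurd (Finset.mem_univ i) h), if_pos rfl, pow_one]
  rw [he, ← inter_idealMod_prod hC hX hΓ L hL a i]
  exact chi_add R (Γ i) (hD i) _
    (Inters29.isEffCartier_prod Finset.univ _ fun j => Inters29.isEffCartier_pow (hD j) _) hF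

theorem finLen_prod (a : Fin n → ℕ) : FinLen R (Over.mk p) (ClSub.quotMod (∏ j, (Γ j).ι.ker ^ a j)) := by
  haveI := hX.2.1
  haveI : IsLocallyNoetherian (Over.mk p).left := LocallyOfFiniteType.isLocallyNoetherian p
  induction h : ∑ j, a j generalizing a with
  | zero =>
    have h0 : ∀ j, a j = 0 := fun j => Nat.le_zero.1 (h ▸ Finset.single_le_sum (fun l _ => Nat.zero_le (a l)) (Finset.mem_univ j))
    rw [Finset.prod_eq_one fun j _ => by rw [h0 j, pow_zero]]
    exact (finLen_one R).1
  | succ m ih =>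
    obtain ⟨i, hi⟩ : ∃ i, a i ≠ 0 := by
      by_contra hc
      push Not at hc
      simp [hc] at h
    let b : Fin n → ℕ := fun j => a j - if j = i then 1 else 0
    have hb : ∀ j, a j = b j + if j = i then 1 else 0 := fun j => by
      simp only [b]; split_ifs with hj
      · subst hj; omega
      · omega
    have hs : ∑ j, b j = m := by
      have : ∑ j, a j = ∑ j, b j + 1 := by
        rw [Finset.sum_congr rfl fun j _ => hb j, Finset.sum_add_distrib, Finset.sum_ite_eq' Finset.univ i]
        simp
      omega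
    rw [show a = fun j => b j + if j = i then 1 else 0 from funext hb]
    exact (chi_single hC hX hΓ L hL b i (ih b hs)).1

/-- The Euler characteristic of a sum of components. -/
theorem chi_prod (a : Fin n → ℕ) :
    2 * ((Models.lengthH R (Over.mk p) (ClSub.quotMod (∏ j, (Γ j).ι.ker ^ a j)) 0 : ℤ) -
        Models.lengthH R (Over.mk p) (ClSub.quotMod (∏ j, (Γ j).ι.ker ^ a j)) 1) =
      -(∑ i, (a i : ℤ) * ∑ j, (a j : ℤ) * ArSurf.inter R (Over.mk p) (L i) (Γ j)) +
        ∑ i, (a i : ℤ) * (2 * ((Models.wdeg R (Over.mk p) (Γ i) : ℤ) - Models.h1 R (Over.mk p) (Γ i)) +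
          ArSurf.inter R (Over.mk p) (L i) (Γ i)) := by
  haveI := hX.2.1
  haveI : IsLocallyNoetherian (Over.mk p).left := LocallyOfFiniteType.isLocallyNoetherian p
  induction h : ∑ j, a j generalizing a with
  | zero =>
    have h0 : ∀ j, a j = 0 := fun j => Nat.le_zero.1 (h ▸ Finset.single_le_sum (fun l _ => Nat.zero_le (a l)) (Finset.mem_univ j))
    rw [Finset.prod_eq_one fun j _ => by rw [h0 j, pow_zero], (finLen_one R).2, (finLen_one R).2]
    simp [h0]
  | succ m ih =>
    obtain ⟨i, hi⟩ : ∃ i, a i ≠ 0 := by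
      by_contra hc
      push Not at hc
      simp [hc] at h
    let b : Fin n → ℕ := fun j => a j - if j = i then 1 else 0
    have hb : ∀ j, a j = b j + if j = i then 1 else 0 := fun j => by
      simp only [b]; split_ifs with hj
      · subst hj; omega
      · omega
    have hs : ∑ j, b j = m := by
      have : ∑ j, a j = ∑ j, b j + 1 := by
        rw [Finset.sum_congr rfl fun j _ => hb j, Finset.sum_add_distrib, Finset.sum_ite_eq' Finset.univ i]
        simp
      omega
    rw [show a = fun j => b j + if j = i then 1 else 0 from funext hb]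
    obtain ⟨-, hc⟩ := chi_single hC hX hΓ L hL b i (finLen_prod hC hX hΓ L hL b)
    rw [hc, mul_add, ih b hs]
    have hsym := fun k l => inter_symm_model hC hX hΓ L hL k l
    simp only [Nat.cast_add, Nat.cast_ite, Nat.cast_one, Nat.cast_zero, add_mul, Finset.sum_add_distrib, ite_mul,
      one_mul, zero_mul, Finset.sum_ite_eq', Finset.mem_univ, if_true, mul_add]
    rw [show ∑ x, (b x : ℤ) * ArSurf.inter R (Over.mk p) (L x) (Γ i) = ∑ x, (b x : ℤ) * ArSurf.inter R (Over.mk p) (L i) (Γ x) from
      Finset.sum_congr rfl fun x _ => by rw [hsym]]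
    ring

end Groth.Agent.Models7
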