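import Groth.Agent.Models7.ContractTarget
import Groth.Agent.Models7.DivModel
import Groth.Agent.CycLib28.FiniteDeg
import Groth.Agent.CycLib28.PushZero
import Groth.Agent.VarietyLib.CurveDegreeApps
import Groth.Agent.Inters29.Kernel
import Groth.Agent.S7935

/-!
# Multiplicities and intersection numbers after a contraction
-/

set_option autoImplicit false
set_option linter.style.haveILetI false
set_option backward.isDefEq.respectTransparency false
set_option maxHeartbeats 1000000

universe u

open CategoryTheory CategoryTheory.Limits AlgebraicGeometry TopologicalSpace IsLocalRing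
open Groth.Agent.Misc15.DivDescent Groth.Agent.SDiv28.CartierPart

namespace Groth.Agent.Models7

/-- A morphism with surjective stalk map has residue degree one. -/
theorem residueDegree_of_surjective_stalkMap {X Y : Scheme.{u}} (f : Y ⟶ X) (y : Y)
    (h : Function.Surjective (f.stalkMap y)) : f.residueDegree y = 1 := by
  have hs : Function.Surjective (f.residueFieldMap y) := fun z => by
    obtain ⟨a, rfl⟩ := Y.residue_surjective y z
    obtain ⟨c, rfl⟩ := h a
    exact ⟨X.residue _ c, ConcreteCategory.congr_hom (Scheme.residue_residueFieldMap f y) c⟩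
  letI := (f.residueFieldMap y).hom.toAlgebra
  let e : X.residueField (f y) ≃ₐ[X.residueField (f y)] Y.residueField y :=
    AlgEquiv.ofBijective (Algebra.ofId _ _) ⟨(f.residueFieldMap y).hom.injective, hs⟩
  change Module.finrank (X.residueField (f y)) (Y.residueField y) = 1
  rw [← e.toLinearEquiv.finrank_eq, Module.finrank_self]

variable {R : Type u} [CommRing R] [IsDomain R] [IsDiscreteValuationRing R]
variable {X X' : Scheme.{u}} {p : X ⟶ Spec (CommRingCat.of R)} {p' : X' ⟶ Spec (CommRingCat.of R)}

omit [IsDomain R] [IsDiscreteValuationRing R] in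
theorem stalkHom_comp (b : X ⟶ X') (hcomm : b ≫ p' = p) (x : X) :
    (b.stalkMap x).hom.comp (Models.stalkHom R (Over.mk p') (b x)) = Models.stalkHom R (Over.mk p) x := by
  subst hcomm
  ext r
  show b.stalkMap x (X'.presheaf.germ ⊤ (b x) trivial (Coh.toGlobal p' r)) =
    X.presheaf.germ ⊤ x trivial (Coh.toGlobal (b ≫ p') r)
  rw [Scheme.Hom.germ_stalkMap_apply]
  rfl

/-- The multiplicity does not change along a local isomorphism. -/
theorem length_fibre_eq (b : X ⟶ X') (hcomm : b ≫ p' = p) (x : X) [IsIso (b.stalkMap x)] {y : X'} (hy : b x = y) :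
    Module.length (X'.presheaf.stalk y)
        (X'.presheaf.stalk y ⧸ Ideal.map (Models.stalkHom R (Over.mk p') y) (maximalIdeal R)) =
      Module.length (X.presheaf.stalk x)
        (X.presheaf.stalk x ⧸ Ideal.map (Models.stalkHom R (Over.mk p) x) (maximalIdeal R)) := by
  subst hy
  rw [CycLib28.length_quot_equiv (asIso (b.stalkMap x)).commRingCatIsoToRingEquiv, Ideal.map_map,
    ← stalkHom_comp b hcomm x]
  rfl

theorem stk_prod_at {X : Over (Spec (CommRingCat.of R))} [IsIntegral X.left] [IsLocallyNoetherian X.left] [Flat X.hom]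
    (hreg : ∀ x : X.left, IsRegularLocalRing (X.left.presheaf.stalk x))
    {n : ℕ} (Γ : Fin n → ArSurf.VertComp R X) (hΓ : Models.IsComponentList R X Γ) (e : Fin n → ℕ) (j : Fin n)
    (x : X.left) (hx : x = (Γ j).ι (genericPoint (Γ j).curve.left)) :
    stk (∏ i, (Γ i).ι.ker ^ e i) x = maximalIdeal (X.left.presheaf.stalk x) ^ e j ∧
      Function.Injective fun a : ℕ => maximalIdeal (X.left.presheaf.stalk x) ^ a := by
  rw [← Inters29.gen_ker] at hx
  subst hx
  exact ⟨Inters29.stk_prod_genPt R hreg Γ hΓ e j, Inters29.pow_injective_genPt R hreg Γ hΓ j⟩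

/-- Intersection numbers with a curve mapped birationally onto its image. -/
theorem inter_pullback_birational [IsProper p] [IsProper p'] (b : X ⟶ X') (hcomm : b ≫ p' = p)
    (Γ : ArSurf.VertComp R (Over.mk p)) (Δ : ArSurf.VertComp R (Over.mk p'))
    (hrange : Set.range (Δ.ι.base : Δ.curve.left → X') =
      b.base '' Set.range (Γ.ι.base : Γ.curve.left → X))
    (hx : IsIso (b.stalkMap ((show Γ.curve.left ⟶ X from Γ.ι) (genericPoint Γ.curve.left))))
    {M : X'.Modules} (hM : PicF.IsInvertible M) :
    ArSurf.inter R (Over.mk p) ((Scheme.Modules.pullback b).obj M) Γ = ArSurf.inter R (Over.mk p') M Δ := by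
  let k := IsLocalRing.ResidueField R
  let A := Γ.curve.left
  let B := Δ.curve.left
  let ι : A ⟶ X := Γ.ι
  let κ : B ⟶ X' := Δ.ι
  haveI : IsClosedImmersion ι := Γ.isClosedImmersion
  haveI : IsClosedImmersion κ := Δ.isClosedImmersion
  haveI : IsProper b := by
    haveI : IsProper (b ≫ p') := by rw [hcomm]; infer_instance
    exact IsProper.of_comp b p'
  haveI : IsProper (Over.mk p).hom := ‹IsProper p›
  haveI : IsProper (Over.mk p').hom := ‹IsProper p'›
  letI : A.Over (Spec (CommRingCat.of k)) := ⟨Γ.curve.hom⟩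
  letI : B.Over (Spec (CommRingCat.of k)) := ⟨Δ.curve.hom⟩
  haveI : IsProper (A ↘ Spec (CommRingCat.of k)) := Inters29.isProper_curve R Γ
  haveI : IsProper (B ↘ Spec (CommRingCat.of k)) := Inters29.isProper_curve R Δ
  haveI : IsIntegral A := Γ.isIntegral
  haveI : IsIntegral B := Δ.isIntegral
  have himg : Set.range (ι ≫ b).base = b.base '' Set.range ι.base := by
    rw [Scheme.Hom.comp_base, TopCat.coe_comp, Set.range_comp]
  have hle : κ.ker ≤ (ι ≫ b).ker := by
    rw [Props12.ker_eq_vanishingIdeal, Props12.ker_eq_vanishingIdeal]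
    refine le_of_eq (congrArg Scheme.IdealSheafData.vanishingIdeal (Closeds.ext ?_))
    show closure (Set.range κ.base) = closure (Set.range (ι ≫ b).base)
    rw [himg]
    exact congrArg closure hrange
  let h := IsClosedImmersion.lift κ (ι ≫ b) hle
  have hh : h ≫ κ = ι ≫ b := IsClosedImmersion.lift_fac _ _ _
  have hf : h ≫ Δ.curve.hom = Γ.curve.hom := by
    haveI : IsClosedImmersion (Spec.map (CommRingCat.ofHom (IsLocalRing.residue R))) :=
      IsClosedImmersion.spec_of_surjective _ IsLocalRing.residue_surjective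
    rw [← cancel_mono (Spec.map (CommRingCat.ofHom (IsLocalRing.residue R))), Category.assoc,
      ← show κ ≫ p' = _ from Δ.w, ← show ι ≫ p = _ from Γ.w, reassoc_of% hh, hcomm]
  have hgen : κ (genericPoint B) = b (ι (genericPoint A)) := by
    have h1 : IsGenericPoint (b (ι (genericPoint A))) (closure (b.base '' Set.range ι.base)) := by
      have := (Inters29.genPt_isGenericPoint R Γ).image b.continuous
      exact this
    rw [(b.isClosedMap _ ι.isClosedEmbedding.isClosed_range).closure_eq] at h1
    exact (Inters29.genPt_isGenericPoint R Δ).eq (hrange.symm ▸ h1)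
  have hξ : h (genericPoint A) = genericPoint B := by
    apply κ.isClosedEmbedding.injective
    rw [← Scheme.Hom.comp_apply, hh, Scheme.Hom.comp_apply, hgen]
  have hdeg : h.residueDegree (genericPoint A) = 1 := by
    have h1 : (ι ≫ b).residueDegree (genericPoint A) = 1 := by
      rw [CycLib28.residueDegree_comp, CycLib28.residueDegree_preimmersion ι,
        residueDegree_of_surjective_stalkMap b (ι (genericPoint A)) (ConcreteCategory.bijective_of_isIso _).2, mul_one]
    rw [← hh, CycLib28.residueDegree_comp, CycLib28.residueDegree_preimmersion κ, one_mul] at h1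
    exact h1
  have hN : PicF.IsInvertible ((Scheme.Modules.pullback κ).obj M) := PicLoc.isInvertible_pullback κ hM
  show ArSurf.curveDeg k A ((Scheme.Modules.pullback ι).obj ((Scheme.Modules.pullback b).obj M)) =
    ArSurf.curveDeg k B ((Scheme.Modules.pullback κ).obj M)
  rw [Inters29.curveDeg_eq_deg k Γ.dim_eq.le (PicLoc.isInvertible_pullback ι (PicLoc.isInvertible_pullback b hM)),
    Inters29.curveDeg_eq_deg k Δ.dim_eq.le hN]
  refine (CurveRR24.deg_congr k ((Scheme.Modules.pullbackComp ι b).app M ≪≫
      (Scheme.Modules.pullbackCongr hh.symm).app M ≪≫ ((Scheme.Modules.pullbackComp h κ).app M).symm) 1).trans ?_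
  refine (VarietyLib.deg_pullback_curve k Γ.dim_eq Δ.dim_eq h hf hξ (PicLib.isFinLocFreeOfRank_one hN)).trans ?_
  rw [hdeg, Nat.cast_one, one_mul]

variable {C : Scheme.{u}} {f : C ⟶ Spec (CommRingCat.of (FractionRing R))} {g : C ⟶ X}

/-- The data of a contraction of a component. -/
theorem contraction_components [IsIntegral C] (hC : PropCurve (FractionRing R) C f)
    (hX : GenModel R C f X p g) {n : ℕ} (Γ : Fin (n + 1) → ArSurf.VertComp R (Over.mk p))
    (hΓ : Models.IsComponentList R (Over.mk p) Γ) (hexc : Models.IsExcCurve (Γ (Fin.last n)).ι) (b : X ⟶ X')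
    (hb : Models.IsContractionOf (show (Γ (Fin.last n)).curve.left ⟶ X from (Γ (Fin.last n)).ι) b)
    (hcomm : b ≫ p' = p) :
    (∀ i : Fin n, IsIso (b.stalkMap
      ((show (Γ i.castSucc).curve.left ⟶ X from (Γ i.castSucc).ι) (genericPoint (Γ i.castSucc).curve.left)))) ∧
    (∃ D : Fin n → ArSurf.VertComp R (Over.mk p'), ∀ i, Set.range ((D i).ι.base : (D i).curve.left → X') =
      b.base '' Set.range ((Γ i.castSucc).ι.base : (Γ i.castSucc).curve.left → X)) ∧
    ∀ Γ' : Fin n → ArSurf.VertComp R (Over.mk p'),
      (∀ i, Set.range ((Γ' i).ι.base : (Γ' i).curve.left → X') =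
        b.base '' Set.range ((Γ i.castSucc).ι.base : (Γ i.castSucc).curve.left → X)) →
      Models.IsComponentList R (Over.mk p') Γ' ∧
      ∀ i, (show (Γ' i).curve.left ⟶ X' from (Γ' i).ι) (genericPoint (Γ' i).curve.left) =
        b ((show (Γ i.castSucc).curve.left ⟶ X from (Γ i.castSucc).ι) (genericPoint (Γ i.castSucc).curve.left)) := by
  have hX' := hX.of_contraction hC (Γ (Fin.last n)) hexc b hb hcomm
  obtain ⟨hS', -, y, hy, hy0, hiso, hsurj, hfib, hys, -, -⟩ := contraction_basic hC hX _ b hb hcomm
  haveI := hX.isIntegral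
  haveI := hS'.integral
  haveI := hS'.noeth
  haveI := hS'.compact
  haveI := hiso
  haveI := hsurj
  haveI := hb.2.1
  haveI : IsProper p := hX.model.2.1
  haveI : IsProper p' := hX'.model.2.1
  haveI : IsIntegral (Over.mk p).left := hX.isIntegral
  haveI : IsLocallyNoetherian (Over.mk p).left := LocallyOfFiniteType.isLocallyNoetherian p
  haveI : IsIntegral (Over.mk p').left := inferInstanceAs (IsIntegral X')
  haveI : IsLocallyNoetherian (Over.mk p').left := inferInstanceAs (IsLocallyNoetherian X')
  haveI : IsProper (Over.mk p').hom := hX'.model.2.1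
  haveI : Flat (Over.mk p').hom := hX'.model.1.1
  haveI : QuasiCompact (Over.mk p').hom := inferInstance
  let U : X'.Opens := ⟨{y}ᶜ, hy.isOpen_compl⟩
  let ι : ∀ i, (Γ i).curve.left ⟶ X := fun i => (Γ i).ι
  let gp : Fin (n + 1) → X := fun i => ι i (genericPoint (Γ i).curve.left)
  have hgU : ∀ i : Fin n, b (gp i.castSucc) ≠ y := by
    intro i h
    obtain ⟨a, ha⟩ := hfib.le (show gp i.castSucc ∈ b.base ⁻¹' {y} from h)
    have hs : gp (Fin.last n) ⤳ gp i.castSucc := by
      rw [← ha]; exact (genericPoint_specializes a).map (ι (Fin.last n)).continuous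
    have := Inters29.genPt_maximal R Γ hΓ i.castSucc
      (Inters29.range_subset_specialFibreSet R (Γ (Fin.last n)) ⟨_, rfl⟩) hs
    exact (Fin.castSucc_lt_last i).ne (Inters29.genPt_injective R Γ hΓ this).symm
  have hinj : ∀ x x' : X, b x ≠ y → b x' = b x → x' = x := by
    intro x x' hx hxx
    have h2 : (b ∣_ U) ⟨x', show b x' ≠ y by rw [hxx]; exact hx⟩ = (b ∣_ U) ⟨x, hx⟩ :=
      Subtype.ext (((morphismRestrict_base_coe b U _).trans hxx).trans (morphismRestrict_base_coe b U _).symm)
    exact congrArg Subtype.val ((b ∣_ U).homeomorph.injective h2)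
  have hspec : ∀ x : X, p x = closedPoint R → p' (b x) = closedPoint R := fun x hx => by
    rw [← Scheme.Hom.comp_apply, hcomm]; exact hx
  have hgenimg : ∀ i : Fin (n + 1), IsGenericPoint (b (gp i)) (b.base '' Set.range (ι i).base) := by
    intro i
    have h1 := (Inters29.genPt_isGenericPoint R (Γ i)).image b.continuous
    change IsGenericPoint (b (gp i)) (closure (b.base '' Set.range (ι i).base)) at h1
    rwa [(b.isClosedMap _ (ι i).isClosedEmbedding.isClosed_range).closure_eq] at h1
  have hncl : ∀ i : Fin n, ¬ IsClosed ({b (gp i.castSucc)} : Set X') := by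
    intro i hc
    obtain ⟨a, a', hne⟩ := exists_ne_of_dim_one (Γ i.castSucc).dim_eq
    apply hne
    have key : ∀ a, ι i.castSucc a = gp i.castSucc := fun a => by
      refine hinj _ _ (hgU i) ?_
      exact (((genericPoint_specializes a).map (ι i.castSucc).continuous).map b.continuous).mem_closed hc rfl
    exact (Γ i.castSucc).ι.isClosedEmbedding.injective ((key a).trans (key a').symm)
  refine ⟨fun i => isIso_stalkMap_of_isIso_restrict b U _ (hgU i), ?_, fun Γ' hΓ' => ?_⟩
  · have hdim' : topologicalKrullDim (Over.mk p').left ≤ 2 := hS'.dim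
    choose D hD using fun i : Fin n => exists_vertComp R (X := Over.mk p') hdim'
      (show (Over.mk p').hom (genericPoint (Over.mk p').left) ≠ closedPoint R from hX'.genericPoint_ne)
      (show (Over.mk p').hom (b (gp i.castSucc)) = closedPoint R from
        hspec _ (Inters29.range_subset_specialFibreSet R (Γ i.castSucc) ⟨_, rfl⟩)) (hncl i)
    exact ⟨D, fun i => (hD i).trans (hgenimg i.castSucc).def⟩
  · have hgp : ∀ i, (Γ' i).ι (genericPoint (Γ' i).curve.left) = b (gp i.castSucc) := fun i =>
      (Inters29.genPt_isGenericPoint R (Γ' i)).eq ((hΓ' i).symm ▸ hgenimg i.castSucc)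
    refine ⟨Inters29.isComponentList_of_cover R (X := Over.mk p') hX'.model.2.2 hS'.dim Γ' (fun i j h => ?_) (fun w hw => ?_), hgp⟩
    · have h1 : b (gp i.castSucc) = b (gp j.castSucc) := by
        rw [← hgp i, ← hgp j]
        exact (Inters29.genPt_isGenericPoint R (Γ' i)).eq
          ((show Set.range (Γ' i).ι.base = Set.range (Γ' j).ι.base from h).symm ▸
            Inters29.genPt_isGenericPoint R (Γ' j))
      exact Fin.castSucc_injective n (Inters29.genPt_injective R Γ hΓ (hinj _ _ (hgU j) h1))
    · by_cases hwy : w = y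
      · subst hwy
        -- the point of contraction lies on the image of a component meeting the curve
        haveI : IsProper (Over.mk p).hom := hX.model.2.1
        haveI : Flat (Over.mk p).hom := hX.model.1.1
        obtain ⟨m, Δ, hΔ⟩ := Inters29.exists_componentList R (X := Over.mk p') (hX'.isArithSurface hC).2.2.1
        obtain ⟨j, hj⟩ := Inters29.exists_genPt_specializes R Δ hΔ hw
        obtain ⟨x, hx⟩ := b.surjective ((Δ j).ι (genericPoint (Δ j).curve.left))
        have hne : b x ≠ w := by
          intro h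
          obtain ⟨a, a', haa⟩ := exists_ne_of_dim_one (Δ j).dim_eq
          apply haa
          have key : ∀ a, (Δ j).ι a = w := fun a =>
            ((genericPoint_specializes a).map (Δ j).ι.continuous).mem_closed hy (hx.symm.trans h)
          exact (Δ j).ι.isClosedEmbedding.injective ((key a).trans (key a').symm)
        have hxs : x ∈ Models.specialFibreSet R (Over.mk p) := by
          show p x = closedPoint R
          rw [← hcomm, Scheme.Hom.comp_apply, hx]
          exact Inters29.range_subset_specialFibreSet R (Δ j) ⟨_, rfl⟩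
        obtain ⟨l, hl⟩ := Inters29.exists_genPt_specializes R Γ hΓ hxs
        obtain ⟨i, rfl⟩ | rfl := l.eq_castSucc_or_eq_last
        · exact ⟨i, ((hx ▸ hl.map b.continuous).trans hj).mem_closed
            (Γ' i).ι.isClosedEmbedding.isClosed_range ⟨_, hgp i⟩⟩
        · exact absurd (hfib.ge (hl.mem_closed (ι (Fin.last n)).isClosedEmbedding.isClosed_range ⟨_, rfl⟩)) hne
      · obtain ⟨x, rfl⟩ := b.surjective w
        have hxs : x ∈ Models.specialFibreSet R (Over.mk p) := by
          show p x = closedPoint R
          rw [← hcomm, Scheme.Hom.comp_apply]; exact hw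
        obtain ⟨l, hl⟩ := Inters29.exists_genPt_specializes R Γ hΓ hxs
        obtain ⟨i, rfl⟩ | rfl := l.eq_castSucc_or_eq_last
        · exact ⟨i, (hl.map b.continuous).mem_closed (Γ' i).ι.isClosedEmbedding.isClosed_range ⟨_, hgp i⟩⟩
        · exact absurd (hfib.ge (hl.mem_closed (ι (Fin.last n)).isClosedEmbedding.isClosed_range ⟨_, rfl⟩)) hwy

end Groth.Agent.Models7
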