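import Groth.Agent.Models7.FibreSep

/-!
# A fibre with separated components has no contractible curve
-/

set_option autoImplicit false
set_option linter.style.haveILetI false
set_option backward.isDefEq.respectTransparency false
set_option maxHeartbeats 1000000

universe u

open CategoryTheory CategoryTheory.Limits AlgebraicGeometry TopologicalSpace IsLocalRing

namespace Groth.Agent.Models7

variable {R : Type u} [CommRing R] [IsDedekindDomain R] {X : Over (Spec (CommRingCat.of R))}

/-- A non-closed point over a closed point of the base is maximal in its fibre. -/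
theorem eq_of_specializes_in_fibre (hX : ArSurf.IsArithSurface R X) {s : ↥(Spec (CommRingCat.of R))}
    (hs : s ≠ (etaPt : Spec (CommRingCat.of R))) {x a : X.left} (hxc : ¬ IsClosed ({x} : Set X.left))
    (ha : X.hom a = s) (h : a ⤳ x) : a = x := by
  haveI := hX.2.1
  haveI := hX.2.2.2.1
  rcases eq_or_eq_generic_of_dim_le_two hX.2.2.1.le h hxc with h1 | h1
  · exact h1
  · exact absurd (by rw [← ha, h1, hom_genericPoint']) hs

/-- In a fibre with separated components a connected closed set containing a maximal point lies below it. -/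
theorem specializes_of_connected (hX : ArSurf.IsArithSurface R X) {s : ↥(Spec (CommRingCat.of R))}
    (hs : s ≠ (etaPt : Spec (CommRingCat.of R))) (hsep : FibreSep (X := X) s) {x : X.left}
    (hxc : ¬ IsClosed ({x} : Set X.left)) (hxs : X.hom x = s) {A : Set X.left} (hA : IsClosed A)
    (hconn : _root_.IsPreconnected A) (hxA : x ∈ A) (hAs : ∀ a ∈ A, X.hom a = s) : ∀ a ∈ A, x ⤳ a := by
  haveI := hX.2.1
  haveI : IsProper X.hom := Models7.isProper_of_projective hX.2.2.2.2
  haveI : IsLocallyNoetherian X.left := LocallyOfFiniteType.isLocallyNoetherian X.hom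
  haveI : CompactSpace X.left := QuasiCompact.compactSpace_of_compactSpace X.hom
  haveI : IsNoetherian X.left := {}
  obtain ⟨T, hTf, hTc, hTi, hAT⟩ := NoetherianSpace.exists_finite_set_isClosed_irreducible hA
  let B : Set X.left := ⋃₀ {t ∈ T | ¬ t ⊆ closure {x}}
  have hB : IsClosed B := by
    simp only [B, Set.sUnion_eq_biUnion]
    exact (hTf.subset fun t ht => ht.1).isClosed_biUnion fun t ht => hTc t ht.1
  have hcov : A ⊆ closure {x} ∪ B := by
    intro a ha
    obtain ⟨t, ht, hat⟩ := hAT.le ha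
    by_cases h : t ⊆ closure {x}
    · exact Or.inl (h hat)
    · exact Or.inr ⟨t, ⟨ht, h⟩, hat⟩
  have key : ∀ v ∈ A, x ⤳ v → v ∉ B := by
    rintro v hvA hxv ⟨t, ⟨ht, hnt⟩, hvt⟩
    obtain ⟨c, hc⟩ := QuasiSober.sober (hTi t ht) (hTc t ht)
    have hcA : c ∈ A := hAT.ge ⟨t, ht, hc.mem⟩
    apply hnt
    rw [← hc.def]
    refine closure_minimal (Set.singleton_subset_iff.2 (specializes_iff_mem_closure.1 ?_)) isClosed_closure
    haveI : QuasiSober ↥(X.hom.base ⁻¹' {s}) := (X.hom.fiberHomeo s).symm.isOpenEmbedding.quasiSober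
    obtain ⟨t₀, ht₀, ht₀c⟩ := exists_max_specializes (α := ↥(X.hom.base ⁻¹' {s})) ⟨c, hAs c hcA⟩
    have h1 := hsep t₀.1 x v (hAs v hvA) t₀.2 hxs
      (fun a ha hat => congrArg Subtype.val (ht₀ ⟨a, ha⟩ ((subtype_specializes_iff _ _).2 hat)))
      (fun a ha hax => eq_of_specializes_in_fibre hX hs hxc ha hax)
      (((subtype_specializes_iff _ _).1 ht₀c).trans (hc.specializes hvt)) hxv
    exact h1 ▸ (subtype_specializes_iff _ _).1 ht₀c
  intro a ha
  by_contra hna
  obtain ⟨v, hvA, hv1, hv2⟩ := isPreconnected_closed_iff.1 hconn _ _ isClosed_closure hB hcov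
    ⟨x, hxA, subset_closure rfl⟩
    ⟨a, ha, (hcov ha).resolve_left fun h => hna (specializes_iff_mem_closure.2 h)⟩
  exact key v hvA (specializes_iff_mem_closure.2 hv1) hv2

/-- No curve in a fibre with separated components can be contracted. -/
theorem false_of_contracted (hX : ArSurf.IsArithSurface R X) {Y : Over (Spec (CommRingCat.of R))} (φ : X ⟶ Y)
    [IsProper φ.left] (hsurj : Function.Surjective φ.left.base) (y : Y.left) (hy : IsClosed ({y} : Set Y.left))
    (hdim : ringKrullDim (Y.left.presheaf.stalk y) = 2) [IsLocallyNoetherian Y.left]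
    (hconn : _root_.IsPreconnected (φ.left.base ⁻¹' {y})) {s : ↥(Spec (CommRingCat.of R))}
    (hs : s ≠ (etaPt : Spec (CommRingCat.of R))) (hqy : Y.hom y = s) (hsep : FibreSep (X := X) s)
    {x : X.left} (hxc : ¬ IsClosed ({x} : Set X.left)) (hxy : φ.left x = y) : False := by
  classical
  haveI := hX.2.1
  haveI : IsProper X.hom := Models7.isProper_of_projective hX.2.2.2.2
  have hcomp : ∀ a, Y.hom (φ.left a) = X.hom a := fun a => by
    rw [← Scheme.Hom.comp_apply, Over.w φ]
  have hA : ∀ a ∈ φ.left.base ⁻¹' {y}, X.hom a = s := fun a ha => by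
    rw [← hcomp, show φ.left a = y from ha, hqy]
  have hxs : X.hom x = s := hA x hxy
  have hspec := specializes_of_connected hX hs hsep hxc hxs (hy.preimage φ.left.continuous) hconn hxy hA
  -- every point over `s` generalising `y` is `y`
  have hz : ∀ z : Y.left, z ⤳ y → Y.hom z = s → z = y := by
    intro z hzy hzs
    obtain ⟨w, rfl⟩ := hsurj z
    have hws : X.hom w = s := by rw [← hcomp, hzs]
    obtain ⟨w', hww', hw'y⟩ : y ∈ φ.left.base '' closure {w} := by
      have h1 : IsClosed (φ.left.base '' closure {w}) := φ.left.isClosedMap _ isClosed_closure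
      exact hzy.mem_closed h1 ⟨w, subset_closure rfl, rfl⟩
    haveI : QuasiSober ↥(X.hom.base ⁻¹' {s}) := (X.hom.fiberHomeo s).symm.isOpenEmbedding.quasiSober
    obtain ⟨t₀, ht₀, ht₀w⟩ := exists_max_specializes (α := ↥(X.hom.base ⁻¹' {s})) ⟨w, hws⟩
    have h1 := hsep t₀.1 x w' (hA w' hw'y) t₀.2 hxs
      (fun a ha hat => congrArg Subtype.val (ht₀ ⟨a, ha⟩ ((subtype_specializes_iff _ _).2 hat)))
      (fun a ha hax => eq_of_specializes_in_fibre hX hs hxc ha hax)
      (((subtype_specializes_iff _ _).1 ht₀w).trans (specializes_iff_mem_closure.2 hww')) (hspec w' hw'y)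
    have h2 : φ.left x ⤳ φ.left w := (h1 ▸ (subtype_specializes_iff _ _).1 ht₀w : x ⤳ w).map φ.left.continuous
    rw [hxy] at h2
    exact h2.mem_closed hy rfl
  let A := Y.left.presheaf.stalk y
  let ρ : CommRingCat.of R ⟶ A := Spec.preimage (Y.left.fromSpecStalk y ≫ Y.hom)
  have hρ : Spec.map ρ = Y.left.fromSpecStalk y ≫ Y.hom := Spec.map_preimage _
  have hρp : ∀ p : Spec A, (Spec.map ρ p) = Y.hom (Y.left.fromSpecStalk y p) := fun p => by
    rw [hρ, Scheme.Hom.comp_apply]
  have hsne : s.asIdeal ≠ ⊥ := fun h => hs (PrimeSpectrum.ext h)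
  obtain ⟨r, hrs, hr0⟩ := Submodule.exists_mem_ne_zero_of_ne_bot hsne
  have hmax : ρ.hom r ∈ maximalIdeal A := by
    have h1 := hρp (closedPoint A)
    rw [Scheme.fromSpecStalk_closedPoint, hqy] at h1
    have h2 : r ∈ (Spec.map ρ (closedPoint A)).asIdeal := by rw [h1]; exact hrs
    exact h2
  have hmin : maximalIdeal A ∈ (Ideal.span {ρ.hom r}).minimalPrimes := by
    refine ⟨⟨inferInstance, (Ideal.span_singleton_le_iff_mem _).2 hmax⟩, fun p ⟨hp, hrp⟩ _ => ?_⟩
    let P : Spec A := (⟨p, hp⟩ : PrimeSpectrum A)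
    have hzy : Y.left.fromSpecStalk y P ⤳ y := by
      have : Y.left.fromSpecStalk y P ∈ Set.range (Y.left.fromSpecStalk y) := ⟨P, rfl⟩
      rwa [Scheme.range_fromSpecStalk] at this
    have hzs : Y.hom (Y.left.fromSpecStalk y P) = s := by
      have hmem : r ∈ (Spec.map ρ P).asIdeal := ((Ideal.span_singleton_le_iff_mem p).1 hrp :)
      rw [hρp P] at hmem
      have hne : (Y.hom (Y.left.fromSpecStalk y P)).asIdeal ≠ ⊥ := fun h => hr0 (by rw [h] at hmem; exact hmem)
      have hle : (Y.hom (Y.left.fromSpecStalk y P)).asIdeal ≤ s.asIdeal := by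
        rw [← hqy]
        exact (PrimeSpectrum.le_iff_specializes _ _).2 (hzy.map Y.hom.continuous)
      haveI := (Y.hom (Y.left.fromSpecStalk y P)).isPrime.isMaximal hne
      exact PrimeSpectrum.ext (Ideal.IsMaximal.eq_of_le this s.isPrime.ne_top hle)
    have hP : P = closedPoint A := (Y.left.fromSpecStalk y).isEmbedding.injective
      ((hz _ hzy hzs).trans Scheme.fromSpecStalk_closedPoint.symm)
    exact le_of_eq (congrArg PrimeSpectrum.asIdeal hP).symm
  haveI : IsNoetherianRing A := inferInstance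
  haveI : (Ideal.span {ρ.hom r}).IsPrincipal := ⟨ρ.hom r, rfl⟩
  have h := Ideal.height_le_one_of_isPrincipal_of_mem_minimalPrimes _ _ hmin
  rw [← IsLocalRing.maximalIdeal_height_eq_ringKrullDim] at hdim
  have h2 : (maximalIdeal A).height = 2 := WithBot.coe_eq_coe.1 hdim
  rw [h2] at h
  exact absurd h (by decide)

end Groth.Agent.Models7
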