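import Groth.Agent.Models7.MinModelExists
import Groth.Agent.S7909

/-!
# Any contraction of an exceptional curve is a morphism of models
-/

set_option autoImplicit false
set_option linter.style.haveILetI false
set_option backward.isDefEq.respectTransparency false
set_option maxHeartbeats 1000000

universe u

open CategoryTheory CategoryTheory.Limits AlgebraicGeometry TopologicalSpace IsLocalRing Opposite
open Groth.Agent.Misc15.DivDescent Groth.Agent.SDiv28.CartierPart

namespace Groth.Agent.Models7

variable (R : Type u) [CommRing R] [IsDomain R] [IsDiscreteValuationRing R]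

/-- The exceptional curve of the blow-up of a closed point with a proper centre. -/
theorem exists_excCurve_blowUp_center {Z X : Scheme.{u}} [IsIntegral Z] (p : Z ⟶ Spec (CommRingCat.of R))
    (hZ : RegSurf Z) (hpη : p (genericPoint Z) ≠ closedPoint R) (z : Z) (hz : IsClosed ({z} : Set Z))
    (hz0 : z ≠ genericPoint Z) (hzR : p z = closedPoint R)
    (hcen : IsProper ((Scheme.IdealSheafData.vanishingIdeal ⟨{z}, hz⟩).subschemeι ≫ p))
    (hdim : ringKrullDim (Z.presheaf.stalk z) = 2) (b : X ⟶ Z)
    (hb : BlowUp.IsBlowUp b (Scheme.IdealSheafData.vanishingIdeal ⟨{z}, hz⟩)) :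
    ∃ (E : Scheme.{u}) (ι : E ⟶ X), IsClosedImmersion ι ∧ Models.IsExcCurve ι ∧
      Set.range ι.base = b.base ⁻¹' {z} ∧ Set.range (ι ≫ b).base = {z} ∧
      ι.ker = (Scheme.IdealSheafData.vanishingIdeal ⟨{z}, hz⟩).comap b := by
  let I := Scheme.IdealSheafData.vanishingIdeal ⟨{z}, hz⟩
  haveI := hZ.noeth
  haveI := hZ.compact
  -- generators near the point
  let i := I.subschemeι
  have hsupp : (I.support : Set Z) = {z} := Scheme.IdealSheafData.coe_support_vanishingIdeal _
  haveI : IsReduced I.subscheme := Props12.isReduced_subscheme_vanishingIdeal _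
  obtain ⟨z₀, hz₀⟩ := I.range_subschemeι.ge (hsupp.ge rfl)
  have hsub : Subsingleton I.subscheme := ⟨fun a c => i.isClosedEmbedding.injective
    ((Set.mem_singleton_iff.1 (hsupp.le (I.range_subschemeι.le ⟨a, rfl⟩))).trans
      (Set.mem_singleton_iff.1 (hsupp.le (I.range_subschemeι.le ⟨c, rfl⟩))).symm)⟩
  haveI : IrreducibleSpace I.subscheme :=
    { isPreirreducible_univ := Set.subsingleton_univ.isPreirreducible
      toNonempty := ⟨z₀⟩ }
  haveI : IsIntegral I.subscheme := isIntegral_of_irreducibleSpace_of_isReduced _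
  haveI : IsLocallyNoetherian I.subscheme := LocallyOfFiniteType.isLocallyNoetherian i
  have hI0 : ∀ w : I.subscheme, IsRegularLocalRing (I.subscheme.presheaf.stalk w) := by
    intro w
    rw [hsub.elim w (genericPoint I.subscheme)]
    exact inferInstanceAs (IsRegularLocalRing I.subscheme.functionField)
  obtain ⟨U, hzU, -, rs, hrs, hk⟩ := (SDiv28.RegImm.isRegularImmersion i hZ.regular hI0).2 z₀
  obtain ⟨U, hU⟩ := U
  rw [hz₀] at hzU
  have hk' : I.ideal ⟨U, hU⟩ = Ideal.ofList rs :=
    (congrArg (fun J : Z.IdealSheafData => J.ideal ⟨U, hU⟩) (Scheme.IdealSheafData.ker_subschemeι I)).symm.trans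
      ((Scheme.Hom.ker_apply i ⟨U, hU⟩).trans hk)
  have hne : rs ≠ [] := by
    rintro rfl
    haveI := hZ.regular z
    have h1 : maximalIdeal (Z.presheaf.stalk z) = ⊥ := by
      rw [← stk_vanishingIdeal_point z hz, stk_eq I ⟨U, hU⟩ hzU, hk', Ideal.ofList_nil, Ideal.map_bot]
    have h2 := IsRegularLocalRing.spanFinrank_maximalIdeal (R := Z.presheaf.stalk z)
    rw [h1, hdim, Submodule.spanFinrank_bot] at h2
    exact absurd h2 (by decide)
  obtain ⟨n, f, -, hspan, hf⟩ := BlowUpCoh.exists_family_of_list rs hne (BlowUpCoh.isKoszulRegularSeq_of_isRegular hrs)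
  have hI : BlowUpCoh.KoszulBasis I 0 := BlowUpCoh.koszulBasis_of_local fun x hx => by
    rw [Set.mem_singleton_iff.1 (hsupp.le hx)]
    exact ⟨⟨U, hU⟩, n, f, hzU, Nat.zero_le _, hk'.trans hspan, hf⟩
  obtain ⟨f', hspan', hf', -⟩ := BlowUpCoh.exists_restrict_data hb hI hU (hk'.trans hspan) hf
  -- the affine picture
  haveI : IsAffine (U : Scheme.{u}) := hU
  haveI : Nonempty U.toScheme := ⟨⟨z, hzU⟩⟩
  let p' : (U : Scheme.{u}) ⟶ Spec (CommRingCat.of R) := U.ι ≫ p
  let O : X.Opens := b ⁻¹ᵁ U
  let zU : (U : Scheme.{u}) := ⟨z, hzU⟩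
  have hzUc : IsClosed ({zU} : Set (U : Scheme.{u})) := by
    have : ({zU} : Set (U : Scheme.{u})) = U.ι.base ⁻¹' {z} :=
      Set.ext fun w => ⟨fun h => by rw [Set.mem_singleton_iff.1 h]; rfl, fun h => Subtype.ext h⟩
    rw [this]; exact hz.preimage U.ι.continuous
  let I' := Scheme.IdealSheafData.vanishingIdeal (X := (U : Scheme.{u})) ⟨{zU}, hzUc⟩
  have hI' : I.comap U.ι = I' := by
    haveI : IsReduced (I.comap U.ι).subscheme := by
      haveI : IsReduced (pullback U.ι I.subschemeι) :=
        isReduced_of_isOpenImmersion (pullback.snd U.ι I.subschemeι)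
      exact isReduced_of_isOpenImmersion (I.comapIso U.ι).hom
    rw [eq_vanishingIdeal_of_isReduced (I.comap U.ι)]
    congr 1
    refine Closeds.ext ?_
    show ((I.comap U.ι).support : Set U.toScheme) = {zU}
    rw [Scheme.IdealSheafData.support_comap]
    ext w
    exact ⟨fun h => Subtype.ext (Set.mem_singleton_iff.1 (hsupp.le h)), fun h => hsupp.ge (congrArg Subtype.val h)⟩
  have hUs : RegSurf U.toScheme := by
    refine ⟨inferInstance, inferInstance, inferInstance, fun w => ?_, ?_⟩
    · haveI := hZ.regular w.1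
      exact IsRegularLocalRing.of_ringEquiv (R := Z.presheaf.stalk w.1)
        (U.stalkIso w).symm.commRingCatIsoToRingEquiv
    · exact (U.ι.isOpenEmbedding.isInducing.topologicalKrullDim_le).trans hZ.dim
  have hbU : BlowUp.IsBlowUp (b ∣_ U) I' := hI' ▸ BlowUpLib.isBlowUp_restrict hb U
  have hgenU : genericPoint U.toScheme ≠ zU := fun h => hz0 (by
    rw [← genericPoint_eq_of_isOpenImmersion U.ι, h]; rfl)
  have h2 : (maximalIdeal (U.toScheme.presheaf.stalk zU)).spanFinrank = 2 := by
    haveI := hUs.regular zU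
    have h := IsRegularLocalRing.spanFinrank_maximalIdeal (R := U.toScheme.presheaf.stalk zU)
    rw [ringKrullDim_eq_of_ringEquiv (U.stalkIso zU).commRingCatIsoToRingEquiv, hdim] at h
    exact_mod_cast h
  have hprop : IsProper (I'.subschemeι ≫ p') := by
    haveI : IsClosedImmersion (I'.subschemeι ≫ U.ι) := IsClosedImmersion.of_isPreimmersion _ (by
      rw [Scheme.Hom.comp_base, TopCat.coe_comp, Set.range_comp, Scheme.IdealSheafData.range_subschemeι,
        Scheme.IdealSheafData.coe_support_vanishingIdeal]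
      show IsClosed (U.ι.base '' {zU})
      rw [Set.image_singleton]; exact hz)
    have hle : I.subschemeι.ker ≤ (I'.subschemeι ≫ U.ι).ker := by
      rw [Scheme.IdealSheafData.ker_subschemeι]
      refine (I.le_map_comap U.ι).trans ?_
      rw [hI']
      exact le_rfl
    let l := IsClosedImmersion.lift I.subschemeι (I'.subschemeι ≫ U.ι) hle
    have hl : l ≫ I.subschemeι = I'.subschemeι ≫ U.ι := IsClosedImmersion.lift_fac _ _ _
    haveI : IsClosedImmersion l := by
      haveI : IsClosedImmersion (l ≫ I.subschemeι) := by rw [hl]; infer_instance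
      exact IsClosedImmersion.of_comp l I.subschemeι
    haveI := hcen
    haveI : IsProper (l ≫ I.subschemeι ≫ p) := inferInstance
    show IsProper (I'.subschemeι ≫ U.ι ≫ p)
    rw [← reassoc_of% hl]
    infer_instance
  obtain ⟨Γ, hker, hexc⟩ := exists_exceptional_affine R p' hUs zU hzUc (Ne.symm hgenU)
    (by show p (U.ι zU) = _; exact hzR)
    (by show p (U.ι (genericPoint U.toScheme)) ≠ _; rw [genericPoint_eq_of_isOpenImmersion U.ι]; exact hpη)
    hprop h2 f' (by show I'.ideal _ = _; rw [← hI']; exact hspan') hf' (b ∣_ U) hbU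
  -- back to the surface
  let J := I.comap b
  let ΓU : Γ.curve.left ⟶ O.toScheme := Γ.ι
  haveI : IsClosedImmersion ΓU := Γ.isClosedImmersion
  have hJO : J.comap O.ι = ΓU.ker := by
    show J.comap O.ι = Γ.ι.ker
    rw [hker]
    show _ = I'.comap (b ∣_ U)
    rw [← hI', BlowUpCoh.comap_restrict]
  have hJsupp : (J.support : Set X) = b.base ⁻¹' {z} := by
    show ((I.comap b).support : Set X) = _
    rw [Scheme.IdealSheafData.support_comap, ← hsupp]; rfl
  let ι : Γ.curve.left ⟶ X := ΓU ≫ O.ι
  haveI : IsPreimmersion ι := inferInstanceAs (IsPreimmersion (ΓU ≫ O.ι))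
  have hrange : Set.range ι.base = b.base ⁻¹' {z} := by
    have h1 : Set.range ΓU.base = (ΓU.ker.support : Set O.toScheme) := by
      rw [Scheme.Hom.support_ker]
      exact ΓU.isClosedEmbedding.isClosed_range.closure_eq.symm
    show Set.range (ΓU ≫ O.ι).base = _
    rw [Scheme.Hom.comp_base, TopCat.coe_comp, Set.range_comp, h1, ← hJO, Scheme.IdealSheafData.support_comap]
    show O.ι.base '' (O.ι.base ⁻¹' (J.support : Set X)) = _
    rw [Set.image_preimage_eq_inter_range, hJsupp, Scheme.Opens.range_ι, Set.inter_eq_left]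
    intro w hw
    show b w ∈ U
    rw [Set.mem_singleton_iff.1 hw]; exact hzU
  haveI : IsClosedImmersion ι := IsClosedImmersion.of_isPreimmersion _ (hrange ▸ hz.preimage b.continuous)
  have hιker : ι.ker = J := by
    refine le_antisymm ?_ ?_
    · have hr : Set.range J.subschemeι.base ⊆ Set.range O.ι.base := by
        rw [J.range_subschemeι, hJsupp, Scheme.Opens.range_ι]
        intro w hw
        show b w ∈ U
        rw [Set.mem_singleton_iff.1 hw]; exact hzU
      let k := IsOpenImmersion.lift O.ι J.subschemeι hr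
      have hk : k ≫ O.ι = J.subschemeι := IsOpenImmersion.lift_fac _ _ _
      haveI : IsClosedImmersion k := by
        haveI : IsClosedImmersion (k ≫ O.ι) := by rw [hk]; infer_instance
        exact IsClosedImmersion.of_comp k O.ι
      have hle : ΓU.ker ≤ k.ker := by
        rw [← hJO]
        refine Scheme.IdealSheafData.le_map_iff_comap_le.1 ?_
        show J ≤ (k.ker.subschemeι ≫ O.ι).ker
        rw [← Scheme.Hom.ker_comp_of_isIso k.toImage, ← Category.assoc]
        show J ≤ ((k.toImage ≫ k.imageι) ≫ O.ι).ker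
        rw [Scheme.Hom.toImage_imageι, hk, Scheme.IdealSheafData.ker_subschemeι]
      calc ι.ker ≤ (IsClosedImmersion.lift ΓU k hle ≫ ι).ker := Scheme.Hom.le_ker_comp _ _
        _ = J := by
          show (_ ≫ ΓU ≫ O.ι).ker = _
          rw [IsClosedImmersion.lift_fac_assoc, hk, Scheme.IdealSheafData.ker_subschemeι]
    · refine (J.le_map_comap O.ι).trans ?_
      show ((J.comap O.ι).subschemeι ≫ O.ι).ker ≤ (ΓU ≫ O.ι).ker
      rw [hJO]
      conv_rhs => rw [← ΓU.toImage_imageι, Category.assoc]
      exact Scheme.Hom.le_ker_comp _ _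
  refine ⟨_, ι, inferInstance, ?_, hrange, ?_, hιker⟩
  · obtain ⟨hD, k, hk, e, ⟨φ⟩⟩ := hexc
    refine ⟨by rw [hιker]; exact hb.1, k, hk, e, ?_⟩
    obtain ⟨ψ⟩ := Inters29.nonempty_pullback_idealMod_iso O.ι J hb.1 (by rw [hJO]; exact hD)
    rw [hιker]
    exact ⟨((Scheme.Modules.pullbackCongr (Category.assoc e.hom ΓU O.ι)).symm.app _) ≪≫
      ((Scheme.Modules.pullbackComp (e.hom ≫ ΓU) O.ι).symm.app _) ≪≫
      (Scheme.Modules.pullback (e.hom ≫ ΓU)).mapIso (ψ ≪≫ eqToIso (congrArg ClSub.idealMod hJO)) ≪≫ φ⟩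
  · rw [Scheme.Hom.comp_base, TopCat.coe_comp, Set.range_comp, hrange]
    refine Set.eq_singleton_iff_nonempty_unique_mem.2 ⟨?_, fun w hw => ?_⟩
    · exact ⟨_, ι (genericPoint Γ.curve.left), hrange.le ⟨_, rfl⟩, rfl⟩
    · obtain ⟨x, hx, rfl⟩ := hw
      exact hx


variable {R}

/-- Over a surjection from a proper scheme the target is separated. -/
theorem isSeparated_of_surjective {X Y S : Scheme.{u}} (b : X ⟶ Y) [IsProper b] [Surjective b] (p : Y ⟶ S)
    [IsSeparated (b ≫ p)] : IsSeparated p := by
  let B : pullback (b ≫ p) (b ≫ p) ⟶ pullback p p :=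
    pullback.map (b ≫ p) (b ≫ p) p p b b (𝟙 S) (Category.comp_id _) (Category.comp_id _)
  have hB : IsProper B :=
    MorphismProperty.pullbackMap (P := @IsProper) ‹IsProper b› ‹IsProper b› rfl rfl
  haveI : IsPreimmersion (pullback.diagonal p) := inferInstance
  refine ⟨IsClosedImmersion.of_isPreimmersion _ ?_⟩
  have heq : pullback.diagonal (b ≫ p) ≫ B = b ≫ pullback.diagonal p := by
    apply pullback.hom_ext <;> simp [B, pullback.diagonal] <;> exact Category.id_comp b
  have hrange : Set.range (pullback.diagonal p) = B '' Set.range (pullback.diagonal (b ≫ p)) := by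
    rw [← Set.range_comp, ← TopCat.coe_comp, ← Scheme.Hom.comp_base, heq, Scheme.Hom.comp_base, TopCat.coe_comp,
      Set.range_comp, Set.range_eq_univ.2 b.surjective, Set.image_univ]
  rw [hrange]
  haveI := hB
  exact B.isClosedMap _ (pullback.diagonal (b ≫ p)).isClosedEmbedding.isClosed_range

/-- A closed curve inside another one is equal to it. -/
theorem range_eq_of_subset {X A B : Scheme.{u}} [IsIntegral X] [IsIntegral A] [IsIntegral B]
    (hdim : topologicalKrullDim X ≤ 2) (ι : A ⟶ X) [IsClosedImmersion ι] (κ : B ⟶ X) [IsClosedImmersion κ]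
    (hA : topologicalKrullDim A = 1) (hη : κ (genericPoint B) ≠ genericPoint X)
    (hsub : Set.range ι.base ⊆ Set.range κ.base) : Set.range ι.base = Set.range κ.base := by
  refine hsub.antisymm ?_
  obtain ⟨a, ha⟩ := hsub ⟨genericPoint A, rfl⟩
  have hs : κ (genericPoint B) ⤳ ι (genericPoint A) := ha ▸ (genericPoint_specializes a).map κ.continuous
  by_cases he : κ (genericPoint B) = ι (genericPoint A)
  · rintro _ ⟨w, rfl⟩
    exact (he ▸ (genericPoint_specializes w).map κ.continuous).mem_closed ι.isClosedEmbedding.isClosed_range ⟨_, rfl⟩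
  · exfalso
    have hc := isClosed_of_specializes_dim_two hdim hs he hη
    obtain ⟨a₀, a₁, haa⟩ := exists_ne_of_dim_one hA
    have := fun t : A => ((genericPoint_specializes t).map ι.continuous).mem_closed hc rfl
    exact haa (ι.isClosedEmbedding.injective ((this a₀).trans (this a₁).symm))

/-- A subring of a finite algebra over a noetherian ring is finite. -/
theorem finite_of_comp_injective {A B C : Type u} [CommRing A] [CommRing B] [CommRing C] [IsNoetherianRing A]
    (f : A →+* B) (g : B →+* C) (hg : Function.Injective g) (h : (g.comp f).Finite) : f.Finite := by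
  letI := f.toAlgebra
  letI := (g.comp f).toAlgebra
  haveI : Module.Finite A C := h
  exact Module.Finite.of_injective
    ({ toFun := g, map_add' := map_add g, map_smul' := fun a x => map_mul g (f a) x } : B →ₗ[A] C) hg

variable {X X' : Scheme.{u}} {p : X ⟶ Spec (CommRingCat.of R)} {p' : X' ⟶ Spec (CommRingCat.of R)}
  {C : Scheme.{u}} {f : C ⟶ Spec (CommRingCat.of (FractionRing R))} {g : C ⟶ X}

/-- The basic properties of a contraction of a curve of a model. -/
theorem contraction_basic [IsIntegral C] (hC : PropCurve (FractionRing R) C f)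
    (hX : GenModel R C f X p g) (E : ArSurf.VertComp R (Over.mk p)) (b : X ⟶ X')
    (hb : Models.IsContractionOf (show E.curve.left ⟶ X from E.ι) b) (hcomm : b ≫ p' = p) :
    RegSurf X' ∧ IsSeparated p' ∧ ∃ (y : X') (hy : IsClosed ({y} : Set X')),
      (∀ [IrreducibleSpace X'], y ≠ genericPoint X') ∧
      IsIso (b ∣_ (⟨{y}ᶜ, hy.isOpen_compl⟩ : X'.Opens)) ∧ Surjective b ∧
      b.base ⁻¹' {y} = Set.range (E.ι.base : E.curve.left → X) ∧ p' y = closedPoint R ∧
      ringKrullDim (X'.presheaf.stalk y) = 2 ∧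
      BlowUp.IsBlowUp b (Scheme.IdealSheafData.vanishingIdeal ⟨{y}, hy⟩) := by
  obtain ⟨hN, hbp, y, hy, hrange, hyreg, hydim, hblow⟩ := hb
  haveI := hN
  haveI := hbp
  haveI := hX.isIntegral
  haveI : IsProper p := hX.model.2.1
  have hS := hX.regSurf hC
  haveI := hS.noeth
  haveI := hS.compact
  let ι : E.curve.left ⟶ X := E.ι
  haveI : IsClosedImmersion ι := E.isClosedImmersion
  let U : X'.Opens := ⟨{y}ᶜ, hy.isOpen_compl⟩
  haveI hiso : IsIso (b ∣_ U) := ProjLib.isIso_morphismRestrict hblow _
    (Set.disjoint_left.mpr fun _ h h' => h' ((Scheme.IdealSheafData.coe_support_vanishingIdeal _).le h))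
  have hbE : ∀ a, b (ι a) = y := fun a => hrange.le ⟨a, rfl⟩
  haveI hsurj : Surjective b := ⟨fun w => by
    by_cases hw : w = y
    · exact ⟨ι (genericPoint E.curve.left), (hbE _).trans hw.symm⟩
    · obtain ⟨⟨x, hx⟩, hxw⟩ := (b ∣_ U).homeomorph.surjective (⟨w, hw⟩ : U)
      exact ⟨x, (morphismRestrict_base_coe b U ⟨x, hx⟩).symm.trans (congrArg Subtype.val hxw)⟩⟩
  haveI : IrreducibleSpace X' :=
    { isPreirreducible_univ := by
        rw [← Set.range_eq_univ.2 b.surjective, ← Set.image_univ]
        exact PreirreducibleSpace.isPreirreducible_univ.image _ b.continuous.continuousOn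
      toNonempty := ⟨y⟩ }
  have hreg : ∀ w : X', IsRegularLocalRing (X'.presheaf.stalk w) := fun w => by
    by_cases hw : w = y
    · exact hw ▸ hyreg
    · obtain ⟨x, rfl⟩ := b.surjective w
      haveI := isIso_stalkMap_of_isIso_restrict b U x hw
      haveI := hS.regular x
      exact IsRegularLocalRing.of_ringEquiv (asIso (b.stalkMap x)).commRingCatIsoToRingEquiv.symm
  haveI : IsReduced X' := by
    haveI : ∀ w : X', _root_.IsReduced (X'.presheaf.stalk w) := fun w => by
      haveI := hreg w
      haveI := CAlgH3.isDomain_of_isRegularLocalRing (X'.presheaf.stalk w)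
      infer_instance
    exact isReduced_of_isReduced_stalk _
  haveI : IsIntegral X' := isIntegral_of_irreducibleSpace_of_isReduced _
  haveI : IsLocallyNoetherian X' := inferInstance
  have hdim : topologicalKrullDim X' ≤ 2 :=
    (CommAlg6.topologicalKrullDim_le_of_specializingMap (f := b.base) b.surjective
      b.isClosedMap.specializingMap).trans hS.dim
  have hS' : RegSurf X' := ⟨inferInstance, inferInstance, inferInstance, hreg, hdim⟩
  have hy0 : y ≠ genericPoint X' := by
    intro h
    have hall : ∀ w : X', w = y := fun w => (h ▸ genericPoint_specializes w).mem_closed hy rfl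
    haveI : Subsingleton X' := ⟨fun a c => (hall a).trans (hall c).symm⟩
    haveI : DiscreteTopology X' := inferInstance
    have h0 := (CurvesLib24.stalk_dim_le_topologicalKrullDim y).trans
      (topologicalKrullDim_zero_of_discreteTopology X')
    rw [hydim] at h0
    exact absurd h0 (by decide)
  obtain ⟨hgen, hbij⟩ := Coherent.birational_of_isIso_morphismRestrict b U ⟨genericPoint X', hy0.symm⟩
  haveI : IsSeparated (b ≫ p') := by rw [hcomm]; infer_instance
  have hsep : IsSeparated p' := isSeparated_of_surjective b p'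
  haveI := hsep
  have hys : p' y = closedPoint R := by
    rw [← hbE (genericPoint E.curve.left), ← Scheme.Hom.comp_apply, hcomm]
    exact Inters29.range_subset_specialFibreSet R E ⟨_, rfl⟩
  have hη : p' (genericPoint X') ≠ closedPoint R := by
    rw [← hgen, ← Scheme.Hom.comp_apply, hcomm]
    exact hX.genericPoint_ne
  -- the centre is finite over the base
  have hcen : IsProper ((Scheme.IdealSheafData.vanishingIdeal ⟨{y}, hy⟩).subschemeι ≫ p') := by
    let I := Scheme.IdealSheafData.vanishingIdeal ⟨{y}, hy⟩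
    have hI : I ≤ (ι ≫ b).ker := by
      rw [Props12.ker_eq_vanishingIdeal]
      show Scheme.IdealSheafData.vanishingIdeal _ ≤ _
      refine le_of_eq (congrArg Scheme.IdealSheafData.vanishingIdeal (Closeds.ext ?_))
      show ({y} : Set X') = closure _
      rw [show Set.range (ι ≫ b).base = {y} from hrange, hy.closure_eq]
    let σ := IsClosedImmersion.lift I.subschemeι (ι ≫ b) ((Scheme.IdealSheafData.ker_subschemeι I).le.trans hI)
    have hσ : σ ≫ I.subschemeι = ι ≫ b := IsClosedImmersion.lift_fac _ _ _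
    haveI : IsReduced I.subscheme := Props12.isReduced_subscheme_vanishingIdeal _
    have hsingle : ∀ s : I.subscheme, I.subschemeι s = y := fun s =>
      Set.mem_singleton_iff.1 ((Scheme.IdealSheafData.coe_support_vanishingIdeal _).le (I.range_subschemeι.le ⟨s, rfl⟩))
    haveI : Subsingleton I.subscheme := ⟨fun s t => I.subschemeι.isClosedEmbedding.injective
      ((hsingle s).trans (hsingle t).symm)⟩
    haveI : IsAffine I.subscheme := by
      obtain ⟨V, hV, hyV, -⟩ := exists_isAffineOpen_mem_and_subset (x := y) (U := ⊤) trivial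
      have hpre : I.subschemeι ⁻¹ᵁ V = ⊤ := top_le_iff.1 fun s _ => by
        show I.subschemeι s ∈ V
        rw [hsingle]; exact hyV
      have := hV.preimage I.subschemeι
      rw [hpre] at this
      haveI : IsAffine (⊤ : I.subscheme.Opens).toScheme := this
      exact isAffine_of_isAffineHom I.subscheme.topIso.inv
    have hinj : Function.Injective σ.appTop := by
      refine (injective_iff_map_eq_zero σ.appTop.hom).2 fun s hs => ?_
      rw [← basicOpen_eq_bot_iff]
      refine le_bot_iff.1 fun w hw => ?_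
      exfalso
      have hσw : ∀ a, σ a = w := fun a => Subsingleton.elim _ _
      have hm : genericPoint E.curve.left ∈ σ ⁻¹ᵁ I.subscheme.basicOpen s := by
        rw [Scheme.Hom.mem_preimage, hσw]; exact hw
      rw [Scheme.preimage_basicOpen_top, hs, Scheme.basicOpen_zero] at hm
      exact hm
    haveI : IsProper E.curve.hom := by
      haveI : IsProper (Over.mk p).hom := hX.model.2.1
      exact Inters29.isProper_curve R E
    have hfin : (ι ≫ p).appTop.hom.Finite := by
      rw [show ι ≫ p = _ from E.w, Scheme.Hom.comp_appTop, CommRingCat.hom_comp]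
      haveI : IsClosedImmersion (Spec.map (CommRingCat.ofHom (IsLocalRing.residue R))) :=
        IsClosedImmersion.spec_of_surjective _ IsLocalRing.residue_surjective
      exact (finite_appTop_of_universallyClosed (IsLocalRing.ResidueField R) E.curve.hom).comp
        ((Spec.map (CommRingCat.ofHom (IsLocalRing.residue R))).finite_app ⊤ (isAffineOpen_top _))
    have hcomp : ι ≫ p = σ ≫ I.subschemeι ≫ p' := by rw [reassoc_of% hσ, hcomm]
    rw [hcomp, Scheme.Hom.comp_appTop, CommRingCat.hom_comp] at hfin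
    haveI : IsNoetherianRing Γ(Spec (CommRingCat.of R), ⊤) :=
      isNoetherianRing_of_ringEquiv R (Scheme.ΓSpecIso (CommRingCat.of R)).symm.commRingCatIsoToRingEquiv
    haveI : IsFinite (I.subschemeι ≫ p') := by
      rw [HasAffineProperty.iff_of_isAffine (P := @IsFinite)]
      exact ⟨inferInstance, finite_of_comp_injective _ _ hinj hfin⟩
    infer_instance
  obtain ⟨F, κ, hκ, hF, hFr, -, -⟩ := exists_excCurve_blowUp_center R p' hS' hη y hy hy0 hys hcen hydim b hblow
  haveI := hκ
  haveI := isIntegral_of_isExcCurve hF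
  refine ⟨hS', hsep, y, hy, fun {_} => hy0, hiso, hsurj, ?_, hys, hydim, hblow⟩
  rw [← hFr]
  refine (range_eq_of_subset hS.dim ι κ E.dim_eq (fun h => hy0 ?_) ?_).symm
  · rw [← hgen, ← h]
    exact (hFr.le ⟨_, rfl⟩ : b (κ (genericPoint F)) = y).symm
  · rintro _ ⟨a, rfl⟩
    rw [hFr]
    exact hbE a

/-- The target of a contraction of an exceptional curve of a model is a model. -/
theorem GenModel.of_contraction [IsIntegral C] (hC : PropCurve (FractionRing R) C f)
    (hX : GenModel R C f X p g) (E : ArSurf.VertComp R (Over.mk p)) (hE : Models.IsExcCurve E.ι) (b : X ⟶ X')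
    (hb : Models.IsContractionOf (show E.curve.left ⟶ X from E.ι) b) (hcomm : b ≫ p' = p) :
    GenModel R C f X' p' (g ≫ b) := by
  obtain ⟨hS', hsep, y, hy, hy0, hiso, hsurj, hfib, -, -, -⟩ := contraction_basic hC hX E b hb hcomm
  obtain ⟨Z, qZ, gZ, c, z₀, hz₀, hZ, hcq, hgc, hc, -, -⟩ := hX.exists_contraction hC E hE
  obtain ⟨hSZ, -, z, hz, hz0, hisoz, hsurjz, hfibz, -, -, -⟩ := contraction_basic hC hX E c hc hcq
  haveI := hX.isIntegral
  haveI : IsProper qZ := hZ.model.2.1
  haveI := hsep
  haveI := hS'.integral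
  haveI := hS'.noeth
  haveI := hSZ.integral
  haveI := hSZ.noeth
  haveI := hb.2.1
  haveI := hc.2.1
  haveI := hiso
  haveI := hisoz
  haveI := hsurj
  haveI : X'.IsSeparated := ⟨by
    rw [show terminal.from X' = p' ≫ terminal.from _ from terminal.hom_ext _ _]; infer_instance⟩
  haveI : Z.IsSeparated := ⟨by
    rw [show terminal.from Z = qZ ≫ terminal.from _ from terminal.hom_ext _ _]; infer_instance⟩
  obtain ⟨hg₁, hb₁⟩ := Coherent.birational_of_isIso_morphismRestrict b (⟨{y}ᶜ, hy.isOpen_compl⟩ : X'.Opens)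
    ⟨genericPoint X', Ne.symm hy0⟩
  obtain ⟨hg₂, hb₂⟩ := Coherent.birational_of_isIso_morphismRestrict c (⟨{z}ᶜ, hz.isOpen_compl⟩ : Z.Opens)
    ⟨genericPoint Z, Ne.symm hz0⟩
  have hb₁' : IsIso (b.stalkMap (genericPoint X)) := (ConcreteCategory.isIso_iff_bijective _).2 hb₁
  have hb₂' : IsIso (c.stalkMap (genericPoint X)) := (ConcreteCategory.isIso_iff_bijective _).2 hb₂
  have hconst : ∀ {Y₁ Y₂ : Scheme.{u}} (a : X ⟶ Y₁) (a' : X ⟶ Y₂) (y₁ : Y₁) (hy₁ : IsClosed ({y₁} : Set Y₁))
      (y₂ : Y₂), IsIso (a ∣_ (⟨{y₁}ᶜ, hy₁.isOpen_compl⟩ : Y₁.Opens)) → a.base ⁻¹' {y₁} = a'.base ⁻¹' {y₂} →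
      ∀ w, (a'.base '' (a.base ⁻¹' {w})).Subsingleton := by
    intro Y₁ Y₂ a a' y₁ hy₁ y₂ hi heq w
    by_cases hw : w = y₁
    · subst hw
      rw [heq]
      exact Set.subsingleton_singleton.anti (Set.image_preimage_subset _ _)
    · refine Set.Subsingleton.image (fun s hs t ht => ?_) _
      haveI := hi
      let V : Y₁.Opens := ⟨{y₁}ᶜ, hy₁.isOpen_compl⟩
      have hsV : s ∈ a ⁻¹ᵁ V := by show a s ∈ V; rw [show a s = w from hs]; exact hw
      have htV : t ∈ a ⁻¹ᵁ V := by show a t ∈ V; rw [show a t = w from ht]; exact hw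
      have h2 : (a ∣_ V) ⟨s, hsV⟩ = (a ∣_ V) ⟨t, htV⟩ :=
        Subtype.ext (((morphismRestrict_base_coe a V _).trans ((show a s = w from hs).trans
          (show a t = w from ht).symm)).trans (morphismRestrict_base_coe a V _).symm)
      exact congrArg Subtype.val ((a ∣_ V).homeomorph.injective h2)
  have hbc := hconst b c y hy z hiso (hfib.trans hfibz.symm)
  have hcb := hconst c b z hz y hisoz (hfibz.trans hfib.symm)
  obtain ⟨φ, hφ, -⟩ := exists_desc b hS'.isNormal hg₁ hb₁' c hbc
  haveI : IsIso φ := isIso_of_desc b hS'.isNormal hg₁ hb₁' c hSZ.isNormal hg₂ hb₂' hbc hcb φ hφ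
  have hw : φ ≫ qZ = p' := by
    refine ext_of_isDominant_of_isSeparated (terminal.from _) (terminal.hom_ext _ _) b ?_
    rw [reassoc_of% hφ, hcq, hcomm]
  have hpb : IsPullback (g ≫ b) f p' (Spec.map (CommRingCat.ofHom (algebraMap R (FractionRing R)))) := by
    refine hZ.pullback.of_iso (Iso.refl _) (asIso φ).symm (Iso.refl _) (Iso.refl _) ?_ ?_ ?_ ?_
    · rw [Iso.refl_hom, Category.id_comp, Iso.symm_hom, asIso_inv, IsIso.comp_inv_eq, Category.assoc, hφ, hgc]
    · simp
    · rw [Iso.refl_hom, Category.comp_id, Iso.symm_hom, asIso_inv, IsIso.eq_inv_comp, hw]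
    · simp
  haveI : Flat qZ := hZ.model.1.1
  refine ⟨⟨⟨?_, ?_, ?_, g ≫ b, hpb⟩, ?_, hS'.regular⟩, hpb⟩ <;> (rw [← hw]; infer_instance)

end Groth.Agent.Models7
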