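import Groth.Agent.Models7.ContractStep
import Groth.Agent.Clifford24.Lipman.Relative
import Groth.Agent.S3852

/-!
# Vanishing of first cohomology near a contracted projective line
-/

set_option autoImplicit false
set_option linter.style.haveILetI false
set_option backward.isDefEq.respectTransparency.types false
set_option maxHeartbeats 2000000

universe u

open CategoryTheory CategoryTheory.Limits AlgebraicGeometry TopologicalSpace Opposite
open Groth.Agent.Coherent Groth.Agent.PicLib Groth.Agent.AmpleLib Groth.Agent.EulerLib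

namespace Groth.Agent.Models7

variable {X : Scheme.{u}}

/-- A section killed on a subscheme has coefficients in its ideal. -/
theorem coef_mem_of_pullSec_eq_zero {K : X.IdealSheafData} {L : X.Modules} (hL : PicF.IsInvertible L)
    {U : X.Opens} (hU : IsAffineOpen U) {l : Γ(L, U)} (hl : IsGen L U l) {r : Γ(X, U)}
    (h : pullSec K.subschemeι (r • l) = 0) : r ∈ K.ideal ⟨U, hU⟩ := by
  rw [← K.ker_subschemeι_app ⟨U, hU⟩, RingHom.mem_ker]
  refine ((isGen_pullSec K.subschemeι hl hL) _ le_rfl).1 ?_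
  show K.subschemeι.app U r • resM _ le_rfl _ = (0 : Γ(K.subscheme, _)) • resM _ le_rfl _
  rw [resM_self, zero_smul, ← pullSec_smul, h]

/-- A morphism to an invertible module dies on a subscheme once its coefficients lie in the kernel. -/
theorem comp_clUnit_eq_zero {Z : Scheme.{u}} (g : Z ⟶ X) [IsClosedImmersion g] {F L : X.Modules}
    (hL : PicF.IsInvertible L) (ψ : F ⟶ L)
    (h : ∀ (U : X.Opens) (_hU : IsAffineOpen U) (l : Γ(L, U)) (_hl : IsGen L U l) (x : Γ(F, U)) (r : Γ(X, U)),
      r • l = ψ.app U x → g.app U r = 0) :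
    ψ ≫ clUnit g L = 0 := by
  refine Scheme.Modules.hom_ext _ _ fun W => ConcreteCategory.hom_ext _ _ fun (x : Γ(F, W)) => ?_
  show (ψ ≫ clUnit g L).app W x = 0
  refine sec_ext _ _ _ fun z hz => ?_
  obtain ⟨V, hzV, g₀, hg₀⟩ := exists_isGen hL z
  obtain ⟨U, hU, hzU, hUle⟩ := exists_isAffineOpen_mem_and_subset (x := z) (U := W ⊓ V) ⟨hz, hzV⟩
  have hUW : U ≤ W := fun _ h => (hUle h).1
  have hUV : U ≤ V := fun _ h => (hUle h).2
  refine ⟨U, hUW, hzU, ?_⟩
  rw [map_zero, ← app_resM]
  have hl : IsGen L U (resM L hUV g₀) := hg₀.restrict hUV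
  obtain ⟨r, hr⟩ := (hl U le_rfl).2 (ψ.app U (resM F hUW x))
  beta_reduce at hr
  rw [resM_self] at hr
  show pullSec g (ψ.app U (resM F hUW x)) = 0
  rw [← hr, pullSec_smul, h U hU _ hl _ r hr, zero_smul]

variable {A : Type u} [CommRing A] [IsNoetherianRing A]

/-- `H¹` vanishes modulo a maximal ideal through which a map with full image factors. -/
theorem top_le_smul_of_factor [X.Over (Spec (CommRingCat.of A))] [IsProper (X ↘ Spec (CommRingCat.of A))]
    (hv : Lipman24.NoH2 X) {L : X.Modules} (hL : PicF.IsInvertible L) (m : Ideal A)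
    {F : X.Modules} (ψ : F ⟶ L)
    (hψ : ψ ≫ clUnit (pullback.fst (X ↘ Spec (CommRingCat.of A))
      (Spec.map (CommRingCat.ofHom (algebraMap A (A ⧸ m))))) L = 0)
    (hsurj : Function.Surjective (postA (baseHom A X) ψ (⊤ : X.Opens) 1)) :
    (⊤ : Submodule A (HA (baseHom A X) L (⊤ : X.Opens) 1)) ≤ m • ⊤ := by
  classical
  haveI hq : Coh.IsQCoh L := isQCoh_of_isInvertible hL
  let φ := baseHom A X
  let f := X ↘ Spec (CommRingCat.of A)
  let σ := Spec.map (CommRingCat.ofHom (algebraMap A (A ⧸ m)))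
  let Z := pullback f σ
  let g : Z ⟶ X := pullback.fst f σ
  let _ : Z.Over (Spec (CommRingCat.of (A ⧸ m))) := ⟨pullback.snd f σ⟩
  haveI : IsClosedImmersion σ := IsClosedImmersion.spec_of_surjective _ Ideal.Quotient.mk_surjective
  haveI : IsClosedImmersion g := inferInstanceAs (IsClosedImmersion (pullback.fst f σ))
  have hpb : IsPullback g (Z ↘ Spec (CommRingCat.of (A ⧸ m))) (X ↘ Spec (CommRingCat.of A)) σ :=
    IsPullback.of_hasPullback _ _
  haveI : Coh.IsQCoh ((Scheme.Modules.pullback g).obj L) :=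
    isQCoh_of_isInvertible (PicLoc.isInvertible_pullback g hL)
  haveI : Coh.IsQCoh ((Coh.push g).obj ((Scheme.Modules.pullback g).obj L)) := isQCoh_push g _
  let S : Finset A := (IsNoetherian.noetherian m).choose
  have hS : Ideal.span (S : Set A) = m := (IsNoetherian.noetherian m).choose_spec
  have hzero : ∀ a ∈ S, Formal.smulMod A L a ≫ clUnit g L = 0 := fun a ha =>
    Scheme.Modules.hom_ext _ _ fun U => ConcreteCategory.hom_ext _ _ fun (x : Γ(L, U)) => by
      show pullSec g ((Formal.smulMod A L a).app U x) = 0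
      rw [Coherent.smulMod_app, pullSec_smul]
      have h0 : g.app U (X.presheaf.map (homOfLE (le_top (a := U))).op (baseHom A X a)) = 0 := by
        have h := appTop_toGlobal g hpb a
        have ha' : algebraMap A (A ⧸ m) a = 0 :=
          Ideal.Quotient.eq_zero_iff_mem.2 (hS.le (Ideal.subset_span ha))
        rw [ha', map_zero] at h
        refine (ConcreteCategory.congr_hom (g.naturality (homOfLE (le_top (a := U))).op) _).trans ?_
        exact (congrArg (Z.presheaf.map _) h).trans (map_zero (Z.presheaf.map _).hom)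
      rw [h0, zero_smul]
  let φS : {a // a ∈ S} → (L ⟶ kernel (clUnit g L)) := fun a => kernel.lift _ _ (hzero a.1 a.2)
  haveI hK : Coh.IsQCoh (kernel (clUnit g L)) := isQCoh_kernel _
  have hjoint : ∀ {Q : X.Modules} (π : kernel (clUnit g L) ⟶ Q),
      (∀ a ∈ S.attach, φS a ≫ π = 0) → π = 0 := fun {Q} π hπ => by
    refine Scheme.Modules.hom_ext _ _ fun W => ConcreteCategory.hom_ext _ _ fun w => ?_
    show π.app W w = 0
    refine sec_ext Q _ _ fun z hz => ?_
    obtain ⟨V, hzV, g₀, hg₀⟩ := exists_isGen hL z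
    obtain ⟨U, hU, hzU, hUle⟩ := exists_isAffineOpen_mem_and_subset (x := z) (U := W ⊓ V) ⟨hz, hzV⟩
    have hUW : U ≤ W := fun _ h => (hUle h).1
    have hUV : U ≤ V := fun _ h => (hUle h).2
    refine ⟨U, hUW, hzU, ?_⟩
    rw [map_zero, ← app_resM]
    let g' := resM L hUV g₀
    have hg' : IsGen L U g' := hg₀.restrict hUV
    let w' : Γ(L, U) := (kernel.ι (clUnit g L)).app U (resM _ hUW w)
    obtain ⟨r, hr⟩ := (hg' U le_rfl).2 w'
    beta_reduce at hr
    rw [resM_self] at hr
    have h0 : pullSec g w' = 0 := kernel_ι_app_zero (clUnit g L) U _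
    rw [← hr, pullSec_smul] at h0
    have hr0 : g.app U r = 0 := by
      refine ((isGen_pullSec g hg' hL) _ le_rfl).1 ?_
      show g.app U r • resM _ le_rfl _ = (0 : Γ(Z, _)) • resM _ le_rfl _
      rw [resM_self, h0, zero_smul]
    let ρ : A →+* Γ(X, U) := (X.presheaf.map (homOfLE (le_top (a := U))).op).hom.comp (baseHom A X)
    have hrm : r ∈ m.map ρ := Lipman24.mem_map_of_app_eq_zero m g hpb hU hr0
    rw [← hS, Ideal.map_span, show ρ '' (S : Set A) = Set.range (fun a : {a // a ∈ S} => ρ a.1) from by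
      rw [Set.image_eq_range]; rfl, Ideal.mem_span_range_iff_exists_fun] at hrm
    obtain ⟨c, hc⟩ := hrm
    have hw : resM _ hUW w = ∑ a : {a // a ∈ S}, c a • (φS a).app U g' := by
      refine app_injective_of_mono (kernel.ι (clUnit g L)) U ?_
      refine hr.symm.trans ?_
      rw [map_sum, ← hc, Finset.sum_smul]
      refine Finset.sum_congr rfl fun a _ => ?_
      rw [Scheme.Modules.Hom.app_smul, mul_smul]
      refine congrArg (c a • ·) ?_
      show ρ a.1 • g' = ((φS a ≫ kernel.ι _).app U) g'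
      rw [kernel.lift_ι]
      rfl
    rw [hw, map_sum]
    refine Finset.sum_eq_zero fun a _ => ?_
    rw [Scheme.Modules.Hom.app_smul]
    have h2 : (φS a ≫ π).app U g' = 0 :=
      congrArg (fun θ : L ⟶ Q => θ.app U g') (hπ a (Finset.mem_attach _ _))
    exact (congrArg (c a • ·) h2).trans (smul_zero _)
  intro x _
  obtain ⟨y, rfl⟩ := hsurj x
  have hz := Lipman24.iSup_range_postA_eq_top φ hv hq S.attach hK φS hjoint
    (Submodule.mem_top (x := postA φ (kernel.lift (clUnit g L) ψ hψ) (⊤ : X.Opens) 1 y))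
  have hle : (⨆ a ∈ S.attach, LinearMap.range (postA φ (φS a) (⊤ : X.Opens) 1)) ≤
      (m • ⊤ : Submodule A (HA φ L (⊤ : X.Opens) 1)).comap (postA φ (kernel.ι (clUnit g L)) ⊤ 1) := by
    refine iSup₂_le fun a _ => ?_
    rintro _ ⟨v, rfl⟩
    rw [Submodule.mem_comap]
    have e : postA φ (kernel.ι (clUnit g L)) ⊤ 1 (postA φ (φS a) ⊤ 1 v) = a.1 • v :=
      ((postHM_comp (φS a) (kernel.ι (clUnit g L)) 1 (⊤ : X.Opens) v).symm.trans
        (by rw [kernel.lift_ι]; rfl)).trans (postA_smulMod L a.1 1 v)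
    rw [e]
    exact Submodule.smul_mem_smul (hS.le (Ideal.subset_span a.2)) Submodule.mem_top
  have h := hle hz
  rw [Submodule.mem_comap] at h
  rwa [← postA_comp, kernel.lift_ι] at h

/-- Powers of the ideal of the line push `H¹` arbitrarily deep. -/
theorem exists_deep_factor [IsLocallyNoetherian X] (hv : Lipman24.NoH2 X) (J : X.IdealSheafData)
    {k : Type u} [Field k] (e : CohB1.ProjSpace 1 k ≅ J.subscheme) (hI : PicF.IsInvertible (ClSub.idealMod J))
    {d : ℤ} (hd0 : 0 ≤ d) (hd : P1Deg.HasDeg e ((Scheme.Modules.pullback J.subschemeι).obj (ClSub.idealMod J)) d)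
    {L : X.Modules} (hL : PicF.IsInvertible L) {l : ℤ} (hl : -1 ≤ l)
    (hLd : P1Deg.HasDeg e ((Scheme.Modules.pullback J.subschemeι).obj L) l)
    {B : Type u} [CommRing B] (φ : B →+* Γ(X, ⊤)) :
    ∀ N : ℕ, ∃ (F : X.Modules) (ψ : F ⟶ L), PicF.IsInvertible F ∧
      P1Deg.HasDeg e ((Scheme.Modules.pullback J.subschemeι).obj F) (l + N * d) ∧
      Function.Surjective (postA φ ψ (⊤ : X.Opens) 1) ∧ ψ ≫ clUnit (J ^ N).subschemeι L = 0 := by
  intro N
  induction N with
  | zero =>
    refine ⟨L, 𝟙 L, hL, by rw [Nat.cast_zero, zero_mul, add_zero]; exact hLd, fun x => ⟨x, postA_id φ 1 x⟩, ?_⟩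
    refine comp_clUnit_eq_zero _ hL _ fun U hU l _ x r _ => ?_
    have : r ∈ (J ^ 0).ideal ⟨U, hU⟩ := by
      rw [Scheme.IdealSheafData.ideal_pow, Pi.pow_apply, pow_zero, Ideal.one_eq_top]
      trivial
    rwa [← (J ^ 0).ker_subschemeι_app ⟨U, hU⟩, RingHom.mem_ker] at this
  | succ N ih =>
    obtain ⟨F, ψ, hF, hFd, hsurj, hkill⟩ := ih
    have hd' : P1Deg.HasDeg e ((Scheme.Modules.pullback J.subschemeι).obj (CohB1.tensorMod (ClSub.idealMod J) F))
        (l + (N + 1 : ℕ) * d) := by
      obtain ⟨t⟩ := exists_pullTensorIso J.subschemeι hI hF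
      have h := (hd.tensor e (PicLoc.isInvertible_pullback _ hI) (PicLoc.isInvertible_pullback _ hF) hFd).of_iso e t.symm
      rwa [show l + ((N + 1 : ℕ) : ℤ) * d = d + (l + N * d) by push_cast; ring]
    have h1 : Subsingleton (Coh.HH J.subscheme ((Scheme.Modules.pullback J.subschemeι).obj F) 1) :=
      hFd.subsingleton_H1 e (PicLoc.isInvertible_pullback _ hF) (by nlinarith [Int.natCast_nonneg N])
    refine ⟨_, twistMul J F ≫ ψ, isInvertible_tensorMod hI hF, hd', fun x => ?_, ?_⟩
    · obtain ⟨y, rfl⟩ := hsurj x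
      obtain ⟨z, rfl⟩ := ((twistMul_seq J hF).2 hv h1).2 φ y
      exact ⟨z, postA_comp φ (twistMul J F) ψ 1 z⟩
    · rw [Category.assoc]
      refine AmpleLib.hom_ext fun W a b => ?_
      show pullSec (J ^ (N + 1)).subschemeι (ψ.app W ((twistMul J F).app W (tmul a b))) = 0
      rw [twistMul_tmul, Scheme.Modules.Hom.app_smul, pullSec_smul]
      refine sec_ext _ _ _ fun z hz => ?_
      obtain ⟨V, hzV, g₀, hg₀⟩ := exists_isGen hL ((J ^ (N + 1)).subschemeι z)
      obtain ⟨U, hU, hzU, hUle⟩ := exists_isAffineOpen_mem_and_subset (x := (J ^ (N + 1)).subschemeι z)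
        (U := W ⊓ V) ⟨hz, hzV⟩
      have hUW : U ≤ W := fun _ h => (hUle h).1
      have hUV : U ≤ V := fun _ h => (hUle h).2
      refine ⟨(J ^ (N + 1)).subschemeι ⁻¹ᵁ U,
        ((Opens.map (J ^ (N + 1)).subschemeι.base).map (homOfLE hUW)).le, hzU, ?_⟩
      rw [map_zero, ← pullSec_smul, resM_pullSec _ hUW, resM_smul, ← app_resM]
      have hl : IsGen L U (resM L hUV g₀) := hg₀.restrict hUV
      obtain ⟨r, hr⟩ := (hl U le_rfl).2 (ψ.app U (resM F hUW b))
      beta_reduce at hr
      rw [resM_self] at hr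
      rw [← hr]
      have hrN : r ∈ (J ^ N).ideal ⟨U, hU⟩ := by
        refine coef_mem_of_pullSec_eq_zero hL hU hl ?_
        rw [hr]
        exact congrArg (fun θ : F ⟶ _ => θ.app U (resM F hUW b)) hkill
      let c : Γ(X, U) := res hUW (show Γ(X, W) from (ClSub.idealModι J).app W a)
      have hcJ : c ∈ J.ideal ⟨U, hU⟩ := by
        rw [← J.ker_subschemeι_app ⟨U, hU⟩, RingHom.mem_ker]
        refine (mem_range_idealModι J U c).1 ⟨resM _ hUW a, ?_⟩
        exact app_resM (ClSub.idealModι J) hUW a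
      have hmem : c * r ∈ (J ^ (N + 1)).ideal ⟨U, hU⟩ := by
        rw [Scheme.IdealSheafData.ideal_pow, Pi.pow_apply] at hrN ⊢
        rw [pow_succ']
        exact Ideal.mul_mem_mul hcJ hrN
      rw [← (J ^ (N + 1)).ker_subschemeι_app ⟨U, hU⟩, RingHom.mem_ker] at hmem
      show pullSec (J ^ (N + 1)).subschemeι (c • r • resM L hUV g₀) = 0
      rw [smul_smul, pullSec_smul, hmem, zero_smul]

/-- The hypotheses of a contraction of a projective line over an affine base. -/
structure LineContraction (f : X ⟶ Spec (CommRingCat.of A)) (J : X.IdealSheafData) {k : Type u} [Field k]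
    (e : CohB1.ProjSpace 1 k ≅ J.subscheme) (d : ℤ) (m : Ideal A) [m.IsMaximal] : Prop where
  proper : IsProper f
  fibDim : ∀ y : ↥(Spec (CommRingCat.of A)), topologicalKrullDim ↥(f.fiber y) ≤ 1
  invertible : PicF.IsInvertible (ClSub.idealMod J)
  deg : P1Deg.HasDeg e ((Scheme.Modules.pullback J.subschemeι).obj (ClSub.idealMod J)) d
  nonneg : 0 ≤ d
  support : (J.support : Set X) = f.base ⁻¹' {(⟨m, inferInstance⟩ : PrimeSpectrum A)}
  finite : ∀ n : Ideal A, ∀ _ : n.IsMaximal, n ≠ m → (f.base ⁻¹' {(⟨n, inferInstance⟩ : PrimeSpectrum A)}).Finite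

variable {f : X ⟶ Spec (CommRingCat.of A)} {J : X.IdealSheafData} {k : Type u} [Field k]
  {e : CohB1.ProjSpace 1 k ≅ J.subscheme} {d : ℤ} {m : Ideal A} [m.IsMaximal]

theorem LineContraction.noH2 (h : LineContraction f J e d m) : Lipman24.NoH2 X := fun M hM => by
  haveI := hM
  haveI := h.proper
  exact H8Lim.subsingleton_HH_of_fibre_dim f 1 (fun y => by exact_mod_cast h.fibDim y) M 2 (by omega)

/-- Invertible modules of degree at least `-1` on the line have no `H¹`. -/
theorem LineContraction.subsingleton_H1 (h : LineContraction f J e d m) {L : X.Modules}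
    (hL : PicF.IsInvertible L) {l : ℤ} (hl : -1 ≤ l)
    (hLd : P1Deg.HasDeg e ((Scheme.Modules.pullback J.subschemeι).obj L) l) :
    Subsingleton (Coh.HH X L 1) := by
  classical
  have hmax : m.IsMaximal := inferInstance
  let _ : X.Over (Spec (CommRingCat.of A)) := ⟨f⟩
  haveI : IsProper (X ↘ Spec (CommRingCat.of A)) := h.proper
  haveI := h.proper
  haveI : IsLocallyNoetherian X := LocallyOfFiniteType.isLocallyNoetherian f
  haveI : CompactSpace X := QuasiCompact.compactSpace_of_compactSpace f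
  haveI : IsNoetherian X := {}
  have hv := h.noH2
  haveI hq : Coh.IsQCoh L := isQCoh_of_isInvertible hL
  let φ := baseHom A X
  have key : ∀ (n : Ideal A), n.IsMaximal →
      (⊤ : Submodule A (HA φ L (⊤ : X.Opens) 1)) ≤ n • ⊤ := by
    intro n hn
    haveI := hn
    let σ := Spec.map (CommRingCat.ofHom (algebraMap A (A ⧸ n)))
    let g := pullback.fst f σ
    haveI : IsClosedImmersion σ := IsClosedImmersion.spec_of_surjective _ Ideal.Quotient.mk_surjective
    haveI : IsClosedImmersion g := inferInstanceAs (IsClosedImmersion (pullback.fst f σ))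
    have hσ : Set.range σ = {(⟨n, inferInstance⟩ : PrimeSpectrum A)} := by
      refine (range_comap_of_surjective _ (algebraMap A (A ⧸ n)) Ideal.Quotient.mk_surjective).trans ?_
      rw [show RingHom.ker (algebraMap A (A ⧸ n)) = n from Ideal.mk_ker]
      ext p
      simp only [PrimeSpectrum.mem_zeroLocus, SetLike.coe_subset_coe]
      exact ⟨fun h => PrimeSpectrum.ext (hn.eq_of_le p.isPrime.ne_top h).symm, fun h => h ▸ le_rfl⟩
    have hrange : Set.range g = f.base ⁻¹' {(⟨n, inferInstance⟩ : PrimeSpectrum A)} :=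
      (Scheme.Pullback.range_fst f σ).trans (by rw [hσ])
    by_cases hnm : n = m
    · have hsupp : (g.ker.support : Set X) ⊆ J.support := by
        rw [h.support, g.support_ker]
        show closure (Set.range g) ⊆ _
        rw [g.isClosedEmbedding.isClosed_range.closure_eq, hrange]
        subst hnm; exact subset_rfl
      obtain ⟨N, hN⟩ := Groth.Agent.S3852.result X J g.ker hsupp
      obtain ⟨F, ψ, -, -, hsurj, hkill⟩ := exists_deep_factor hv J e h.invertible h.nonneg h.deg hL hl hLd φ (N + 1)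
      refine top_le_smul_of_factor hv hL n ψ ?_ hsurj
      refine comp_clUnit_eq_zero g hL ψ fun U hU l' hl' x r hr => ?_
      have hr' : r ∈ (J ^ (N + 1)).ideal ⟨U, hU⟩ := by
        refine coef_mem_of_pullSec_eq_zero hL hU hl' ?_
        rw [hr]
        exact congrArg (fun θ : F ⟶ _ => θ.app U x) hkill
      have := hN ⟨U, hU⟩ hr'
      rwa [Scheme.Hom.ker_apply, RingHom.mem_ker] at this
    · let Z := pullback f σ
      letI : Field (A ⧸ n) := Ideal.Quotient.field n
      haveI : IsProper (pullback.snd f σ) := inferInstance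
      haveI : IsLocallyNoetherian Z := LocallyOfFiniteType.isLocallyNoetherian g
      haveI : CompactSpace Z := QuasiCompact.compactSpace_of_compactSpace (pullback.snd f σ)
      haveI : IsNoetherian Z := {}
      haveI : Z.IsSeparated := ⟨by
        rw [show terminal.from Z = pullback.snd f σ ≫ terminal.from _ from terminal.hom_ext _ _]; infer_instance⟩
      haveI : JacobsonSpace Z := LocallyOfFiniteType.jacobsonSpace (pullback.snd f σ)
      haveI : Finite Z := by
        haveI := (hrange ▸ h.finite n hn hnm : (Set.range g).Finite).to_subtype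
        exact Finite.of_injective (Set.rangeFactorization g.base) fun a b hab =>
          g.isClosedEmbedding.injective (congrArg Subtype.val hab)
      haveI : DiscreteTopology Z := inferInstance
      have hLq : Coh.IsQCoh ((Scheme.Modules.pullback g).obj L) :=
        isQCoh_of_isInvertible (PicLoc.isInvertible_pullback g hL)
      haveI := hLq
      haveI hpush : Coh.IsQCoh ((Coh.push g).obj ((Scheme.Modules.pullback g).obj L)) := isQCoh_push g _
      have h0 : Subsingleton (Coh.HH Z ((Scheme.Modules.pullback g).obj L) 1) :=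
        subsingleton_HH_of_dim _ (d := 0) (topologicalKrullDim_zero_of_discreteTopology Z) (by omega)
      let Sq : ShortComplex X.Modules :=
        ShortComplex.mk (kernel.ι (clUnit g L)) (clUnit g L) (kernel.condition _)
      haveI : Epi (clUnit g L) := epi_clUnit g
      have hSq : Sq.ShortExact := { exact := ShortComplex.exact_kernel (clUnit g L) }
      haveI : Subsingleton (HA φ Sq.X₃ (⊤ : X.Opens) 1) :=
        (HHTopEquiv _ 1).symm.toEquiv.subsingleton_congr.2
          ((HHAffinePushEquiv g _ 1).toEquiv.subsingleton_congr.1 h0)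
      exact top_le_smul_of_factor hv hL n (kernel.ι (clUnit g L)) (kernel.condition _)
        fun x => (exact_postA φ hSq ⊤ 1 x).1 (Subsingleton.elim _ _)
  have hLc : Coh.IsCoh L := PicLib.isCoh_of_isInvertible hL
  haveI : Module.Finite A (HA φ L (⊤ : X.Opens) 1) := finCoh_of_isProper f L hLc 1
  refine (HHA (A := A) L 1).toEquiv.subsingleton_congr.2 (subsingleton_of_forall_eq 0 fun x => ?_)
  have hann : Module.annihilator A (HA φ L (⊤ : X.Opens) 1) = ⊤ := by
    by_contra hne
    obtain ⟨n, hn, hle⟩ := Ideal.exists_le_maximal _ hne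
    obtain ⟨r, hr, hr'⟩ := Submodule.exists_sub_one_mem_and_smul_eq_zero_of_fg_of_le_smul n ⊤
      Module.Finite.fg_top (key n hn)
    have hrm : r ∈ n := hle (Module.mem_annihilator.2 fun v => hr' v Submodule.mem_top)
    exact hn.ne_top ((Ideal.eq_top_iff_one _).2 (by simpa using Ideal.sub_mem _ hrm hr))
  have h2 := Module.mem_annihilator.1 (hann ▸ Submodule.mem_top : (1 : A) ∈ _) x
  rwa [one_smul] at h2

end Groth.Agent.Models7
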