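import Groth.Agent.PicLib.FlatSections
import Groth.Agent.FlatMor12.SteinGeneral
import Groth.Agent.AlgSpLib.ThickNilp

/-!
# Components of the base change of a curve along a separable field extension
-/

set_option autoImplicit false
set_option linter.style.haveILetI false
set_option backward.isDefEq.respectTransparency false
set_option maxHeartbeats 1000000

universe u

open CategoryTheory CategoryTheory.Limits AlgebraicGeometry TopologicalSpace IsLocalRing TensorProduct

namespace Groth.Agent.Models7

/-- Each point of the base change of a proper integral scheme along a finite separable extension lies on an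
open-closed connected piece, the base change from the field of constants to a finite extension of it. -/
theorem exists_bcPiece {κ L : Type u} [Field κ] [Field L] [Algebra κ L] [FiniteDimensional κ L]
    [Algebra.IsSeparable κ L] {Y Y' : Scheme.{u}} (g : Y ⟶ Spec (CommRingCat.of κ)) [IsProper g] [IsIntegral Y]
    (a : Y' ⟶ Y) (g' : Y' ⟶ Spec (CommRingCat.of L))
    (H : IsPullback a g' g (Spec.map (CommRingCat.ofHom (algebraMap κ L)))) (y : Y') :
    ∃ (k₀ F : Type u) (_ : Field k₀) (_ : Field F) (_ : Algebra k₀ F) (g₀ : Y ⟶ Spec (CommRingCat.of k₀))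
      (c : Spec (CommRingCat.of k₀) ⟶ Spec (CommRingCat.of κ)) (Z : Scheme.{u}) (j : Z ⟶ Y')
      (hF : Z ⟶ Spec (CommRingCat.of F)),
      FiniteDimensional k₀ F ∧ g₀ ≫ c = g ∧ Function.Bijective g₀.appTop ∧
      IsOpenImmersion j ∧ IsClosedImmersion j ∧ y ∈ Set.range j.base ∧
      IsPullback (j ≫ a) hF g₀ (Spec.map (CommRingCat.ofHom (algebraMap k₀ F))) ∧ ConnectedSpace Z := by
  let k₀ : Type u := Γ(Y, ⊤)
  have hfld : IsField Γ(Y, ⊤) := isField_of_universallyClosed κ g
  letI : Field k₀ := hfld.toField
  letI algκ : Algebra κ k₀ := ((Scheme.ΓSpecIso (CommRingCat.of κ)).inv ≫ g.appTop).hom.toAlgebra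
  let g₀ : Y ⟶ Spec (CommRingCat.of k₀) := Y.toSpecΓ
  have hg₀ : g₀ ≫ Spec.map (CommRingCat.ofHom (algebraMap κ k₀)) = g := by
    show Y.toSpecΓ ≫ Spec.map ((Scheme.ΓSpecIso (CommRingCat.of κ)).inv ≫ g.appTop) = g
    rw [Spec.map_comp, ← Category.assoc, ← Scheme.toSpecΓ_naturality, Category.assoc,
      ← SpecMap_ΓSpecIso_hom, ← Spec.map_comp, Iso.inv_hom_id, Spec.map_id, Category.comp_id]
  have hg₀app : Function.Bijective g₀.appTop := by
    show Function.Bijective Y.toSpecΓ.appTop
    rw [Scheme.toSpecΓ_appTop]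
    exact ConcreteCategory.bijective_of_isIso _
  let S : Type u := k₀ ⊗[κ] L
  haveI : Algebra.FormallyEtale κ L := (Algebra.FormallyEtale.iff_isSeparable κ L).2 inferInstance
  haveI : Algebra.FinitePresentation κ L := (Algebra.FinitePresentation.of_finiteType).1 inferInstance
  haveI : Algebra.Etale κ L := ⟨inferInstance, inferInstance⟩
  haveI : Algebra.Etale k₀ S := inferInstance
  haveI : Module.Finite k₀ S := inferInstance
  haveI : IsArtinianRing S := IsArtinianRing.of_finite k₀ S
  haveI : IsReduced S := Algebra.FormallyUnramified.isReduced_of_field k₀ S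
  have hS : IsPullback (Spec.map (CommRingCat.ofHom (algebraMap k₀ S)))
      (Spec.map (CommRingCat.ofHom (Algebra.TensorProduct.includeRight.toRingHom : L →+* S)))
      (Spec.map (CommRingCat.ofHom (algebraMap κ k₀))) (Spec.map (CommRingCat.ofHom (algebraMap κ L))) :=
    isPullback_SpecMap_of_isPushout _ _ _ _ (CommRingCat.isPushout_tensorProduct κ k₀ L)
  let σ : Y' ⟶ Spec (CommRingCat.of S) := hS.lift (a ≫ g₀) g' (by rw [Category.assoc, hg₀]; exact H.w)
  have hσ₁ : σ ≫ Spec.map (CommRingCat.ofHom (algebraMap k₀ S)) = a ≫ g₀ := hS.lift_fst _ _ _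
  have hσ₂ : σ ≫ Spec.map (CommRingCat.ofHom (Algebra.TensorProduct.includeRight.toRingHom : L →+* S)) = g' :=
    hS.lift_snd _ _ _
  have sq : IsPullback a σ g₀ (Spec.map (CommRingCat.ofHom (algebraMap k₀ S))) :=
    IsPullback.of_bot (by rw [hg₀, hσ₂]; exact H) hσ₁.symm hS
  let m : PrimeSpectrum S := σ y
  haveI : m.asIdeal.IsMaximal := inferInstance
  let F : Type u := S ⧸ m.asIdeal
  letI : Field F := Ideal.Quotient.field _
  let i : Spec (CommRingCat.of F) ⟶ Spec (CommRingCat.of S) :=
    Spec.map (CommRingCat.ofHom (Ideal.Quotient.mk m.asIdeal))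
  haveI : IsClosedImmersion i := IsClosedImmersion.spec_of_surjective _ Ideal.Quotient.mk_surjective
  haveI : IsOpenImmersion i := by
    haveI : IsSemisimpleRing S := IsArtinianRing.isSemisimpleRing_of_isReduced S
    haveI : Module.Projective S F := Module.projective_of_isSemisimpleRing S F
    haveI : Module.Flat S F := Module.Flat.of_projective
    haveI : Flat i := (HasRingHomProperty.Spec_iff (P := @Flat)).2 (RingHom.flat_algebraMap_iff.2 ‹_›)
    haveI : LocallyOfFinitePresentation i := (HasRingHomProperty.Spec_iff (P := @LocallyOfFinitePresentation)).2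
      (RingHom.FinitePresentation.of_surjective _ Ideal.Quotient.mk_surjective (IsNoetherian.noetherian _))
    exact IsOpenImmersion.of_flat_of_mono i
  have sqj := IsPullback.of_hasPullback σ i
  let j : pullback σ i ⟶ Y' := pullback.fst σ i
  have hy : y ∈ Set.range j.base := by
    rw [Scheme.Pullback.range_fst]
    refine ⟨⟨(⊥ : Ideal F), Ideal.isPrime_bot⟩, PrimeSpectrum.ext ?_⟩
    show Ideal.comap (Ideal.Quotient.mk m.asIdeal) ⊥ = m.asIdeal
    rw [← RingHom.ker_eq_comap_bot, Ideal.mk_ker]
  have sqF : IsPullback (j ≫ a) (pullback.snd σ i) g₀ (Spec.map (CommRingCat.ofHom (algebraMap k₀ F))) := by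
    have h := sqj.paste_horiz sq
    rw [show i ≫ Spec.map (CommRingCat.ofHom (algebraMap k₀ S)) = Spec.map (CommRingCat.ofHom (algebraMap k₀ F))
      from (Spec.map_comp _ _).symm] at h
    exact h
  haveI : CompactSpace Y := QuasiCompact.compactSpace_of_compactSpace g
  haveI : Y.IsSeparated := ⟨by rw [← terminal.comp_from g]; infer_instance⟩
  haveI : Flat (Spec.map (CommRingCat.ofHom (algebraMap k₀ F))) :=
    (HasRingHomProperty.Spec_iff (P := @Flat)).2 (RingHom.flat_algebraMap_iff.2 (haveI := Module.Free.of_divisionRing k₀ F; Module.Flat.of_free))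
  have happ := PicLib.bijective_appTop_of_isPullback (j ≫ a) (pullback.snd σ i) g₀ _ sqF hg₀app
  haveI : IsIso (pullback.snd σ i).appTop := (ConcreteCategory.isIso_iff_bijective _).2 happ
  haveI : IsLocalRing Γ(pullback σ i, ⊤) := ((Scheme.ΓSpecIso (CommRingCat.of F)).symm ≪≫
    asIso (pullback.snd σ i).appTop).commRingCatIsoToRingEquiv.isLocalRing
  refine ⟨k₀, F, inferInstance, inferInstance, inferInstance, g₀, _, pullback σ i, j, pullback.snd σ i,
    inferInstance, hg₀, hg₀app, inferInstance, inferInstance, hy, sqF, ?_⟩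
  exact FlatMor12.SteinGeneral.connectedSpace_of_isLocalRing (pullback σ i)

/-- The closed fibre of an unramified extension of local rings. -/
theorem isPullback_residue {D D' : Type u} [CommRing D] [IsLocalRing D] [CommRing D'] [IsLocalRing D']
    [Algebra D D'] [IsLocalHom (algebraMap D D')]
    (hm : (maximalIdeal D).map (algebraMap D D') = maximalIdeal D') :
    IsPullback (Spec.map (CommRingCat.ofHom (algebraMap (ResidueField D) (ResidueField D'))))
      (Spec.map (CommRingCat.ofHom (IsLocalRing.residue D')))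
      (Spec.map (CommRingCat.ofHom (IsLocalRing.residue D))) (Spec.map (CommRingCat.ofHom (algebraMap D D'))) := by
  have h := AlgSpLib.isPushout_quotient (algebraMap D D') (maximalIdeal D)
  have h' : IsPushout (CommRingCat.ofHom (algebraMap D D')) (CommRingCat.ofHom (IsLocalRing.residue D))
      (CommRingCat.ofHom (IsLocalRing.residue D'))
      (CommRingCat.ofHom (algebraMap (ResidueField D) (ResidueField D'))) := by
    refine h.of_iso (Iso.refl _) (Iso.refl _) (Iso.refl _)
      (Ideal.quotEquivOfEq hm).toCommRingCatIso ?_ ?_ ?_ ?_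
    · simp
    · simp; rfl
    · ext x; rfl
    · refine CommRingCat.hom_ext (Ideal.Quotient.ringHom_ext (RingHom.ext fun x => ?_))
      rfl
  exact (isPullback_SpecMap_of_isPushout _ _ _ _ h').flip

end Groth.Agent.Models7
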