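import Groth.Agent.Models7.DivModel
import Groth.Agent.Models7.EulerFibre

/-!
# The genus formula for the special fibre
-/

set_option autoImplicit false
set_option linter.style.haveILetI false
set_option backward.isDefEq.respectTransparency.types false
set_option maxHeartbeats 1000000

universe u

open CategoryTheory CategoryTheory.Limits AlgebraicGeometry Opposite TopologicalSpace
open Groth.Agent.Coherent Groth.Agent.PicLib Groth.Agent.AmpleLib Groth.Agent.EulerLib

namespace Groth.Agent.Models7

/-- Curves with trivial constants have `χ(O) = 1 - g`. -/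
theorem euler_curve {K : Type u} [Field K] {C : Scheme.{u}} (f : C ⟶ Spec (CommRingCat.of K)) [IsProper f]
    (hdim : topologicalKrullDim C ≤ 1) (hH0 : IsIso f.appTop) :
    @Curv2.euler K _ C ⟨f⟩ (Coh.structureModule C) = 1 - (Models.curveGenus K C f : ℤ) := by
  letI : C.Over (Spec (CommRingCat.of K)) := ⟨f⟩
  haveI : IsProper (C ↘ Spec (CommRingCat.of K)) := ‹IsProper f›
  rw [CurveRR24.euler_structure K hdim]
  let φ := baseHom K C
  have hφ : Function.Bijective φ :=
    (ConcreteCategory.bijective_of_isIso f.appTop).comp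
      (ConcreteCategory.bijective_of_isIso (Scheme.ΓSpecIso (CommRingCat.of K)).inv)
  let e : K ≃ₗ[K] GA φ (Coh.structureModule C) :=
    { toFun := fun c => φ c
      map_add' := fun a b => map_add φ a b
      map_smul' := fun c a => map_mul φ c a
      invFun := (Equiv.ofBijective φ hφ).symm
      left_inv := (Equiv.ofBijective φ hφ).left_inv
      right_inv := (Equiv.ofBijective φ hφ).right_inv }
  rw [(CurveRR24.hhZero K (Coh.structureModule C)).finrank_eq, e.finrank_eq.symm.trans (Module.finrank_self K)]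
  rfl

variable {R : Type u} [CommRing R] [IsDomain R] [IsDiscreteValuationRing R]
variable {C X : Scheme.{u}} {f : C ⟶ Spec (CommRingCat.of (FractionRing R))} {p : X ⟶ Spec (CommRingCat.of R)}
variable (hC : PropCurve (FractionRing R) C f) (hH0 : IsIso f.appTop)
variable (hX : Models.IsRegularProperModel R X p C f)
variable {n : ℕ} {Γ : Fin n → ArSurf.VertComp R (Over.mk p)} (hΓ : Models.IsComponentList R (Over.mk p) Γ)
variable (L : Fin n → X.Modules) (hL : ∀ i, ClSub.IsInverseOf (L i) (ClSub.idealMod (Γ i).ι.ker))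
include hC hX hΓ hL

omit hL in
theorem specialFibre_eq_prod :
    Models.specialFibreIdeal R (Over.mk p) = ∏ i, (Γ i).ι.ker ^ Models.mult R (Over.mk p) (Γ i) := by
  have hint : IsIntegral C := hC.2.2.1
  haveI := hint
  haveI := Inters29.isIntegral_model R hX.1 hX.2.2
  haveI := hX.2.1
  haveI : IsLocallyNoetherian X := LocallyOfFiniteType.isLocallyNoetherian p
  haveI : IsIntegral (Over.mk p).left := inferInstanceAs (IsIntegral X)
  haveI : IsLocallyNoetherian (Over.mk p).left := inferInstanceAs (IsLocallyNoetherian X)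
  haveI : Flat (Over.mk p).hom := hX.1.1
  exact Inters29.specialFibreIdeal_eq_prod R Γ (X := Over.mk p) hX.2.2 hΓ

theorem sum_mult_inter (i : Fin n) :
    ∑ j, (Models.mult R (Over.mk p) (Γ j) : ℤ) * ArSurf.inter R (Over.mk p) (L i) (Γ j) = 0 := by
  have hint : IsIntegral C := hC.2.2.1
  haveI := hint
  haveI := Inters29.isIntegral_model R hX.1 hX.2.2
  haveI := hX.2.1
  haveI : IsLocallyNoetherian X := LocallyOfFiniteType.isLocallyNoetherian p
  haveI : IsIntegral (Over.mk p).left := inferInstanceAs (IsIntegral X)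
  haveI : IsLocallyNoetherian (Over.mk p).left := inferInstanceAs (IsLocallyNoetherian X)
  haveI : Flat (Over.mk p).hom := hX.1.1
  haveI : IsProper (Over.mk p).hom := hX.2.1
  rw [← Inters29.sum_mult_mul_inter R (X := Over.mk p) hX.2.2 Γ hΓ L hL (Γ i)]
  exact Finset.sum_congr rfl fun j _ => by rw [inter_symm_model hC hX hΓ L hL j i]

include hH0

theorem chi_specialFibre_eq :
    (Models.lengthH R (Over.mk p) (ClSub.quotMod (Models.specialFibreIdeal R (Over.mk p))) 0 : ℤ) -
        Models.lengthH R (Over.mk p) (ClSub.quotMod (Models.specialFibreIdeal R (Over.mk p))) 1 =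
      1 - (Models.curveGenus (FractionRing R) C f : ℤ) := by
  haveI := hX.2.1
  haveI := hX.1.1
  haveI := hC.1
  obtain ⟨g, hg⟩ := hX.1.2.2.2
  rw [chi_specialFibre hg (by rw [specialFibre_eq_prod hC hX hΓ]; exact finLen_prod hC hX hΓ L hL _),
    euler_curve f hC.2.2.2.le hH0]

/-- The genus formula. -/
theorem genus_formula :
    2 * (Models.curveGenus (FractionRing R) C f : ℤ) =
      2 + ∑ i, (Models.mult R (Over.mk p) (Γ i) : ℤ) *
        (2 * ((Models.h1 R (Over.mk p) (Γ i) : ℤ) - (Models.wdeg R (Over.mk p) (Γ i) : ℤ)) -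
          ArSurf.inter R (Over.mk p) (L i) (Γ i)) := by
  have h1 := chi_specialFibre_eq hC hH0 hX hΓ L hL
  have h2 := chi_prod hC hX hΓ L hL fun i => Models.mult R (Over.mk p) (Γ i)
  rw [← specialFibre_eq_prod hC hX hΓ, h1,
    Finset.sum_eq_zero fun i _ => by rw [sum_mult_inter hC hX hΓ L hL i, mul_zero]] at h2
  have h3 : ∑ i, (Models.mult R (Over.mk p) (Γ i) : ℤ) *
      (2 * ((Models.h1 R (Over.mk p) (Γ i) : ℤ) - (Models.wdeg R (Over.mk p) (Γ i) : ℤ)) -
        ArSurf.inter R (Over.mk p) (L i) (Γ i)) =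
      -∑ i, (Models.mult R (Over.mk p) (Γ i) : ℤ) *
        (2 * ((Models.wdeg R (Over.mk p) (Γ i) : ℤ) - Models.h1 R (Over.mk p) (Γ i)) +
          ArSurf.inter R (Over.mk p) (L i) (Γ i)) := by
    rw [← Finset.sum_neg_distrib]
    exact Finset.sum_congr rfl fun i _ => by ring
  rw [h3]
  linarith

end Groth.Agent.Models7
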