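import Groth.Agent.Models7.ModelAmple
import Groth.Agent.Models7.WdegDvd

/-!
# Existence of a minimal model below a regular proper model
-/

set_option autoImplicit false
set_option linter.style.haveILetI false
set_option backward.isDefEq.respectTransparency false
set_option maxHeartbeats 1000000

universe u

open CategoryTheory CategoryTheory.Limits AlgebraicGeometry TopologicalSpace IsLocalRing
open Groth.Agent.Coherent Groth.Agent.PicLib Groth.Agent.AmpleLib Groth.Agent.EulerLib

namespace Groth.Agent.Models7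

/-- A sequence of point blow-ups is an isomorphism or starts with a blow-up which is not one. -/
theorem PtSeq.exists_first {Y X : Scheme.{u}} {f : Y ⟶ X} (hf : PtSeq f) :
    IsIso f ∨ ∃ (Z : Scheme.{u}) (b : Y ⟶ Z) (r : Z ⟶ X) (z : Z) (hz : IsClosed ({z} : Set Z)),
      (∀ [IrreducibleSpace Z], z ≠ genericPoint Z) ∧ ¬ IsIso b ∧
      BlowUp.IsBlowUp b (Scheme.IdealSheafData.vanishingIdeal ⟨{z}, hz⟩) ∧ PtSeq r ∧ b ≫ r = f := by
  induction hf with
  | iso e => exact Or.inl inferInstance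
  | @step Y' Z' X' b r z hz hz0 hb hr ih =>
    by_cases hbi : IsIso b
    · rcases ih with hri | ⟨W, b', r', w, hw, hw0, hb'i, hb', hr', heq⟩
      · exact Or.inl inferInstance
      · refine Or.inr ⟨W, b ≫ b', r', w, hw, hw0, fun h => hb'i ?_, isBlowUp_iso_comp (asIso b) hb', hr', ?_⟩
        · exact IsIso.of_isIso_comp_left b b'
        · rw [Category.assoc, heq]
    · exact Or.inr ⟨Z', b, r, z, hz, hz0, hbi, hb, hr, rfl⟩

variable {R : Type u} [CommRing R] [IsDomain R] [IsDiscreteValuationRing R] {C : Scheme.{u}}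
  {f : C ⟶ Spec (CommRingCat.of (FractionRing R))}

/-- A regular proper model of a curve is an arithmetic surface. -/
theorem GenModel.isArithSurface [IsIntegral C] (hC : PropCurve (FractionRing R) C f)
    {Y : Scheme.{u}} {q : Y ⟶ Spec (CommRingCat.of R)} {gY : C ⟶ Y} (hY : GenModel R C f Y q gY) :
    ArSurf.IsArithSurface R (Over.mk q) := by
  haveI : IsIntegral (Over.mk q).left := hY.isIntegral
  haveI : IsProper (Over.mk q).hom := hY.model.2.1
  haveI : Flat (Over.mk q).hom := hY.model.1.1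
  haveI : IsProper f := hC.1
  have hdim : topologicalKrullDim (Over.mk q).left = 2 :=
    Inters29.topologicalKrullDim_eq_two R (X := Over.mk q)
      (Inters29.trdAt_genericPoint R (X := Over.mk q) f hC.2.2.2 gY hY.pullback)
  exact ⟨hY.model.2.2, inferInstance, hdim, inferInstance, isProjectiveOver_of_regular hY.model.2.2 hdim⟩

/-- An exceptional vertical curve is a line of self intersection minus the degree of its constants. -/
theorem exists_excCurve_data {X : Over (Spec (CommRingCat.of R))} (hX : ArSurf.IsArithSurface R X)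
    (E : ArSurf.VertComp R X) (hE : Models.IsExcCurve E.ι) :
    ∃ (k' : Type u) (_ : Field k') (_ : Algebra (IsLocalRing.ResidueField R) k')
      (_ : FiniteDimensional (IsLocalRing.ResidueField R) k') (e : E.curve.left ≅ CohB1.ProjSpace 1 k')
      (L : X.left.Modules),
      e.hom ≫ CohB1.ProjSpace.toSpec 1 k' ≫
        Spec.map (CommRingCat.ofHom (algebraMap (IsLocalRing.ResidueField R) k')) = E.curve.hom ∧
      ClSub.IsInverseOf L (ClSub.idealMod E.ι.ker) ∧
      ArSurf.inter R X L E = -(Module.finrank (IsLocalRing.ResidueField R) k' : ℤ) := by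
  obtain ⟨hp, hS⟩ := regSurf_of_isArithSurface hX
  haveI := hp
  haveI := hX.2.1
  haveI := hX.2.2.2.1
  haveI := hS.noeth
  haveI : IsProper E.curve.hom := Inters29.isProper_curve R E
  obtain ⟨L, hL⟩ := Inters29.exists_inverse_ker R hX.1 hE.1
  obtain ⟨-, hinter⟩ := of_isExcCurve R E hE hL
  have hw := (wdeg_pos_and_dvd R E).1
  obtain ⟨hD, k', _, e, ⟨φ⟩⟩ := hE
  obtain ⟨ψ, hψ⟩ := exists_constants (e.hom ≫ E.curve.hom)
  let M := (Scheme.Modules.pullback E.ι).obj (ClSub.idealMod E.ι.ker)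
  have hM : PicF.IsInvertible M :=
    PicLoc.isInvertible_pullback E.ι (FlatMor12.IdealModGen.isInvertible_idealMod _ hD)
  have hc : ArSurf.curveDeg (IsLocalRing.ResidueField R) E.curve.left M = - ArSurf.inter R X L E :=
    curveDeg_conormal R E hD hL
  have hpos : 0 < ArSurf.curveDeg (IsLocalRing.ResidueField R) E.curve.left M := by
    rw [hc, hinter, neg_neg]; exact_mod_cast hw
  have hψ0 : 0 < Models.homDegree ψ := homDegree_pos_of_curveDeg_ne_zero E e ψ hψ hpos.ne'
  obtain ⟨m, -, hdeg, hval⟩ := exists_hasDeg_of_curveDeg E e ψ hψ hM hpos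
  have hone : P1Deg.HasDeg e M (1 : ℤ) := ⟨((Scheme.Modules.pullbackComp e.hom E.ι).app _) ≪≫ φ⟩
  rw [hdeg.unique e hone, mul_one] at hval
  letI : Algebra (IsLocalRing.ResidueField R) k' := ψ.toAlgebra
  have hd : Models.homDegree ψ = Module.finrank (IsLocalRing.ResidueField R) k' := rfl
  haveI : FiniteDimensional (IsLocalRing.ResidueField R) k' := Module.finite_of_finrank_pos (hd ▸ hψ0)
  refine ⟨k', inferInstance, inferInstance, inferInstance, e.symm, L, ?_, hL, ?_⟩
  · show e.inv ≫ CohB1.ProjSpace.toSpec 1 k' ≫ Spec.map (CommRingCat.ofHom ψ) = _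
    rw [← hψ, e.inv_hom_id_assoc]
  · rw [← neg_neg (ArSurf.inter R X L E), ← hc, hval, hd]

/-- Contraction of an exceptional curve of a model, as the blow-up of a point of another model. -/
theorem GenModel.exists_contraction [IsIntegral C] (hC : PropCurve (FractionRing R) C f)
    {Y : Scheme.{u}} {q : Y ⟶ Spec (CommRingCat.of R)} {gY : C ⟶ Y} (hY : GenModel R C f Y q gY)
    (E : ArSurf.VertComp R (Over.mk q)) (hE : Models.IsExcCurve E.ι) :
    ∃ (Z : Scheme.{u}) (qZ : Z ⟶ Spec (CommRingCat.of R)) (gZ : C ⟶ Z) (b : Y ⟶ Z) (z : Z)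
      (hz : IsClosed ({z} : Set Z)),
      GenModel R C f Z qZ gZ ∧ b ≫ qZ = q ∧ gY ≫ b = gZ ∧
      Models.IsContractionOf (show E.curve.left ⟶ Y from E.ι) b ∧
      IsIso (b ∣_ (⟨{z}ᶜ, hz.isOpen_compl⟩ : Z.Opens)) ∧
      (∀ a : E.curve.left, b (E.ι a) = z) := by
  have hX := hY.isArithSurface hC
  obtain ⟨k', _, _, _, e, L, he, hL, hself⟩ := exists_excCurve_data hX E hE
  obtain ⟨Y₁, f₁, y, hy, hint, hln, hfp, -, hdim, hflat, hproj, hy2, hrange, hpre, hiso, hcot⟩ :=
    exists_castelnuovo hX E e he hL le_rfl (by simpa using hself)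
  haveI := hint
  haveI := hln
  haveI := hY.isIntegral
  haveI : IsIntegral (Over.mk q).left := hY.isIntegral
  haveI : IsProper q := hY.model.2.1
  haveI : IsProper Y₁.hom := isProper_of_projective hproj
  let U : Y₁.left.Opens := ⟨{y}ᶜ, hy.isOpen_compl⟩
  let c : Y ⟶ Y₁.left := f₁.left
  haveI : IsProper c := hfp
  haveI : IsIso (c ∣_ U) := hiso
  have hcq : c ≫ Y₁.hom = q := Over.w f₁
  -- regularity of the target
  have hreg : ∀ w : Y₁.left, IsRegularLocalRing (Y₁.left.presheaf.stalk w) := fun w => by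
    by_cases hw : w = y
    · subst hw
      refine (IsRegularLocalRing.iff_finrank_cotangentSpace _).2 ?_
      rw [hcot]
      refine le_antisymm (by simpa using hy2) ?_
      exact ((CurvesLib24.stalk_dim_le_topologicalKrullDim w).trans hdim.le).trans (by norm_num)
    · obtain ⟨⟨x, hx⟩, hxw⟩ := (c ∣_ U).homeomorph.surjective (⟨w, hw⟩ : U)
      have hcx : c x = w := (morphismRestrict_base_coe c U ⟨x, hx⟩).symm.trans (congrArg Subtype.val hxw)
      haveI := isIso_stalkMap_of_isIso_restrict c U x hx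
      haveI := hY.model.2.2 x
      subst hcx
      exact IsRegularLocalRing.of_ringEquiv (asIso (c.stalkMap x)).commRingCatIsoToRingEquiv.symm
  -- the inclusion of the generic fibre in the target
  have hys : Y₁.hom y = closedPoint R := by
    have h' := Y₁.hom.isClosedMap _ hy
    rw [Set.image_singleton] at h'
    exact PrimeSpectrum.ext (eq_maximalIdeal ((PrimeSpectrum.isClosed_singleton_iff_isMaximal _).1 h'))
  have hgU : Set.range gY.base ⊆ Set.range (c ⁻¹ᵁ U).ι.base := by
    rw [Scheme.Opens.range_ι]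
    rintro _ ⟨a, rfl⟩
    show c (gY a) ≠ y
    intro h
    apply (hY.mem_range_iff _).1 ⟨a, rfl⟩
    rw [← hcq, Scheme.Hom.comp_apply, h, hys]
  haveI := hY.isOpenImmersion
  let k := IsOpenImmersion.lift (c ⁻¹ᵁ U).ι gY hgU
  have hk : k ≫ (c ⁻¹ᵁ U).ι = gY := IsOpenImmersion.lift_fac _ _ _
  haveI : IsOpenImmersion k := by
    haveI : IsOpenImmersion (k ≫ (c ⁻¹ᵁ U).ι) := by rw [hk]; infer_instance
    exact IsOpenImmersion.of_comp k (c ⁻¹ᵁ U).ι
  let g₁ := gY ≫ c
  haveI : IsOpenImmersion g₁ := by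
    show IsOpenImmersion (gY ≫ c)
    rw [← hk, Category.assoc, ← morphismRestrict_ι]
    infer_instance
  haveI := Inters29.isOpenImmersion_generic R
  have hgen : ∀ w : Y₁.left, Y₁.hom w ≠ closedPoint R ↔ w ∈ Set.range g₁.base := by
    intro w
    constructor
    · intro hw
      obtain ⟨⟨x, hx⟩, hxw⟩ := (c ∣_ U).homeomorph.surjective (⟨w, fun h => hw (by rw [show w = y from h, hys])⟩ : U)
      have hcx : c x = w := (morphismRestrict_base_coe c U ⟨x, hx⟩).symm.trans (congrArg Subtype.val hxw)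
      obtain ⟨a, ha⟩ := (hY.mem_range_iff x).2 (by rw [← hcq, Scheme.Hom.comp_apply, hcx]; exact hw)
      exact ⟨a, by show (gY ≫ c) a = w; rw [Scheme.Hom.comp_apply, ha, hcx]⟩
    · rintro ⟨a, rfl⟩
      show Y₁.hom ((gY ≫ c) a) ≠ _
      rw [Scheme.Hom.comp_apply, ← Scheme.Hom.comp_apply c, hcq]
      exact (hY.mem_range_iff _).1 ⟨a, rfl⟩
  have hpb : IsPullback g₁ f Y₁.hom (Spec.map (CommRingCat.ofHom (algebraMap R (FractionRing R)))) := by
    refine (IsOpenImmersion.isPullback f g₁ _ Y₁.hom ?_ ?_).flip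
    · show (gY ≫ c) ≫ Y₁.hom = _
      rw [Category.assoc, hcq, hY.pullback.w]
    · ext w
      show Y₁.hom w ∈ Set.range _ ↔ w ∈ Set.range g₁.base
      rw [← hgen w]
      constructor
      · rintro ⟨a, ha⟩
        rw [← ha, Subsingleton.elim (α := PrimeSpectrum (FractionRing R)) a ⟨⊥, Ideal.isPrime_bot⟩]
        intro h
        exact Inters29.bot_ne_closedPoint R (Eq.trans
          (PrimeSpectrum.ext (Ideal.comap_bot_of_injective _ (IsFractionRing.injective R (FractionRing R))).symm) h)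
      · intro hw
        refine ⟨(⟨⊥, Ideal.isPrime_bot⟩ : PrimeSpectrum (FractionRing R)), ?_⟩
        rw [(Inters29.base_eq_bot_or_closedPoint R (Y₁.hom w)).resolve_right hw]
        exact PrimeSpectrum.ext (Ideal.comap_bot_of_injective _ (IsFractionRing.injective R (FractionRing R)))
  have hY₁ : GenModel R C f Y₁.left Y₁.hom g₁ :=
    ⟨⟨⟨hflat, inferInstance, inferInstance, g₁, hpb⟩, inferInstance, hreg⟩, hpb⟩
  -- the first blow-up
  have hsup : ∀ a : E.curve.left, c (E.ι a) = y := fun a => hrange.le ⟨a, rfl⟩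
  rcases (hY.ptSeq hC hY₁ c hcq rfl).exists_first with hci | ⟨Z, b, r, z, hz, hz0, hbi, hb, hr, hbr⟩
  · exfalso
    obtain ⟨a, a', hne⟩ := exists_ne_of_dim_one E.dim_eq
    exact hne (E.ι.isClosedEmbedding.injective (c.homeomorph.injective ((hsup a).trans (hsup a').symm)))
  obtain ⟨hrp, hZ, gZ, hgZ, hZm⟩ := GenModel.of_ptSeq hC hr hY₁
  haveI := hrp
  haveI := hZ.integral
  haveI := hZ.noeth
  haveI := hZ.compact
  have hz1 : z ≠ genericPoint Z := hz0
  obtain ⟨hYs, hbp, hbiso⟩ := hZ.pointBlowUp z hz hz1 b hb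
  haveI := hbp
  haveI := hbiso
  obtain ⟨gY', hgY', hYm⟩ := hZm.modification b hY.model.2.2 ⟨{z}ᶜ, hz.isOpen_compl⟩
    (fun x hx h => hx (by rw [show x = z from h]; exact hZm.hom_closed hz))
  have hYm' : GenModel R C f Y q gY' := by
    rw [← Category.assoc, hbr, hcq] at hYm
    exact hYm
  obtain rfl : gY = gY' := hY₁.eq_of_comp hY hYm' c rfl (by rw [← hbr, reassoc_of% hgY', hgZ])
  -- the contracted curve is the exceptional fibre
  obtain ⟨F, -, hFr⟩ := exists_exc_vertComp hC hZm z hz hz0 b hb hbi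
  let ιF : F.curve.left ⟶ Y := F.ι
  let ιE : E.curve.left ⟶ Y := E.ι
  haveI : IsClosedImmersion ιF := F.isClosedImmersion
  haveI : IsClosedImmersion ιE := E.isClosedImmersion
  have hbF : ∀ a, b (ιF a) = z := fun a => hFr.le ⟨a, rfl⟩
  have hcF : ∀ a, c (ιF a) = r z := fun a => by rw [← hbr, Scheme.Hom.comp_apply, hbF]
  have hrz : r z = y := by
    by_contra hne
    obtain ⟨a, a', haa⟩ := exists_ne_of_dim_one F.dim_eq
    apply haa
    have m : ∀ a, ιF a ∈ c ⁻¹ᵁ U := fun a => show c (ιF a) ≠ y by rw [hcF]; exact hne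
    have h2 : (c ∣_ U) ⟨ιF a, m a⟩ = (c ∣_ U) ⟨ιF a', m a'⟩ :=
      Subtype.ext (((morphismRestrict_base_coe c U _).trans ((hcF a).trans (hcF a').symm)).trans
        (morphismRestrict_base_coe c U _).symm)
    exact ιF.isClosedEmbedding.injective (congrArg Subtype.val ((c ∣_ U).homeomorph.injective h2))
  have hFE : ∀ a, ιF a ∈ Set.range ιE.base := fun a => by
    by_contra h
    have : ιF a ∈ c ⁻¹ᵁ U := hpre.ge h
    exact this ((hcF a).trans hrz)
  have hgen' : ιE (genericPoint E.curve.left) = ιF (genericPoint F.curve.left) := by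
    by_contra hne
    obtain ⟨a, ha⟩ := hFE (genericPoint F.curve.left)
    have hs : ιE (genericPoint E.curve.left) ⤳ ιF (genericPoint F.curve.left) := by
      rw [← ha]
      exact (genericPoint_specializes a).map ιE.continuous
    have hη : ιE (genericPoint E.curve.left) ≠ genericPoint Y := fun h => hY.genericPoint_ne (by
      rw [← h, ← Scheme.Hom.comp_apply, show ιE ≫ q = _ from E.w, Scheme.Hom.comp_apply]
      exact PrimeSpectrum.ext (by
        rw [Subsingleton.elim (α := PrimeSpectrum (IsLocalRing.ResidueField R))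
          (E.curve.hom (genericPoint E.curve.left)) ⟨⊥, Ideal.isPrime_bot⟩]
        exact IsLocalRing.ker_residue))
    have hc := isClosed_of_specializes_dim_two (hY.regSurf hC).dim hs hne hη
    obtain ⟨a₀, a₁, haa⟩ := exists_ne_of_dim_one F.dim_eq
    apply haa
    have := fun a : F.curve.left => ((genericPoint_specializes a).map ιF.continuous).mem_closed hc rfl
    exact ιF.isClosedEmbedding.injective ((this a₀).trans (this a₁).symm)
  have hbE : ∀ a, b (ιE a) = z := fun a => by
    have hc : IsClosed (b.base ⁻¹' {z}) := hz.preimage b.continuous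
    exact ((genericPoint_specializes a).map ιE.continuous).mem_closed hc (by
      show b (ιE (genericPoint E.curve.left)) = z
      rw [hgen', hbF])
  refine ⟨Z, r ≫ Y₁.hom, gZ, b, z, hz, hZm, by rw [← Category.assoc, hbr, hcq], hgY', ?_, hbiso, hbE⟩
  refine ⟨{}, hbp, z, hz, ?_, hZ.regular z, ringKrullDim_eq_two_of_not_isIso hZ z hz hz1 b hb hbi, hb⟩
  refine Set.Subset.antisymm ?_ (Set.singleton_subset_iff.2 ⟨genericPoint E.curve.left, ?_⟩)
  · rintro _ ⟨a, rfl⟩
    show (ιE ≫ b) a = z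
    rw [Scheme.Hom.comp_apply, hbE]
  · show (ιE ≫ b) _ = z
    rw [Scheme.Hom.comp_apply, hbE]

/-- A contraction loses at least one component of the closed fibre. -/
theorem GenModel.card_components_lt [IsIntegral C] {Y Z : Scheme.{u}}
    {q : Y ⟶ Spec (CommRingCat.of R)} {qZ : Z ⟶ Spec (CommRingCat.of R)} {gY : C ⟶ Y} {gZ : C ⟶ Z}
    (hY : GenModel R C f Y q gY) (_hZ : GenModel R C f Z qZ gZ) (b : Y ⟶ Z)
    (hbq : b ≫ qZ = q) (z : Z) (hz : IsClosed ({z} : Set Z))
    (hiso : IsIso (b ∣_ (⟨{z}ᶜ, hz.isOpen_compl⟩ : Z.Opens)))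
    (E : ArSurf.VertComp R (Over.mk q)) (hbE : ∀ a : E.curve.left, b (E.ι a) = z)
    (hC : PropCurve (FractionRing R) C f)
    {n m : ℕ} (Γ : Fin n → ArSurf.VertComp R (Over.mk q)) (hΓ : Models.IsComponentList R (Over.mk q) Γ)
    (Δ : Fin m → ArSurf.VertComp R (Over.mk qZ)) (hΔ : Models.IsComponentList R (Over.mk qZ) Δ) : m < n := by
  haveI := hY.isIntegral
  haveI : IsIntegral (Over.mk q).left := hY.isIntegral
  haveI : IsProper (Over.mk q).hom := hY.model.2.1
  haveI : Flat (Over.mk q).hom := hY.model.1.1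
  haveI : IsLocallyNoetherian (Over.mk q).left := LocallyOfFiniteType.isLocallyNoetherian (Over.mk q).hom
  haveI := hiso
  obtain ⟨i₀, hi₀⟩ := Inters29.exists_range_eq R (X := Over.mk q) hY.model.2.2
    (hY.isArithSurface hC).2.2.1.le Γ hΓ E
  let gΓ : Fin n → Y := fun i => (Γ i).ι (genericPoint (Γ i).curve.left)
  let gΔ : Fin m → Z := fun j => (Δ j).ι (genericPoint (Δ j).curve.left)
  have key : ∀ j, ∃ i, b (gΓ i) = gΔ j := by
    intro j
    have hjz : gΔ j ≠ z := by
      intro h
      obtain ⟨a, a', hne⟩ := exists_ne_of_dim_one (Δ j).dim_eq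
      have := fun a : (Δ j).curve.left =>
        (((genericPoint_specializes a).map (Δ j).ι.continuous).mem_closed hz h : (Δ j).ι a = z)
      exact hne ((Δ j).ι.isClosedEmbedding.injective ((this a).trans (this a').symm))
    obtain ⟨⟨x, hx⟩, hxw⟩ := (b ∣_ (⟨{z}ᶜ, hz.isOpen_compl⟩ : Z.Opens)).homeomorph.surjective
      (⟨gΔ j, hjz⟩ : (⟨{z}ᶜ, hz.isOpen_compl⟩ : Z.Opens))
    have hbx : b x = gΔ j := (morphismRestrict_base_coe b _ ⟨x, hx⟩).symm.trans (congrArg Subtype.val hxw)
    have hjs : qZ (gΔ j) = closedPoint R := Inters29.range_subset_specialFibreSet R (Δ j) ⟨_, rfl⟩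
    have hxs : x ∈ Models.specialFibreSet R (Over.mk q) := by
      show q x = closedPoint R
      rw [← hbq, Scheme.Hom.comp_apply, hbx, hjs]
    obtain ⟨i, hi⟩ := Inters29.exists_genPt_specializes R Γ hΓ hxs
    have his : q (gΓ i) = closedPoint R := Inters29.range_subset_specialFibreSet R (Γ i) ⟨_, rfl⟩
    refine ⟨i, Inters29.genPt_maximal R Δ hΔ j ?_ ?_⟩
    · show qZ (b (gΓ i)) = closedPoint R
      rw [← Scheme.Hom.comp_apply, hbq, his]
    · show b (gΓ i) ⤳ gΔ j
      rw [← hbx]
      exact Specializes.map hi b.continuous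
  choose σ hσ using key
  have hinj : Function.Injective σ := fun j j' h =>
    Inters29.genPt_injective R Δ hΔ (show gΔ j = gΔ j' by rw [← hσ j, ← hσ j', h])
  have hni : i₀ ∉ Set.range σ := by
    rintro ⟨j, hj⟩
    obtain ⟨a, ha⟩ := hi₀.ge ⟨genericPoint (Γ i₀).curve.left, rfl⟩
    have hgz : gΔ j = z := by
      rw [← hσ j, hj]
      show b ((Γ i₀).ι (genericPoint (Γ i₀).curve.left)) = z
      rw [← ha]
      exact hbE a
    obtain ⟨a, a', hne⟩ := exists_ne_of_dim_one (Δ j).dim_eq
    have := fun a : (Δ j).curve.left =>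
      (((genericPoint_specializes a).map (Δ j).ι.continuous).mem_closed hz hgz : (Δ j).ι a = z)
    exact hne ((Δ j).ι.isClosedEmbedding.injective ((this a).trans (this a').symm))
  simpa using Fintype.card_lt_of_injective_of_notMem σ hinj hni

/-- A regular proper model maps to a minimal one by a composite of contractions. -/
theorem GenModel.exists_minimal [IsIntegral C] (hC : PropCurve (FractionRing R) C f)
    {Y : Scheme.{u}} {q : Y ⟶ Spec (CommRingCat.of R)} {gY : C ⟶ Y} (hY : GenModel R C f Y q gY) :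
    ∃ (X : Scheme.{u}) (p : X ⟶ Spec (CommRingCat.of R)) (gX : C ⟶ X) (b : Y ⟶ X),
      GenModel R C f X p gX ∧ (∀ Γ : ArSurf.VertComp R (Over.mk p), ¬ Models.IsExcCurve Γ.ι) ∧
      b ≫ p = q ∧ gY ≫ b = gX ∧ Models.IsContractionSeq b := by
  have hlist : ∀ {Z : Scheme.{u}} {qZ : Z ⟶ Spec (CommRingCat.of R)} {gZ : C ⟶ Z}, GenModel R C f Z qZ gZ →
      ∃ (n : ℕ) (Γ : Fin n → ArSurf.VertComp R (Over.mk qZ)), Models.IsComponentList R (Over.mk qZ) Γ := by
    intro Z qZ gZ h
    obtain ⟨hp, hS⟩ := regSurf_of_isArithSurface (h.isArithSurface hC)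
    haveI := hp
    haveI := hS.integral
    haveI := hS.noeth
    haveI : Flat (Over.mk qZ).hom := h.model.1.1
    exact Inters29.exists_componentList R (X := Over.mk qZ) (h.isArithSurface hC).2.2.1
  obtain ⟨n, Γ, hΓ⟩ := hlist hY
  induction n using Nat.strong_induction_on generalizing Y with
  | _ n ih =>
    by_cases hex : ∃ E : ArSurf.VertComp R (Over.mk q), Models.IsExcCurve E.ι
    · obtain ⟨E, hE⟩ := hex
      obtain ⟨Z, qZ, gZ, b, z, hz, hZ, hbq, hgb, hb, hiso, hbE⟩ := hY.exists_contraction hC E hE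
      obtain ⟨m, Δ, hΔ⟩ := hlist hZ
      obtain ⟨X, p, gX, c, hX, hmin, hcp, hgc, hseq⟩ :=
        ih m (hY.card_components_lt hZ b hbq z hz hiso E hbE hC Γ hΓ Δ hΔ) hZ Δ hΔ
      exact ⟨X, p, gX, b ≫ c, hX, hmin, by rw [Category.assoc, hcp, hbq], by rw [reassoc_of% hgb, hgc],
        Models.IsContractionSeq.step (show E.curve.left ⟶ Y from E.ι) b c E.isClosedImmersion hE hb hseq⟩
    · push Not at hex
      exact ⟨Y, q, gY, 𝟙 Y, hY, hex, Category.id_comp q, Category.comp_id gY,
        Models.IsContractionSeq.iso (Iso.refl Y)⟩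

end Groth.Agent.Models7
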