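import Groth.Agent.Models7.MinimalModel
import Groth.Agent.Models7.MinModelExists
import Groth.Agent.Models7.GenusFormula
import Groth.Agent.Models7.ContractInter
import Groth.Agent.CurveRR24.DegOneApps
import Groth.Agent.Inters29.FibrePullback
import Groth.Agent.Inters29.Connected

/-!
# Minimal models in genus zero
-/

set_option autoImplicit false
set_option linter.style.haveILetI false
set_option backward.isDefEq.respectTransparency false
set_option maxHeartbeats 2000000

universe u

open CategoryTheory CategoryTheory.Limits AlgebraicGeometry TopologicalSpace IsLocalRing Opposite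
open Groth.Agent.Misc15.DivDescent Groth.Agent.SDiv28.CartierPart

namespace Groth.Agent.Models7

/-- Over a point with valuation local ring, a proper birational morphism is a local isomorphism. -/
theorem isIso_stalkMap_of_valuationRing {X Y : Scheme.{u}} [IsIntegral X] [IsIntegral Y] (f : X ⟶ Y)
    (hgen : f (genericPoint X) = genericPoint Y) (hbir : IsIso (f.stalkMap (genericPoint X))) (x : X)
    [ValuationRing (Y.presheaf.stalk (f x))] : IsIso (f.stalkMap x) := by
  haveI : IsDominant f := ⟨by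
    refine dense_iff_closure_eq.2 (Set.eq_univ_of_univ_subset ?_)
    rw [← genericPoint_closure Y]
    exact closure_mono (Set.singleton_subset_iff.2 ⟨_, hgen⟩)⟩
  exact (ConcreteCategory.isIso_iff_bijective _).2
    ⟨CurvesLib24.stalkMap_injective f x, exists_preimage_stalk f hgen hbir x⟩

theorem valuationRing_of_dim_le_one {A : Type u} [CommRing A] [IsDomain A] [IsNoetherianRing A] [IsLocalRing A]
    [IsIntegrallyClosed A] (h : ringKrullDim A ≤ 1) : ValuationRing A := by
  haveI : Ring.KrullDimLE 1 A := (Order.krullDimLE_iff 1 (PrimeSpectrum A)).2 (by simpa [ringKrullDim] using h)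
  by_cases hf : IsField A
  · letI := hf.toField; infer_instance
  · have hex : ∃! q : Ideal A, q ≠ ⊥ ∧ q.IsPrime :=
      ⟨maximalIdeal _, ⟨fun h => hf (isField_iff_maximalIdeal_eq.2 h), inferInstance⟩,
        fun q ⟨hq0, hq⟩ => eq_maximalIdeal (hq.isMaximal_of_ne_bot hq0)⟩
    haveI : IsDiscreteValuationRing A :=
      ((IsDiscreteValuationRing.TFAE A hf).out 3 0 :
        (IsIntegrallyClosed A ∧ ∃! q : Ideal A, q ≠ ⊥ ∧ q.IsPrime) ↔ _).1 ⟨inferInstance, hex⟩
    infer_instance

variable {R : Type u} [CommRing R] [IsDomain R] [IsDiscreteValuationRing R]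

/-- A morphism through which a stalkwise surjective one factors on the right is stalkwise surjective. -/
theorem surjective_stalkMap_of_comp {A B D : Scheme.{u}} (h : A ⟶ B) (i : B ⟶ D) (k : A ⟶ D) (e : h ≫ i = k)
    (v : A) (hk : Function.Surjective (k.stalkMap v)) : Function.Surjective (h.stalkMap v) := by
  subst e
  rw [Scheme.Hom.stalkMap_comp] at hk
  exact Function.Surjective.of_comp (g := i.stalkMap (h v)) hk

variable {C : Scheme.{u}} {f : C ⟶ Spec (CommRingCat.of (FractionRing R))}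

/-- The closed fibre is the given curve with multiplicity one. -/
structure IntFibre {X : Scheme.{u}} (p : X ⟶ Spec (CommRingCat.of R)) (Γ : ArSurf.VertComp R (Over.mk p)) : Prop where
  range_eq : Set.range (Γ.ι.base : Γ.curve.left → X) = Models.specialFibreSet R (Over.mk p)
  ker_eq : (show Γ.curve.left ⟶ X from Γ.ι).ker = Models.specialFibreIdeal R (Over.mk p)
  wdeg : Models.wdeg R (Over.mk p) Γ = 1
  h1 : Models.h1 R (Over.mk p) Γ = 0

/-- The closed fibre of a minimal model in genus zero is integral, with no constants and no genus. -/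
theorem exists_intFibre [IsIntegral C] (hC : PropCurve (FractionRing R) C f) (hH0 : IsIso f.appTop)
    (hg : Models.curveGenus (FractionRing R) C f = 0) {X : Scheme.{u}} {p : X ⟶ Spec (CommRingCat.of R)} {gX : C ⟶ X}
    (hX : GenModel R C f X p gX) (hmin : ∀ Γ : ArSurf.VertComp R (Over.mk p), ¬ Models.IsExcCurve Γ.ι) :
    ∃ Γ : ArSurf.VertComp R (Over.mk p), IntFibre p Γ := by
  classical
  haveI := hX.isIntegral
  haveI : IsProper p := hX.model.2.1
  haveI : IsIntegral (Over.mk p).left := inferInstanceAs (IsIntegral X)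
  haveI : IsLocallyNoetherian X := LocallyOfFiniteType.isLocallyNoetherian p
  haveI : IsLocallyNoetherian (Over.mk p).left := inferInstanceAs (IsLocallyNoetherian X)
  haveI : IsProper (Over.mk p).hom := hX.model.2.1
  haveI : Flat (Over.mk p).hom := hX.model.1.1
  have hA := hX.isArithSurface hC
  obtain ⟨n, Δ, hΔ⟩ := Inters29.exists_componentList R (X := Over.mk p) hA.2.2.1
  have hD := Inters29.isEffCartier_listComp R Δ hX.model.2.2 hΔ
  choose L hL using fun i => Inters29.exists_inverse_ker R (X := Over.mk p) hX.model.2.2 (hD i)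
  haveI : ∀ i, IsProper (Δ i).curve.hom := fun i => Inters29.isProper_curve R (Δ i)
  have hconn : _root_.IsConnected (Models.specialFibreSet R (Over.mk p)) :=
    Inters29.isConnected_specialFibreSet R hH0 gX hX.pullback
  have hformula := genus_formula hC hH0 hX.model hΔ L hL
  rw [hg, Nat.cast_zero, mul_zero] at hformula
  let m : Fin n → ℤ := fun i => (Models.mult R (Over.mk p) (Δ i) : ℤ)
  let h : Fin n → ℤ := fun i => (Models.h1 R (Over.mk p) (Δ i) : ℤ)
  let w : Fin n → ℤ := fun i => (Models.wdeg R (Over.mk p) (Δ i) : ℤ)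
  let a : Fin n → ℤ := fun i => ArSurf.inter R (Over.mk p) (L i) (Δ i)
  have hm : ∀ i, 0 < m i := fun i => Int.natCast_pos.2 (Inters29.mult_pos' R (X := Over.mk p) Δ hΔ hX.model.2.2 i)
  have hw : ∀ i, 0 < w i := fun i => Int.natCast_pos.2 (wdeg_pos_and_dvd R (Δ i)).1
  have hh : ∀ i, h i = 0 ∨ w i ≤ h i := fun i => by
    rcases Nat.eq_zero_or_pos (Models.h1 R (Over.mk p) (Δ i)) with h0 | h0
    · exact Or.inl (by simp [h, h0])
    · refine Or.inr (Int.ofNat_le.2 (Nat.le_of_dvd h0 ?_))
      exact (wdeg_pos_and_dvd R (Δ i)).2 (Coh.structureModule _) 1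
  have hsum : ∀ i, ∑ j, m j * ArSurf.inter R (Over.mk p) (L i) (Δ j) = 0 := fun i =>
    sum_mult_inter hC hX.model hΔ L hL i
  have hn1 : n = 1 := by
    have hn0 : n ≠ 0 := by
      rintro rfl
      simp at hformula
    by_contra hne
    have hterm : ∀ i, 0 ≤ m i * (2 * (h i - w i) - a i) := by
      intro i
      refine mul_nonneg (hm i).le ?_
      obtain ⟨i', hi', j, hj, hij⟩ := Inters29.inter_connected_of_list R (X := Over.mk p) hX.model.2.2 Δ hΔ L hL hconn {i}
        (Finset.singleton_nonempty i) (fun hu => hne (by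
          have := congrArg Finset.card hu
          rw [Finset.card_singleton, Finset.card_univ, Fintype.card_fin] at this
          exact this.symm))
      rw [Finset.mem_singleton] at hi'
      rw [hi'] at hij
      clear hi' i'
      have hij' : i ≠ j := fun h => hj (Finset.mem_singleton.2 h.symm)
      have hneg : a i < 0 := by
        have h0 := hsum i
        rw [← Finset.add_sum_erase _ _ (Finset.mem_univ i)] at h0
        have hpos : 0 < ∑ k ∈ Finset.univ.erase i, m k * ArSurf.inter R (Over.mk p) (L i) (Δ k) := by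
          refine Finset.sum_pos' (fun k hk => mul_nonneg (hm k).le
            (Inters29.inter_offDiag R (X := Over.mk p) hX.model.2.2 Δ hΔ L hL (Finset.ne_of_mem_erase hk)).1)
            ⟨j, Finset.mem_erase.2 ⟨hij'.symm, Finset.mem_univ _⟩, mul_pos (hm j) ?_⟩
          refine lt_of_le_of_ne (Inters29.inter_offDiag R (X := Over.mk p) hX.model.2.2 Δ hΔ L hL hij'.symm).1 fun h => hij ?_
          rw [Inters29.inter_symm_of_list R (X := Over.mk p) hX.model.2.2 Δ hΔ L hL i j, ← h]
        by_contra hge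
        have := mul_nonneg (hm i).le (not_lt.1 hge)
        show False
        change m i * a i + _ = 0 at h0
        omega
      obtain ⟨c, hc⟩ := wdeg_dvd_inter R (Δ i) (L i)
      have hc' : a i = w i * c := hc
      rcases hh i with h0 | h0
      · have hc1 : c ≠ -1 := fun h1 => hmin (Δ i) (isExcCurve_of R (Δ i) (hD i) (hL i)
          (Int.ofNat_inj.1 h0) (by rw [hc, h1, mul_neg, mul_one]))
        have hc0 : c ≤ -2 := by
          by_contra hlt
          rcases (show c = -1 ∨ 0 ≤ c by omega) with h1 | h1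
          · exact hc1 h1
          · have := mul_nonneg (hw i).le h1
            omega
        have : w i * c ≤ w i * (-2) := mul_le_mul_of_nonneg_left hc0 (hw i).le
        omega
      · omega
    have h2 : 0 ≤ ∑ i, m i * (2 * (h i - w i) - a i) := Finset.sum_nonneg fun i _ => hterm i
    change (0 : ℤ) = 2 + ∑ i, m i * (2 * (h i - w i) - a i) at hformula
    omega
  subst hn1
  have ha0 : a 0 = 0 := by
    have h0 := hsum 0
    rw [Fin.sum_univ_one] at h0
    exact (mul_eq_zero.1 h0).resolve_left (hm 0).ne'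
  change (0 : ℤ) = 2 + ∑ i, m i * (2 * (h i - w i) - a i) at hformula
  rw [Fin.sum_univ_one, ha0, sub_zero] at hformula
  have h1 : m 0 * (w 0 - h 0) = 1 := by linarith
  obtain ⟨hm1, hwh⟩ : m 0 = 1 ∧ w 0 - h 0 = 1 := by
    rcases Int.mul_eq_one_iff_eq_one_or_neg_one.1 h1 with h | h
    · exact h
    · have := hm 0; omega
  obtain ⟨hh0, hw1⟩ : h 0 = 0 ∧ w 0 = 1 := by
    have := hh 0
    omega
  have hsfI : Models.specialFibreIdeal R (Over.mk p) = (Δ 0).ι.ker := by
    rw [Inters29.specialFibreIdeal_eq_prod R Δ hX.model.2.2 hΔ, Fin.prod_univ_one,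
      show Models.mult R (Over.mk p) (Δ 0) = 1 from Int.ofNat_inj.1 hm1, pow_one]
  refine ⟨Δ 0, ⟨?_, hsfI.symm, Int.ofNat_inj.1 hw1, Int.ofNat_inj.1 hh0⟩⟩
  rw [← Inters29.support_ker_eq R (Δ 0), ← hsfI]
  exact Inters29.support_specialFibreIdeal R (X := Over.mk p)

/-- Two models are dominated by a third without a curve contracted to both. -/
theorem exists_desc_or_exc [IsIntegral C] (hC : PropCurve (FractionRing R) C f)
    {X : Scheme.{u}} {p : X ⟶ Spec (CommRingCat.of R)} {gX : C ⟶ X} (hX : GenModel R C f X p gX) :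
    ∀ {W Y : Scheme.{u}} {π : W ⟶ Y}, PtSeq π → ∀ {q : Y ⟶ Spec (CommRingCat.of R)} {gY : C ⟶ Y},
      GenModel R C f Y q gY → ∀ {gW : C ⟶ W}, GenModel R C f W (π ≫ q) gW → gW ≫ π = gY →
        ∀ g : W ⟶ X, g ≫ p = π ≫ q → gW ≫ g = gX →
          (∃ b : Y ⟶ X, π ≫ b = g) ∨
            ∃ (W' : Scheme.{u}) (π' : W' ⟶ Y) (g' : W' ⟶ X) (gW' : C ⟶ W') (F : ArSurf.VertComp R (Over.mk (π' ≫ q))),
              GenModel R C f W' (π' ≫ q) gW' ∧ g' ≫ p = π' ≫ q ∧ gW' ≫ π' = gY ∧ gW' ≫ g' = gX ∧
              Models.IsExcCurve F.ι ∧ (π'.base '' Set.range (F.ι.base : F.curve.left → W')).Subsingleton ∧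
              ¬ (g'.base '' Set.range (F.ι.base : F.curve.left → W')).Subsingleton := by
  intro W Y π hπ
  induction hπ with
  | @iso W' Y' e =>
    intro q gY hY gW hW hgW g hgp hgg
    exact Or.inl ⟨e.inv ≫ g, e.hom_inv_id_assoc g⟩
  | @step W' Z' Y' b r z hz hz0 hb hr ih =>
    intro q gY hY gW hW hgW g hgp hgg
    obtain ⟨hrp, hZ, gZ, hgZ, hZm⟩ := GenModel.of_ptSeq hC hr hY
    haveI := hrp
    haveI := hZ.integral
    haveI := hZ.noeth
    have hz1 : z ≠ genericPoint Z' := hz0
    obtain ⟨hWs, hbp, hiso⟩ := hZ.pointBlowUp z hz hz1 b hb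
    haveI := hbp
    haveI := hiso
    haveI := hWs.integral
    haveI : IsProper p := hX.model.2.1
    haveI : IsProper q := hY.model.2.1
    obtain ⟨gW', hgW', hWm'⟩ := hZm.modification b hWs.regular ⟨{z}ᶜ, hz.isOpen_compl⟩
      (fun x hx h => hx (by rw [show x = z from h]; exact hZm.hom_closed hz))
    have hWm : GenModel R C f W' ((b ≫ r) ≫ q) gW' := by rw [Category.assoc]; exact hWm'
    obtain rfl : gW = gW' := hY.eq_of_comp hW hWm (b ≫ r) hgW (by rw [reassoc_of% hgW', hgZ])
    by_cases hbi : IsIso b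
    · rcases ih hY hZm hgZ (inv b ≫ g) (by rw [Category.assoc, hgp, Category.assoc, IsIso.inv_hom_id_assoc])
        (by rw [← hgW', Category.assoc, IsIso.hom_inv_id_assoc, hgg]) with ⟨c, hc⟩ | h
      · exact Or.inl ⟨c, by rw [Category.assoc, hc, IsIso.hom_inv_id_assoc]⟩
      · exact Or.inr h
    obtain ⟨F, hF, hFr⟩ := exists_exc_vertComp hC hZm z hz hz0 b hb hbi
    let ι : F.curve.left ⟶ W' := F.ι
    by_cases hns : (g.base '' Set.range ι.base).Subsingleton
    swap
    · let F' : ArSurf.VertComp R (Over.mk ((b ≫ r) ≫ q)) :=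
        { curve := F.curve, ι := ι, isClosedImmersion := F.isClosedImmersion, isIntegral := F.isIntegral
          dim_eq := F.dim_eq, w := by show ι ≫ (b ≫ r) ≫ q = _; rw [Category.assoc]; exact F.w }
      refine Or.inr ⟨W', b ≫ r, g, gW, F', hWm, hgp, hgW, hgg, hF, ?_, hns⟩
      rintro _ ⟨v, hv, rfl⟩ _ ⟨v', hv', rfl⟩
      have k1 : ∀ w ∈ Set.range ι.base, (b ≫ r) w = r z := fun w hw => by
        rw [Scheme.Hom.comp_apply, show b w = z from hFr.le hw]
      exact (k1 v hv).trans (k1 v' hv').symm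
    haveI : X.IsSeparated := ⟨by
      rw [show terminal.from X = p ≫ terminal.from _ from terminal.hom_ext _ _]; infer_instance⟩
    obtain ⟨hgen, hbij⟩ := Coherent.birational_of_isIso_morphismRestrict b (⟨{z}ᶜ, hz.isOpen_compl⟩ : Z'.Opens)
      ⟨genericPoint Z', hz1.symm⟩
    obtain ⟨g', hg', -⟩ := exists_desc b hZ.isNormal hgen ((ConcreteCategory.isIso_iff_bijective _).2 hbij) g
      (fun y => by
        by_cases hy : y = z
        · subst hy
          rw [← show Set.range ι.base = _ from hFr]; exact hns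
        · refine Set.Subsingleton.image (fun a ha a' ha' => ?_) _
          let V : Z'.Opens := ⟨{z}ᶜ, hz.isOpen_compl⟩
          have haV : a ∈ b ⁻¹ᵁ V := by show b a ∈ V; rw [show b a = y from ha]; exact hy
          have haV' : a' ∈ b ⁻¹ᵁ V := by show b a' ∈ V; rw [show b a' = y from ha']; exact hy
          have h2 : (b ∣_ V) ⟨a, haV⟩ = (b ∣_ V) ⟨a', haV'⟩ :=
            Subtype.ext (((morphismRestrict_base_coe b V _).trans ((show b a = y from ha).trans
              (show b a' = y from ha').symm)).trans (morphismRestrict_base_coe b V _).symm)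
          exact congrArg Subtype.val ((b ∣_ V).homeomorph.injective h2))
    haveI : IsReduced Z' := inferInstance
    haveI := surjective_of_gen b hgen
    have hg'p : g' ≫ p = r ≫ q :=
      ext_of_isDominant_of_isSeparated (terminal.from (Spec (CommRingCat.of R))) (terminal.hom_ext _ _) b
        (by rw [reassoc_of% hg', hgp, Category.assoc])
    rcases ih hY hZm hgZ g' hg'p (by rw [← hgW', Category.assoc, hg', hgg]) with ⟨c, hc⟩ | h
    · exact Or.inl ⟨c, by rw [Category.assoc, hc, hg']⟩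
    · exact Or.inr h

/-- Non-isomorphic minimal models are dominated by a model with an exceptional curve contracted to the second
but not to the first. -/
theorem exists_iso_or_exc [IsIntegral C] (hC : PropCurve (FractionRing R) C f)
    {X Y : Scheme.{u}} {p : X ⟶ Spec (CommRingCat.of R)} {q : Y ⟶ Spec (CommRingCat.of R)} {gX : C ⟶ X} {gY : C ⟶ Y}
    (hX : GenModel R C f X p gX) (hY : GenModel R C f Y q gY)
    (hmin : ∀ Γ : ArSurf.VertComp R (Over.mk q), ¬ Models.IsExcCurve Γ.ι) :
    (∃ e : Y ≅ X, e.hom ≫ p = q ∧ gY ≫ e.hom = gX) ∨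
      ∃ (W : Scheme.{u}) (π : W ⟶ Y) (g : W ⟶ X) (gW : C ⟶ W) (F : ArSurf.VertComp R (Over.mk (π ≫ q))),
        GenModel R C f W (π ≫ q) gW ∧ g ≫ p = π ≫ q ∧ gW ≫ π = gY ∧ gW ≫ g = gX ∧
        Models.IsExcCurve F.ι ∧ (π.base '' Set.range (F.ι.base : F.curve.left → W)).Subsingleton ∧
        ¬ (g.base '' Set.range (F.ι.base : F.curve.left → W)).Subsingleton := by
  haveI := hY.isOpenImmersion
  haveI := hY.isIntegral
  haveI := hX.isIntegral
  haveI : IsProper p := hX.model.2.1
  haveI : IsProper q := hY.model.2.1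
  let φ : (gY.opensRange : Scheme.{u}) ⟶ X := gY.isoOpensRange.inv ≫ gX
  have hφ : φ ≫ p = gY.opensRange.ι ≫ q := by
    show (_ ≫ gX) ≫ p = _
    rw [Category.assoc, hX.pullback.w, ← hY.pullback.w, Scheme.Hom.isoOpensRange_inv_comp_assoc]
  obtain ⟨W, π, g, _, hW, hπ, hπp, hgp, hU⟩ := exists_ptSeq_extend (hY.regSurf hC) q p gY.opensRange
    ⟨_, Set.mem_range_self (genericPoint C)⟩ φ hφ
  obtain ⟨-, -, gW, hgW, hWm⟩ := GenModel.of_ptSeq hC hπ hY
  have hr : Set.range gW.base ⊆ Set.range (π ⁻¹ᵁ gY.opensRange).ι.base := by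
    rw [Scheme.Opens.range_ι]
    rintro _ ⟨c, rfl⟩
    show π (gW c) ∈ gY.opensRange
    rw [← Scheme.Hom.comp_apply, hgW]
    exact ⟨c, rfl⟩
  let l := IsOpenImmersion.lift (π ⁻¹ᵁ gY.opensRange).ι gW hr
  have hl : l ≫ (π ⁻¹ᵁ gY.opensRange).ι = gW := IsOpenImmersion.lift_fac _ _ _
  have hlπ : l ≫ (π ∣_ gY.opensRange) = gY.isoOpensRange.hom := by
    rw [← cancel_mono gY.opensRange.ι, Category.assoc, morphismRestrict_ι, reassoc_of% hl, hgW,
      Scheme.Hom.isoOpensRange_hom_ι]
  have hgg : gW ≫ g = gX := by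
    rw [← hl, Category.assoc, hU, reassoc_of% hlπ]
    exact gY.isoOpensRange.hom_inv_id_assoc gX
  rcases exists_desc_or_exc hC hX hπ hY hWm hgW g hgp hgg with ⟨b, hb⟩ | h
  swap
  · exact Or.inr h
  left
  have hbg : gY ≫ b = gX := by rw [← hgW, Category.assoc, hb, hgg]
  have hdom : IsDominant gY := ⟨gY.isOpenEmbedding.isOpen_range.dense (Set.range_nonempty gY)⟩
  have hbp : b ≫ p = q := by
    refine ext_of_isDominant_of_isSeparated (terminal.from (Spec (CommRingCat.of R))) (terminal.hom_ext _ _) gY ?_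
    rw [reassoc_of% hbg, hX.pullback.w, hY.pullback.w]
  rcases (hY.ptSeq hC hX b hbp hbg).exists_first with hi | ⟨Z, b', r, z, hz, hz0, hbi, hb', hr', hbr⟩
  · exact ⟨asIso b, hbp, hbg⟩
  exfalso
  obtain ⟨-, hZ, gZ, -, hZm⟩ := GenModel.of_ptSeq hC hr' hX
  haveI := hZ.integral
  obtain ⟨E, hE, -⟩ := exists_exc_vertComp hC hZm z hz hz0 b' hb' hbi
  refine hmin { curve := E.curve, ι := E.ι, isClosedImmersion := E.isClosedImmersion, isIntegral := E.isIntegral,
                dim_eq := E.dim_eq, w := ?_ } hE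
  show (show E.curve.left ⟶ Y from E.ι) ≫ q = _
  rw [← hbp, ← hbr, Category.assoc]
  exact E.w

/-- A morphism of models is birational with connected fibres. -/
theorem GenModel.birational [IsIntegral C] {W X : Scheme.{u}} {q : W ⟶ Spec (CommRingCat.of R)}
    {p : X ⟶ Spec (CommRingCat.of R)} {gW : C ⟶ W} {gX : C ⟶ X} (hW : GenModel R C f W q gW)
    (hX : GenModel R C f X p gX) (b : W ⟶ X) (hb : b ≫ p = q) (hg : gW ≫ b = gX) :
    haveI := hW.isIntegral
    haveI := hX.isIntegral
    IsProper b ∧ b (genericPoint W) = genericPoint X ∧ IsIso (b.stalkMap (genericPoint W)) := by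
  haveI := hW.isIntegral
  haveI := hX.isIntegral
  haveI := hX.isOpenImmersion
  haveI := hW.isIso_over_generic hX b hb hg
  haveI : IsProper p := hX.model.2.1
  haveI : IsProper q := hW.model.2.1
  haveI : IsProper (b ≫ p) := by rw [hb]; infer_instance
  obtain ⟨h1, h2⟩ := Coherent.birational_of_isIso_morphismRestrict b gX.opensRange ⟨_, Set.mem_range_self (genericPoint C)⟩
  exact ⟨IsProper.of_comp b p, h1, (ConcreteCategory.isIso_iff_bijective _).2 h2⟩

/-- If a minimal model in genus zero is not isomorphic to another one, its closed fibre is a projective line. -/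
theorem fibre_iso_projLine [IsIntegral C] (hC : PropCurve (FractionRing R) C f)
    {X Y : Scheme.{u}} {p : X ⟶ Spec (CommRingCat.of R)} {q : Y ⟶ Spec (CommRingCat.of R)} {gX : C ⟶ X} {gY : C ⟶ Y}
    (hX : GenModel R C f X p gX) (hY : GenModel R C f Y q gY)
    {Γ : ArSurf.VertComp R (Over.mk p)} (hΓ : IntFibre p Γ) {Δ : ArSurf.VertComp R (Over.mk q)} (hΔ : IntFibre q Δ)
    {W : Scheme.{u}} (π : W ⟶ Y) (g : W ⟶ X) {gW : C ⟶ W} (F : ArSurf.VertComp R (Over.mk (π ≫ q)))
    (hW : GenModel R C f W (π ≫ q) gW) (hgp : g ≫ p = π ≫ q) (hgY : gW ≫ π = gY) (hgX : gW ≫ g = gX)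
    (hF : Models.IsExcCurve F.ι) (hFπ : (π.base '' Set.range (F.ι.base : F.curve.left → W)).Subsingleton)
    (hFg : ¬ (g.base '' Set.range (F.ι.base : F.curve.left → W)).Subsingleton) :
    ∃ e : Γ.curve.left ≅ CohB1.ProjSpace 1 (ResidueField R),
      e.hom ≫ CohB1.ProjSpace.toSpec 1 (ResidueField R) = Γ.curve.hom := by
  classical
  let k := ResidueField R
  haveI := hX.isIntegral
  haveI := hY.isIntegral
  haveI := hW.isIntegral
  obtain ⟨hgP, hggen, hgbir⟩ := hW.birational hX g hgp hgX
  obtain ⟨hπP, hπgen, hπbir⟩ := hW.birational hY π rfl hgY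
  haveI := hgP
  haveI := hπP
  haveI : IsProper p := hX.model.2.1
  haveI : IsProper q := hY.model.2.1
  haveI : IsLocallyNoetherian X := LocallyOfFiniteType.isLocallyNoetherian p
  haveI : IsLocallyNoetherian Y := LocallyOfFiniteType.isLocallyNoetherian q
  let OX : Over (Spec (CommRingCat.of R)) := Over.mk p
  let OW : Over (Spec (CommRingCat.of R)) := Over.mk (π ≫ q)
  haveI : IsIntegral OW.left := inferInstanceAs (IsIntegral W)
  haveI : IsProper OW.hom := hW.model.2.1
  haveI : Flat OW.hom := hW.model.1.1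
  haveI : IsLocallyNoetherian OW.left := LocallyOfFiniteType.isLocallyNoetherian OW.hom
  haveI : IsIntegral OX.left := inferInstanceAs (IsIntegral X)
  haveI : IsProper OX.hom := hX.model.2.1
  haveI : Flat OX.hom := hX.model.1.1
  haveI : IsLocallyNoetherian OX.left := inferInstanceAs (IsLocallyNoetherian X)
  have hXS := hX.regSurf hC
  have hYS := hY.regSurf hC
  have hXn := hXS.isNormal
  have hregW : ∀ w : OW.left, IsRegularLocalRing (OW.left.presheaf.stalk w) := hW.model.2.2
  have hdimW : topologicalKrullDim OW.left = 2 := (hW.isArithSurface hC).2.2.1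
  -- the components of the dominating model
  obtain ⟨n, Ξ, hΞ⟩ := Inters29.exists_componentList R (X := OW) hdimW
  obtain ⟨i₀, hi₀⟩ := Inters29.exists_range_eq R (X := OW) hregW hdimW.le Ξ hΞ F
  let gp : Fin n → W := fun j => (Ξ j).ι (genericPoint (Ξ j).curve.left)
  have hgp_spec : ∀ j, (π ≫ q) (gp j) = closedPoint R :=
    fun j => Inters29.range_subset_specialFibreSet R (Ξ j) ⟨_, rfl⟩
  have hD := Inters29.isEffCartier_listComp R Ξ hregW hΞ
  choose M hM using fun i => Inters29.exists_inverse_ker R (X := OW) hregW (hD i)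
  haveI : ∀ i, IsProper (Ξ i).curve.hom := fun i => Inters29.isProper_curve R (Ξ i)
  haveI : IsClosedImmersion (show F.curve.left ⟶ W from F.ι) := F.isClosedImmersion
  have hiE : Models.IsExcCurve (Ξ i₀).ι :=
    isExcCurve_of_range_eq (show F.curve.left ⟶ W from F.ι) (Ξ i₀).ι hi₀ hF
  rw [hi₀] at hFπ hFg
  -- the generic points of the closed fibres
  let γ : X := Γ.ι (genericPoint Γ.curve.left)
  have hγgen : IsGenericPoint γ (Models.specialFibreSet R OX) := hΓ.range_eq ▸ Inters29.genPt_isGenericPoint R Γ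
  have hγη : γ ≠ genericPoint X := fun h => hX.genericPoint_ne (by rw [← h]; exact hγgen.mem)
  have hγc : ¬ IsClosed ({γ} : Set X) := fun h => by
    obtain ⟨y, hy⟩ := Inters29.exists_ne_genericPoint R Γ
    exact hy (Γ.ι.isClosedEmbedding.injective
      (((genericPoint_specializes y).map Γ.ι.continuous).mem_closed h rfl))
  have hclX : ∀ y : X, p y = closedPoint R → y ≠ γ → IsClosed ({y} : Set X) := fun y hy hne =>
    isClosed_of_specializes_dim_two hXS.dim (hγgen.specializes hy) hne.symm hγη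
  haveI hvγ : ValuationRing (X.presheaf.stalk γ) := valuationRing_of_not_closed hXn hXS.dim hγc
  have hoverγ : ∀ a a' : W, g a = γ → g a' = γ → a = a' := fun a a' ha ha' => by
    haveI : ValuationRing (X.presheaf.stalk (g a)) := by rw [ha]; exact hvγ
    haveI : W.IsSeparated := ⟨by
      rw [show terminal.from W = (π ≫ q) ≫ terminal.from _ from terminal.hom_ext _ _]; infer_instance⟩
    exact eq_of_valuationRing g hggen hgbir (ha'.trans ha.symm)
  -- all components but one are contracted by `g`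
  have hsub : ∀ j, g.base '' Set.range (Ξ j).ι.base ⊆ closure {g (gp j)} := by
    rintro j _ ⟨v, ⟨w, rfl⟩, rfl⟩
    exact specializes_iff_mem_closure.1
      (((genericPoint_specializes w).map (Ξ j).ι.continuous).map g.continuous)
  have hor : ∀ j, g (gp j) = γ ∨ (g.base '' Set.range (Ξ j).ι.base).Subsingleton := fun j => by
    by_cases h : g (gp j) = γ
    · exact Or.inl h
    · right
      have hc := hclX (g (gp j)) (by rw [← Scheme.Hom.comp_apply, hgp]; exact hgp_spec j) h
      exact Set.subsingleton_singleton.anti ((hsub j).trans hc.closure_eq.le)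
  have hi₀γ : g (gp i₀) = γ := (hor i₀).resolve_right hFg
  have hcontr : ∀ j, j ≠ i₀ → g (gp j) ≠ γ ∧ IsClosed ({g (gp j)} : Set X) ∧
      ∀ v ∈ Set.range (Ξ j).ι.base, g v = g (gp j) := fun j hj => by
    have h1 : g (gp j) ≠ γ := fun h => hj (Inters29.genPt_injective R Ξ hΞ (hoverγ _ _ h hi₀γ))
    exact ⟨h1, hclX (g (gp j)) (by rw [← Scheme.Hom.comp_apply, hgp]; exact hgp_spec j) h1,
      fun v hv => (hor j).resolve_left h1 ⟨v, hv, rfl⟩ ⟨_, ⟨_, rfl⟩, rfl⟩⟩
  have hspecial : ∀ v : W, (π ≫ q) v = closedPoint R → ∃ j, v ∈ Set.range (Ξ j).ι.base := fun v hv => by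
    obtain ⟨j, hj⟩ := Inters29.exists_genPt_specializes R Ξ hΞ (z := v) hv
    exact ⟨j, hj.mem_closed (Ξ j).ι.isClosedEmbedding.isClosed_range ⟨_, rfl⟩⟩
  -- the bad points
  let Bad : Set X := (fun j => g (gp j)) '' {j | j ≠ i₀}
  have hFsurj : ∀ y : X, p y = closedPoint R → ∃ v ∈ Set.range (Ξ i₀).ι.base, g v = y := fun y hy =>
    (hi₀γ ▸ hγgen.specializes hy : g (gp i₀) ⤳ y).mem_closed
      (g.isClosedMap _ (Ξ i₀).ι.isClosedEmbedding.isClosed_range) ⟨gp i₀, ⟨_, rfl⟩, rfl⟩
  have hconn := fun y => isPreconnected_preimage g hXn hggen hgbir y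
  have hmeet : ∀ y ∈ Bad, ∃ j, j ≠ i₀ ∧ g (gp j) = y ∧ 0 < ArSurf.inter R OW (M j) (Ξ i₀) := by
    rintro y ⟨j₁, hj₁, rfl⟩
    have hy : p (g (gp j₁)) = closedPoint R := by rw [← Scheme.Hom.comp_apply, hgp]; exact hgp_spec j₁
    let y := g (gp j₁)
    let fib : Set W := g.base ⁻¹' {y}
    let A : Set W := Set.range (Ξ i₀).ι.base
    let B : Set W := ⋃ j ∈ {j | j ≠ i₀ ∧ g (gp j) = y}, Set.range (Ξ j).ι.base
    have hA : IsClosed A := (Ξ i₀).ι.isClosedEmbedding.isClosed_range
    have hB : IsClosed B := (Set.toFinite _).isClosed_biUnion fun j _ => (Ξ j).ι.isClosedEmbedding.isClosed_range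
    have hcov : fib ⊆ A ∪ B := by
      intro v hv
      have hv' : g v = y := hv
      obtain ⟨j, hj⟩ := hspecial v (by rw [← hgp, Scheme.Hom.comp_apply, hv']; exact hy)
      rcases eq_or_ne j i₀ with rfl | hne
      · exact Or.inl hj
      · exact Or.inr (Set.mem_iUnion₂.2 ⟨j, ⟨hne, ((hcontr j hne).2.2 v hj).symm.trans hv'⟩, hj⟩)
    obtain ⟨v₀, hv₀, hv₀y⟩ := hFsurj y hy
    obtain ⟨c, hc, hcA, hcB⟩ := isPreconnected_closed_iff.1 (hconn y) A B hA hB hcov ⟨v₀, hv₀y, hv₀⟩
      ⟨gp j₁, rfl, Set.mem_iUnion₂.2 ⟨j₁, ⟨hj₁, rfl⟩, ⟨_, rfl⟩⟩⟩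
    obtain ⟨j, ⟨hj, hjy⟩, hcj⟩ := Set.mem_iUnion₂.1 hcB
    obtain ⟨h0, h0'⟩ := Inters29.inter_offDiag R hregW Ξ hΞ M hM hj.symm
    exact ⟨j, hj, hjy, lt_of_le_of_ne h0 fun h => Set.disjoint_left.1 (h0'.1 h.symm) hcA hcj⟩
  -- intersection numbers with the exceptional curve
  let m : Fin n → ℤ := fun j => (Models.mult R OW (Ξ j) : ℤ)
  have hm : ∀ j, 0 < m j := fun j => Int.natCast_pos.2 (Inters29.mult_pos' R Ξ hΞ hregW j)
  let N : Fin n → ℤ := fun j => ArSurf.inter R OW (M j) (Ξ i₀)
  let w : ℤ := (Models.wdeg R OW (Ξ i₀) : ℤ)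
  have hw : 0 < w := Int.natCast_pos.2 (wdeg_pos_and_dvd R (Ξ i₀)).1
  have hwN : ∀ j, 0 < N j → w ≤ N j := fun j hj => Int.le_of_dvd hj (wdeg_dvd_inter R (Ξ i₀) (M j))
  obtain ⟨hh1F, hself⟩ := of_isExcCurve R (Ξ i₀) hiE (hM i₀)
  -- stalks over the generic point of the fibre
  have hstalkγ : IsIso (g.stalkMap (gp i₀)) := by
    haveI : ValuationRing (X.presheaf.stalk (g (gp i₀))) := by rw [hi₀γ]; exact hvγ
    exact isIso_stalkMap_of_valuationRing g hggen hgbir _
  haveI := hstalkγ
  have hmultγ : Models.mult R OX Γ = 1 := by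
    have hlist : Models.IsComponentList R OX (fun _ : Fin 1 => Γ) := by
      refine ⟨fun a b _ => Subsingleton.elim a b, ?_⟩
      rw [Set.range_const]
      refine Set.eq_singleton_iff_unique_mem.2 ⟨?_, ?_⟩ |>.symm
      · rw [hΓ.range_eq]
        exact ⟨⟨hγgen.isIrreducible, le_rfl⟩, fun S hS _ => hS.2⟩
      · rintro S ⟨hS, hmax⟩
        rw [hΓ.range_eq]
        exact hS.2.antisymm (hmax ⟨hγgen.isIrreducible, le_rfl⟩ hS.2)
    have h := Inters29.stk_specialFibreIdeal_genPt R (X := OX) (fun _ : Fin 1 => Γ) hX.model.2.2 hlist 0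
    rw [← hΓ.ker_eq] at h
    have hDΓ := Inters29.isEffCartier_listComp R (X := OX) (fun _ : Fin 1 => Γ) hX.model.2.2 hlist 0
    obtain ⟨_, hdvr⟩ := SDiv28.StalkCartier.exists_dvr hDΓ _ (isGenericPoint_gen Γ.ι.ker)
    rw [stk_gen hDΓ] at h
    have hne : maximalIdeal (OX.left.presheaf.stalk (gen Γ.ι.ker)) ≠ ⊥ := IsDiscreteValuationRing.not_a_field _
    by_contra hne1
    obtain ⟨π', hπ'⟩ := IsDiscreteValuationRing.exists_irreducible (OX.left.presheaf.stalk (gen Γ.ι.ker))
    rw [hπ'.maximalIdeal_eq, Ideal.span_singleton_pow, Ideal.span_singleton_eq_span_singleton] at h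
    obtain ⟨u, hu⟩ := h
    rcases Nat.lt_or_ge (Models.mult R OX Γ) 1 with h0 | h0
    · rw [Nat.lt_one_iff.1 h0, pow_zero] at hu
      exact hπ'.not_isUnit (IsUnit.of_mul_eq_one _ hu)
    · obtain ⟨c, hc⟩ := pow_dvd_pow π' (show 2 ≤ Models.mult R OX Γ by omega)
      rw [hc, pow_two, mul_assoc] at hu
      have h1 : (u : OX.left.presheaf.stalk (gen Γ.ι.ker)) = π' * c :=
        mul_left_cancel₀ hπ'.ne_zero hu
      exact hπ'.not_isUnit (isUnit_of_mul_isUnit_left (h1 ▸ u.isUnit))
  have hm₀ : m i₀ = 1 := by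
    show ((Models.mult R OW (Ξ i₀) : ℕ) : ℤ) = 1
    rw [← Nat.cast_one, Nat.cast_inj, ← hmultγ]
    unfold Models.mult
    exact congrArg ENat.toNat (length_fibre_eq g hgp (gp i₀) hi₀γ).symm
  have hsumN : ∑ j ∈ Finset.univ.erase i₀, m j * N j = w := by
    have h := Inters29.sum_mult_mul_inter R hregW Ξ hΞ M hM (Ξ i₀)
    rw [← Finset.add_sum_erase _ _ (Finset.mem_univ i₀)] at h
    change m i₀ * N i₀ + ∑ j ∈ Finset.univ.erase i₀, m j * N j = 0 at h
    rw [hm₀, show N i₀ = -w from hself] at h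
    omega
  -- exactly one component meets the exceptional curve
  have hnn : ∀ j ∈ Finset.univ.erase i₀, 0 ≤ m j * N j := fun j hj =>
    mul_nonneg (hm j).le (Inters29.inter_offDiag R hregW Ξ hΞ M hM (Finset.ne_of_mem_erase hj).symm).1
  have hwm : ∀ j, 0 < N j → w ≤ m j * N j := fun j hj =>
    (hwN j hj).trans (by nlinarith [hm j])
  have huniq : ∀ j j', j ≠ i₀ → j' ≠ i₀ → 0 < N j → 0 < N j' → j = j' := by
    intro j j' hj hj' hN hN'
    by_contra hne
    have h2 : ∑ k ∈ ({j, j'} : Finset (Fin n)), m k * N k ≤ ∑ k ∈ Finset.univ.erase i₀, m k * N k :=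
      Finset.sum_le_sum_of_subset_of_nonneg (fun k hk => by
        rcases Finset.mem_insert.1 hk with rfl | hk
        · exact Finset.mem_erase.2 ⟨hj, Finset.mem_univ _⟩
        · rw [Finset.mem_singleton.1 hk]; exact Finset.mem_erase.2 ⟨hj', Finset.mem_univ _⟩)
        fun k hk _ => hnn k hk
    rw [hsumN, Finset.sum_pair hne] at h2
    linarith [hwm j hN, hwm j' hN']
  obtain ⟨k₀, hk₀, hNk₀⟩ : ∃ j, j ≠ i₀ ∧ 0 < N j := by
    obtain ⟨j, hj, hj0⟩ := Finset.exists_ne_zero_of_sum_ne_zero (hsumN ▸ hw.ne')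
    refine ⟨j, Finset.ne_of_mem_erase hj, ?_⟩
    rcases (Inters29.inter_offDiag R hregW Ξ hΞ M hM (Finset.ne_of_mem_erase hj).symm).1.lt_or_eq with h | h
    · exact h
    · exact absurd (show m j * N j = 0 by rw [show N j = 0 from h.symm, mul_zero]) hj0
  let x : X := g (gp k₀)
  have hBad : ∀ y ∈ Bad, y = x := fun y hy => by
    obtain ⟨j, hj, hjy, hjN⟩ := hmeet y hy
    rw [← hjy, huniq j k₀ hj hk₀ hjN hNk₀]
  have hxs : p x = closedPoint R := by rw [← Scheme.Hom.comp_apply, hgp]; exact hgp_spec k₀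
  -- the other model gives a curve of multiplicity one over `x`
  let δ : Y := Δ.ι (genericPoint Δ.curve.left)
  have hδgen : IsGenericPoint δ (Models.specialFibreSet R (Over.mk q)) :=
    hΔ.range_eq ▸ Inters29.genPt_isGenericPoint R Δ
  have hδc : ¬ IsClosed ({δ} : Set Y) := fun h => by
    obtain ⟨y, hy⟩ := Inters29.exists_ne_genericPoint R Δ
    exact hy (Δ.ι.isClosedEmbedding.injective
      (((genericPoint_specializes y).map Δ.ι.continuous).mem_closed h rfl))
  obtain ⟨a, ha⟩ := (surjective_of_gen π hπgen).surj δ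
  obtain ⟨j₀, hj₀⟩ := hspecial a (by rw [Scheme.Hom.comp_apply, show π a = δ from ha]; exact hδgen.mem)
  have hj₀i : j₀ ≠ i₀ := by
    rintro rfl
    refine hδc ?_
    have hcl := π.isClosedMap _ (Ξ j₀).ι.isClosedEmbedding.isClosed_range
    have : π.base '' Set.range (Ξ j₀).ι.base = {δ} :=
      Set.Subset.antisymm (fun v hv => hFπ hv ⟨a, hj₀, ha⟩) (Set.singleton_subset_iff.2 ⟨a, hj₀, ha⟩)
    rwa [this] at hcl
  have hga : g a = x :=
    ((hcontr j₀ hj₀i).2.2 a hj₀).trans (hBad _ ⟨j₀, hj₀i, rfl⟩)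
  obtain ⟨ϖ, hϖ⟩ := IsDiscreteValuationRing.exists_irreducible R
  have hvδ : ValuationRing (Y.presheaf.stalk (π a)) := by
    rw [show π a = δ from ha]; exact valuationRing_of_not_closed hYS.isNormal hYS.dim hδc
  haveI := hvδ
  haveI := isIso_stalkMap_of_valuationRing π hπgen hπbir a
  have hϖ2 : Models.stalkHom R OX x ϖ ∉ maximalIdeal (OX.left.presheaf.stalk x) ^ 2 := by
    intro hmem
    let S := W.presheaf.stalk a
    let sW := Models.stalkHom R OW a ϖ
    have h1 : sW ∈ maximalIdeal S ^ 2 := by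
      have key : ∀ z : X, g a = z → Models.stalkHom R OX z ϖ ∈ maximalIdeal (X.presheaf.stalk z) ^ 2 →
          sW ∈ maximalIdeal S ^ 2 := by
        rintro z rfl hz
        show Models.stalkHom R (Over.mk (π ≫ q)) a ϖ ∈ _
        rw [← stalkHom_comp g hgp a]
        have h3 := Ideal.mem_map_of_mem (g.stalkMap a).hom hz
        rw [Ideal.map_pow] at h3
        refine Ideal.pow_right_mono (Ideal.map_le_iff_le_comap.2 fun c hc => ?_) 2 h3
        rw [Ideal.mem_comap]
        exact map_nonunit (g.stalkMap a).hom c hc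
      exact key x hga hmem
    have hmax : maximalIdeal S = Ideal.span {sW} := by
      have hker : stk (Models.specialFibreIdeal R (Over.mk q)) (π a) = maximalIdeal (Y.presheaf.stalk (π a)) := by
        rw [← hΔ.ker_eq, ha, show δ = gen Δ.ι.ker from (Inters29.gen_ker R Δ).symm]
        haveI : IsIntegral (Over.mk q).left := inferInstanceAs (IsIntegral Y)
        haveI : IsLocallyNoetherian (Over.mk q).left := inferInstanceAs (IsLocallyNoetherian Y)
        haveI : Flat (Over.mk q).hom := hY.model.1.1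
        exact stk_gen (Inters29.isEffCartier_comp R (X := Over.mk q) hY.model.2.2 hYS.dim Δ)
      rw [Inters29.stk_specialFibreIdeal_span R (X := Over.mk q) hϖ] at hker
      refine le_antisymm (fun s hs => ?_) ?_
      · obtain ⟨c, rfl⟩ := (ConcreteCategory.bijective_of_isIso (π.stalkMap a)).2 s
        have hc : c ∈ maximalIdeal (Y.presheaf.stalk (π a)) := fun hu => hs (hu.map (π.stalkMap a).hom)
        rw [← hker] at hc
        obtain ⟨r, rfl⟩ := Ideal.mem_span_singleton'.1 hc
        rw [map_mul]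
        refine Ideal.mul_mem_left _ _ (Ideal.subset_span ?_)
        show _ = Models.stalkHom R (Over.mk (π ≫ q)) a ϖ
        rw [← stalkHom_comp π rfl a]
        rfl
      · rw [Ideal.span_le, Set.singleton_subset_iff]
        exact Ideal.pow_le_self two_ne_zero h1
    rw [hmax, Ideal.span_singleton_pow, Ideal.mem_span_singleton'] at h1
    obtain ⟨c, hc⟩ := h1
    have hs0 : sW ≠ 0 := fun h => hϖ.ne_zero (Inters29.stalkHom_injective R (X := OW) a (h.trans (map_zero _).symm))
    haveI : IsRegularLocalRing S := hregW a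
    haveI : IsDomain S := CAlgH3.isDomain_of_isRegularLocalRing S
    have h2 : c * sW = 1 := mul_right_cancel₀ hs0 (by rw [one_mul, mul_assoc, ← sq]; exact hc)
    exact (hmax.ge (Ideal.mem_span_singleton_self sW) : sW ∈ maximalIdeal S) (IsUnit.of_mul_eq_one_right c h2)
  -- the fibre is regular at `x`
  let ιΓ : Γ.curve.left ⟶ X := Γ.ι
  let ιF : (Ξ i₀).curve.left ⟶ W := (Ξ i₀).ι
  haveI : IsClosedImmersion ιΓ := Γ.isClosedImmersion
  haveI : IsClosedImmersion ιF := (Ξ i₀).isClosedImmersion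
  haveI := Γ.isIntegral
  haveI := (Ξ i₀).isIntegral
  haveI := Inters29.isProper_curve R (X := OX) Γ
  haveI : IsLocallyNoetherian Γ.curve.left := LocallyOfFiniteType.isLocallyNoetherian Γ.curve.hom
  obtain ⟨x', hx'⟩ : x ∈ Set.range ιΓ.base := by
    have : x ∈ Models.specialFibreSet R OX := hxs
    rwa [← hΓ.range_eq] at this
  have hvx : ValuationRing (Γ.curve.left.presheaf.stalk x') := by
    have key : ∀ z : X, z = ιΓ x' → Models.stalkHom R OX z ϖ ∉ maximalIdeal (X.presheaf.stalk z) ^ 2 →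
        p z = closedPoint R → ValuationRing (Γ.curve.left.presheaf.stalk x') := by
      rintro z rfl hz hzs
      haveI : IsRegularLocalRing (X.presheaf.stalk (ιΓ x')) := hX.model.2.2 _
      obtain ⟨hreg', hdim'⟩ := CAlgH3.regular_quotient_of_notMem_sq (A := X.presheaf.stalk (ιΓ x'))
        (Inters29.mem_maximalIdeal_stalkHom R (X := OX) hϖ (x := ιΓ x') hzs) hz
      have hk : RingHom.ker (ιΓ.stalkMap x').hom = Ideal.span {Models.stalkHom R OX (ιΓ x') ϖ} := by
        rw [Inters29.ker_stalkMap_eq_stk ιΓ x', hΓ.ker_eq]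
        exact Inters29.stk_specialFibreIdeal_span R (X := OX) hϖ _
      let e : (X.presheaf.stalk (ιΓ x') ⧸ Ideal.span {Models.stalkHom R OX (ιΓ x') ϖ}) ≃+*
          Γ.curve.left.presheaf.stalk x' :=
        (Ideal.quotEquivOfEq hk.symm).trans (RingHom.quotientKerEquivOfSurjective (ιΓ.stalkMap_surjective x'))
      haveI : IsRegularLocalRing (Γ.curve.left.presheaf.stalk x') :=
        @IsRegularLocalRing.of_ringEquiv _ _ hreg' _ _ e
      haveI := CAlgH3.isIntegrallyClosed_of_regular (Γ.curve.left.presheaf.stalk x')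
      exact valuationRing_of_dim_le_one
        ((CurvesLib24.stalk_dim_le_topologicalKrullDim x').trans Γ.dim_eq.le)
    exact key x hx'.symm hϖ2 hxs
  -- the curve maps isomorphically
  have hker_le : ιΓ.ker ≤ (ιF ≫ g).ker := by
    rw [Props12.ker_eq_vanishingIdeal, Props12.ker_eq_vanishingIdeal]
    refine Scheme.IdealSheafData.vanishingIdeal_antimono ?_
    show closure (Set.range (ιF ≫ g).base) ≤ closure (Set.range ιΓ.base)
    refine closure_mono ?_
    rintro _ ⟨v, rfl⟩
    rw [show Set.range ιΓ.base = _ from hΓ.range_eq]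
    show p ((ιF ≫ g) v) = closedPoint R
    rw [Scheme.Hom.comp_apply, ← Scheme.Hom.comp_apply g p, hgp]
    exact Inters29.range_subset_specialFibreSet R (Ξ i₀) ⟨v, rfl⟩
  let h := IsClosedImmersion.lift ιΓ (ιF ≫ g) hker_le
  have hh : h ≫ ιΓ = ιF ≫ g := IsClosedImmersion.lift_fac _ _ _
  have hhapp : ∀ v, ιΓ (h v) = g (ιF v) := fun v => by
    rw [← Scheme.Hom.comp_apply, hh, Scheme.Hom.comp_apply]
  have hcomm : h ≫ Γ.curve.hom = (Ξ i₀).curve.hom := by
    haveI : IsClosedImmersion (Spec.map (CommRingCat.ofHom (IsLocalRing.residue R))) :=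
      IsClosedImmersion.spec_of_surjective _ IsLocalRing.residue_surjective
    rw [← cancel_mono (Spec.map (CommRingCat.ofHom (IsLocalRing.residue R))), Category.assoc,
      ← show ιΓ ≫ p = _ from Γ.w, ← show ιF ≫ π ≫ q = _ from (Ξ i₀).w, reassoc_of% hh, hgp]
  let K := (Ξ i₀).curve.left
  haveI : IsProper (h ≫ Γ.curve.hom) := by rw [hcomm]; infer_instance
  haveI : IsProper h := IsProper.of_comp h Γ.curve.hom
  have hhgen : h (genericPoint K) = genericPoint Γ.curve.left :=
    ιΓ.isClosedEmbedding.injective ((hhapp _).trans hi₀γ)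
  have hsurj_good : ∀ v, IsIso (g.stalkMap (ιF v)) → Function.Surjective (h.stalkMap v) := by
    intro v hv
    refine surjective_stalkMap_of_comp h ιΓ (ιF ≫ g) hh v ?_
    rw [Scheme.Hom.stalkMap_comp]
    exact (ιF.stalkMap_surjective v).comp (ConcreteCategory.bijective_of_isIso (g.stalkMap (ιF v))).2
  have hbirh : IsIso (h.stalkMap (genericPoint K)) := by
    haveI : IsDominant h := ⟨by
      refine dense_iff_closure_eq.2 (Set.eq_univ_of_univ_subset ?_)
      rw [← genericPoint_closure Γ.curve.left]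
      exact closure_mono (Set.singleton_subset_iff.2 ⟨_, hhgen⟩)⟩
    exact (ConcreteCategory.isIso_iff_bijective _).2
      ⟨CurvesLib24.stalkMap_injective h _, hsurj_good _ hstalkγ⟩
  have hgood : ∀ v, h v ≠ x' → IsIso (g.stalkMap (ιF v)) ∧ ∀ v', h v' = h v → v' = v := by
    intro v hv
    have hBc : IsClosed Bad := by
      rw [← Set.biUnion_of_singleton Bad]
      refine ((Set.toFinite {j : Fin n | j ≠ i₀}).image _).isClosed_biUnion fun y hy => ?_
      obtain ⟨j, hj, rfl⟩ := hy
      exact (hcontr j hj).2.1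
    haveI : IsLocallyNoetherian W := inferInstanceAs (IsLocallyNoetherian OW.left)
    haveI : CompactSpace W := QuasiCompact.compactSpace_of_compactSpace (π ≫ q)
    let V : X.Opens := ⟨Badᶜ, hBc.isOpen_compl⟩
    have hfibs : ∀ y ∈ V, (g.base ⁻¹' {y}).Subsingleton := by
      intro y hyV
      by_cases hys : p y = closedPoint R
      · by_cases hyγ : y = γ
        · subst hyγ; exact fun a ha b hb => hoverγ a b ha hb
        · have hyc := hclX y hys hyγ
          refine subsingleton_of_closedPoints (hyc.preimage g.continuous) (hconn y) fun v hv => ?_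
          have hv' : g v = y := hv
          obtain ⟨j, hj⟩ := hspecial v (by rw [← hgp, Scheme.Hom.comp_apply, hv']; exact hys)
          rcases eq_or_ne j i₀ with rfl | hne
          · obtain ⟨v₁, rfl⟩ := hj
            rcases CurvesLib24.eq_genericPoint_or_isClosed (Ξ j).dim_eq.le v₁ with h1 | h1
            · exact absurd (by rw [← hv', h1]; exact hi₀γ) hyγ
            · rw [← Set.image_singleton]; exact (Ξ j).ι.isClosedEmbedding.isClosedMap _ h1
          · exact absurd ⟨j, hne, ((hcontr j hne).2.2 v hj).symm.trans hv'⟩ hyV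
      · haveI := hX.isOpenImmersion
        haveI := hW.isIso_over_generic hX g hgp hgX
        have hyr : y ∈ gX.opensRange := (hX.mem_range_iff y).2 hys
        intro a ha b hb
        have haV : a ∈ g ⁻¹ᵁ gX.opensRange := by rw [Scheme.Hom.mem_preimage, show g a = y from ha]; exact hyr
        have hbV : b ∈ g ⁻¹ᵁ gX.opensRange := by rw [Scheme.Hom.mem_preimage, show g b = y from hb]; exact hyr
        exact congrArg Subtype.val ((g ∣_ gX.opensRange).homeomorph.injective (a₁ := ⟨a, haV⟩) (a₂ := ⟨b, hbV⟩)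
          (Subtype.ext (((morphismRestrict_base_coe g _ _).trans ((show g a = y from ha).trans
            (show g b = y from hb).symm)).trans (morphismRestrict_base_coe g _ _).symm)))
    have hvV : g (ιF v) ∈ V := fun hm => hv (ιΓ.isClosedEmbedding.injective
      ((hhapp v).trans ((hBad _ hm).trans hx'.symm)))
    haveI := isIso_morphismRestrict_of_finite_fibres g (Coherent.isIso_app_of_birational g hXn hggen hgbir) V
      fun y hy => (hfibs y hy).finite
    refine ⟨isIso_stalkMap_of_isIso_restrict g V _ hvV, fun v' hv' => ιF.isClosedEmbedding.injective ?_⟩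
    exact hfibs _ hvV (show g (ιF v') = g (ιF v) by rw [← hhapp, ← hhapp, hv']) rfl
  haveI : IsClosedImmersion h := by
    haveI : K.IsSeparated := ⟨by
      rw [show terminal.from K = (Ξ i₀).curve.hom ≫ terminal.from _ from terminal.hom_ext _ _]; infer_instance⟩
    have hinj : Function.Injective h := by
      intro v v' hvv
      by_cases hv : h v = x'
      · haveI : ValuationRing (Γ.curve.left.presheaf.stalk (h v)) := by rw [hv]; exact hvx
        exact eq_of_valuationRing h hhgen hbirh hvv.symm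
      · exact ((hgood v hv).2 v' hvv.symm).symm
    haveI : SurjectiveOnStalks h := ⟨fun v => by
      by_cases hv : h v = x'
      · haveI : ValuationRing (Γ.curve.left.presheaf.stalk (h v)) := by rw [hv]; exact hvx
        exact exists_preimage_stalk h hhgen hbirh v
      · exact hsurj_good v (hgood v hv).1⟩
    haveI : IsPreimmersion h := ⟨(Topology.IsClosedEmbedding.of_continuous_injective_isClosedMap h.continuous hinj
      h.isClosedMap).isEmbedding⟩
    exact IsClosedImmersion.of_isPreimmersion h h.isClosedMap.isClosed_range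
  haveI : Surjective h := surjective_of_gen h hhgen
  haveI : IsIso h := isIso_of_isClosedImmersion_of_surjective h
  -- the constants and a point of degree one
  letI : K.Over (Spec (CommRingCat.of k)) := ⟨(Ξ i₀).curve.hom⟩
  haveI : IsProper (K ↘ Spec (CommRingCat.of k)) := inferInstanceAs (IsProper (Ξ i₀).curve.hom)
  haveI : IsIntegral K := (Ξ i₀).isIntegral
  letI : Γ.curve.left.Over (Spec (CommRingCat.of k)) := ⟨Γ.curve.hom⟩
  haveI : CompactSpace Γ.curve.left := QuasiCompact.compactSpace_of_compactSpace Γ.curve.hom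
  haveI : Γ.curve.left.IsSeparated := ⟨by rw [← terminal.comp_from Γ.curve.hom]; infer_instance⟩
  have hpb : IsPullback h (K ↘ Spec (CommRingCat.of k)) (Γ.curve.left ↘ Spec (CommRingCat.of k))
      (Spec.map (CommRingCat.ofHom (algebraMap k k))) := by
    rw [show CommRingCat.ofHom (algebraMap k k) = 𝟙 _ from rfl, Spec.map_id]
    exact IsPullback.of_horiz_isIso ⟨hcomm.trans (Category.comp_id _).symm⟩
  have hw1 : w = 1 := by
    have h0 : Models.wdeg R OW (Ξ i₀) = Models.wdeg R OX Γ := CurveRR24.finrank_HH_structure_bc hpb 0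
    show ((Models.wdeg R OW (Ξ i₀) : ℕ) : ℤ) = 1
    rw [h0, hΓ.wdeg, Nat.cast_one]
  have hN1 : N k₀ = 1 := by
    have h2 : m k₀ * N k₀ ≤ w := hsumN ▸ Finset.single_le_sum hnn (Finset.mem_erase.2 ⟨hk₀, Finset.mem_univ _⟩)
    have h3 := hwN k₀ hNk₀
    have h4 : 1 * N k₀ ≤ m k₀ * N k₀ := mul_le_mul_of_nonneg_right (hm k₀) hNk₀.le
    omega
  haveI : IsLocallyNoetherian K := CurveRR24.isLocallyNoetherian_of_proper k
  haveI : Subsingleton (Coh.HH K (Coh.structureModule K) 1) := by
    haveI := CurveRR24.finite_HH_of_isCoh k (X := K) (Coherent.isCoh_structureModule K) 1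
    exact Module.finrank_zero_iff.1 hh1F
  have hMk := Inters29.isInvertible_of_inverse R (hD k₀) (hM k₀)
  obtain ⟨e, he⟩ := CurveRR24.exists_iso_projLine_of_h1 k (X := K) (Ξ i₀).dim_eq inferInstance
    (PicLoc.isInvertible_pullback ιF hMk) (by
      rw [← Inters29.curveDeg_eq_deg k (Ξ i₀).dim_eq.le (PicLoc.isInvertible_pullback ιF hMk)]
      exact hN1)
  refine ⟨(asIso h).symm ≪≫ e, ?_⟩
  show (inv h ≫ e.hom) ≫ _ = _
  rw [Category.assoc, he, IsIso.inv_comp_eq]
  exact hcomm.symm

end Groth.Agent.Models7
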