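import Groth.Agent.Models7.EulerBirational
import Groth.Agent.Models7.MinimalGenusZero
import Groth.Agent.S5094
import Groth.Agent.EGA43.ProperDvr.Closed
import Groth.Agent.AlgSpLib.DimBasic
import Mathlib.AlgebraicGeometry.ZariskisMainTheorem

/-!
# Images of curves of nonpositive Euler characteristic under morphisms of models
-/

set_option autoImplicit false
set_option linter.style.haveILetI false
set_option backward.isDefEq.respectTransparency false
set_option maxHeartbeats 1000000

universe u

open CategoryTheory CategoryTheory.Limits AlgebraicGeometry TopologicalSpace IsLocalRing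

namespace Groth.Agent.Models7

variable {R : Type u} [CommRing R] [IsDomain R] [IsDiscreteValuationRing R]
variable {C : Scheme.{u}} {f : C ⟶ Spec (CommRingCat.of (FractionRing R))}
variable {Γ' : Scheme.{u}} [Γ'.Over (Spec (CommRingCat.of (ResidueField R)))] [IsIntegral Γ']

theorem surjective_stalkMap_comp {A B D : Scheme.{u}} (h : A ⟶ B) (i : B ⟶ D) (v : A)
    (hh : Function.Surjective (h.stalkMap v)) (hi : Function.Surjective (i.stalkMap (h v))) :
    Function.Surjective ((h ≫ i).stalkMap v) := by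
  intro y
  obtain ⟨a, rfl⟩ := hh y
  obtain ⟨c, rfl⟩ := hi a
  exact ⟨c, by rw [Scheme.Hom.stalkMap_comp]; rfl⟩

/-- A curve over the residue field mapped birationally onto a curve in the closed fibre. -/
structure CurveIn {X : Scheme.{u}} (q : X ⟶ Spec (CommRingCat.of R)) (j : Γ' ⟶ X) : Prop where
  comp : j ≫ q = (Γ' ↘ Spec (CommRingCat.of (ResidueField R))) ≫
    Spec.map (CommRingCat.ofHom (algebraMap R (ResidueField R)))
  not_closed : ¬ IsClosed ({j (genericPoint Γ')} : Set X)
  surj : Function.Surjective (j.stalkMap (genericPoint Γ'))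

theorem CurveIn.mem {X : Scheme.{u}} {q : X ⟶ Spec (CommRingCat.of R)} {j : Γ' ⟶ X} (h : CurveIn q j) (a : Γ') :
    q (j a) = closedPoint R := by
  rw [← Scheme.Hom.comp_apply, h.comp, Scheme.Hom.comp_apply]
  rw [Subsingleton.elim (α := PrimeSpectrum (ResidueField R)) ((Γ' ↘ Spec (CommRingCat.of (ResidueField R))) a)
    (closedPoint (ResidueField R))]
  exact IsLocalRing.comap_closedPoint (IsLocalRing.residue R)

/-- The finite birational map onto a vertical curve under a curve in the closed fibre. -/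
theorem CurveIn.exists_map [IsIntegral C] (hC : Curve.IsSmoothProperCurve (FractionRing R) C f)
    [IsProper (Γ' ↘ Spec (CommRingCat.of (ResidueField R)))] (hdim : topologicalKrullDim Γ' ≤ 1)
    {X : Scheme.{u}} {q : X ⟶ Spec (CommRingCat.of R)} {gX : C ⟶ X} (hX : GenModel R C f X q gX)
    {j : Γ' ⟶ X} (hj : CurveIn q j) (Δ : ArSurf.VertComp R (Over.mk q))
    (hΔ : Set.range (Δ.ι.base : Δ.curve.left → X) = closure {j (genericPoint Γ')}) :
    ∃ ν : Γ' ⟶ Δ.curve.left,
      IsFinite ν ∧ ν ≫ Δ.curve.hom = Γ' ↘ Spec (CommRingCat.of (ResidueField R)) ∧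
      ν ≫ (show Δ.curve.left ⟶ X from Δ.ι) = j ∧
      ∃ U : Δ.curve.left.Opens, (U : Set Δ.curve.left).Nonempty ∧ IsIso (ν ∣_ U) := by
  classical
  haveI := hX.isIntegral
  haveI : IsProper q := hX.model.2.1
  haveI : IsLocallyNoetherian X := LocallyOfFiniteType.isLocallyNoetherian q
  haveI : IsIntegral (Over.mk q).left := inferInstanceAs (IsIntegral X)
  haveI : QuasiCompact (Over.mk q).hom := inferInstanceAs (QuasiCompact q)
  haveI : IsProper (Over.mk q).hom := inferInstanceAs (IsProper q)
  let ι : Δ.curve.left ⟶ X := Δ.ι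
  haveI : IsClosedImmersion ι := Δ.isClosedImmersion
  haveI : IsIntegral Δ.curve.left := Δ.isIntegral
  have hsub : Set.range j.base ⊆ Set.range ι.base := by
    rintro _ ⟨a, rfl⟩
    rw [show Set.range ι.base = closure {j (genericPoint Γ')} from hΔ, ← specializes_iff_mem_closure]
    exact (genericPoint_specializes a).map j.continuous
  have hker : ι.ker ≤ j.ker := by
    rw [Props12.ker_eq_vanishingIdeal j, Props12.ker_eq_vanishingIdeal ι]
    exact Scheme.IdealSheafData.vanishingIdeal_antimono (closure_mono hsub)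
  let ν : Γ' ⟶ Δ.curve.left := IsClosedImmersion.lift ι j hker
  have hνι : ν ≫ ι = j := IsClosedImmersion.lift_fac _ _ _
  let c := Spec.map (CommRingCat.ofHom (algebraMap R (ResidueField R)))
  haveI : IsClosedImmersion c := Inters29.isClosedImmersion_residue R
  have hνk : ν ≫ Δ.curve.hom = Γ' ↘ Spec (CommRingCat.of (ResidueField R)) := by
    rw [← cancel_mono c, Category.assoc]
    refine Eq.trans (congrArg (ν ≫ ·) (show Δ.curve.hom ≫ c = ι ≫ q from Δ.w.symm)) ?_
    rw [← Category.assoc, hνι]
    exact hj.comp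
  haveI : IsProper Δ.curve.hom := Inters29.isProper_curve R Δ
  haveI : IsProper (ν ≫ Δ.curve.hom) := by rw [hνk]; infer_instance
  haveI : IsProper ν := IsProper.of_comp ν Δ.curve.hom
  have hgen : ν (genericPoint Γ') = genericPoint Δ.curve.left := by
    apply ι.isClosedEmbedding.injective
    rw [← Scheme.Hom.comp_apply, hνι]
    have h1 : IsGenericPoint (ι (genericPoint Δ.curve.left)) (closure {j (genericPoint Γ')}) :=
      hΔ ▸ Inters29.genPt_isGenericPoint R Δ
    exact (h1.eq isGenericPoint_closure).symm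
  have hpre : ν.base ⁻¹' {genericPoint Δ.curve.left} = {genericPoint Γ'} := by
    refine Set.eq_singleton_iff_unique_mem.2 ⟨hgen, fun a ha => ?_⟩
    by_contra hne
    have hca : IsClosed ({a} : Set Γ') := (CurvesLib24.eq_genericPoint_or_isClosed hdim a).resolve_left hne
    have h := ν.isClosedMap _ hca
    rw [Set.image_singleton, show ν a = genericPoint Δ.curve.left from ha] at h
    obtain ⟨y, hy⟩ := Inters29.exists_ne_genericPoint R Δ
    exact hy ((genericPoint_specializes y).mem_closed h rfl)
  haveI : IsLocallyNoetherian Δ.curve.left := LocallyOfFiniteType.isLocallyNoetherian Δ.curve.hom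
  haveI : LocallyQuasiFinite ν := LocallyQuasiFinite.of_finite_preimage_singleton ν fun y => by
    by_cases hy : y = genericPoint Δ.curve.left
    · rw [hy, hpre]; exact Set.finite_singleton _
    · have hyc : IsClosed ({y} : Set Δ.curve.left) :=
        (CurvesLib24.eq_genericPoint_or_isClosed Δ.dim_eq.le y).resolve_left hy
      exact (CurveRR24.closed_small (ResidueField R) hdim (hyc.preimage ν.continuous)
        (fun h => hy (h.symm.trans hgen))).1
  haveI : IsFinite ν := IsFinite.of_isProper_of_locallyQuasiFinite ν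
  have hbir : IsIso (ν.stalkMap (genericPoint Γ')) := by
    haveI : IsDominant ν := ⟨dense_iff_closure_eq.2 (Set.eq_univ_of_univ_subset
      ((genericPoint_closure Δ.curve.left).ge.trans (closure_mono (Set.singleton_subset_iff.2 ⟨_, hgen⟩))))⟩
    exact (ConcreteCategory.isIso_iff_bijective _).2 ⟨CurvesLib24.stalkMap_injective ν _,
      surjective_stalkMap_of_comp ν ι j hνι _ hj.surj⟩
  refine ⟨ν, inferInstance, hνk, hνι, ?_⟩
  obtain ⟨w, hw⟩ : genericPoint Γ' ∈ Set.range (ν.fiberι (genericPoint Δ.curve.left)) := by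
    rw [Scheme.Hom.range_fiberι]; exact hgen
  have hsing : ∀ v, v = w := fun v => (ν.fiberι _).isEmbedding.injective <| by
    have hv : ν.fiberι _ v ∈ ν.base ⁻¹' {genericPoint Δ.curve.left} :=
      (ν.range_fiberι _).le ⟨v, rfl⟩
    rw [hpre] at hv
    exact hv.trans hw.symm
  have hy : IsIntegrallyClosed (Δ.curve.left.presheaf.stalk (genericPoint Δ.curve.left)) :=
    inferInstanceAs (IsIntegrallyClosed Δ.curve.left.functionField)
  obtain ⟨U, hU, hiso⟩ := S5094.result ν hgen hbir _ hy w
    (by convert isOpen_univ; exact Set.eq_univ_of_forall hsing)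
  exact ⟨U, ⟨_, hU⟩, hiso⟩

/-- The vertical curve under a curve in the closed fibre, with the finite birational map onto it. -/
theorem CurveIn.exists_vertComp [IsIntegral C] (hC : Curve.IsSmoothProperCurve (FractionRing R) C f)
    [IsProper (Γ' ↘ Spec (CommRingCat.of (ResidueField R)))] (hdim : topologicalKrullDim Γ' ≤ 1)
    {X : Scheme.{u}} {q : X ⟶ Spec (CommRingCat.of R)} {gX : C ⟶ X} (hX : GenModel R C f X q gX)
    {j : Γ' ⟶ X} (hj : CurveIn q j) :
    ∃ (Δ : ArSurf.VertComp R (Over.mk q)) (ν : Γ' ⟶ Δ.curve.left),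
      Set.range (Δ.ι.base : Δ.curve.left → X) = closure {j (genericPoint Γ')} ∧
      IsFinite ν ∧ ν ≫ Δ.curve.hom = Γ' ↘ Spec (CommRingCat.of (ResidueField R)) ∧
      ν ≫ (show Δ.curve.left ⟶ X from Δ.ι) = j ∧
      ∃ U : Δ.curve.left.Opens, (U : Set Δ.curve.left).Nonempty ∧ IsIso (ν ∣_ U) := by
  haveI := hX.isIntegral
  haveI : IsProper q := hX.model.2.1
  haveI : IsIntegral (Over.mk q).left := inferInstanceAs (IsIntegral X)
  haveI : QuasiCompact (Over.mk q).hom := inferInstanceAs (QuasiCompact q)
  obtain ⟨Δ, hΔ⟩ := Models7.exists_vertComp R (X := Over.mk q) (hX.regSurf hC).dim hX.genericPoint_ne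
    (x := j (genericPoint Γ')) (hj.mem _) hj.not_closed
  obtain ⟨ν, h⟩ := hj.exists_map hC hdim hX Δ hΔ
  exact ⟨Δ, ν, hΔ, h⟩

omit [IsIntegral Γ'] in
/-- An exceptional curve has positive Euler characteristic, and no curve of nonpositive Euler characteristic
maps birationally onto it. -/
theorem not_isExcCurve_of_euler {X : Over (Spec (CommRingCat.of R))} [IsProper X.hom] [IsIntegral X.left]
    [IsLocallyNoetherian X.left] (hreg : ∀ x : X.left, IsRegularLocalRing (X.left.presheaf.stalk x))
    [IsIntegral Γ'] (hχ : Curv2.euler (ResidueField R) Γ' (Coh.structureModule Γ') ≤ 0)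
    (Δ : ArSurf.VertComp R X) (ν : Γ' ⟶ Δ.curve.left) [IsFinite ν]
    (hν : ν ≫ Δ.curve.hom = Γ' ↘ Spec (CommRingCat.of (ResidueField R))) (U : Δ.curve.left.Opens)
    (hU : (U : Set Δ.curve.left).Nonempty) [IsIso (ν ∣_ U)] : ¬ Models.IsExcCurve Δ.ι := by
  intro hE
  letI : Δ.curve.left.Over (Spec (CommRingCat.of (ResidueField R))) := ⟨Δ.curve.hom⟩
  haveI : IsIntegral Δ.curve.left := Δ.isIntegral
  haveI : IsProper Δ.curve.hom := Inters29.isProper_curve R Δ
  haveI : IsProper (Δ.curve.left ↘ Spec (CommRingCat.of (ResidueField R))) := ‹IsProper Δ.curve.hom›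
  obtain ⟨L, hL⟩ := Inters29.exists_inverse_ker R (X := X) hreg hE.1
  obtain ⟨h0, -⟩ := of_isExcCurve R Δ hE hL
  have h1 := (euler_birational (ResidueField R) Δ.dim_eq.le ν hν U hU).1
  rw [CurveRR24.euler_structure (ResidueField R) Δ.dim_eq.le] at h1
  have h2 : 0 < Models.wdeg R X Δ := (wdeg_pos_and_dvd R Δ).1
  change (Models.wdeg R X Δ : ℤ) - (Models.h1 R X Δ : ℤ) ≤ _ at h1
  omega

/-- A curve of nonpositive Euler characteristic is not contracted by a morphism of models. -/
theorem CurveIn.of_ptSeq [IsIntegral C] (hC : Curve.IsSmoothProperCurve (FractionRing R) C f)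
    [IsProper (Γ' ↘ Spec (CommRingCat.of (ResidueField R)))] (hdim : topologicalKrullDim Γ' ≤ 1)
    (hχ : Curv2.euler (ResidueField R) Γ' (Coh.structureModule Γ') ≤ 0) :
    ∀ {W X : Scheme.{u}} {g : W ⟶ X}, PtSeq g → ∀ {p : X ⟶ Spec (CommRingCat.of R)} {gX : C ⟶ X},
      GenModel R C f X p gX → ∀ {j : Γ' ⟶ W}, CurveIn (g ≫ p) j → CurveIn p (j ≫ g) := by
  intro W X g hg
  induction hg with
  | @iso W' X' e =>
    intro p gX hX j hj
    refine ⟨by rw [Category.assoc]; exact hj.comp, fun h => hj.not_closed ?_, ?_⟩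
    · have h' := h.preimage e.hom.continuous
      convert h' using 1
      refine (Set.eq_singleton_iff_unique_mem.2 ⟨?_, fun a ha => ?_⟩).symm
      · rfl
      · exact e.hom.homeomorph.injective ha
    · exact surjective_stalkMap_comp j e.hom _ hj.surj (ConcreteCategory.bijective_of_isIso (e.hom.stalkMap _)).2
  | @step W' Z' X' b r z hz hz0 hb hr ih =>
    intro p gX hX j hj
    obtain ⟨-, hZ, gZ, -, hZm⟩ := GenModel.of_ptSeq hC hr hX
    haveI := hZ.integral
    haveI := hZ.noeth
    have hz1 : z ≠ genericPoint Z' := hz0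
    obtain ⟨hW, hbp, hiso⟩ := hZ.pointBlowUp z hz hz1 b hb
    haveI := hbp
    haveI := hiso
    haveI := hW.integral
    obtain ⟨gW, -, hWm⟩ := hZm.modification b hW.regular ⟨{z}ᶜ, hz.isOpen_compl⟩
      (fun x hx h => hx (by rw [show x = z from h]; exact hZm.hom_closed hz))
    have push : ∀ (V : Z'.Opens) [IsIso (b ∣_ V)], b (j (genericPoint Γ')) ∈ V → CurveIn p (j ≫ b ≫ r) := by
      intro V _ hV
      rw [← Category.assoc]
      refine ih hX ⟨?_, fun h => hj.not_closed ?_, ?_⟩
      · rw [Category.assoc]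
        exact (congrArg (j ≫ ·) (Category.assoc b r p).symm).trans hj.comp
      · rw [Scheme.Hom.comp_apply] at h
        have h' := h.preimage b.continuous
        convert h' using 1
        refine (show b.base ⁻¹' {b (j (genericPoint Γ'))} = {j (genericPoint Γ')} from
          Set.eq_singleton_iff_unique_mem.2 ⟨rfl, fun a (ha : b a = b (j (genericPoint Γ'))) => ?_⟩).symm
        have haV : a ∈ b ⁻¹ᵁ V := by show b a ∈ V; rw [ha]; exact hV
        exact congrArg Subtype.val ((b ∣_ V).homeomorph.injective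
          (a₁ := ⟨a, haV⟩) (a₂ := ⟨j (genericPoint Γ'), hV⟩)
          (Subtype.ext ((morphismRestrict_base_coe b V _).trans (ha.trans (morphismRestrict_base_coe b V ⟨j (genericPoint Γ'), hV⟩).symm))))
      · haveI := isIso_stalkMap_of_isIso_restrict b V (j (genericPoint Γ')) hV
        exact surjective_stalkMap_comp j b _ hj.surj (ConcreteCategory.bijective_of_isIso (b.stalkMap _)).2
    by_cases hbi : IsIso b
    · haveI : IsIso (b ∣_ ⊤) := inferInstance
      exact push ⊤ trivial
    refine push ⟨{z}ᶜ, hz.isOpen_compl⟩ fun hjz => ?_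
    have hj' : CurveIn (b ≫ r ≫ p) j := by rw [← Category.assoc]; exact hj
    obtain ⟨Δ, ν, hΔ, hν, hνk, -, U, hU, hUiso⟩ := hj'.exists_vertComp hC hdim hWm
    obtain ⟨F, hF, hFr⟩ := exists_exc_vertComp hC hZm z hz hz0 b hb hbi
    haveI : IsClosedImmersion (show F.curve.left ⟶ W' from F.ι) := F.isClosedImmersion
    haveI : IsIntegral F.curve.left := F.isIntegral
    obtain ⟨a, ha⟩ := hFr.ge (show j (genericPoint Γ') ∈ b.base ⁻¹' {z} from hjz)
    have hrange : Set.range (F.ι.base : F.curve.left → W') = Set.range (Δ.ι.base : Δ.curve.left → W') := by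
      rw [hΔ, ← ha]
      have hag : a = genericPoint F.curve.left :=
        (CurvesLib24.eq_genericPoint_or_isClosed F.dim_eq.le a).resolve_right fun h =>
          hj.not_closed (by
            rw [← ha, ← Set.image_singleton]
            exact (show F.curve.left ⟶ W' from F.ι).isClosedEmbedding.isClosedMap _ h)
      rw [hag]
      exact (Inters29.genPt_isGenericPoint R F).def.symm
    haveI : IsIntegral (Over.mk (b ≫ r ≫ p)).left := inferInstanceAs (IsIntegral W')
    haveI : IsProper (Over.mk (b ≫ r ≫ p)).hom := hWm.model.2.1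
    haveI : IsLocallyNoetherian (Over.mk (b ≫ r ≫ p)).left :=
      LocallyOfFiniteType.isLocallyNoetherian (Over.mk (b ≫ r ≫ p)).hom
    haveI := hν
    haveI := hUiso
    exact not_isExcCurve_of_euler (X := Over.mk (b ≫ r ≫ p)) hWm.model.2.2 hχ Δ ν hνk U hU
      (isExcCurve_of_range_eq (show F.curve.left ⟶ W' from F.ι) Δ.ι hrange hF)

end Groth.Agent.Models7
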