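import Groth.Agent.EulerLib.Additive
import Groth.Agent.Coherent.SecBridge
import Groth.Agent.Coherent.FibreVanish
import Groth.Agent.FlatMorStrat.Vanishing
import Groth.Prelude.Def_Canon

/-!
# Sections of a dualizing module over a domain extend over closed points of the closed fibres
-/

set_option autoImplicit false
set_option linter.style.haveILetI false
set_option backward.isDefEq.respectTransparency false
set_option maxHeartbeats 1000000

universe u

open CategoryTheory CategoryTheory.Limits AlgebraicGeometry Opposite TopologicalSpace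
open Groth.Agent.Coherent Groth.Agent.EulerLib

namespace Groth.Agent.Models7

variable {A : Type u} [CommRing A] {X : Scheme.{u}} [X.Over (Spec (CommRingCat.of A))]

/-- The comparison with `HA` is natural, over any base ring. -/
theorem hhBaseEquiv_natural_ring {M N : X.Modules} (f : M ⟶ N) (q : ℕ) (x : Coh.HH X M q) :
    HHBaseEquiv A N q (Sheaf.H.map ((SheafOfModules.toSheaf X.ringCatSheaf).map f) q x) =
      postA (baseHom A X) f ⊤ q (HHBaseEquiv A M q x) := by
  obtain ⟨z, rfl⟩ := (H'TopEquiv (X := X.toTopCat) (Coh.toAb M) q).surjective x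
  refine (congrArg (H'TopEquiv (X := X.toTopCat) (Coh.toAb N) q).symm
    (H'TopEquiv_naturality (X := X.toTopCat) ((toAbFunctor X).map f) q z).symm).trans ?_
  refine ((H'TopEquiv (X := X.toTopCat) (Coh.toAb N) q).symm_apply_apply _).trans ?_
  exact congrArg (postHM f q (⊤ : X.Opens))
    ((H'TopEquiv (X := X.toTopCat) (Coh.toAb M) q).symm_apply_apply z).symm

variable {ω : X.Modules} {tr : Coh.HH X ω 1 →ₗ[A] A}

/-- A quasi-coherent module supported on finitely many closed points has no nonzero map to a dualizing module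
in degree one. -/
theorem eq_zero_of_support_finite (hω : Canon.IsRDualOver A X 1 ω tr) {K : X.Modules} (hK : Coh.IsQCoh K)
    {Z : Set X} (hZ : Z.Finite) (hc : ∀ z ∈ Z, IsClosed ({z} : Set X)) (hsupp : CohB1.support K ⊆ Z)
    (φ : K ⟶ ω) : φ = 0 := by
  haveI : Subsingleton (Coh.HH X K 1) := subsingleton_HH_of_support_finite K Z hZ hc hsupp 1 Nat.one_pos
  refine (hω.2 K hK).1 (LinearMap.ext fun x => ?_)
  rw [Subsingleton.elim x 0, map_zero, map_zero]

/-- Sections of a quasi-coherent module supported outside the locus where `g` is invertible are `g`-power torsion. -/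
theorem exists_pow_smul_eq_zero_of_support [CompactSpace X] {Q : X.Modules} [Coh.IsQCoh Q] (g : Γ(X, ⊤))
    (hQ : Disjoint (X.basicOpen g : Set X) (CohB1.support Q)) (s : Γ(Q, ⊤)) : ∃ n : ℕ, g ^ n • s = 0 := by
  classical
  have hloc : ∀ x : X, ∃ W : X.Opens, x ∈ W ∧ ∃ n : ℕ, resM Q (le_top : W ≤ ⊤) (g ^ n • s) = 0 := by
    intro x
    obtain ⟨W, hW, hx, -⟩ := exists_isAffineOpen_mem_and_subset (x := x) (U := ⊤) trivial
    let gW : Γ(X, W) := X.presheaf.map (homOfLE (le_top : W ≤ ⊤)).op g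
    have hsub : Subsingleton Γ(Q, X.basicOpen gW) :=
      subsingleton_sections_of_disjoint Q _ (hQ.mono_left (by
        show (X.basicOpen gW : Set X) ⊆ X.basicOpen g
        rw [Scheme.basicOpen_res]
        exact Set.inter_subset_right))
    obtain ⟨n, hn⟩ := qcoh_exists_pow_smul_eq_zero hW Q gW (resM Q (le_top : W ≤ ⊤) s) (hsub.elim _ _)
    refine ⟨W, hx, n, ?_⟩
    rw [resM_smul, map_pow]
    exact hn
  choose W hxW n hn using hloc
  obtain ⟨T, hT⟩ := isCompact_univ.elim_finite_subcover (fun x => (W x : Set X)) (fun x => (W x).2)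
    fun x _ => Set.mem_iUnion.2 ⟨x, hxW x⟩
  refine ⟨T.sup n, TopCat.Presheaf.section_ext (⟨Q.presheaf, Q.isSheaf⟩ : TopCat.Sheaf Ab X) ⊤ _ _ fun x _ => ?_⟩
  obtain ⟨y, hy, hxy⟩ := Set.mem_iUnion₂.1 (hT (Set.mem_univ x))
  have h0 : resM Q (le_top : W y ≤ ⊤) (g ^ T.sup n • s) = 0 := by
    rw [← Nat.sub_add_cancel (Finset.le_sup (f := n) hy), pow_add, mul_smul, resM_smul, hn y, smul_zero]
  refine Eq.trans ?_ (map_zero (Q.presheaf.germ ⊤ x trivial).hom).symm
  rw [← TopCat.Presheaf.germ_res_apply Q.presheaf (homOfLE (le_top : W y ≤ ⊤)) x hxy]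
  exact (congrArg (Q.presheaf.germ (W y) x hxy) h0).trans (map_zero _)

/-- The restriction maps of a dualizing module to the complement of finitely many closed points over which an
element `π ≠ 0` of the base is not invertible are bijective. -/
theorem isIso_restrictUnit_of_isRDualOver [IsDomain A] [IsLocallyNoetherian X] [CompactSpace X]
    [QuasiSeparatedSpace X] (hω : Canon.IsRDualOver A X 1 ω tr) (U : X.Opens) (hfin : ((U : Set X)ᶜ).Finite)
    (hcl : ∀ x : X, x ∉ U → IsClosed ({x} : Set X)) {π : A} (hπ : π ≠ 0)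
    (hUπ : ∀ x : X, x ∉ U → x ∉ X.basicOpen (baseHom A X π)) :
    IsIso ((Scheme.Modules.restrictAdjunction U.ι).unit.app ω) := by
  let φ := baseHom A X
  let G := (Coh.push U.ι).obj (ω.restrict U.ι)
  let η : ω ⟶ G := (Scheme.Modules.restrictAdjunction U.ι).unit.app ω
  haveI : Coh.IsQCoh ω := hω.1
  haveI : Coh.IsQCoh (ω.restrict U.ι) :=
    inferInstanceAs ((Scheme.Modules.restrictFunctor U.ι).obj ω).IsQuasicoherent
  haveI hG : Coh.IsQCoh G := isQCoh_push U.ι _
  obtain ⟨hker, hcoker⟩ := FlatMorStrat.kernel_cokernel_restrictUnit ω U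
  haveI : Mono η := Preadditive.mono_of_kernel_zero
    (eq_zero_of_support_finite hω (isQCoh_kernel η) hfin hcl hker (kernel.ι η))
  let Q := cokernel η
  haveI hQ : Coh.IsQCoh Q := isQCoh_cokernel_of_mono η
  let S : ShortComplex X.Modules := ShortComplex.mk η (cokernel.π η) (cokernel.condition η)
  have hS : S.ShortExact :=
    { exact := ShortComplex.exact_of_g_is_cokernel _ (cokernelIsCokernel η)
      mono_f := inferInstanceAs (Mono η)
      epi_g := inferInstanceAs (Epi (cokernel.π η)) }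
  let e₁ := HHBaseEquiv A ω 1
  let e₂ := HHBaseEquiv A G 1
  let t : HA φ ω ⊤ 1 →ₗ[A] A := tr ∘ₗ e₁.symm.toLinearMap
  let P : HA φ ω ⊤ 1 →ₗ[A] HA φ G ⊤ 1 := postA φ η ⊤ 1
  have hsurj : Function.Surjective P := fun y => by
    haveI : Subsingleton (Coh.HH X Q 1) := subsingleton_HH_of_support_finite Q _ hfin hcl hcoker 1 Nat.one_pos
    haveI : Subsingleton (HA φ Q ⊤ 1) := (HHBaseEquiv A Q 1).symm.toEquiv.subsingleton
    exact (exact_postA φ hS ⊤ 1 y).1 (Subsingleton.elim _ _)
  have hker' : LinearMap.ker P ≤ LinearMap.ker t := by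
    intro x hx
    obtain ⟨d, rfl⟩ := (exact_deltaA_postA φ hS ⊤ 0 x).1 hx
    obtain ⟨n, hn⟩ := exists_pow_smul_eq_zero_of_support (Q := Q) (φ π)
      (Set.disjoint_left.2 fun x hx hxQ => hUπ x (hcoker hxQ) hx) (secA φ Q d)
    have hd : π ^ n • d = 0 := (secA φ Q).injective (by
      rw [map_smul, map_zero]
      show φ (π ^ n) • (show Γ(Q, ⊤) from secA φ Q d) = 0
      rw [map_pow]
      exact hn)
    rw [LinearMap.mem_ker]
    have h : π ^ n * t (deltaA φ hS ⊤ 0 d) = 0 := by
      have h2 : t (deltaA φ hS ⊤ 0 (π ^ n • d)) = 0 := by rw [hd, map_zero, map_zero]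
      rw [← smul_eq_mul]
      refine Eq.trans ?_ h2
      exact ((t.map_smul _ _).symm.trans (congrArg t ((deltaA φ hS ⊤ 0).map_smul _ _).symm))
    exact (mul_eq_zero.1 h).resolve_left (pow_ne_zero n hπ)
  let t' : HA φ G ⊤ 1 →ₗ[A] A :=
    ((LinearMap.ker P).liftQ t hker') ∘ₗ (P.quotKerEquivOfSurjective hsurj).symm.toLinearMap
  have ht' : ∀ x, t' (P x) = t x := fun x => by
    show (LinearMap.ker P).liftQ t hker' ((P.quotKerEquivOfSurjective hsurj).symm (P x)) = t x
    rw [show (P.quotKerEquivOfSurjective hsurj).symm (P x) = Submodule.Quotient.mk x from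
      (LinearEquiv.symm_apply_eq _).2 rfl]
    exact Submodule.liftQ_apply _ _ _
  obtain ⟨ψ, hψ⟩ := (hω.2 G hG).2 (t' ∘ₗ e₂.toLinearMap)
  have hid : η ≫ ψ = 𝟙 ω := by
    refine (hω.2 ω hω.1).1 (LinearMap.ext fun x => ?_)
    show tr (Sheaf.H.map ((SheafOfModules.toSheaf X.ringCatSheaf).map (η ≫ ψ)) 1 x) =
      tr (Sheaf.H.map ((SheafOfModules.toSheaf X.ringCatSheaf).map (𝟙 ω)) 1 x)
    rw [Functor.map_comp, CategoryTheory.Functor.map_id, Sheaf.H.map_comp_apply, Sheaf.H.map_id_apply]
    refine (LinearMap.congr_fun hψ _).trans ?_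
    show t' (e₂ _) = _
    rw [hhBaseEquiv_natural_ring η 1 x]
    refine (ht' _).trans ?_
    exact congrArg tr (e₁.symm_apply_apply x)
  -- the complement of `ω` in `G` is supported at the closed points, so it is zero
  let ε : G ⟶ G := 𝟙 G - ψ ≫ η
  have hηε : η ≫ ε = 0 := by
    simp only [ε, Preadditive.comp_sub, Category.comp_id, ← Category.assoc, hid, Category.id_comp, sub_self]
  obtain ⟨δ, hδ⟩ := CokernelCofork.IsColimit.desc' (cokernelIsCokernel η) ε hηε
  change cokernel.π η ≫ δ = ε at hδ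
  have hδ0 : δ = 0 := by
    refine ((Scheme.Modules.restrictAdjunction U.ι).homEquiv _ _).symm.injective ?_
    have hz : IsZero (Q.restrict U.ι) := by
      rw [IsZero.iff_id_eq_zero]
      refine Scheme.Modules.hom_ext _ _ fun W => ?_
      ext a
      exact @Subsingleton.elim _ (subsingleton_sections_of_disjoint Q (U.ι ''ᵁ W)
        (Set.disjoint_left.2 fun z hz hzQ => hcoker hzQ (U.ι_image_le W hz))) _ _
    exact hz.eq_of_src _ _
  haveI : IsIso η := ⟨ψ, hid, by
    rw [hδ0, comp_zero] at hδ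
    exact (sub_eq_zero.1 (show 𝟙 G - ψ ≫ η = 0 from hδ.symm)).symm⟩
  exact ‹IsIso η›

/-- Restriction to the complement of such points is bijective on every open. -/
theorem bijective_map_of_isRDualOver [IsDomain A] [IsLocallyNoetherian X] [CompactSpace X]
    [QuasiSeparatedSpace X] (hω : Canon.IsRDualOver A X 1 ω tr) (U : X.Opens) (hfin : ((U : Set X)ᶜ).Finite)
    (hcl : ∀ x : X, x ∉ U → IsClosed ({x} : Set X)) {π : A} (hπ : π ≠ 0)
    (hUπ : ∀ x : X, x ∉ U → x ∉ X.basicOpen (baseHom A X π)) (V : X.Opens) :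
    Function.Bijective (ω.presheaf.map (homOfLE (inf_le_left : V ⊓ U ≤ V)).op).hom := by
  haveI := isIso_restrictUnit_of_isRDualOver hω U hfin hcl hπ hUπ
  haveI : IsIso (((Scheme.Modules.restrictAdjunction U.ι).unit.app ω).app V) :=
    Scheme.Modules.Hom.isIso_iff_isIso_app.1 inferInstance V
  have heq : U.ι ''ᵁ (U.ι ⁻¹ᵁ V) = V ⊓ U := by
    rw [Scheme.Hom.image_preimage_eq_opensRange_inf, Scheme.Opens.opensRange_ι, inf_comm]
  rw [show ω.presheaf.map (homOfLE (inf_le_left : V ⊓ U ≤ V)).op =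
    ((Scheme.Modules.restrictAdjunction U.ι).unit.app ω).app V ≫ ω.presheaf.map (eqToHom heq.symm).op by
    rw [Scheme.Modules.restrictAdjunction_unit_app_app]
    exact ((ω.presheaf.map_comp _ _).symm.trans (congrArg ω.presheaf.map (Subsingleton.elim _ _))).symm]
  exact ConcreteCategory.bijective_of_isIso _

end Groth.Agent.Models7
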