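import Groth.Agent.Models7.QuadFactor
import Groth.Agent.CAlgMisc2.KrullAkizuki
import Mathlib.RingTheory.LocalRing.LocalSubring
import Mathlib.RingTheory.Ideal.KrullsHeightTheorem
import Mathlib.RingTheory.Localization.NumDen

/-!
# A sequence of quadratic transforms resolves every element of the fraction field

If `A 0 ≤ A 1 ≤ ...` is a chain of factorial local subrings of a field `K`, each dominated by the next,
with `A 0` noetherian of fraction field `K` and maximal ideal generated by two elements, and such that the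
maximal ideal of `A n` becomes divisible by a nonunit in `A (n + 1)`, then every element of `K` or its
inverse eventually lies in some `A n`.
-/

set_option autoImplicit false
set_option linter.style.haveILetI false
set_option maxHeartbeats 1000000

universe u

open IsLocalRing Polynomial

namespace Groth.Agent.Models7

variable {K : Type u} [Field K]

/-- The maximal ideal of a local subring, as a subset of the ambient field. -/
def mSet (A : Subring K) [IsLocalRing A] : Set K :=
  {x | ∃ hx : x ∈ A, (⟨x, hx⟩ : A) ∈ maximalIdeal A}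

theorem mem_mSet_iff {A : Subring K} [IsLocalRing A] (x : A) : (x : K) ∈ mSet A ↔ x ∈ maximalIdeal A :=
  ⟨fun ⟨_, h⟩ => h, fun h => ⟨x.2, h⟩⟩

section chain

variable (A : ℕ → Subring K) [∀ n, IsLocalRing (A n)] (z : K)

/-- Evaluation at `z` of the polynomials over the `n`th ring. -/
noncomputable def evalAt (n : ℕ) : (A n)[X] →+* K := eval₂RingHom (A n).subtype z

/-- The transition maps on polynomials. -/
noncomputable def liftPoly {n m : ℕ} (h : A n ≤ A m) : (A n)[X] →+* (A m)[X] :=
  mapRingHom (Subring.inclusion h)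

omit [∀ n, IsLocalRing (A n)] in
theorem evalAt_liftPoly {n m : ℕ} (h : A n ≤ A m) (P : (A n)[X]) :
    evalAt A z m (liftPoly A h P) = evalAt A z n P := by
  simp only [evalAt, liftPoly, coe_eval₂RingHom, coe_mapRingHom, eval₂_map]
  rfl

/-- The polynomials all of whose coefficients are nonunits. -/
def nonunitCoeffs {n : ℕ} (P : (A n)[X]) : Prop := ∀ i, (P.coeff i : K) ∈ mSet (A n)

end chain

/-- There is no infinite chain of quadratic transforms at which an element is not defined. -/
theorem exists_mem_chain (A : ℕ → Subring K) [∀ n, IsLocalRing (A n)] [∀ n, UniqueFactorizationMonoid (A n)]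
    [IsNoetherianRing (A 0)] (hmono : Monotone A) (hloc : ∀ n, mSet (A n) ⊆ mSet (A (n + 1)))
    (hg : ∀ n, ∃ g ∈ mSet (A (n + 1)), ∀ x ∈ mSet (A n), ∃ y ∈ A (n + 1), x = g * y)
    (hfrac : ∀ x : K, ∃ p ∈ A 0, ∃ q ∈ A 0, q ≠ 0 ∧ x = p / q)
    (h2 : ∃ a b : A 0, maximalIdeal (A 0) = Ideal.span {a, b}) (z : K) :
    ∃ n, z ∈ A n ∨ z⁻¹ ∈ A n := by
  classical
  by_contra hcon
  push Not at hcon
  have hM : ∀ {n m : ℕ}, n ≤ m → mSet (A n) ⊆ mSet (A m) := fun {n m} h =>
    (monotone_nat_of_le_succ (f := fun n => mSet (A n)) hloc) h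
  have hM' : ∀ {n m : ℕ} (h : n ≤ m) (x : A n), (x : K) ∈ mSet (A m) → (x : K) ∈ mSet (A n) := by
    intro n m h x hx
    refine (mem_mSet_iff x).2 fun hu => ?_
    obtain ⟨_, hx'⟩ := hx
    exact hx' (hu.map (Subring.inclusion (hmono h)))
  haveI hfr : ∀ n, IsFractionRing (A n) K := fun n => IsFractionRing.of_field _ K fun x => by
    obtain ⟨p, hp, q, hq, _, rfl⟩ := hfrac x
    exact ⟨⟨p, hmono n.zero_le hp⟩, ⟨q, hmono n.zero_le hq⟩, rfl⟩
  -- reduced fractions
  have hred : ∀ n, ∃ a b : A n, IsRelPrime a b ∧ b ≠ 0 ∧ a ≠ 0 ∧ (a : K) ∈ mSet (A n) ∧ (b : K) ∈ mSet (A n) ∧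
      z = (a : K) / (b : K) := by
    intro n
    obtain ⟨a, b, hab, he⟩ := IsFractionRing.exists_reduced_fraction (A n) z
    have hz : z = (a : K) / ((b : A n) : K) := by
      rw [← he, IsFractionRing.mk'_eq_div]; rfl
    have hb0 : (b : A n) ≠ 0 := nonZeroDivisors.coe_ne_zero b
    have ha : (a : K) ∈ mSet (A n) := (mem_mSet_iff a).2 fun hu => (hcon n).2 (by
      rw [hz, inv_div]
      obtain ⟨w, hw⟩ := hu
      have : ((b : A n) : K) / (a : K) = (((b : A n) * ↑w⁻¹ : A n) : K) := by
        rw [Subring.coe_mul, div_eq_iff (by rw [← hw]; exact fun h => w.ne_zero (Subtype.ext h)), mul_assoc,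
          ← Subring.coe_mul, ← hw, Units.inv_mul, Subring.coe_one, mul_one]
      rw [this]
      exact Subtype.coe_prop _)
    have hb : ((b : A n) : K) ∈ mSet (A n) := (mem_mSet_iff _).2 fun hu => (hcon n).1 (by
      obtain ⟨w, hw⟩ := hu
      have : z = ((a * ↑w⁻¹ : A n) : K) := by
        rw [hz, Subring.coe_mul, div_eq_iff (fun h => hb0 (Subtype.ext h)), mul_assoc,
          ← Subring.coe_mul, ← hw, Units.inv_mul, Subring.coe_one, mul_one]
      rw [this]
      exact Subtype.coe_prop _)
    have ha0 : a ≠ 0 := fun h => (hcon n).1 (by rw [hz, h, Subring.coe_zero, zero_div]; exact zero_mem _)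
    exact ⟨a, b, hab, hb0, ha0, ha, hb, hz⟩
  choose a b hcop hb0 ha0 ham hbm hz using hred
  -- roots of polynomials have nonunit coefficients
  have hroot : ∀ n (P : (A n)[X]), evalAt A z n P = 0 → nonunitCoeffs A P := by
    intro n P hP i
    refine (mem_mSet_iff _).2 (coeff_mem_maximalIdeal_of_root (K := K) (hb0 n) (hcop n).symm
      ((mem_mSet_iff _).1 (hbm n)) ((mem_mSet_iff _).1 (ham n)) P ?_ i)
    rw [eval_map]
    exact (congrArg (fun t => eval₂ (A n).subtype t P) (hz n).symm).trans hP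
  -- the union ring and its prime
  let S : Subring K := ⨆ n, (evalAt A z n).range
  have hdir : Directed (· ≤ ·) fun n => (evalAt A z n).range := by
    refine Monotone.directed_le fun n m h => ?_
    rintro _ ⟨P, rfl⟩
    exact ⟨_, evalAt_liftPoly A z (hmono h) P⟩
  have hS : ∀ x : K, x ∈ S ↔ ∃ n P, evalAt A z n P = x := fun x => by
    rw [Subring.mem_iSup_of_directed hdir]; rfl
  have hAS : ∀ n, A n ≤ S := fun n x hx => (hS x).2 ⟨n, C ⟨x, hx⟩, by simp [evalAt]⟩
  have hliftC : ∀ {n m : ℕ} (h : n ≤ m) (P : (A n)[X]), nonunitCoeffs A P → nonunitCoeffs A (liftPoly A (hmono h) P) := by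
    intro n m h P hP i
    simp only [liftPoly, coe_mapRingHom, coeff_map]
    exact hM h (hP i)
  have hkey : ∀ {n m : ℕ} (P : (A n)[X]) (P' : (A m)[X]), evalAt A z n P = evalAt A z m P' →
      nonunitCoeffs A P' → nonunitCoeffs A P := by
    intro n m P P' he hP' i
    have hn : n ≤ max n m := le_max_left n m
    have hm : m ≤ max n m := le_max_right n m
    have h0 := hroot _ (liftPoly A (hmono hn) P - liftPoly A (hmono hm) P')
      (by rw [map_sub, evalAt_liftPoly, evalAt_liftPoly, he, sub_self]) i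
    have h1 := hliftC hm P' hP' i
    refine hM' hn (P.coeff i) ((mem_mSet_iff (Subring.inclusion (hmono hn) (P.coeff i))).2 ?_)
    have := add_mem ((mem_mSet_iff _).1 h0) ((mem_mSet_iff _).1 h1)
    simpa [liftPoly, coeff_map] using this
  let Q : Ideal S :=
    { carrier := {x | ∃ n P, evalAt A z n P = (x : K) ∧ nonunitCoeffs A P}
      zero_mem' := ⟨0, 0, by simp, fun i => by simp only [coeff_zero]; exact (mem_mSet_iff _).2 (zero_mem _)⟩
      add_mem' := by
        rintro x y ⟨n, P, hP, hPm⟩ ⟨m, P', hP', hPm'⟩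
        refine ⟨max n m, liftPoly A (hmono (le_max_left n m)) P + liftPoly A (hmono (le_max_right n m)) P', ?_, fun i => ?_⟩
        · rw [map_add, evalAt_liftPoly, evalAt_liftPoly, hP, hP']; rfl
        · rw [coeff_add]
          exact (mem_mSet_iff _).2 (add_mem ((mem_mSet_iff _).1 (hliftC (le_max_left n m) P hPm i))
            ((mem_mSet_iff _).1 (hliftC (le_max_right n m) P' hPm' i)))
      smul_mem' := by
        rintro c x ⟨m, P', hP', hPm'⟩
        obtain ⟨n, P, hP⟩ := (hS c).1 c.2
        refine ⟨max n m, liftPoly A (hmono (le_max_left n m)) P * liftPoly A (hmono (le_max_right n m)) P', ?_, fun i => ?_⟩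
        · rw [map_mul, evalAt_liftPoly, evalAt_liftPoly, hP, hP']; rfl
        · refine (mem_mSet_iff _).2 ?_
          rw [coeff_mul]
          exact Ideal.sum_mem _ fun q _ => Ideal.mul_mem_left _ _ ((mem_mSet_iff _).1 (hliftC (le_max_right n m) P' hPm' q.2)) }
  have hQ : ∀ (x : S) n (P : (A n)[X]), evalAt A z n P = (x : K) → (x ∈ Q ↔ nonunitCoeffs A P) :=
    fun x n P hP => ⟨fun ⟨m, P', hP', hPm'⟩ => hkey P P' (hP.trans hP'.symm) hPm', fun h => ⟨n, P, hP, h⟩⟩
  haveI hQp : Q.IsPrime := by
    refine ⟨fun h => ?_, fun {x y} hxy => ?_⟩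
    · have := (hQ 1 0 1 (by simp)).1 (h ▸ Submodule.mem_top) 0
      rw [coeff_one_zero] at this
      exact (mem_mSet_iff _).1 this isUnit_one
    · obtain ⟨n, P, hP⟩ := (hS x).1 x.2
      obtain ⟨m, P', hP'⟩ := (hS y).1 y.2
      have hn : n ≤ max n m := le_max_left n m
      have hm : m ≤ max n m := le_max_right n m
      let P₁ := liftPoly A (hmono hn) P
      let P₂ := liftPoly A (hmono hm) P'
      have h12 := (hQ (x * y) _ (P₁ * P₂) (by rw [map_mul, evalAt_liftPoly, evalAt_liftPoly, hP, hP']; rfl)).1 hxy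
      have hz0 : P₁.map (residue (A (max n m))) * P₂.map (residue (A (max n m))) = 0 := by
        rw [← Polynomial.map_mul]
        ext i
        rw [coeff_map, coeff_zero]
        exact (residue_eq_zero_iff _).2 ((mem_mSet_iff _).1 (h12 i))
      rcases mul_eq_zero.1 hz0 with h | h
      · refine Or.inl ⟨_, P₁, by rw [evalAt_liftPoly, hP], fun i => (mem_mSet_iff _).2 ((residue_eq_zero_iff _).1 ?_)⟩
        rw [← coeff_map, h, coeff_zero]
      · refine Or.inr ⟨_, P₂, by rw [evalAt_liftPoly, hP'], fun i => (mem_mSet_iff _).2 ((residue_eq_zero_iff _).1 ?_)⟩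
        rw [← coeff_map, h, coeff_zero]
  -- the noetherian one dimensional ring below
  let S₀ : Subring K := (evalAt A z 0).range
  have hS₀ : S₀ ≤ S := le_iSup (fun n => (evalAt A z n).range) 0
  let P₀ : Ideal S₀ := Q.comap (Subring.inclusion hS₀)
  let B : LocalSubring K := LocalSubring.ofPrime S₀ P₀
  let U : LocalSubring K := LocalSubring.ofPrime S Q
  haveI : IsNoetherianRing S₀ := isNoetherianRing_range _
  haveI : IsNoetherianRing B.toSubring := IsLocalization.isNoetherianRing P₀.primeCompl _ inferInstance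
  have hBU : B.toSubring ≤ U.toSubring := by
    intro x hx
    obtain ⟨⟨y, s⟩, he⟩ := IsLocalization.surj P₀.primeCompl (S := B.toSubring) ⟨x, hx⟩
    have hs : Subring.inclusion hS₀ (s : S₀) ∈ Q.primeCompl := s.2
    have hu := IsLocalization.map_units U.toSubring (⟨_, hs⟩ : Q.primeCompl)
    obtain ⟨w, hw⟩ := hu
    have he' : x * ((s : S₀) : K) = (y : K) := congrArg Subtype.val he
    have hw' : ((w : U.toSubring) : K) = ((s : S₀) : K) := congrArg Subtype.val hw
    have : x = ((algebraMap S U.toSubring (Subring.inclusion hS₀ y) * ↑w⁻¹ : U.toSubring) : K) := by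
      have h1 : ((w : U.toSubring) : K) * ((↑w⁻¹ : U.toSubring) : K) = 1 := congrArg Subtype.val w.mul_inv
      rw [Subring.coe_mul]
      show x = (y : K) * _
      rw [← he', ← hw', mul_assoc, h1, mul_one]
    rw [this]
    exact Subtype.coe_prop _
  -- dimension of B
  let m' : Ideal (A 0)[X] := (maximalIdeal (A 0)).map C
  have hm' : m' = P₀.comap (evalAt A z 0).rangeRestrict := by
    ext P
    rw [Ideal.mem_map_C_iff, Ideal.mem_comap, Ideal.mem_comap, hQ _ 0 P rfl]
    exact forall_congr' fun i => (mem_mSet_iff _).symm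
  haveI : m'.IsPrime := hm' ▸ inferInstance
  have hht : m'.height ≤ 2 := by
    obtain ⟨a', b', hab⟩ := h2
    have h : m' = Ideal.span {C a', C b'} := by simp only [m', hab, Ideal.map_span, Set.image_insert_eq, Set.image_singleton]
    refine (Ideal.height_le_card_of_mem_minimalPrimes_span (s := {C a', C b'}) (Set.toFinite _) ?_).trans ?_
    · rw [← h, Ideal.minimalPrimes_eq_subsingleton_self]; rfl
    · exact_mod_cast (Set.ncard_insert_le _ _).trans (by simp)
  have hker : RingHom.ker (evalAt A z 0) ≠ ⊥ := fun h => by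
    have hmem : C (b 0) * X - C (a 0) ∈ RingHom.ker (evalAt A z 0) := by
      rw [RingHom.mem_ker, map_sub, map_mul]
      simp only [evalAt, coe_eval₂RingHom, eval₂_C, eval₂_X, Subring.subtype_apply]
      rw [hz 0, mul_div_cancel₀ _ (fun h => hb0 0 (Subtype.ext h)), sub_self]
    rw [h, Ideal.mem_bot] at hmem
    exact ha0 0 (by simpa using congrArg (fun P => P.coeff 0) hmem)
  haveI : Ring.KrullDimLE 1 B.toSubring := Ring.KrullDimLE.mk₁' fun q hq0 hq => by
    by_contra hqm
    let f : (A 0)[X] →+* S₀ := (evalAt A z 0).rangeRestrict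
    let q₀ : Ideal S₀ := q.comap (algebraMap S₀ B.toSubring)
    haveI : q₀.IsPrime := Ideal.IsPrime.comap _
    have hq₀ : q₀ < P₀ := by
      refine lt_of_le_of_ne ?_ fun h => hqm ?_
      · have := ((IsLocalization.isPrime_iff_isPrime_disjoint P₀.primeCompl B.toSubring q).1 hq).2
        intro x hx
        by_contra hxP
        exact Set.disjoint_left.1 this hxP hx
      · have := IsLocalization.AtPrime.map_eq_maximalIdeal P₀ B.toSubring
        rw [← IsLocalization.map_under P₀.primeCompl B.toSubring q]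
        show (q₀.map _).IsMaximal
        rw [h, this]
        infer_instance
    have hbot : (⊥ : Ideal S₀) < q₀ := by
      refine bot_lt_iff_ne_bot.2 fun h => hq0 ?_
      rw [← IsLocalization.map_under P₀.primeCompl B.toSubring q]
      show q₀.map _ = ⊥
      rw [h, Ideal.map_bot]
    have hf : Function.Surjective f := RingHom.rangeRestrict_surjective _
    haveI : m'.FiniteHeight := ⟨Or.inr (ne_top_of_le_ne_top (by decide) hht)⟩
    have hlt : ∀ {I J : Ideal S₀}, I < J → I.comap f < J.comap f := fun h =>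
      lt_of_le_of_ne (Ideal.comap_mono h.le) fun he => h.ne (Ideal.comap_injective_of_surjective f hf he)
    have h1 : q₀.comap f < m' := hm' ▸ hlt hq₀
    have h2' : (⊥ : Ideal S₀).comap f < q₀.comap f := hlt hbot
    have h3 : (⊥ : Ideal (A 0)[X]) < (⊥ : Ideal S₀).comap f := by
      refine bot_lt_iff_ne_bot.2 fun h => hker ?_
      rw [← h]
      ext P
      rw [RingHom.mem_ker, Ideal.mem_comap, Ideal.mem_bot, Subtype.ext_iff]
      rfl
    haveI : ((⊥ : Ideal S₀).comap f).IsPrime := (Ideal.isPrime_bot).comap f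
    haveI : (q₀.comap f).IsPrime := Ideal.IsPrime.comap f
    haveI hfin1 : (q₀.comap f).FiniteHeight := Ideal.finiteHeight_of_le h1.le (Ideal.IsPrime.ne_top' (I := m'))
    haveI : ((⊥ : Ideal S₀).comap f).FiniteHeight := Ideal.finiteHeight_of_le h2'.le (Ideal.IsPrime.ne_top' (I := q₀.comap f))
    have e1 := Ideal.height_strict_mono_of_isPrime_of_isPrime h1
    have e2 := Ideal.height_strict_mono_of_isPrime_of_isPrime h2'
    have e3 := Ideal.height_strict_mono_of_isPrime_of_isPrime h3
    have a1 : 1 ≤ ((⊥ : Ideal S₀).comap f).height := Order.one_le_iff_pos.2 (zero_le.trans_lt e3)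
    have a2 : 2 ≤ (q₀.comap f).height := by
      refine le_trans ?_ (Order.add_one_le_of_lt e2)
      exact le_trans (by norm_num) (add_le_add_left a1 1)
    exact absurd (hht.trans a2) e1.not_ge
  -- the union is noetherian
  haveI : IsFractionRing B.toSubring K := IsFractionRing.of_field _ K fun x => by
    obtain ⟨p, hp, q, hq, _, rfl⟩ := hfrac x
    have h0 : ∀ {p : K}, p ∈ A 0 → p ∈ B.toSubring := fun {p} hp =>
      LocalSubring.le_ofPrime S₀ P₀ ⟨C ⟨p, hp⟩, by simp [evalAt]⟩
    exact ⟨⟨p, h0 hp⟩, ⟨q, h0 hq⟩, rfl⟩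
  letI : Algebra B.toSubring U.toSubring := (Subring.inclusion hBU).toAlgebra
  haveI : IsScalarTower B.toSubring U.toSubring K := IsScalarTower.of_algebraMap_eq fun _ => rfl
  haveI : IsNoetherianRing U.toSubring := Groth.Agent.CAlgMisc2.isNoetherianRing_of_between
    (R := B.toSubring) K K U.toSubring Subtype.val_injective
  -- the strictly increasing chain
  have hAU : ∀ n, A n ≤ U.toSubring := fun n => (hAS n).trans (LocalSubring.le_ofPrime S Q)
  let α : ℕ → U.toSubring := fun n => Subring.inclusion (hAU n) (a n)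
  have hstep : ∀ n, ∃ g k : U.toSubring, g ∈ maximalIdeal U.toSubring ∧ α n = g * k * α (n + 1) := by
    intro n
    obtain ⟨g, hgM, hdiv⟩ := hg n
    obtain ⟨x, hx, hxe⟩ := hdiv _ (ham n)
    obtain ⟨y, hy, hye⟩ := hdiv _ (hbm n)
    obtain ⟨hgA, hgm⟩ := hgM
    have hg0 : g ≠ 0 := fun h => ha0 n (Subtype.ext (by rw [hxe, h, zero_mul, Subring.coe_zero]))
    have hy0 : y ≠ 0 := fun h => hb0 n (Subtype.ext (by rw [hye, h, mul_zero, Subring.coe_zero]))
    let x' : A (n + 1) := ⟨x, hx⟩
    let y' : A (n + 1) := ⟨y, hy⟩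
    have hcross : a (n + 1) * y' = x' * b (n + 1) := Subtype.ext (by
      have h := (hz (n + 1)).symm.trans (hz n)
      rw [hxe, hye, mul_div_mul_left _ _ hg0, div_eq_div_iff (fun h => hb0 (n+1) (Subtype.ext h)) hy0] at h
      simpa [x', y'] using h)
    obtain ⟨k, hk⟩ : a (n + 1) ∣ x' := (hcop (n + 1)).dvd_of_dvd_mul_right ⟨y', hcross.symm⟩
    refine ⟨Subring.inclusion (hAU (n + 1)) ⟨g, hgA⟩, Subring.inclusion (hAU (n + 1)) k, ?_, Subtype.ext ?_⟩
    · have hgQ : Subring.inclusion (hAS (n + 1)) ⟨g, hgA⟩ ∈ Q := ⟨n + 1, C ⟨g, hgA⟩, by simp [evalAt], fun i => by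
        rw [coeff_C]; split_ifs
        · exact ⟨hgA, hgm⟩
        · exact (mem_mSet_iff _).2 (zero_mem _)⟩
      exact (IsLocalization.AtPrime.to_map_mem_maximal_iff U.toSubring Q _).2 hgQ
    · show (a n : K) = g * (k : K) * (a (n + 1) : K)
      have hk' : x = (a (n + 1) : K) * (k : K) := congrArg Subtype.val hk
      rw [hxe, hk']; ring
  have hα : ∀ n, α n ≠ 0 := fun n h => ha0 n (Subtype.ext (congrArg Subtype.val h :))
  let I : ℕ →o Ideal U.toSubring := ⟨fun n => Ideal.span {α n}, monotone_nat_of_le_succ fun n => by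
    obtain ⟨g, k, _, he⟩ := hstep n
    exact Ideal.span_singleton_le_span_singleton.2 ⟨g * k, by rw [he]; ring⟩⟩
  obtain ⟨N, hN⟩ := monotone_stabilizes_iff_noetherian.2 inferInstance I
  obtain ⟨g, k, hgm, he⟩ := hstep N
  obtain ⟨t, ht⟩ : α N ∣ α (N + 1) := Ideal.span_singleton_le_span_singleton.1 (hN (N + 1) N.le_succ).ge
  refine hgm (IsUnit.of_mul_eq_one (k * t) (mul_right_cancel₀ (hα (N + 1)) ?_))
  rw [one_mul]
  conv_rhs => rw [ht, he]
  ring

end Groth.Agent.Models7
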