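import Groth.Agent.Models7.PtSeq
import Groth.Agent.Models7.QuadChain
import Mathlib.Logic.Hydra

/-!
# Elimination of indeterminacy on regular surfaces

After finitely many blow-ups of points every given finite set of rational functions on a regular surface
satisfies at every point: the function or its inverse is regular there.
-/

set_option autoImplicit false
set_option linter.style.haveILetI false
set_option backward.isDefEq.respectTransparency false
set_option maxHeartbeats 1000000

universe u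

open CategoryTheory CategoryTheory.Limits AlgebraicGeometry TopologicalSpace IsLocalRing Opposite
open Groth.Agent.Misc15.DivDescent Groth.Agent.SDiv28.CartierPart

namespace Groth.Agent.Models7

/-- The map of function fields of a morphism sending generic point to generic point. -/
noncomputable def ffMap {Y X : Scheme.{u}} [IrreducibleSpace Y] [IrreducibleSpace X] (f : Y ⟶ X)
    (h : f (genericPoint Y) = genericPoint X) : X.functionField →+* Y.functionField :=
  (X.presheaf.stalkSpecializes (specializes_of_eq h) ≫ f.stalkMap (genericPoint Y)).hom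

theorem ffMap_bijective {Y X : Scheme.{u}} [IrreducibleSpace Y] [IrreducibleSpace X] (f : Y ⟶ X)
    (h : f (genericPoint Y) = genericPoint X) [IsIso (f.stalkMap (genericPoint Y))] :
    Function.Bijective (ffMap f h) := by
  haveI : IsIso (X.presheaf.stalkSpecializes (specializes_of_eq h)) := by
    have key : ∀ (v w : X) (hv : v = w), IsIso (X.presheaf.stalkSpecializes (specializes_of_eq hv)) := by
      rintro v _ rfl
      rw [TopCat.Presheaf.stalkSpecializes_refl]
      infer_instance
    exact key _ _ h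
  exact ConcreteCategory.bijective_of_isIso
    (X.presheaf.stalkSpecializes (specializes_of_eq h) ≫ f.stalkMap (genericPoint Y))

theorem ffMap_germ {Y X : Scheme.{u}} [IrreducibleSpace Y] [IrreducibleSpace X] (f : Y ⟶ X)
    (h : f (genericPoint Y) = genericPoint X) (y : Y) (a : X.presheaf.stalk (f y)) :
    Y.presheaf.stalkSpecializes (genericPoint_specializes y) (f.stalkMap y a) =
      ffMap f h (X.presheaf.stalkSpecializes (genericPoint_specializes (f y)) a) := by
  rw [← Scheme.Hom.stalkSpecializes_stalkMap_apply]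
  show _ = f.stalkMap (genericPoint Y) (X.presheaf.stalkSpecializes (specializes_of_eq h)
    (X.presheaf.stalkSpecializes (genericPoint_specializes (f y)) a))
  refine congrArg (f.stalkMap (genericPoint Y)) ?_
  rw [← CommRingCat.comp_apply, TopCat.Presheaf.stalkSpecializes_comp]

variable {K : Type u} [Field K]

/-- The local ring at a point, as a subring of a field identified with the function field. -/
noncomputable def stalkRing {Y : Scheme.{u}} [IrreducibleSpace Y] (e : K ≃+* Y.functionField) (y : Y) : Subring K :=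
  ((e.symm.toRingHom).comp (Y.presheaf.stalkSpecializes (genericPoint_specializes y)).hom).range

theorem mem_stalkRing {Y : Scheme.{u}} [IrreducibleSpace Y] (e : K ≃+* Y.functionField) (y : Y) (x : K) :
    x ∈ stalkRing e y ↔ ∃ a, Y.presheaf.stalkSpecializes (genericPoint_specializes y) a = e x :=
  ⟨fun ⟨a, ha⟩ => ⟨a, by rw [← ha]; exact (e.apply_symm_apply _).symm⟩, fun ⟨a, ha⟩ => ⟨a, by
    show e.symm _ = x
    rw [show (Y.presheaf.stalkSpecializes (genericPoint_specializes y)).hom a = e x from ha]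
    exact e.symm_apply_apply x⟩⟩

/-- The local ring at a point is isomorphic to its image. -/
noncomputable def stalkRingEquiv {Y : Scheme.{u}} [IsIntegral Y] (e : K ≃+* Y.functionField) (y : Y) :
    Y.presheaf.stalk y ≃+* stalkRing e y :=
  RingEquiv.ofBijective (((e.symm.toRingHom).comp
      (Y.presheaf.stalkSpecializes (genericPoint_specializes y)).hom).rangeRestrict)
    ⟨fun a b h => IsFractionRing.injective (Y.presheaf.stalk y) Y.functionField
      (e.symm.injective (congrArg Subtype.val h)), RingHom.rangeRestrict_surjective _⟩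

theorem stalkRingEquiv_apply {Y : Scheme.{u}} [IsIntegral Y] (e : K ≃+* Y.functionField) (y : Y)
    (a : Y.presheaf.stalk y) :
    e (stalkRingEquiv e y a : K) = Y.presheaf.stalkSpecializes (genericPoint_specializes y) a :=
  e.apply_symm_apply _

/-- A factorial noetherian local subring with fraction field `K` and two-generated maximal ideal. -/
structure NiceSub (A : Subring K) : Prop where
  isLocal : IsLocalRing A
  ufd : UniqueFactorizationMonoid A
  noeth : IsNoetherianRing A
  frac : ∀ x : K, ∃ p ∈ A, ∃ q ∈ A, q ≠ 0 ∧ x = p / q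
  two : ∃ a b : A, maximalIdeal A = Ideal.span {a, b}

/-- The element `z` is not defined at the point with local ring `A`. -/
def IsBadAt (z : K) (A : Subring K) : Prop := z ∉ A ∧ z⁻¹ ∉ A

/-- One quadratic transformation keeping `z` undefined. -/
def QStep (z : K) (A' A : Subring K) : Prop :=
  ∃ (hA' : NiceSub A') (hA : NiceSub A), A ≤ A' ∧ IsBadAt z A ∧ IsBadAt z A' ∧
    @mSet _ _ A hA.isLocal ⊆ @mSet _ _ A' hA'.isLocal ∧
    ∃ g ∈ @mSet _ _ A' hA'.isLocal, ∀ x ∈ @mSet _ _ A hA.isLocal, ∃ y ∈ A', x = g * y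

theorem wellFounded_qStep (z : K) : WellFounded (QStep z) := by
  rw [wellFounded_iff_isEmpty_descending_chain]
  refine ⟨fun ⟨A, hA⟩ => ?_⟩
  have hn : ∀ n, NiceSub (A n) := fun n => (hA n).2.1
  haveI : ∀ n, IsLocalRing (A n) := fun n => (hn n).isLocal
  haveI : ∀ n, UniqueFactorizationMonoid (A n) := fun n => (hn n).ufd
  haveI := (hn 0).noeth
  obtain ⟨n, h⟩ := exists_mem_chain A (monotone_nat_of_le_succ fun n => (hA n).2.2.1)
    (fun n => (hA n).2.2.2.2.2.1) (fun n => (hA n).2.2.2.2.2.2) (hn 0).frac (hn 0).two z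
  obtain ⟨-, -, -, hbad, -⟩ := hA n
  exact h.elim hbad.1 hbad.2

theorem niceSub_stalkRing {Y : Scheme.{u}} (hY : RegSurf Y) [IsIntegral Y] (e : K ≃+* Y.functionField) (y : Y) :
    NiceSub (stalkRing e y) := by
  haveI := hY.noeth
  haveI := hY.regular y
  haveI : UniqueFactorizationMonoid (Y.presheaf.stalk y) := CAlgH3.ufm_of_regular _
  let E := stalkRingEquiv e y
  haveI hloc : IsLocalRing (stalkRing e y) := E.isLocalRing
  refine ⟨hloc, MulEquiv.uniqueFactorizationMonoid E.toMulEquiv inferInstance, isNoetherianRing_of_ringEquiv _ E,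
    fun x => ?_, ?_⟩
  · obtain ⟨p, q, hq, hpq⟩ := IsFractionRing.div_surjective (A := Y.presheaf.stalk y) (K := Y.functionField) (e x)
    refine ⟨_, (E p).2, _, (E q).2, ?_, e.injective ?_⟩
    · intro h
      exact nonZeroDivisors.ne_zero hq (E.injective (Subtype.ext (by rw [h, map_zero]; rfl)))
    · rw [map_div₀, stalkRingEquiv_apply, stalkRingEquiv_apply]
      exact hpq.symm
  · obtain ⟨a, b, hab⟩ := exists_pair_of_spanFinrank (maximalIdeal (Y.presheaf.stalk y)) (by
      have h1 : ((maximalIdeal (Y.presheaf.stalk y)).spanFinrank : WithBot ℕ∞) ≤ 2 := by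
        rw [IsRegularLocalRing.spanFinrank_maximalIdeal]
        exact (CurvesLib24.stalk_dim_le_topologicalKrullDim y).trans hY.dim
      exact_mod_cast h1)
    refine ⟨E a, E b, ?_⟩
    have hmap : (maximalIdeal (Y.presheaf.stalk y)).map E.toRingHom = maximalIdeal (stalkRing e y) := by
      haveI : ((maximalIdeal (Y.presheaf.stalk y)).map E.toRingHom).IsMaximal :=
        Ideal.map_isMaximal_of_equiv E
      exact IsLocalRing.eq_maximalIdeal inferInstance
    rw [← hmap, hab, Ideal.map_span, Set.image_pair]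
    rfl

theorem stalkRingEquiv_mem_mSet {Y : Scheme.{u}} [IsIntegral Y] (e : K ≃+* Y.functionField) (y : Y)
    [IsLocalRing (stalkRing e y)] (a : Y.presheaf.stalk y) :
    (stalkRingEquiv e y a : K) ∈ mSet (stalkRing e y) ↔ a ∈ maximalIdeal (Y.presheaf.stalk y) := by
  rw [mem_mSet_iff, mem_maximalIdeal, mem_maximalIdeal, mem_nonunits_iff, mem_nonunits_iff,
    MulEquiv.isUnit_map]

variable {Y : Scheme.{u}}

/-- The points where `z` is undefined. -/
def badSet [IrreducibleSpace Y] (e : K ≃+* Y.functionField) (z : K) : Set Y := {y | IsBadAt z (stalkRing e y)}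

theorem isOpen_mem_stalkRing [IrreducibleSpace Y] (e : K ≃+* Y.functionField) (z : K) :
    IsOpen {y : Y | z ∈ stalkRing e y} := by
  rw [isOpen_iff_forall_mem_open]
  intro y hy
  obtain ⟨a, ha⟩ := (mem_stalkRing e y z).1 hy
  obtain ⟨U, hyU, s, rfl⟩ := Y.presheaf.exists_germ_eq a
  refine ⟨U, fun y' hy' => (mem_stalkRing e y' z).2 ⟨Y.presheaf.germ U y' hy' s, ?_⟩, U.2, hyU⟩
  rw [← ha, ← CommRingCat.comp_apply, ← CommRingCat.comp_apply, TopCat.Presheaf.germ_stalkSpecializes,
    TopCat.Presheaf.germ_stalkSpecializes]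

theorem finite_badSet (hY : RegSurf Y) [IsIntegral Y] (e : K ≃+* Y.functionField) (z : K) :
    (badSet e z).Finite ∧ ∀ y ∈ badSet e z, IsClosed ({y} : Set Y) ∧ y ≠ genericPoint Y := by
  haveI := hY.noeth
  haveI := hY.compact
  haveI : IsNoetherian Y := {}
  have hcl : IsClosed (badSet e z) := by
    have : badSet e z = {y : Y | z ∈ stalkRing e y}ᶜ ∩ {y : Y | z⁻¹ ∈ stalkRing e y}ᶜ := rfl
    rw [this]
    exact (isOpen_mem_stalkRing e z).isClosed_compl.inter (isOpen_mem_stalkRing e z⁻¹).isClosed_compl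
  have hpt : ∀ y ∈ badSet e z, IsClosed ({y} : Set Y) := by
    intro y hy
    by_contra hc
    haveI := valuationRing_of_not_closed hY.isNormal hY.dim hc
    rcases ValuationRing.isInteger_or_isInteger (Y.presheaf.stalk y) (e z) with ⟨a, ha⟩ | ⟨a, ha⟩
    · exact hy.1 ((mem_stalkRing e y z).2 ⟨a, ha⟩)
    · exact hy.2 ((mem_stalkRing e y z⁻¹).2 ⟨a, ha.trans (map_inv₀ e z).symm⟩)
  refine ⟨?_, fun y hy => ⟨hpt y hy, fun h => ?_⟩⟩
  · obtain ⟨S, hSf, hSc, hSi, hSU⟩ := NoetherianSpace.exists_finite_set_isClosed_irreducible hcl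
    rw [hSU]
    refine hSf.sUnion fun t ht => Set.Subsingleton.finite ?_
    obtain ⟨η, hη⟩ := QuasiSober.sober (hSi t ht) (hSc t ht)
    have hηc := hpt η (hSU.ge ⟨t, ht, hη.mem⟩)
    intro a ha b hb
    have e1 : a = η := (hη.specializes ha).mem_closed hηc rfl
    have e2 : b = η := (hη.specializes hb).mem_closed hηc rfl
    rw [e1, e2]
  · refine hy.1 ((mem_stalkRing e y z).2 ?_)
    subst h
    exact ⟨e z, DFunLike.congr_fun (congrArg CommRingCat.Hom.hom (Y.presheaf.stalkSpecializes_refl _)) (e z)⟩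

/-- Undefinedness goes down along birational morphisms. -/
theorem stalkRing_le {Y' : Scheme.{u}} [IsIntegral Y] [IsIntegral Y'] (b : Y' ⟶ Y)
    (hgen : b (genericPoint Y') = genericPoint Y) (e : K ≃+* Y.functionField) (e' : K ≃+* Y'.functionField)
    (he : ∀ x, e' x = ffMap b hgen (e x)) (y' : Y') : stalkRing e (b y') ≤ stalkRing e' y' := by
  intro x hx
  obtain ⟨a, ha⟩ := (mem_stalkRing e _ x).1 hx
  exact (mem_stalkRing e' y' x).2 ⟨b.stalkMap y' a, by rw [ffMap_germ b hgen, ha, he]⟩

/-- Blowing up one bad point. -/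
theorem exists_cutExpand (hY : RegSurf Y) [IsIntegral Y] (e : K ≃+* Y.functionField) (z : K) {y₀ : Y}
    (hy₀ : y₀ ∈ badSet e z) :
    ∃ (Y' : Scheme.{u}) (b : Y' ⟶ Y) (hY' : RegSurf Y') (_ : IsIntegral Y') (e' : K ≃+* Y'.functionField),
      PtSeq b ∧ IsProper b ∧ (∀ (hgen : b (genericPoint Y') = genericPoint Y) x, e' x = ffMap b hgen (e x)) ∧
      b (genericPoint Y') = genericPoint Y ∧
      Relation.CutExpand (QStep z) ((finite_badSet hY' e' z).1.toFinset.val.map (stalkRing e'))
        ((finite_badSet hY e z).1.toFinset.val.map (stalkRing e)) := by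
  classical
  haveI := hY.noeth
  obtain ⟨hcl, hne⟩ := (finite_badSet hY e z).2 y₀ hy₀
  obtain ⟨Y', b, hb⟩ := BlowUpLib.exists_isBlowUp (Scheme.IdealSheafData.vanishingIdeal ⟨{y₀}, hcl⟩)
  obtain ⟨hY', hprop, hiso⟩ := hY.pointBlowUp y₀ hcl hne b hb
  haveI := hY'.integral
  haveI := hY'.noeth
  let U : Y.Opens := ⟨{y₀}ᶜ, hcl.isOpen_compl⟩
  obtain ⟨hgen, hbij⟩ := Coherent.birational_of_isIso_morphismRestrict b U ⟨genericPoint Y, hne.symm⟩
  haveI : IsIso (b.stalkMap (genericPoint Y')) := (ConcreteCategory.isIso_iff_bijective _).2 hbij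
  let e' : K ≃+* Y'.functionField := e.trans (RingEquiv.ofBijective _ (ffMap_bijective b hgen))
  have he : ∀ x, e' x = ffMap b hgen (e x) := fun x => rfl
  have hPt : PtSeq b := by
    rw [← Category.comp_id b]
    exact PtSeq.step b _ y₀ hcl (fun {_} => hne) hb (PtSeq.id Y)
  refine ⟨Y', b, hY', inferInstance, e', hPt, hprop, fun _ x => he x, hgen, ?_⟩
  let B := (finite_badSet hY e z).1.toFinset
  let B' := (finite_badSet hY' e' z).1.toFinset
  have hle := stalkRing_le b hgen e e' he
  have hdown : ∀ y' ∈ B', b y' ∈ B := fun y' hy' => by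
    rw [Set.Finite.mem_toFinset] at hy' ⊢
    exact ⟨fun h => hy'.1 (hle y' h), fun h => hy'.2 (hle y' h)⟩
  have hoff : ∀ y' : Y', b y' ≠ y₀ → stalkRing e' y' = stalkRing e (b y') := by
    intro y' hy'
    refine le_antisymm (fun x hx => ?_) (hle y')
    haveI := hiso
    haveI : IsIso (b.stalkMap y') := by
      haveI : IsIso ((b ∣_ U).stalkMap ⟨y', hy'⟩) :=
        ((isIso_iff_isIso_stalkMap (b ∣_ U)).mp hiso).2 ⟨y', hy'⟩
      exact (MorphismProperty.isomorphisms CommRingCat.{u}).arrow_mk_iso_iff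
        (morphismRestrictStalkMap b U ⟨y', hy'⟩) |>.mp this
    obtain ⟨a, ha⟩ := (mem_stalkRing e' y' x).1 hx
    obtain ⟨a₀, rfl⟩ := (ConcreteCategory.bijective_of_isIso (b.stalkMap y')).2 a
    refine (mem_stalkRing e _ x).2 ⟨a₀, (ffMap_bijective b hgen).1 ?_⟩
    rw [← ffMap_germ b hgen, ha, he]
  refine ⟨(B'.filter (fun y' => b y' = y₀)).val.map (stalkRing e'), stalkRing e y₀, ?_, ?_⟩
  · intro A hA
    rw [Multiset.mem_map] at hA
    obtain ⟨y', hy', rfl⟩ := hA
    obtain ⟨hy'B, rfl⟩ := Finset.mem_filter.1 hy'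
    have hA' := niceSub_stalkRing hY' e' y'
    have hA₀ := niceSub_stalkRing hY e (b y')
    haveI := hA'.isLocal
    haveI := hA₀.isLocal
    refine ⟨hA', hA₀, hle y', hy₀, (Set.Finite.mem_toFinset (hs := (finite_badSet hY' e' z).1)).1 hy'B, ?_, ?_⟩
    · intro x hx
      obtain ⟨a, ha⟩ := (stalkRingEquiv e (b y')).surjective ⟨x, hx.1⟩
      have hxa : (stalkRingEquiv e (b y') a : K) = x := congrArg Subtype.val ha
      have hm : a ∈ maximalIdeal (Y.presheaf.stalk (b y')) := (stalkRingEquiv_mem_mSet e _ a).1 (hxa ▸ hx)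
      have hxe : (stalkRingEquiv e' y' (b.stalkMap y' a) : K) = x := by
        apply e'.injective
        rw [stalkRingEquiv_apply, ffMap_germ b hgen, he, ← hxa, stalkRingEquiv_apply]
      rw [← hxe, stalkRingEquiv_mem_mSet]
      exact fun hu => hm (IsLocalHom.map_nonunit (f := (b.stalkMap y').hom) a hu)
    · obtain ⟨g, -, hgen'⟩ := exists_gen hb.1 y'
      rw [stk_comap, stk_vanishingIdeal_point] at hgen'
      refine ⟨stalkRingEquiv e' y' g, ?_, fun x hx => ?_⟩
      · rw [stalkRingEquiv_mem_mSet]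
        refine SetLike.le_def.1 ?_ (hgen'.ge (Ideal.mem_span_singleton_self g))
        rw [Ideal.map_le_iff_le_comap]
        exact fun a ha hu => ha (IsLocalHom.map_nonunit (f := (b.stalkMap y').hom) a hu)
      · obtain ⟨a, ha⟩ := (stalkRingEquiv e (b y')).surjective ⟨x, hx.1⟩
        have hxa : (stalkRingEquiv e (b y') a : K) = x := congrArg Subtype.val ha
        have hm : a ∈ maximalIdeal (Y.presheaf.stalk (b y')) := (stalkRingEquiv_mem_mSet e _ a).1 (hxa ▸ hx)
        obtain ⟨c, hc⟩ := Ideal.mem_span_singleton'.1 (hgen'.le (Ideal.mem_map_of_mem _ hm))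
        refine ⟨_, (stalkRingEquiv e' y' c).2, e'.injective ?_⟩
        rw [map_mul, stalkRingEquiv_apply, stalkRingEquiv_apply, ← map_mul, mul_comm g c, hc,
          ffMap_germ b hgen, he, ← hxa, stalkRingEquiv_apply]
  · have hbijOn : (B'.filter (fun y' => ¬ b y' = y₀)).val.map b = (B.erase y₀).val := by
      have hinj : Set.InjOn b (B'.filter (fun y' => ¬ b y' = y₀) : Set Y') := by
        intro a ha a' _ h
        have ha' : b a ∈ U := (Finset.mem_filter.1 ha).2
        have eq1 : (b ∣_ U) ⟨a, ha'⟩ = (b ∣_ U) ⟨a', by show b a' ∈ U; exact h ▸ ha'⟩ :=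
          Subtype.ext (by rw [morphismRestrict_base_coe, morphismRestrict_base_coe]; exact h)
        haveI := hiso
        exact congrArg Subtype.val ((b ∣_ U).homeomorph.injective eq1)
      rw [← Finset.image_val_of_injOn hinj]
      congr 1
      ext y
      simp only [Finset.mem_image, Finset.mem_filter, Finset.mem_erase]
      refine ⟨?_, fun ⟨hy, hyB⟩ => ?_⟩
      · rintro ⟨y', ⟨hy', hne'⟩, rfl⟩
        exact ⟨hne', hdown y' hy'⟩
      · haveI := hiso
        obtain ⟨⟨y', hy'U⟩, hy'⟩ := (b ∣_ U).homeomorph.surjective ⟨y, hy⟩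
        have hby : b y' = y := (morphismRestrict_base_coe b U ⟨y', hy'U⟩).symm.trans (congrArg Subtype.val hy')
        have hS := hoff y' (hby ▸ hy)
        refine ⟨y', ⟨(Set.Finite.mem_toFinset _).2 ?_, hby ▸ hy⟩, hby⟩
        show IsBadAt z (stalkRing e' y')
        rw [hS, hby]
        exact (Set.Finite.mem_toFinset (hs := (finite_badSet hY e z).1)).1 hyB
    have hy₀B : y₀ ∈ B := (Set.Finite.mem_toFinset _).2 hy₀
    have hmap : (B'.filter (fun y' => ¬ b y' = y₀)).val.map (stalkRing e') = (B.erase y₀).val.map (stalkRing e) := by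
      rw [← hbijOn, Multiset.map_map]
      exact Multiset.map_congr rfl fun y' hy' => hoff y' (Finset.mem_filter.1 hy').2
    show B'.val.map (stalkRing e') + {stalkRing e y₀} = B.val.map (stalkRing e) + _
    rw [← Multiset.filter_add_not (fun y' => b y' = y₀) B'.val, Multiset.map_add]
    rw [Finset.filter_val] at hmap ⊢
    rw [hmap, Finset.erase_val]
    conv_rhs => rw [← Multiset.cons_erase hy₀B, Multiset.map_cons]
    rw [← Multiset.singleton_add]
    abel

/-- Finitely many rational functions become everywhere defined up to inversion. -/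
theorem exists_good (hY : RegSurf Y) [IsIntegral Y] (e : K ≃+* Y.functionField) (s : Finset K) :
    ∃ (Y' : Scheme.{u}) (b : Y' ⟶ Y) (_ : RegSurf Y') (_ : IsIntegral Y') (e' : K ≃+* Y'.functionField)
      (hgen : b (genericPoint Y') = genericPoint Y),
      PtSeq b ∧ IsProper b ∧ (∀ x, e' x = ffMap b hgen (e x)) ∧ ∀ z ∈ s, badSet e' z = ∅ := by
  classical
  have hcomp : ∀ {A B C : Scheme.{u}} [IsIntegral A] [IsIntegral B] [IsIntegral C] (f : A ⟶ B) (g : B ⟶ C)
      (hf : f (genericPoint A) = genericPoint B) (hg : g (genericPoint B) = genericPoint C)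
      (hfg : (f ≫ g) (genericPoint A) = genericPoint C) (x : C.functionField),
      ffMap (f ≫ g) hfg x = ffMap f hf (ffMap g hg x) := by
    intro A B C _ _ _ f g hf hg hfg x
    show (f ≫ g).stalkMap (genericPoint A) (C.presheaf.stalkSpecializes (specializes_of_eq hfg) x) =
      f.stalkMap (genericPoint A) (B.presheaf.stalkSpecializes (specializes_of_eq hf)
        (g.stalkMap (genericPoint B) (C.presheaf.stalkSpecializes (specializes_of_eq hg) x)))
    rw [Scheme.Hom.stalkMap_comp, CommRingCat.comp_apply]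
    refine congrArg (f.stalkMap (genericPoint A)) ?_
    refine Eq.trans ?_ (Scheme.Hom.stalkSpecializes_stalkMap_apply g _ _ (specializes_of_eq hf) _)
    refine congrArg (g.stalkMap (f (genericPoint A))) ?_
    exact (DFunLike.congr_fun (congrArg CommRingCat.Hom.hom
      (C.presheaf.stalkSpecializes_comp _ (specializes_of_eq hg))) x).symm
  have one : ∀ (z : K) (M : Multiset (Subring K)) (Y : Scheme.{u}) (hY : RegSurf Y) (_ : IsIntegral Y)
      (e : K ≃+* Y.functionField), (finite_badSet hY e z).1.toFinset.val.map (stalkRing e) = M →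
      ∃ (Y' : Scheme.{u}) (b : Y' ⟶ Y) (_ : RegSurf Y') (_ : IsIntegral Y') (e' : K ≃+* Y'.functionField)
      (hgen : b (genericPoint Y') = genericPoint Y),
      PtSeq b ∧ IsProper b ∧ (∀ x, e' x = ffMap b hgen (e x)) ∧ badSet e' z = ∅ := by
    intro z M
    induction M using (wellFounded_qStep z).cutExpand.induction with
    | _ M ih =>
      intro Y hY _ e hM
      by_cases hempty : badSet e z = ∅
      · refine ⟨Y, 𝟙 Y, hY, inferInstance, e, rfl, PtSeq.id Y, inferInstance, fun x => ?_, hempty⟩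
        show e x = (𝟙 Y : Y ⟶ Y).stalkMap (genericPoint Y) (Y.presheaf.stalkSpecializes _ (e x))
        rw [Scheme.Hom.stalkMap_id]
        exact (DFunLike.congr_fun (congrArg CommRingCat.Hom.hom (Y.presheaf.stalkSpecializes_refl _)) (e x)).symm
      · obtain ⟨y₀, hy₀⟩ := Set.nonempty_iff_ne_empty.2 hempty
        obtain ⟨Y₁, b₁, hY₁, _, e₁, hP₁, hpr₁, he₁, hg₁, hcut⟩ := exists_cutExpand hY e z hy₀
        obtain ⟨Y₂, b₂, hY₂, _, e₂, hg₂, hP₂, hpr₂, he₂, hgood⟩ := ih _ (hM ▸ hcut) Y₁ hY₁ inferInstance e₁ rfl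
        have hg : (b₂ ≫ b₁) (genericPoint Y₂) = genericPoint Y := by
          rw [Scheme.Hom.comp_apply, hg₂, hg₁]
        exact ⟨Y₂, b₂ ≫ b₁, hY₂, inferInstance, e₂, hg, hP₂.trans hP₁, inferInstance,
          fun x => by rw [he₂, he₁ hg₁, hcomp b₂ b₁ hg₂ hg₁ hg], hgood⟩
  induction s using Finset.induction_on with
  | empty =>
    refine ⟨Y, 𝟙 Y, hY, inferInstance, e, rfl, PtSeq.id Y, inferInstance, fun x => ?_, by simp⟩
    show e x = (𝟙 Y : Y ⟶ Y).stalkMap (genericPoint Y) (Y.presheaf.stalkSpecializes _ (e x))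
    rw [Scheme.Hom.stalkMap_id]
    exact (DFunLike.congr_fun (congrArg CommRingCat.Hom.hom (Y.presheaf.stalkSpecializes_refl _)) (e x)).symm
  | insert z s hzs ih =>
    obtain ⟨Y₁, b₁, hY₁, _, e₁, hg₁, hP₁, hpr₁, he₁, hgood₁⟩ := ih
    obtain ⟨Y₂, b₂, hY₂, _, e₂, hg₂, hP₂, hpr₂, he₂, hgood⟩ := one z _ Y₁ hY₁ inferInstance e₁ rfl
    have hg : (b₂ ≫ b₁) (genericPoint Y₂) = genericPoint Y := by rw [Scheme.Hom.comp_apply, hg₂, hg₁]
    refine ⟨Y₂, b₂ ≫ b₁, hY₂, inferInstance, e₂, hg, hP₂.trans hP₁, inferInstance,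
      fun x => by rw [he₂, he₁, hcomp b₂ b₁ hg₂ hg₁ hg], fun w hw => ?_⟩
    rcases Finset.mem_insert.1 hw with rfl | hw
    · exact hgood
    · refine Set.eq_empty_of_forall_notMem fun y hy => (hgood₁ w hw).le (?_ : b₂ y ∈ badSet e₁ w)
      exact ⟨fun h => hy.1 (stalkRing_le b₂ hg₂ e₁ e₂ he₂ y h), fun h => hy.2 (stalkRing_le b₂ hg₂ e₁ e₂ he₂ y h)⟩

end Groth.Agent.Models7
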