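import Groth.Agent.Models7.CurveBC
import Groth.Agent.Models7.ExcTransfer
import Groth.Agent.Models7.ExcCriterion
import Groth.Agent.Models7.SteinContract
import Groth.Agent.AlgSpLib.EtaleAscend
import Groth.Agent.SDiv28.BlowUp
import Groth.Agent.Quot8.TwistMap
import Groth.Agent.DimLib.ProjDim
import Groth.Agent.FlatMorThick.FiniteOrder

/-!
# Exceptional curves along unramified extensions of the base
-/

set_option autoImplicit false
set_option linter.style.haveILetI false
set_option backward.isDefEq.respectTransparency false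
set_option maxHeartbeats 2000000

universe u

open CategoryTheory CategoryTheory.Limits AlgebraicGeometry TopologicalSpace IsLocalRing
open Groth.Agent.Coherent Groth.Agent.PicLib Groth.Agent.AmpleLib

namespace Groth.Agent.Models7

/-- Reduced closed subschemes with the same trace on an open have the same ideal there. -/
theorem comap_ker_eq_of_range {T A B : Scheme.{u}} (ιA : A ⟶ T) (ιB : B ⟶ T) [IsClosedImmersion ιA]
    [IsClosedImmersion ιB] [IsReduced A] [IsReduced B] (V : T.Opens)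
    (h : Set.range ιA.base ∩ V = Set.range ιB.base ∩ V) : ιA.ker.comap V.ι = ιB.ker.comap V.ι := by
  have hA := IsPullback.of_hasPullback ιA V.ι
  have hB := IsPullback.of_hasPullback ιB V.ι
  rw [← FlatMorThick.ker_eq_comap_of_isPullback hA.flip, ← FlatMorThick.ker_eq_comap_of_isPullback hB.flip]
  haveI : IsReduced (pullback ιA V.ι) := isReduced_of_isOpenImmersion (pullback.fst ιA V.ι)
  haveI : IsReduced (pullback ιB V.ι) := isReduced_of_isOpenImmersion (pullback.fst ιB V.ι)
  rw [Props12.ker_eq_vanishingIdeal, Props12.ker_eq_vanishingIdeal]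
  congr 1
  refine Closeds.ext (congrArg closure ?_)
  rw [Scheme.Pullback.range_snd, Scheme.Pullback.range_snd]
  ext v
  have hv : V.ι v ∈ (V : Set T) := v.2
  exact ⟨fun hh => (h.le ⟨hh, hv⟩).1, fun hh => (h.ge ⟨hh, hv⟩).1⟩

/-- Conormal modules match along a flat map near a reduced closed subscheme which is all of a reduced preimage. -/
theorem conormal_match {T X G E : Scheme.{u}} (q : T ⟶ X) [Flat q] (ι : G ⟶ X) [IsClosedImmersion ι]
    [IsReduced (pullback ι q)] (ιE : E ⟶ T) [IsClosedImmersion ιE] [IsReduced E]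
    (hG : BlowUp.IsEffCartierIdeal ι.ker) (hE : BlowUp.IsEffCartierIdeal ιE.ker)
    (V : T.Opens) (hV : Set.range ιE.base ⊆ V) (hle : (q.base ⁻¹' Set.range ι.base) ∩ V ⊆ Set.range ιE.base)
    (hsub : Set.range ιE.base ⊆ q.base ⁻¹' Set.range ι.base) (b : E ⟶ G) (hb : b ≫ ι = ιE ≫ q) :
    Nonempty ((Scheme.Modules.pullback b).obj ((Scheme.Modules.pullback ι).obj (ClSub.idealMod ι.ker)) ≅
      (Scheme.Modules.pullback ιE).obj (ClSub.idealMod ιE.ker)) := by
  let J := ι.ker.comap q
  have hJ : BlowUp.IsEffCartierIdeal J := SDiv28.isEffCartier_comap_of_flat hG q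
  let ι' := pullback.snd ι q
  have hJker : ι'.ker = J := FlatMorThick.ker_eq_comap_of_isPullback (IsPullback.of_hasPullback ι q).flip
  have hcomap : J.comap V.ι = ιE.ker.comap V.ι := by
    rw [← hJker]
    refine comap_ker_eq_of_range ι' ιE V ?_
    rw [Scheme.Pullback.range_snd]
    exact Set.Subset.antisymm (fun t ht => ⟨hle ht, ht.2⟩) fun t ht => ⟨hsub ht.1, ht.2⟩
  have hr : Set.range ιE.base ⊆ Set.range V.ι.base := by rw [Scheme.Opens.range_ι]; exact hV
  let eV := IsOpenImmersion.lift V.ι ιE hr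
  have heV : eV ≫ V.ι = ιE := IsOpenImmersion.lift_fac _ _ _
  obtain ⟨ψ⟩ := Inters29.nonempty_pullback_idealMod_iso q ι.ker hG hJ
  have hJV := SDiv28.isEffCartier_comap_of_flat hJ V.ι
  obtain ⟨α⟩ := Inters29.nonempty_pullback_idealMod_iso V.ι J hJ hJV
  obtain ⟨β⟩ := Inters29.nonempty_pullback_idealMod_iso V.ι ιE.ker hE (SDiv28.isEffCartier_comap_of_flat hE V.ι)
  exact ⟨(Scheme.Modules.pullbackComp b ι).app _ ≪≫ (Scheme.Modules.pullbackCongr hb).app _ ≪≫
    ((Scheme.Modules.pullbackComp ιE q).app _).symm ≪≫ (Scheme.Modules.pullback ιE).mapIso ψ ≪≫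
    (Scheme.Modules.pullbackCongr heV.symm).app _ ≪≫ ((Scheme.Modules.pullbackComp eV V.ι).app _).symm ≪≫
    (Scheme.Modules.pullback eV).mapIso (α ≪≫ eqToIso (congrArg ClSub.idealMod hcomap) ≪≫ β.symm) ≪≫
    (Scheme.Modules.pullbackComp eV V.ι).app _ ≪≫ (Scheme.Modules.pullbackCongr heV).app _⟩

variable {D D' : Type u} [CommRing D] [IsDomain D] [IsDiscreteValuationRing D]
  [CommRing D'] [IsDomain D'] [IsDiscreteValuationRing D'] [Algebra D D'] [IsLocalHom (algebraMap D D')]
  {X : Over (Spec (CommRingCat.of D))}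

variable {T : Over (Spec (CommRingCat.of D'))} {q : T.left ⟶ X.left}

/-- The preimage of a vertical curve is its base change along the residue fields. -/
theorem exists_bcCurve (hq : IsPullback q T.hom X.hom (Spec.map (CommRingCat.ofHom (algebraMap D D')))) (hm : (maximalIdeal D).map (algebraMap D D') = maximalIdeal D')
    (Γ : ArSurf.VertComp D X) :
    ∃ g' : pullback Γ.ι q ⟶ Spec (CommRingCat.of (ResidueField D')),
      IsPullback (pullback.fst Γ.ι q) g' Γ.curve.hom
        (Spec.map (CommRingCat.ofHom (algebraMap (ResidueField D) (ResidueField D')))) ∧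
      pullback.snd Γ.ι q ≫ T.hom =
        g' ≫ Spec.map (CommRingCat.ofHom (IsLocalRing.residue D')) := by
  have h1 := (IsPullback.of_hasPullback Γ.ι q).paste_vert hq
  have hs := isPullback_residue (D := D) (D' := D') hm
  have hw : (pullback.fst Γ.ι q ≫ Γ.curve.hom) ≫ Spec.map (CommRingCat.ofHom (IsLocalRing.residue D)) =
      (pullback.snd Γ.ι q ≫ T.hom) ≫ Spec.map (CommRingCat.ofHom (algebraMap D D')) := by
    rw [Category.assoc, ← Γ.w]
    exact h1.w
  refine ⟨hs.lift _ _ hw, IsPullback.of_bot ?_ (hs.lift_fst _ _ hw).symm hs, (hs.lift_snd _ _ hw).symm⟩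
  rw [hs.lift_snd, ← Γ.w]
  exact h1

variable [Algebra.IsSeparable (ResidueField D) (ResidueField D')] [FiniteDimensional (ResidueField D) (ResidueField D')]

theorem isReduced_bcCurve (hq : IsPullback q T.hom X.hom (Spec.map (CommRingCat.ofHom (algebraMap D D')))) (hm : (maximalIdeal D).map (algebraMap D D') = maximalIdeal D')
    (Γ : ArSurf.VertComp D X) : IsReduced (pullback Γ.ι q) := by
  obtain ⟨g', hg', -⟩ := exists_bcCurve hq hm Γ
  haveI : Algebra.FormallyEtale (ResidueField D) (ResidueField D') :=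
    (Algebra.FormallyEtale.iff_isSeparable _ _).2 inferInstance
  haveI : Algebra.FinitePresentation (ResidueField D) (ResidueField D') :=
    (Algebra.FinitePresentation.of_finiteType).1 inferInstance
  haveI : Algebra.Etale (ResidueField D) (ResidueField D') := ⟨inferInstance, inferInstance⟩
  haveI : Etale (Spec.map (CommRingCat.ofHom (algebraMap (ResidueField D) (ResidueField D')))) :=
    (HasRingHomProperty.Spec_iff (P := @Etale)).2 (RingHom.etale_algebraMap.2 inferInstance)
  haveI : Etale (pullback.fst Γ.ι q) :=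
    MorphismProperty.of_isPullback (P := @Etale) hg'.flip inferInstance
  exact AlgSpLib.isReduced_of_etale' (pullback.fst Γ.ι q)

/-- Every point above an exceptional curve lies on an exceptional curve of the base change above it. -/
theorem exists_exc_up (hq : IsPullback q T.hom X.hom (Spec.map (CommRingCat.ofHom (algebraMap D D')))) (hX : ArSurf.IsArithSurface D X) (hT : ArSurf.IsArithSurface D' T)
    (hflat : Flat q) (hm : (maximalIdeal D).map (algebraMap D D') = maximalIdeal D')
    (E : ArSurf.VertComp D X) (hE : Models.IsExcCurve E.ι) (a : T.left)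
    (ha : q a ∈ Set.range E.ι.base) :
    ∃ A : ArSurf.VertComp D' T, Models.IsExcCurve A.ι ∧ a ∈ Set.range A.ι.base ∧
      Set.range A.ι.base ⊆ q.base ⁻¹' Set.range E.ι.base := by
  classical
  haveI := hX.2.1
  haveI := hT.2.1
  haveI : IsProper X.hom := Models7.isProper_of_projective hX.2.2.2.2
  haveI : IsProper E.curve.hom := Inters29.isProper_curve D E
  haveI := isReduced_bcCurve hq hm E
  obtain ⟨g', hg', hgw⟩ := exists_bcCurve hq hm E
  let Y' := pullback E.ι q
  let ι' : Y' ⟶ T.left := pullback.snd E.ι q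
  haveI : IsClosedImmersion ι' := inferInstanceAs (IsClosedImmersion (pullback.snd E.ι q))
  obtain ⟨y, hy⟩ : a ∈ Set.range ι'.base := (Scheme.Pullback.range_snd E.ι q).ge ha
  obtain ⟨k₀, F, _, _, _, g₀, c, Z, j, hF, -, -, hg₀, hjo, hjc, hyj, sqZ, -⟩ :=
    exists_bcPiece E.curve.hom (pullback.fst E.ι q) g' hg' y
  haveI := hjo
  haveI := hjc
  obtain ⟨hD, k', _, e, ⟨φ⟩⟩ := hE
  obtain ⟨ψ, hψ⟩ := exists_constants (e.hom ≫ g₀)
  let P := CohB1.ProjSpace.toSpec 1 k'
  haveI := isIso_appTop_toSpec (n := 1) (R := k')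
  have hψb : Function.Bijective ψ := by
    have h1 : Function.Bijective (e.hom ≫ g₀).appTop := by
      rw [Scheme.Hom.comp_appTop]
      exact (ConcreteCategory.bijective_of_isIso e.hom.appTop).comp hg₀
    haveI : IsIso (e.hom ≫ g₀).appTop := (ConcreteCategory.isIso_iff_bijective _).2 h1
    haveI : IsIso ((Spec.map (CommRingCat.ofHom ψ)).appTop ≫ P.appTop) := by
      rw [← Scheme.Hom.comp_appTop, ← hψ]; infer_instance
    haveI : IsIso (Spec.map (CommRingCat.ofHom ψ)).appTop := IsIso.of_isIso_comp_right _ P.appTop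
    haveI : IsIso (CommRingCat.ofHom ψ) := by
      rw [show CommRingCat.ofHom ψ = (Scheme.ΓSpecIso _).inv ≫ (Spec.map (CommRingCat.ofHom ψ)).appTop ≫
        (Scheme.ΓSpecIso _).hom by rw [Scheme.ΓSpecIso_naturality, Iso.inv_hom_id_assoc]]
      infer_instance
    exact ConcreteCategory.bijective_of_isIso (CommRingCat.ofHom ψ)
  let ψe := RingEquiv.ofBijective ψ hψb
  letI : Algebra k' F := ((algebraMap k₀ F).comp ψe.symm.toRingHom).toAlgebra
  haveI : IsIso (Spec.map (CommRingCat.ofHom ψ)) := by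
    haveI : IsIso (CommRingCat.ofHom ψ) := (ConcreteCategory.isIso_iff_bijective _).2 hψb
    infer_instance
  have hcomp : Spec.map (CommRingCat.ofHom (algebraMap k' F)) ≫ Spec.map (CommRingCat.ofHom ψ) =
      Spec.map (CommRingCat.ofHom (algebraMap k₀ F)) := by
    rw [← Spec.map_comp, ← CommRingCat.ofHom_comp]
    congr 2
    exact RingHom.ext fun x => congrArg (algebraMap k₀ F) (ψe.symm_apply_apply x)
  let z : Z ⟶ E.curve.left := j ≫ pullback.fst E.ι q
  have sqP : IsPullback (z ≫ e.inv) hF P (Spec.map (CommRingCat.ofHom (algebraMap k' F))) := by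
    refine sqZ.of_iso (Iso.refl _) e.symm (Iso.refl _) (asIso (Spec.map (CommRingCat.ofHom ψ))).symm
      (by simp [z]) (by simp) ?_ ?_
    · simp only [asIso_inv, Iso.symm_hom]
      rw [IsIso.comp_inv_eq, Category.assoc, ← hψ, e.inv_hom_id_assoc]
    · simp only [asIso_inv, Iso.refl_hom, Category.id_comp, Iso.symm_hom]
      rw [IsIso.comp_inv_eq]
      exact hcomp.symm
  let eZ : CohB1.ProjSpace 1 F ≅ Z :=
    (isPullback_projSpace (n := 1) (R' := k') (R := F)).isoIsPullback _ _ sqP
  have heZ : eZ.hom ≫ z = Quot8.projChange 1 k' F ≫ e.hom := by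
    rw [← cancel_mono e.inv]
    refine (Category.assoc _ _ _).trans ((IsPullback.isoIsPullback_hom_fst _ _ _ sqP).trans ?_)
    rw [Category.assoc, e.hom_inv_id, Category.comp_id]
  haveI : IsIntegral Z := by
    haveI := CurveLib.isIntegral_projSpace F 1
    haveI : Nonempty Z := ⟨eZ.hom (genericPoint _)⟩
    exact isIntegral_of_isOpenImmersion eZ.inv
  let A : ArSurf.VertComp D' T :=
    { curve := Over.mk (j ≫ g'), ι := j ≫ ι', isClosedImmersion := inferInstanceAs (IsClosedImmersion (j ≫ ι'))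
      isIntegral := ‹IsIntegral Z›
      dim_eq := by
        show topologicalKrullDim Z = 1
        rw [← eZ.hom.homeomorph.isHomeomorph.topologicalKrullDim_eq]
        exact_mod_cast DimLib.PN.topologicalKrullDim_projSpace 1 F
      w := by
        show (j ≫ ι') ≫ _ = (j ≫ g') ≫ _
        rw [Category.assoc, Category.assoc, hgw] }
  have hAr : Set.range A.ι.base ⊆ q.base ⁻¹' Set.range E.ι.base := by
    rw [← Scheme.Pullback.range_snd E.ι q]
    show Set.range (j ≫ ι').base ⊆ _
    rw [Scheme.Hom.comp_base, TopCat.coe_comp]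
    exact Set.range_comp_subset_range _ _
  let V : T.left.Opens :=
    ⟨(ι'.base '' (Set.range j.base)ᶜ)ᶜ, (ι'.isClosedMap _ j.isOpenEmbedding.isOpen_range.isClosed_compl).isOpen_compl⟩
  haveI : IsLocallyNoetherian T.left := by
    haveI : IsProper T.hom := Models7.isProper_of_projective hT.2.2.2.2
    exact LocallyOfFiniteType.isLocallyNoetherian T.hom
  haveI := hT.2.2.2.1
  have hAD : BlowUp.IsEffCartierIdeal A.ι.ker := Inters29.isEffCartier_comp D' hT.1 hT.2.2.1.le A
  obtain ⟨θ⟩ := conormal_match q E.ι (j ≫ ι') hD hAD V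
    (by
      rintro _ ⟨w, rfl⟩ ⟨v, hv, hvw⟩
      exact hv ⟨w, (ι'.isClosedEmbedding.injective (hvw.trans (Scheme.Hom.comp_apply j ι' w))).symm⟩)
    (by
      rintro t ⟨ht, htV⟩
      obtain ⟨v, rfl⟩ := (Scheme.Pullback.range_snd E.ι q).ge ht
      obtain ⟨w, rfl⟩ : v ∈ Set.range j.base := by_contra fun hv => htV ⟨v, hv, rfl⟩
      exact ⟨w, Scheme.Hom.comp_apply j ι' w⟩)
    hAr z (by simp [z, ι', pullback.condition])
  refine ⟨A, ⟨hAD, F, inferInstance, eZ, ?_⟩, ?_, hAr⟩
  · obtain ⟨τ⟩ := Quot8.nonempty_pullback_twistProjSpace 1 k' F 1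
    exact ⟨((Scheme.Modules.pullbackComp eZ.hom (j ≫ ι')).app _).symm ≪≫
      (Scheme.Modules.pullback eZ.hom).mapIso θ.symm ≪≫ (Scheme.Modules.pullbackComp eZ.hom z).app _ ≪≫
      (Scheme.Modules.pullbackCongr heZ).app _ ≪≫
      ((Scheme.Modules.pullbackComp (Quot8.projChange 1 k' F) e.hom).app _).symm ≪≫
      (Scheme.Modules.pullback (Quot8.projChange 1 k' F)).mapIso
        ((Scheme.Modules.pullbackComp e.hom E.ι).app _ ≪≫ φ) ≪≫ τ⟩
  · obtain ⟨w, rfl⟩ := hyj
    exact ⟨w, (Scheme.Hom.comp_apply j ι' w).trans hy⟩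

/-- A curve under an exceptional curve which is isolated in the preimage is exceptional. -/
theorem exc_down (hq : IsPullback q T.hom X.hom (Spec.map (CommRingCat.ofHom (algebraMap D D')))) (hX : ArSurf.IsArithSurface D X) (hT : ArSurf.IsArithSurface D' T)
    (hflat : Flat q) (hm : (maximalIdeal D).map (algebraMap D D') = maximalIdeal D')
    (Γ : ArSurf.VertComp D X) (E : ArSurf.VertComp D' T) (hE : Models.IsExcCurve E.ι)
    (hsub : Set.range E.ι.base ⊆ q.base ⁻¹' Set.range Γ.ι.base)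
    (hiso : ∀ t ∈ q.base ⁻¹' Set.range Γ.ι.base, ∀ x ∈ Set.range E.ι.base, t ⤳ x →
      t ∈ Set.range E.ι.base) : Models.IsExcCurve Γ.ι := by
  classical
  haveI := hX.2.1
  haveI := hX.2.2.2.1
  haveI := hT.2.1
  haveI := hT.2.2.2.1
  haveI : IsProper X.hom := Models7.isProper_of_projective hX.2.2.2.2
  haveI : IsLocallyNoetherian X.left := LocallyOfFiniteType.isLocallyNoetherian X.hom
  haveI hTp : IsProper T.hom := Models7.isProper_of_projective hT.2.2.2.2
  haveI : IsLocallyNoetherian T.left := LocallyOfFiniteType.isLocallyNoetherian T.hom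
  haveI : CompactSpace T.left := QuasiCompact.compactSpace_of_compactSpace T.hom
  haveI : IsNoetherian T.left := {}
  haveI : IsProper Γ.curve.hom := Inters29.isProper_curve D Γ
  haveI := isReduced_bcCurve hq hm Γ
  obtain ⟨g', hg', hgw⟩ := exists_bcCurve hq hm Γ
  let Y' := pullback Γ.ι q
  let ι' : Y' ⟶ T.left := pullback.snd Γ.ι q
  haveI : IsClosedImmersion ι' := inferInstanceAs (IsClosedImmersion (pullback.snd Γ.ι q))
  have hrange : Set.range ι'.base = q.base ⁻¹' Set.range Γ.ι.base := Scheme.Pullback.range_snd _ _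
  -- the rest of the preimage is closed
  have hrest : IsClosed (q.base ⁻¹' Set.range Γ.ι.base \ Set.range E.ι.base) := by
    obtain ⟨S, hSf, hSc, hSi, hS⟩ := NoetherianSpace.exists_finite_set_isClosed_irreducible
      (Γ.ι.isClosedEmbedding.isClosed_range.preimage q.continuous)
    have heq : q.base ⁻¹' Set.range Γ.ι.base \ Set.range E.ι.base =
        ⋃ Z ∈ {Z ∈ S | ¬ Z ⊆ Set.range E.ι.base}, Z := by
      ext t
      simp only [Set.mem_diff, Set.mem_iUnion, Set.mem_setOf_eq, exists_prop]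
      constructor
      · rintro ⟨ht, htE⟩
        obtain ⟨Z, hZ, htZ⟩ := Set.mem_sUnion.1 (hS.le ht)
        exact ⟨Z, ⟨hZ, fun h => htE (h htZ)⟩, htZ⟩
      · rintro ⟨Z, ⟨hZ, hZE⟩, htZ⟩
        obtain ⟨z, hz⟩ := QuasiSober.sober (hSi Z hZ) (hSc Z hZ)
        refine ⟨hS.ge (Set.mem_sUnion.2 ⟨Z, hZ, htZ⟩), fun htE => hZE ?_⟩
        have hzE := hiso z (hS.ge (Set.mem_sUnion.2 ⟨Z, hZ, hz.mem⟩)) t htE (hz.specializes htZ)
        rw [← hz.def]
        exact closure_minimal (Set.singleton_subset_iff.2 hzE) E.ι.isClosedEmbedding.isClosed_range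
    rw [heq]
    exact (hSf.subset (Set.sep_subset _ _)).isClosed_biUnion fun Z hZ => hSc Z hZ.1
  let V : T.left.Opens := ⟨_, hrest.isOpen_compl⟩
  let O : Set Y' := ι'.base ⁻¹' Set.range E.ι.base
  have hO : IsClopen O := by
    refine ⟨E.ι.isClosedEmbedding.isClosed_range.preimage ι'.continuous, ?_⟩
    have : O = ι'.base ⁻¹' (V : Set T.left) := by
      ext v
      have hv : ι' v ∈ q.base ⁻¹' Set.range Γ.ι.base := hrange.le ⟨v, rfl⟩
      exact ⟨fun h hc => hc.2 h, fun h => by_contra fun hc => h ⟨hv, hc⟩⟩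
    rw [this]
    exact V.2.preimage ι'.continuous
  obtain ⟨y, hy⟩ := hrange.ge (hsub ⟨genericPoint E.curve.left, rfl⟩)
  obtain ⟨k₀, F, _, _, _, g₀, c, Z, j, hF, -, hgc, -, hjo, hjc, hyj, sqZ, hZc⟩ :=
    exists_bcPiece Γ.curve.hom (pullback.fst Γ.ι q) g' hg' y
  haveI := hjo
  haveI := hjc
  haveI := hZc
  have hjO : Set.range j.base ⊆ O := by
    obtain ⟨w, hw⟩ := hyj
    refine (isPreconnected_range j.continuous).subset_isClopen hO ⟨y, ⟨w, hw⟩, ?_⟩
    exact ⟨genericPoint E.curve.left, hy.symm⟩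
  have hEeq : Set.range (j ≫ ι').base = Set.range E.ι.base := by
    rw [Scheme.Hom.comp_base, TopCat.coe_comp, Set.range_comp]
    refine Set.Subset.antisymm (by rintro _ ⟨v, hv, rfl⟩; exact hjO hv) ?_
    have hgen := (genericPoint_spec E.curve.left).image E.ι.continuous
    rw [Set.image_univ, E.ι.isClosedEmbedding.isClosed_range.closure_eq] at hgen
    rw [← hgen.def]
    refine closure_minimal (Set.singleton_subset_iff.2 ⟨y, hyj, hy⟩) ?_
    exact ι'.isClosedMap _ j.isClosedEmbedding.isClosed_range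
  haveI : IsReduced Z := isReduced_of_isOpenImmersion j
  haveI : IsClosedImmersion (j ≫ ι') := inferInstance
  have hker : E.ι.ker = (j ≫ ι').ker := by
    rw [Props12.ker_eq_vanishingIdeal, Props12.ker_eq_vanishingIdeal]
    exact congrArg _ (Closeds.ext (congrArg closure hEeq.symm))
  haveI := IsClosedImmersion.isIso_lift (j ≫ ι') E.ι hker.symm
  let l := IsClosedImmersion.lift (j ≫ ι') E.ι hker.ge
  obtain ⟨hD, k'', _, e, ⟨φ⟩⟩ := hE
  let z : Z ⟶ Γ.curve.left := j ≫ pullback.fst Γ.ι q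
  have hΓD : BlowUp.IsEffCartierIdeal Γ.ι.ker := Inters29.isEffCartier_comp D hX.1 hX.2.2.1.le Γ
  obtain ⟨θ⟩ := conormal_match q Γ.ι (j ≫ ι') hΓD (hker ▸ hD) V
    (by rw [hEeq]; exact fun t ht hc => hc.2 ht)
    (by rintro t ⟨ht, htV⟩; rw [hEeq]; exact by_contra fun hc => htV ⟨ht, hc⟩)
    (hEeq.le.trans hsub) z (by simp [z, ι', pullback.condition])
  let M := (Scheme.Modules.pullback Γ.ι).obj (ClSub.idealMod Γ.ι.ker)
  have hM : PicF.IsInvertible M :=
    PicLoc.isInvertible_pullback Γ.ι (FlatMor12.IdealModGen.isInvertible_idealMod _ hΓD)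
  haveI : Coh.IsQCoh M := isQCoh_of_isInvertible hM
  let MZ := (Scheme.Modules.pullback z).obj M
  haveI : Coh.IsQCoh MZ := isQCoh_of_isInvertible (PicLoc.isInvertible_pullback z hM)
  obtain ⟨ψ, hψ⟩ : ∃ ψ : ResidueField D →+* k₀, c = Spec.map (CommRingCat.ofHom ψ) :=
    ⟨(Spec.preimage c).hom, (Spec.map_preimage c).symm⟩
  haveI : IsProper g₀ := by
    haveI : IsSeparated c := inferInstance
    haveI : IsProper (g₀ ≫ c) := by rw [hgc]; infer_instance
    exact IsProper.of_comp g₀ c
  haveI : IsProper hF := MorphismProperty.of_isPullback sqZ inferInstance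
  have hφ' : (Scheme.Modules.pullback (e ≪≫ asIso l).hom).obj MZ ≅ Twist.twistProjSpace 1 k'' 1 :=
    (Scheme.Modules.pullback (e ≪≫ asIso l).hom).mapIso θ ≪≫
      (Scheme.Modules.pullbackComp (e ≪≫ asIso l).hom (j ≫ ι')).app _ ≪≫
      (Scheme.Modules.pullbackCongr (show (e ≪≫ asIso l).hom ≫ j ≫ ι' = e.hom ≫ E.ι by
        rw [Iso.trans_hom, asIso_hom, Category.assoc, IsClosedImmersion.lift_fac])).app _ ≪≫
      (Scheme.Modules.pullback (e.hom ≫ E.ι)).mapIso (eqToIso (congrArg ClSub.idealMod hker.symm)) ≪≫ φ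
  obtain ⟨d, h0, h1, m0, m1⟩ := projLine_data hF (e ≪≫ asIso l) MZ hφ'
  letI : Γ.curve.left.Over (Spec (CommRingCat.of k₀)) := ⟨g₀⟩
  letI : Z.Over (Spec (CommRingCat.of F)) := ⟨hF⟩
  haveI : IsProper (Γ.curve.left ↘ Spec (CommRingCat.of k₀)) := ‹IsProper g₀›
  haveI : CompactSpace Γ.curve.left := QuasiCompact.compactSpace_of_compactSpace Γ.curve.hom
  haveI : Γ.curve.left.IsSeparated := ⟨by rw [← terminal.comp_from Γ.curve.hom]; infer_instance⟩
  have hO : ∀ i, Models.hRank (ResidueField D) Γ.curve.left Γ.curve.hom (Coh.structureModule _) i =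
      Models.homDegree ψ * Models.hRank F Z hF (Coh.structureModule Z) i := fun i => by
    rw [← hgc, hψ, hRank_comp ψ g₀]
    exact congrArg (_ * ·) (CurveRR24.finrank_HH_structure_bc sqZ i).symm
  have hMd : ∀ i, Models.hRank (ResidueField D) Γ.curve.left Γ.curve.hom M i =
      Models.homDegree ψ * Models.hRank F Z hF MZ i := fun i => by
    rw [← hgc, hψ, hRank_comp ψ g₀]
    exact congrArg (_ * ·) (CurveRR24.finrank_HH_bc sqZ M i).symm
  obtain ⟨L, hL⟩ := Inters29.exists_inverse_ker D hX.1 hΓD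
  refine isExcCurve_of D Γ hΓD hL ?_ ?_
  · show Models.hRank (ResidueField D) Γ.curve.left Γ.curve.hom (Coh.structureModule _) 1 = 0
    rw [hO, h1, mul_zero]
  · have hc := curveDeg_conormal D Γ hΓD hL
    rw [show ArSurf.inter D X (ClSub.idealMod Γ.ι.ker) Γ = _ from curveDeg_eq_hRank D Γ (M := M),
      hMd, hMd, hO, hO, h0, h1, m0, m1] at hc
    show _ = -((Models.hRank (ResidueField D) Γ.curve.left Γ.curve.hom (Coh.structureModule _) 0 : ℕ) : ℤ)
    rw [hO, h0]
    push_cast at hc ⊢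
    linarith

end Groth.Agent.Models7
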