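import Groth.Agent.Models7.EtaleSurf
import Groth.Agent.Models7.ExcBC
import Groth.Agent.Models7.MinModelExists
import Groth.Agent.FlatMorWeight.Comp

/-!
# Relative minimality along etale extensions of the base
-/

set_option autoImplicit false
set_option linter.style.haveILetI false
set_option backward.isDefEq.respectTransparency false
set_option maxHeartbeats 2000000

universe u

open CategoryTheory CategoryTheory.Limits AlgebraicGeometry TopologicalSpace IsLocalRing
open Groth.Agent.Coherent

namespace Groth.Agent.Models7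

/-- Points of an etale scheme over the same point do not specialise to each other. -/
theorem eq_of_specializes_etale {T S : Scheme.{u}} (c : T ⟶ S) [Etale c] {t t' : T} (h : t ⤳ t')
    (he : c t = c t') : t = t' := by
  haveI : LocallyQuasiFinite c := FlatMorWeight.locallyQuasiFinite_of_etale c
  haveI := (c.isDiscrete_preimage_singleton (c t')).to_subtype
  have h' : (⟨t, he⟩ : c.base ⁻¹' {c t'}) ⤳ ⟨t', rfl⟩ := (subtype_specializes_iff _ _).2 h
  exact congrArg Subtype.val h'.eq

/-- Over a DVR, in positive genus with trivial constants, exceptional curves do not meet. -/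
theorem meet_false {D : Type u} [CommRing D] [IsDomain D] [IsDiscreteValuationRing D]
    {T : Over (Spec (CommRingCat.of D))} (hT : ArSurf.IsArithSurface D T)
    (hH0 : Function.Bijective T.hom.appTop)
    (hH1 : Nontrivial (Coh.HH ((Neron.genericFibre D).obj T).left (Coh.structureModule _) 1))
    (A B : ArSurf.VertComp D T) (hA : Models.IsExcCurve A.ι) (hB : Models.IsExcCurve B.ι)
    (hne : Set.range A.ι.base ≠ Set.range B.ι.base)
    (hmeet : ¬ Disjoint (Set.range A.ι.base) (Set.range B.ι.base)) : False := by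
  have hD : ¬ IsField D := IsDiscreteValuationRing.not_isField D
  haveI := hT.2.1
  haveI := hT.2.2.2.1
  haveI : IsProper T.hom := Models7.isProper_of_projective hT.2.2.2.2
  haveI : IsLocallyNoetherian T.left := LocallyOfFiniteType.isLocallyNoetherian T.hom
  haveI : CompactSpace T.left := QuasiCompact.compactSpace_of_compactSpace T.hom
  let C := pullback T.hom (Neron.genPt D)
  let g : C ⟶ T.left := pullback.fst T.hom (Neron.genPt D)
  let f : C ⟶ Spec (CommRingCat.of (FractionRing D)) := pullback.snd T.hom (Neron.genPt D)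
  have hC : PropCurve (FractionRing D) C f := propCurve_genericFibre hD hT
  haveI : IsProper f := hC.1
  have hf : Function.Bijective f.appTop :=
    PicLib.bijective_appTop_of_isPullback g f T.hom (Neron.genPt D) (IsPullback.of_hasPullback _ _) hH0
  have hX : Models.IsRegularProperModel D T.left T.hom C f :=
    ⟨⟨inferInstance, inferInstance, inferInstance, g, IsPullback.of_hasPullback T.hom (Neron.genPt D)⟩,
      inferInstance, hT.1⟩
  obtain ⟨n, Γ, hΓ⟩ := Inters29.exists_componentList D (X := T) hT.2.2.1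
  obtain ⟨i, hi⟩ := Inters29.exists_range_eq D (X := T) hT.1 hT.2.2.1.le Γ hΓ A
  obtain ⟨j, hj⟩ := Inters29.exists_range_eq D (X := T) hT.1 hT.2.2.1.le Γ hΓ B
  have hg : 0 < Models.curveGenus (FractionRing D) C f := by
    letI : C.Over (Spec (CommRingCat.of (FractionRing D))) := ⟨f⟩
    haveI : IsProper (C ↘ Spec (CommRingCat.of (FractionRing D))) := ‹IsProper f›
    haveI : IsLocallyNoetherian C := LocallyOfFiniteType.isLocallyNoetherian f
    haveI := CurveRR24.finite_HH_of_isCoh (FractionRing D) (X := C) (isCoh_structureModule C) 1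
    haveI : Nontrivial (Coh.HH C (Coh.structureModule C) 1) := hH1
    exact Module.finrank_pos
  refine hg.ne' (genus_eq_zero_of_excCurves_meet D C T.left f T.hom hC
    ((ConcreteCategory.isIso_iff_bijective _).2 hf) hX Γ hΓ i j ?_
    (isExcCurve_of_range_eq A.ι (Γ i).ι hi hA) (isExcCurve_of_range_eq B.ι (Γ j).ι hj hB) ?_)
  · intro h
    exact hne (hi.trans (h ▸ hj.symm))
  · intro hd
    refine hmeet (Set.disjoint_left.2 fun x hxA hxB => ?_)
    exact Set.disjoint_left.1 hd (hi.le hxA) (hj.le hxB)

variable {R : Type u} [CommRing R] [IsDedekindDomain R] {X : Over (Spec (CommRingCat.of R))}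

/-- Exceptional curves do not appear along etale base change. -/
theorem no_exc_etale (hR : ¬ IsField R) (hX : ArSurf.IsArithSurface R X)
    (hH0 : Function.Bijective X.hom.appTop)
    (hH1 : Nontrivial (Coh.HH ((Neron.genericFibre R).obj X).left (Coh.structureModule _) 1))
    (hmin : Neron.IsRelMinimalRegularModel R X)
    {A : Type u} [CommRing A] [Algebra R A] [Algebra.Etale R A] (Q : Ideal A) [Q.IsPrime]
    (hP : (Q.under R).IsMaximal) [IsDomain (Localization.AtPrime Q)] [IsDiscreteValuationRing (Localization.AtPrime Q)]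
    (E : ArSurf.VertComp (Localization.AtPrime Q) (sfc X (Localization.AtPrime Q))) : ¬ Models.IsExcCurve E.ι := by
  intro hE
  haveI := hP
  let P := Q.under R
  let D := Localization.AtPrime P
  let D' := Localization.AtPrime Q
  haveI := isDVR_atPrime P hR
  letI := Localization.AtPrime.algebraOfLiesOver P Q
  haveI : IsLocalHom (algebraMap D D') := Localization.isLocalHom_localRingHom _ _ _ _
  obtain ⟨hu, he, hf⟩ := local_facts (R := R) Q
  haveI : Algebra.EssFiniteType D D' := Algebra.EssFiniteType.of_comp R _ _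
  haveI : Algebra.FormallyUnramified D D' := .of_restrictScalars R _ _
  haveI : Module.Flat D D' := (Module.flat_iff_of_isLocalization D P.primeCompl _).2 hf
  have hm : (maximalIdeal D).map (algebraMap D D') = maximalIdeal D' := Algebra.FormallyUnramified.map_maximalIdeal
  haveI : FiniteDimensional (ResidueField D) (ResidueField D') := inferInstance
  haveI : Algebra.IsSeparable (ResidueField D) (ResidueField D') := inferInstance
  let φD : D →ₐ[R] D' := IsScalarTower.toAlgHom R D D'
  let S := sfc X D
  let T' := sfc X D'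
  have hS : ArSurf.IsArithSurface D S := by
    haveI : Algebra.Etale R R := inferInstance
    have hPP : P.under R = P := Ideal.comap_id P
    exact (sfc_local hR hX hH0 hH1 P (hPP.symm ▸ hP)).1
  obtain ⟨hT', hT'0, -⟩ := sfc_local hR hX hH0 hH1 Q hP
  let q : T'.left ⟶ S.left := sfcMap X φD
  have hq : IsPullback q T'.hom S.hom (Spec.map (CommRingCat.ofHom (algebraMap D D'))) := isPullback_sfcMap X φD
  have hflat : Flat q := MorphismProperty.of_isPullback (P := @Flat) hq.flip
    ((HasRingHomProperty.Spec_iff (P := @Flat)).2 (RingHom.flat_algebraMap_iff.2 inferInstance))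
  haveI := hS.2.1
  haveI := hS.2.2.2.1
  haveI : IsProper S.hom := Models7.isProper_of_projective hS.2.2.2.2
  haveI := hT'.2.1
  haveI := hT'.2.2.2.1
  -- specialisations in a fibre of `q` are trivial
  let cA' : T'.left ⟶ (sfc X A).left := sfcMap X (IsScalarTower.toAlgHom R A D')
  haveI : IsPreimmersion (Spec.map (CommRingCat.ofHom (IsScalarTower.toAlgHom R A D').toRingHom)) :=
    IsPreimmersion.of_isLocalization (S := D') Q.primeCompl
  haveI : IsPreimmersion cA' :=
    MorphismProperty.of_isPullback (P := @IsPreimmersion) (isPullback_sfcMap X _).flip inferInstance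
  have hcA' : cA' ≫ pullback.fst X.hom (baseMap R A) = q ≫ pullback.fst X.hom (baseMap R D) :=
    (sfcMap_fst X _).trans (sfcMap_fst X φD).symm
  have hdisc : ∀ {t t' : T'.left}, t ⤳ t' → q t = q t' → t = t' := by
    intro t t' h h'
    haveI := sfc_etale (A := A) X
    refine cA'.isEmbedding.injective (eq_of_specializes_etale (pullback.fst X.hom (baseMap R A)) (h.map cA'.continuous) ?_)
    have k1 := congrArg (fun f => (f : T'.left ⟶ X.left) t) hcA'
    have k2 := congrArg (fun f => (f : T'.left ⟶ X.left) t') hcA'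
    exact k1.trans ((congrArg (pullback.fst X.hom (baseMap R D)) h').trans k2.symm)
  -- the image curve
  obtain ⟨e₁, he₁⟩ := Inters29.exists_ne_genericPoint (Localization.AtPrime Q) E
  let η : T'.left := E.ι (genericPoint E.curve.left)
  have hηe : η ⤳ E.ι e₁ := (genericPoint_specializes e₁).map E.ι.continuous
  have hnc : ¬ IsClosed ({q η} : Set S.left) := fun h => he₁ (E.ι.isClosedEmbedding.injective
    (hdisc hηe ((hηe.map q.continuous).mem_closed h rfl).symm).symm)
  have hspec : ∀ e, S.hom (q (E.ι e)) = closedPoint D := fun e => by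
    rw [← Scheme.Hom.comp_apply, hq.w, Scheme.Hom.comp_apply,
      show T'.hom (E.ι e) = closedPoint D' from Inters29.range_subset_specialFibreSet _ E ⟨e, rfl⟩]
    exact comap_closedPoint (algebraMap D D')
  have hη0 : S.hom (genericPoint S.left) ≠ closedPoint D := by
    rw [Inters29.hom_genericPoint D (X := S) (genericPoint S.left)]
    exact Inters29.bot_ne_closedPoint D
  obtain ⟨Γ, hΓ⟩ := exists_vertComp D (X := S) hS.2.2.1.le hη0 (hspec _) hnc
  have hEgen := (genericPoint_spec E.curve.left).image E.ι.continuous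
  rw [Set.image_univ, E.ι.isClosedEmbedding.isClosed_range.closure_eq] at hEgen
  have hsub : Set.range E.ι.base ⊆ q.base ⁻¹' Set.range Γ.ι.base := by
    rintro _ ⟨e, rfl⟩
    rw [Set.mem_preimage, hΓ]
    exact specializes_iff_mem_closure.1 (((genericPoint_specializes e).map E.ι.continuous).map q.continuous)
  -- no other branch of the preimage meets the curve
  refine no_exc_localisation hR hX hmin P Γ (exc_down hq hS hT' hflat hm Γ E hE hsub ?_)
  intro t ht x hx htx
  by_contra htE
  obtain ⟨ex, rfl⟩ := hx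
  have hqt : q t = q η := by
    by_contra hne
    have h1 : q η ⤳ q t := specializes_iff_mem_closure.2 (hΓ.le ht)
    have h2 : IsClosed ({q t} : Set S.left) :=
      isClosed_of_specializes_dim_two hS.2.2.1.le h1 (Ne.symm hne) (fun e => hη0 (e ▸ hspec _))
    exact htE ⟨ex, (hdisc htx ((htx.map q.continuous).mem_closed h2 rfl).symm).symm⟩
  -- the fibre square over the curve
  haveI : IsProper Γ.curve.hom := Inters29.isProper_curve D Γ
  obtain ⟨g', hg', -⟩ := exists_bcCurve hq hm Γ
  let Γ' := pullback Γ.ι q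
  let ι' : Γ' ⟶ T'.left := pullback.snd Γ.ι q
  haveI : IsClosedImmersion ι' := inferInstanceAs (IsClosedImmersion (pullback.snd Γ.ι q))
  let cκ := Spec.map (CommRingCat.ofHom (algebraMap (ResidueField D) (ResidueField D')))
  haveI : IsFinite cκ := (IsFinite.SpecMap_iff _).2 (RingHom.finite_algebraMap.2 inferInstance)
  haveI : Flat cκ := (HasRingHomProperty.Spec_iff (P := @Flat)).2
    (RingHom.flat_algebraMap_iff.2 Module.Flat.of_free)
  haveI : IsFinite (pullback.fst Γ.ι q) := MorphismProperty.of_isPullback (P := @IsFinite) hg'.flip ‹IsFinite cκ›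
  haveI : Flat (pullback.fst Γ.ι q) := MorphismProperty.of_isPullback (P := @Flat) hg'.flip ‹Flat cκ›
  have hr : Set.range ι'.base = q.base ⁻¹' Set.range Γ.ι.base := Scheme.Pullback.range_snd _ _
  obtain ⟨yt, hyt⟩ := hr.ge ht
  obtain ⟨yη, hyη⟩ := hr.ge (hsub ⟨genericPoint E.curve.left, rfl⟩)
  obtain ⟨yx, hyx⟩ := hr.ge (hsub ⟨ex, rfl⟩)
  have hcomm : ∀ y, Γ.ι (pullback.fst Γ.ι q y) = q (ι' y) := fun y => by
    rw [← Scheme.Hom.comp_apply, pullback.condition, Scheme.Hom.comp_apply]
  obtain ⟨b, hb1, hb2⟩ := Scheme.Pullback.exists_preimage_pullback (f := pullback.fst Γ.ι q)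
    (g := pullback.fst Γ.ι q) yt yη (Γ.ι.isClosedEmbedding.injective (by
      rw [hcomm, hcomm, hyt, hyη]; exact hqt))
  let W := pullback (pullback.fst Γ.ι q) (pullback.fst Γ.ι q)
  let r₁ : W ⟶ Γ' := pullback.fst _ _
  let r₂ : W ⟶ Γ' := pullback.snd _ _
  haveI : IsFinite r₁ := inferInstanceAs (IsFinite (pullback.fst (pullback.fst Γ.ι q) (pullback.fst Γ.ι q)))
  haveI : Flat r₁ := inferInstanceAs (Flat (pullback.fst (pullback.fst Γ.ι q) (pullback.fst Γ.ι q)))
  have hytx : yt ⤳ yx := by
    rw [← ι'.isClosedEmbedding.isInducing.specializes_iff, hyt, hyx]; exact htx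
  have hyηx : yη ⤳ yx := by
    rw [← ι'.isClosedEmbedding.isInducing.specializes_iff, hyη, hyx]
    exact (genericPoint_specializes ex).map E.ι.continuous
  obtain ⟨w, hbw, hw1⟩ : ∃ w, b ⤳ w ∧ r₁ w = yx := by
    have hc := r₁.isClosedMap _ (isClosed_closure (s := {b}))
    have h1 : r₁ b ⤳ yx := by rw [show r₁ b = yt from hb1]; exact hytx
    obtain ⟨w, hw, hw'⟩ := h1.mem_closed hc ⟨b, subset_closure rfl, rfl⟩
    exact ⟨w, specializes_iff_mem_closure.2 hw, hw'⟩
  obtain ⟨a, haw, ha1⟩ := Flat.generalizingMap r₁ (hw1 ▸ hyηx : yη ⤳ r₁ w)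
  -- move to the surface over the tensor square
  let A₂ : Type u := TensorProduct R A A
  letI : Algebra R A₂ := inferInstanceAs (Algebra R (TensorProduct R A A))
  haveI : Algebra.Etale R A₂ := Algebra.Etale.comp R A A₂
  let u₁ : A →ₐ[R] A₂ := Algebra.TensorProduct.includeLeft
  let u₂ : A →ₐ[R] A₂ := Algebra.TensorProduct.includeRight
  let v : Γ' ⟶ (sfc X A).left := ι' ≫ cA'
  have hsq : IsPullback (Spec.map (CommRingCat.ofHom u₁.toRingHom)) (Spec.map (CommRingCat.ofHom u₂.toRingHom))
      (baseMap R A) (baseMap R A) :=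
    isPullback_SpecMap_of_isPushout _ _ _ _ (CommRingCat.isPushout_tensorProduct R A A)
  have hww : (r₁ ≫ v ≫ pullback.snd X.hom (baseMap R A)) ≫ baseMap R A =
      (r₂ ≫ v ≫ pullback.snd X.hom (baseMap R A)) ≫ baseMap R A := by
    simp only [Category.assoc, ← pullback.condition, v]
    rw [reassoc_of% hcA', ← pullback.condition_assoc (f := Γ.ι) (g := q),
      pullback.condition_assoc (f := pullback.fst Γ.ι q) (g := pullback.fst Γ.ι q)]
  let z : W ⟶ (sfc X A₂).left := pullback.lift (r₁ ≫ v ≫ pullback.fst X.hom (baseMap R A))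
    (hsq.lift _ _ hww) (by
      rw [show baseMap R A₂ = Spec.map (CommRingCat.ofHom u₁.toRingHom) ≫ baseMap R A by
        rw [← Spec.map_comp, ← CommRingCat.ofHom_comp,
          show u₁.toRingHom.comp (algebraMap R A) = algebraMap R A₂ from u₁.comp_algebraMap],
        hsq.lift_fst_assoc]
      simp only [Category.assoc, pullback.condition])
  have hz1 : z ≫ sfcMap X u₁ = r₁ ≫ v := by
    apply pullback.hom_ext
    · rw [Category.assoc, sfcMap_fst, pullback.lift_fst]
      simp only [v, Category.assoc]
    · rw [Category.assoc, sfcMap_snd, pullback.lift_snd_assoc, hsq.lift_fst]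
      simp only [v, Category.assoc]
  have hz2 : z ≫ sfcMap X u₂ = r₂ ≫ v := by
    apply pullback.hom_ext
    · rw [Category.assoc, sfcMap_fst, pullback.lift_fst, Category.assoc]
      simp only [v, Category.assoc]
      rw [hcA', ← pullback.condition_assoc (f := Γ.ι) (g := q),
        pullback.condition_assoc (f := pullback.fst Γ.ι q) (g := pullback.fst Γ.ι q)]
    · rw [Category.assoc, sfcMap_snd, pullback.lift_snd_assoc, hsq.lift_snd]
      simp only [v, Category.assoc]
  let π₂ : (sfc X A₂).left ⟶ Spec (CommRingCat.of A₂) := pullback.snd X.hom (baseMap R A₂)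
  let N : PrimeSpectrum A₂ := π₂ (z w)
  let Qp : Spec (CommRingCat.of A) := (⟨Q, inferInstance⟩ : PrimeSpectrum A)
  have hvQ : ∀ y, pullback.snd X.hom (baseMap R A) (v y) = Qp := fun y => by
    rw [show v y = cA' (ι' y) from Scheme.Hom.comp_apply _ _ _]
    have h := congrArg (fun f => (f : T'.left ⟶ Spec (CommRingCat.of A)) (ι' y))
      (sfcMap_snd X (IsScalarTower.toAlgHom R A D'))
    simp only [Scheme.Hom.comp_apply] at h
    refine h.trans ?_
    obtain ⟨s, hs⟩ : q (ι' y) ∈ Set.range Γ.ι.base := hr.le ⟨y, rfl⟩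
    have hcl : T'.hom (ι' y) = closedPoint D' := by
      have h1 : S.hom (q (ι' y)) = closedPoint D := by rw [← hs]; exact Inters29.hom_ι_eq D Γ s
      rw [← Scheme.Hom.comp_apply, hq.w, Scheme.Hom.comp_apply] at h1
      have h2 : Ideal.comap (algebraMap D D') (show PrimeSpectrum D' from T'.hom (ι' y)).asIdeal = maximalIdeal D :=
        congrArg PrimeSpectrum.asIdeal h1
      refine PrimeSpectrum.ext ?_
      refine le_antisymm (IsLocalRing.le_maximalIdeal (PrimeSpectrum.isPrime _).ne_top) ?_
      show maximalIdeal D' ≤ _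
      rw [← hm, Ideal.map_le_iff_le_comap]
      exact h2.ge
    refine (congrArg (Spec.map (CommRingCat.ofHom (IsScalarTower.toAlgHom R A D').toRingHom)) hcl).trans ?_
    exact PrimeSpectrum.ext (Localization.AtPrime.comap_maximalIdeal (I := Q))
  have hNQ : ∀ y, Spec.map (CommRingCat.ofHom u₁.toRingHom) (π₂ (z y)) = Qp ∧
      Spec.map (CommRingCat.ofHom u₂.toRingHom) (π₂ (z y)) = Qp := fun y => by
    constructor
    · have h := congrArg (fun f => (f : W ⟶ Spec (CommRingCat.of A)) y) (hsq.lift_fst _ _ hww)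
      simp only [Scheme.Hom.comp_apply] at h
      have h' : π₂ (z y) = hsq.lift _ _ hww y := by
        rw [← Scheme.Hom.comp_apply]; exact congrArg (fun f => (f : W ⟶ _) y) (pullback.lift_snd _ _ _)
      rw [h']
      exact h.trans (hvQ _)
    · have h := congrArg (fun f => (f : W ⟶ Spec (CommRingCat.of A)) y) (hsq.lift_snd _ _ hww)
      simp only [Scheme.Hom.comp_apply] at h
      have h' : π₂ (z y) = hsq.lift _ _ hww y := by
        rw [← Scheme.Hom.comp_apply]; exact congrArg (fun f => (f : W ⟶ _) y) (pullback.lift_snd _ _ _)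
      rw [h']
      exact h.trans (hvQ _)
  have hN1 : N.asIdeal.comap u₁.toRingHom = Q := congrArg PrimeSpectrum.asIdeal (hNQ w).1
  have hN2 : N.asIdeal.comap u₂.toRingHom = Q := congrArg PrimeSpectrum.asIdeal (hNQ w).2
  have hNP : N.asIdeal.under R = P := by
    show N.asIdeal.comap (algebraMap R A₂) = Q.comap (algebraMap R A)
    conv_rhs => rw [← hN1, Ideal.comap_comap]
    exact congrArg (fun f => N.asIdeal.comap f) u₁.comp_algebraMap.symm
  haveI := etale_baseMap (R := R) (A := A₂)
  have hNeq : ∀ y, y ⤳ w → (show PrimeSpectrum A₂ from π₂ (z y)) = N := fun y hy => by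
    refine eq_of_specializes_etale (baseMap R A₂) ((hy.map z.continuous).map π₂.continuous) ?_
    have e : ∀ y, baseMap R A₂ (π₂ (z y)) = baseMap R A Qp := fun y => by
      rw [← (hNQ y).1, show baseMap R A₂ = Spec.map (CommRingCat.ofHom u₁.toRingHom) ≫ baseMap R A by
        rw [← Spec.map_comp, ← CommRingCat.ofHom_comp,
          show u₁.toRingHom.comp (algebraMap R A) = algebraMap R A₂ from u₁.comp_algebraMap],
        Scheme.Hom.comp_apply]
    exact (e y).trans (e w).symm
  obtain ⟨_, hDVR⟩ := isDVR_atPrime_etale (R := R) N.asIdeal hR (hNP ▸ hP)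
  haveI := hDVR
  let D'' := Localization.AtPrime N.asIdeal
  obtain ⟨hT'', hT''0, hT''1⟩ := sfc_local hR hX hH0 hH1 N.asIdeal (hNP ▸ hP)
  let T'' := sfc X D''
  let cN : T''.left ⟶ (sfc X A₂).left := sfcMap X (IsScalarTower.toAlgHom R A₂ D'')
  haveI : IsPreimmersion (Spec.map (CommRingCat.ofHom (IsScalarTower.toAlgHom R A₂ D'').toRingHom)) :=
    IsPreimmersion.of_isLocalization (S := D'') N.asIdeal.primeCompl
  haveI : IsPreimmersion cN :=
    MorphismProperty.of_isPullback (P := @IsPreimmersion) (isPullback_sfcMap X _).flip inferInstance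
  have hlift : ∀ y, y ⤳ w → ∃ y'' : T''.left, cN y'' = z y := fun y hy => by
    have hpb := isPullback_sfcMap X (IsScalarTower.toAlgHom R A₂ D'')
    obtain ⟨w0, hw0, -⟩ := Scheme.Pullback.exists_preimage_pullback
      (f := pullback.snd X.hom (baseMap R A₂))
      (g := Spec.map (CommRingCat.ofHom (IsScalarTower.toAlgHom R A₂ D'').toRingHom)) (z y) (closedPoint D'')
      ((hNeq y hy).trans (PrimeSpectrum.ext (Localization.AtPrime.comap_maximalIdeal (I := N.asIdeal))).symm)
    refine ⟨hpb.isoPullback.inv w0, ?_⟩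
    rw [← hw0, ← Scheme.Hom.comp_apply]
    exact congrArg (fun f => (f : _ ⟶ (sfc X A₂).left) w0) hpb.isoPullback_inv_fst
  obtain ⟨a'', ha''⟩ := hlift a haw
  obtain ⟨b'', hb''⟩ := hlift b hbw
  obtain ⟨w'', hw''⟩ := hlift w specializes_rfl
  have haw'' : a'' ⤳ w'' := by
    rw [← cN.isEmbedding.isInducing.specializes_iff, ha'', hw'']; exact haw.map z.continuous
  have hbw'' : b'' ⤳ w'' := by
    rw [← cN.isEmbedding.isInducing.specializes_iff, hb'', hw'']; exact hbw.map z.continuous
  -- the two projections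
  let ψ : ∀ (u : A →ₐ[R] A₂), N.asIdeal.comap u.toRingHom = Q → (D' →ₐ[R] D'') := fun u hu =>
    { Localization.localRingHom Q N.asIdeal u.toRingHom hu.symm with
      commutes' := fun r => by
        show Localization.localRingHom Q N.asIdeal u.toRingHom hu.symm (algebraMap R D' r) = algebraMap R D'' r
        rw [IsScalarTower.algebraMap_apply R A D', Localization.localRingHom_to_map,
          IsScalarTower.algebraMap_apply R A₂ D'']
        exact congrArg (algebraMap A₂ D'') (u.commutes r) }
  have key : ∀ (u : A →ₐ[R] A₂) (hu : N.asIdeal.comap u.toRingHom = Q) (r : W ⟶ Γ') (hr : z ≫ sfcMap X u = r ≫ v),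
      ∀ (y : W) (y'' : T''.left), cN y'' = z y → sfcMap X (ψ u hu) y'' = ι' (r y) ∧
        ∀ (G : ArSurf.VertComp D' T'), Models.IsExcCurve G.ι → ι' (r y) ∈ Set.range G.ι.base →
          ∃ G' : ArSurf.VertComp D'' T'', Models.IsExcCurve G'.ι ∧ y'' ∈ Set.range G'.ι.base ∧
            Set.range G'.ι.base ⊆ (sfcMap X (ψ u hu)).base ⁻¹' Set.range G.ι.base := by
    intro u hu r hr y y'' hy
    have hc : sfcMap X (ψ u hu) ≫ cA' = cN ≫ sfcMap X u := by
      apply pullback.hom_ext
      · simp only [cA', cN, Category.assoc, sfcMap_fst]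
      · simp only [cA', cN, Category.assoc, sfcMap_snd]
        rw [reassoc_of% sfcMap_snd, reassoc_of% sfcMap_snd]
        simp only [← Spec.map_comp, ← CommRingCat.ofHom_comp]
        congr 3
        exact RingHom.ext fun s => Localization.localRingHom_to_map Q N.asIdeal u.toRingHom hu.symm s
    have hval : sfcMap X (ψ u hu) y'' = ι' (r y) := by
      refine cA'.isEmbedding.injective ?_
      have k1 := congrArg (fun f => (f : T''.left ⟶ (sfc X A).left) y'') hc
      have k2 := congrArg (fun f => (f : W ⟶ (sfc X A).left) y) hr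
      simp only [Scheme.Hom.comp_apply] at k1 k2
      exact k1.trans ((congrArg (sfcMap X u) hy).trans (k2.trans (Scheme.Hom.comp_apply ι' cA' (r y))))
    refine ⟨hval, fun G hG hmem => ?_⟩
    letI alg : Algebra D' D'' := (ψ u hu).toRingHom.toAlgebra
    haveI : IsScalarTower R D' D'' := IsScalarTower.of_algebraMap_eq fun x => ((ψ u hu).commutes x).symm
    haveI : IsLocalHom (algebraMap D' D'') := Localization.isLocalHom_localRingHom Q N.asIdeal u.toRingHom hu.symm
    obtain ⟨hu2, he2, -⟩ := local_facts (R := R) N.asIdeal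
    haveI : Algebra.EssFiniteType D' D'' := Algebra.EssFiniteType.of_comp R _ _
    haveI : Algebra.FormallyUnramified D' D'' := .of_restrictScalars R _ _
    have hinj : Function.Injective (algebraMap D' D'') := by
      refine (injective_iff_map_eq_zero _).2 fun x hx => by_contra fun hx0 => ?_
      obtain ⟨ϖ, hϖ⟩ := IsDiscreteValuationRing.exists_irreducible D'
      obtain ⟨n, v', rfl⟩ := IsDiscreteValuationRing.eq_unit_mul_pow_irreducible hx0 hϖ
      rw [map_mul, mul_eq_zero, map_pow] at hx
      rcases hx with hx | hx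
      · exact (v'.isUnit.map (algebraMap D' D'')).ne_zero hx
      have h0 : algebraMap D' D'' ϖ = 0 := eq_zero_of_pow_eq_zero hx
      have hmax := Algebra.FormallyUnramified.map_maximalIdeal (R := D') (S := D'')
      rw [hϖ.maximalIdeal_eq, Ideal.map_span, Set.image_singleton, h0, Ideal.span_singleton_zero] at hmax
      exact IsDiscreteValuationRing.not_a_field D'' hmax.symm
    haveI : Module.IsTorsionFree D' D'' := Module.isTorsionFree_iff_algebraMap_injective.2 hinj
    haveI : Module.Flat D' D'' := inferInstance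
    have hpb : IsPullback (sfcMap X (ψ u hu)) T''.hom T'.hom (Spec.map (CommRingCat.ofHom (algebraMap D' D''))) :=
      isPullback_sfcMap X (ψ u hu)
    exact exists_exc_up hpb hT' hT'' (MorphismProperty.of_isPullback (P := @Flat) hpb.flip
      ((HasRingHomProperty.Spec_iff (P := @Flat)).2 (RingHom.flat_algebraMap_iff.2 inferInstance)))
      Algebra.FormallyUnramified.map_maximalIdeal G hG y'' (show sfcMap X (ψ u hu) y'' ∈ _ by rw [hval]; exact hmem)
  obtain ⟨-, k1⟩ := key u₁ hN1 r₁ hz1 a a'' ha''
  obtain ⟨hvb, -⟩ := key u₁ hN1 r₁ hz1 b b'' hb''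
  obtain ⟨-, k2⟩ := key u₂ hN2 r₂ hz2 b b'' hb''
  obtain ⟨G₁, hG₁, haG, hG₁E⟩ := k1 E hE (by rw [ha1, hyη]; exact ⟨_, rfl⟩)
  obtain ⟨G₂, hG₂, hbG, -⟩ := k2 E hE (by rw [show r₂ b = yη from hb2, hyη]; exact ⟨_, rfl⟩)
  refine meet_false hT'' hT''0 hT''1 G₁ G₂ hG₁ hG₂ ?_ (Set.not_disjoint_iff.2
    ⟨w'', haw''.mem_closed G₁.ι.isClosedEmbedding.isClosed_range haG,
      hbw''.mem_closed G₂.ι.isClosedEmbedding.isClosed_range hbG⟩)
  intro h
  have hb' : b'' ∈ Set.range G₁.ι.base := h ▸ hbG
  have := hG₁E hb'
  rw [Set.mem_preimage, hvb, show r₁ b = yt from hb1, hyt] at this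
  exact htE this

/-- An arithmetic surface without exceptional curves over the local rings of the base is relatively minimal. -/
theorem isRelMinimal_of_no_exc (hR : ¬ IsField R) (hX : ArSurf.IsArithSurface R X)
    (h : ∀ (P : Ideal R) [P.IsMaximal] [IsDiscreteValuationRing (Localization.AtPrime P)]
      (Γ : ArSurf.VertComp (Localization.AtPrime P) (Over.mk (pullback.snd X.hom (locMap P)))),
      ¬ Models.IsExcCurve Γ.ι) : Neron.IsRelMinimalRegularModel R X := by
  refine ⟨hX.1, hX.2.2.2.2, hX.2.2.2.1, fun Z hreg hproj hflat g hgi => ?_⟩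
  haveI := hflat
  haveI := hgi
  obtain ⟨hZ, hgp, hgs⟩ := isArithSurface_of_genIso hR hX hreg hproj g
  haveI := hgp
  by_contra hng
  obtain ⟨z, hzc, hgz⟩ := exists_contracted hX hZ g hgs hng
  haveI := hX.2.1
  haveI := hX.2.2.2.1
  haveI : IsProper X.hom := Models7.isProper_of_projective hX.2.2.2.2
  haveI : IsProper Z.hom := Models7.isProper_of_projective hproj
  have hgw : g.left ≫ Z.hom = X.hom := Over.w g
  have hsc : IsClosed ({X.hom z} : Set ↥(Spec (CommRingCat.of R))) := by
    rw [← hgw, Scheme.Hom.comp_apply, ← Set.image_singleton]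
    exact Z.hom.isClosedMap _ hgz
  let P := (X.hom z : PrimeSpectrum R).asIdeal
  haveI : P.IsMaximal := (PrimeSpectrum.isClosed_singleton_iff_isMaximal _).1 hsc
  haveI := isDVR_atPrime P hR
  obtain ⟨e, he, hec⟩ := exists_fractionRing_iso P
  let C := pullback X.hom (Neron.genPt R)
  let f : C ⟶ Spec (CommRingCat.of (FractionRing R)) := pullback.snd X.hom (Neron.genPt R)
  let g₁ : C ⟶ X.left := pullback.fst X.hom (Neron.genPt R)
  let G : C ⟶ pullback Z.hom (Neron.genPt R) := ((Neron.genericFibre R).map g).left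
  haveI : IsIso G := inferInstanceAs (IsIso ((Over.forget _).map ((Neron.genericFibre R).map g)))
  let g₂ : C ⟶ Z.left := G ≫ pullback.fst Z.hom (Neron.genPt R)
  have hGf : G ≫ pullback.fst Z.hom (Neron.genPt R) = g₁ ≫ g.left := pullback.lift_fst _ _ _
  have hGs : G ≫ pullback.snd Z.hom (Neron.genPt R) = f := pullback.lift_snd _ _ _
  have hp₂' : IsPullback g₂ f Z.hom (Neron.genPt R) := by
    refine (IsPullback.of_hasPullback Z.hom (Neron.genPt R)).of_iso (asIso G).symm (Iso.refl _) (Iso.refl _)
      (Iso.refl _) (by simp [g₂]) (by simp [← hGs]) (by simp) (by simp)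
  obtain ⟨gP₁, hgP₁, M₁⟩ := exists_localModel hX P g₁ (isPullback_generic P (IsPullback.of_hasPullback _ _) e hec)
  obtain ⟨gP₂, hgP₂, M₂⟩ := exists_localModel hZ P g₂ (isPullback_generic P hp₂' e hec)
  obtain ⟨hproper, -, hint, hdim⟩ := propCurve_genericFibre hR hX
  haveI : IsProper f := hproper
  haveI : IsIntegral C := hint
  have hC : PropCurve (FractionRing (Localization.AtPrime P)) C (f ≫ e) := ⟨inferInstance, trivial, hint, hdim⟩
  let jX := pullback.fst X.hom (locMap P)
  let jZ := pullback.fst Z.hom (locMap P)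
  let gP : pullback X.hom (locMap P) ⟶ pullback Z.hom (locMap P) :=
    pullback.lift (jX ≫ g.left) (pullback.snd X.hom (locMap P)) (by
      rw [Category.assoc, hgw]; exact pullback.condition)
  have hgP : gP ≫ pullback.snd Z.hom (locMap P) = pullback.snd X.hom (locMap P) := pullback.lift_snd _ _ _
  have hgg : gP₁ ≫ gP = gP₂ := by
    apply pullback.hom_ext
    · rw [Category.assoc, pullback.lift_fst, reassoc_of% hgP₁, hgP₂]
      exact hGf.symm
    · rw [Category.assoc, hgP, M₁.pullback.w, M₂.pullback.w]
  rcases (M₁.ptSeq hC M₂ gP hgP hgg).exists_first with hiso | ⟨Z', b, r, z', hz', hz0, hbi, hb, hr, heq⟩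
  · -- an isomorphism over the local ring cannot contract
    obtain ⟨z₁, hz₁⟩ : z ∈ Set.range jX.base := by
      rw [Scheme.Pullback.range_fst]
      exact ⟨closedPoint _, PrimeSpectrum.ext (Localization.AtPrime.comap_maximalIdeal (I := P))⟩
    have hz₁c : IsClosed ({z₁} : Set ↥(pullback X.hom (locMap P))) := by
      have h2 : IsClosed ({gP z₁} : Set ↥(pullback Z.hom (locMap P))) := by
        have : jZ (gP z₁) = g.left z := by
          rw [← Scheme.Hom.comp_apply, pullback.lift_fst, Scheme.Hom.comp_apply, hz₁]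
        have h3 := hgz.preimage jZ.continuous
        rwa [← this, ← Set.image_singleton, jZ.isEmbedding.injective.preimage_image] at h3
      have h4 := h2.preimage gP.continuous
      have hinj : Function.Injective gP.base := gP.homeomorph.injective
      rwa [← Set.image_singleton, hinj.preimage_image] at h4
    refine hzc (closure_subset_iff_isClosed.1 fun x hx => ?_)
    have hxs : z ⤳ x := specializes_iff_mem_closure.2 hx
    obtain ⟨x₁, hx₁⟩ : x ∈ Set.range jX.base := by
      rw [Scheme.Pullback.range_fst]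
      exact ⟨closedPoint _, (PrimeSpectrum.ext (Localization.AtPrime.comap_maximalIdeal (I := P))).trans
        ((hxs.map X.hom.continuous).mem_closed hsc rfl).symm⟩
    have : x₁ = z₁ := ((jX.isEmbedding.isInducing.specializes_iff.1 (hz₁.symm ▸ hx₁.symm ▸ hxs)).mem_closed hz₁c rfl :)
    rw [← hx₁, this, hz₁]
    rfl
  · obtain ⟨-, hZ', gZ', -, hZm⟩ := GenModel.of_ptSeq hC hr M₂
    obtain ⟨F, hF, -⟩ := exists_exc_vertComp hC hZm z' hz' hz0 b hb hbi
    have hst : b ≫ r ≫ pullback.snd Z.hom (locMap P) = pullback.snd X.hom (locMap P) := by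
      rw [reassoc_of% heq, hgP]
    exact h P { curve := F.curve, ι := F.ι, isClosedImmersion := F.isClosedImmersion, isIntegral := F.isIntegral
                dim_eq := F.dim_eq
                w := by
                  show F.ι ≫ pullback.snd X.hom (locMap P) = _
                  rw [← hst]; exact F.w } hF

end Groth.Agent.Models7
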