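import Groth.Agent.Models7.GenIso
import Groth.Agent.Models7.ContractOpen

/-!
# Existence of relatively minimal models over a Dedekind domain
-/

set_option autoImplicit false
set_option linter.style.haveILetI false
set_option backward.isDefEq.respectTransparency false
set_option maxHeartbeats 1000000

universe u

open CategoryTheory CategoryTheory.Limits AlgebraicGeometry TopologicalSpace IsLocalRing

namespace Groth.Agent.Models7

variable {R : Type u} [CommRing R] [IsDedekindDomain R] {X Y Z : Over (Spec (CommRingCat.of R))}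

theorem finite_compl_of_eta_mem (V : (Spec (CommRingCat.of R)).Opens)
    (hηV : (etaPt : Spec (CommRingCat.of R)) ∈ V) : (V : Set ↥(Spec (CommRingCat.of R)))ᶜ.Finite := by
  obtain ⟨I, hI⟩ := (PrimeSpectrum.isClosed_iff_zeroLocus_ideal _).1 V.2.isClosed_compl
  have hI0 : I ≠ ⊥ := fun h => by
    have h1 : (etaPt : PrimeSpectrum R) ∈ PrimeSpectrum.zeroLocus (I : Set R) := by
      rw [h]
      intro x hx
      have hx := (Submodule.mem_bot R).1 hx
      simp [hx]
    rw [← hI] at h1
    exact h1 hηV
  change (V.carrierᶜ : Set (PrimeSpectrum R)).Finite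
  rw [hI]
  refine ((Ideal.finite_factors hI0).image
    (fun v : IsDedekindDomain.HeightOneSpectrum R => (⟨v.asIdeal, v.isPrime⟩ : PrimeSpectrum R))).subset ?_
  intro p hp
  have hle : I ≤ p.asIdeal := hp
  exact ⟨⟨p.asIdeal, p.isPrime, fun h => hI0 (le_bot_iff.1 (h ▸ hle))⟩, Ideal.dvd_iff_le.2 hle, rfl⟩

/-- The non-closed points over a point of the base. -/
def curvesOver (Y : Over (Spec (CommRingCat.of R))) (B : Set ↥(Spec (CommRingCat.of R))) : Set Y.left :=
  {z | ¬ IsClosed ({z} : Set Y.left) ∧ Y.hom z ∈ B}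

theorem finite_curvesOver (hR : ¬ IsField R) (hY : ArSurf.IsArithSurface R Y) {B : Set ↥(Spec (CommRingCat.of R))}
    (hB : B.Finite) (hBc : ∀ s ∈ B, IsClosed ({s} : Set ↥(Spec (CommRingCat.of R)))) :
    (curvesOver Y B).Finite := by
  haveI := hY.2.1
  haveI : IsProper Y.hom := Models7.isProper_of_projective hY.2.2.2.2
  haveI : IsLocallyNoetherian Y.left := LocallyOfFiniteType.isLocallyNoetherian Y.hom
  haveI : CompactSpace Y.left := QuasiCompact.compactSpace_of_compactSpace Y.hom
  haveI : IsNoetherian Y.left := {}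
  refine (hB.biUnion (t := fun s => {z : Y.left | ¬ IsClosed ({z} : Set Y.left) ∧ Y.hom z = s}) fun s hs => ?_).subset
    fun z hz => Set.mem_biUnion hz.2 ⟨hz.1, rfl⟩
  have hsne : s ≠ (etaPt : Spec (CommRingCat.of R)) := fun h => not_isClosed_eta hR (h ▸ hBc s hs)
  obtain ⟨S, hSf, hSc, hSi, hS⟩ :=
    NoetherianSpace.exists_finite_set_isClosed_irreducible ((hBc s hs).preimage Y.hom.continuous)
  refine (hSf.biUnion (t := fun T => {x : Y.left | IsGenericPoint x T}) fun T _ =>
    Set.Subsingleton.finite fun x hx y hy => hx.eq hy).subset fun z ⟨hzc, hzs⟩ => ?_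
  obtain ⟨T, hT, hzT⟩ := Set.mem_sUnion.1 (hS.le (show z ∈ Y.hom.base ⁻¹' {s} from hzs))
  obtain ⟨c, hc⟩ := QuasiSober.sober (hSi T hT) (hSc T hT)
  have hcs : Y.hom c = s := hS.ge (Set.mem_sUnion.2 ⟨T, hT, hc.mem⟩)
  have := eq_of_specializes_in_fibre hY hsne hzc hcs (hc.specializes hzT)
  subst this
  exact Set.mem_biUnion hT hc

theorem birational_of_genIso (g : Y ⟶ Z) [IsIso ((Neron.genericFibre R).map g)]
    (hY : ArSurf.IsArithSurface R Y) [IsIntegral Y.left] [IsIntegral Z.left]
    (hsurj : Function.Surjective g.left.base) :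
    g.left (genericPoint Y.left) = genericPoint Z.left ∧ IsIso (g.left.stalkMap (genericPoint Y.left)) := by
  haveI := hY.2.2.2.1
  refine ⟨?_, isIso_stalkMap_over_eta g _ hom_genericPoint'⟩
  obtain ⟨x, hx⟩ := hsurj (genericPoint Z.left)
  exact (((genericPoint_specializes x).map g.left.continuous).antisymm (hx ▸ genericPoint_specializes _)).eq.trans hx

/-- A generic isomorphism which is not an isomorphism contracts a curve. -/
theorem exists_contracted (hY : ArSurf.IsArithSurface R Y) (hZ : ArSurf.IsArithSurface R Z) (g : Y ⟶ Z)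
    [IsProper g.left] (hsurj : Function.Surjective g.left.base) [IsIso ((Neron.genericFibre R).map g)]
    (hng : ¬ IsIso g) : ∃ z : Y.left, ¬ IsClosed ({z} : Set Y.left) ∧ IsClosed ({g.left z} : Set Z.left) := by
  haveI := hY.2.1
  haveI := hY.2.2.2.1
  haveI := hZ.2.1
  haveI := hZ.2.2.2.1
  haveI : IsProper Y.hom := Models7.isProper_of_projective hY.2.2.2.2
  haveI : IsProper Z.hom := Models7.isProper_of_projective hZ.2.2.2.2
  haveI : IsLocallyNoetherian Y.left := LocallyOfFiniteType.isLocallyNoetherian Y.hom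
  haveI : IsLocallyNoetherian Z.left := LocallyOfFiniteType.isLocallyNoetherian Z.hom
  obtain ⟨hgen, hbir⟩ := birational_of_genIso g hY hsurj
  have hZn : Pi1.IsNormalScheme Z.left := fun z => by
    haveI := hZ.1 z
    exact ⟨CAlgH3.isDomain_of_isRegularLocalRing _, CAlgH3.isIntegrallyClosed_of_regular _⟩
  by_contra hno
  push Not at hno
  apply hng
  have hfib : ∀ y : Z.left, (g.left.base ⁻¹' {y}).Finite := by
    intro y
    haveI : LocallyOfFiniteType (g.left.fiberToSpecResidueField y) :=
      (inferInstance : LocallyOfFiniteType (pullback.snd g.left (Z.left.fromSpecResidueField y)))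
    haveI : IsLocallyNoetherian (g.left.fiber y) :=
      LocallyOfFiniteType.isLocallyNoetherian (g.left.fiberToSpecResidueField y)
    haveI : CompactSpace (g.left.fiber y) :=
      QuasiCompact.compactSpace_of_compactSpace (g.left.fiberToSpecResidueField y)
    haveI : IsNoetherian (g.left.fiber y) := {}
    let i := g.left.fiberι y
    have hmem : ∀ c, g.left (i c) = y := fun c => (g.left.range_fiberι y).le (Set.mem_range_self c)
    have hclosed : ∀ c : g.left.fiber y, closure ({c} : Set (g.left.fiber y)) ⊆ {c} := by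
      intro c v hv
      have hcv : i c ⤳ i v := (specializes_iff_mem_closure.2 hv).map i.continuous
      refine i.isEmbedding.injective ?_
      by_cases hcc : IsClosed ({i c} : Set Y.left)
      · exact hcv.mem_closed hcc rfl
      by_cases hvc : IsClosed ({i v} : Set Y.left)
      · have h := g.left.isClosedMap _ hvc
        rw [Set.image_singleton, hmem v, ← hmem c] at h
        exact absurd h (hno _ hcc)
      rcases eq_or_eq_generic_of_dim_le_two hY.2.2.1.le hcv hvc with h | h
      · exact h.symm
      · refine inj_over_eta g ?_ (by rw [h]; exact hom_genericPoint') ((hmem v).trans (hmem c).symm)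
        rw [← Over.w g, Scheme.Hom.comp_apply, hmem v, ← hmem c, ← Scheme.Hom.comp_apply, Over.w g, h]
        exact hom_genericPoint'
    obtain ⟨S, hSf, hSc, hSi, hS⟩ :=
      NoetherianSpace.exists_finite_set_isClosed_irreducible (isClosed_univ (X := g.left.fiber y))
    have hu : (Set.univ : Set (g.left.fiber y)).Finite := by
      refine (hSf.biUnion (t := fun T => T) fun T hT => Set.Subsingleton.finite fun a ha b hb => ?_).subset
        fun c _ => ?_
      · obtain ⟨c, hc⟩ := QuasiSober.sober (hSi T hT) (hSc T hT)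
        have h : T ⊆ {c} := hc.def ▸ hclosed c
        exact (h ha).trans (h hb).symm
      · obtain ⟨T, hT, hc⟩ := Set.mem_sUnion.1 (hS.le (Set.mem_univ c))
        exact Set.mem_biUnion hT hc
    rw [← g.left.range_fiberι y, ← Set.image_univ]
    exact hu.image _
  haveI : IsIso g.left := by
    haveI : IsIso (g.left ∣_ ⊤) := isIso_morphismRestrict_of_finite_fibres g.left
      (Coherent.isIso_app_of_birational g.left hZn hgen hbir) ⊤ fun y _ => hfib y
    exact isIso_of_restrict_top g.left
  haveI : IsIso ((Over.forget _).map g) := ‹IsIso g.left›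
  exact isIso_of_reflects_iso g (Over.forget _)

/-- A relatively minimal model exists. -/
theorem exists_relMinimal (hR : ¬ IsField R) (hX : ArSurf.IsArithSurface R X)
    (V : (Spec (CommRingCat.of R)).Opens) (hηV : (etaPt : Spec (CommRingCat.of R)) ∈ V)
    (hV : ∀ s ∈ V, FibreSep (X := X) s) :
    ∀ (n : ℕ) (Y : Over (Spec (CommRingCat.of R))) (f : X ⟶ Y), ArSurf.IsArithSurface R Y →
      IsIso ((Neron.genericFibre R).map f) → (curvesOver Y (V : Set ↥(Spec (CommRingCat.of R)))ᶜ).ncard = n →
      ∃ (W : Over (Spec (CommRingCat.of R))) (h : X ⟶ W), ArSurf.IsArithSurface R W ∧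
        Neron.IsRelMinimalRegularModel R W ∧ IsIso ((Neron.genericFibre R).map h) := by
  intro n
  induction n using Nat.strongRecOn with
  | _ n ih =>
  intro Y f hY hfi hn
  haveI := hfi
  by_cases hmin : Neron.IsRelMinimalRegularModel R Y
  · exact ⟨Y, f, hY, hmin, hfi⟩
  obtain ⟨Z, hreg, hproj, hflat, g, hgi, hng⟩ : ∃ (Z : Over (Spec (CommRingCat.of R)))
      (_ : ∀ y : Z.left, IsRegularLocalRing (Z.left.presheaf.stalk y)) (_ : Neron.IsProjectiveOver R Z)
      (_ : Flat Z.hom) (g : Y ⟶ Z), IsIso ((Neron.genericFibre R).map g) ∧ ¬ IsIso g := by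
    by_contra hno
    push Not at hno
    exact hmin ⟨hY.1, hY.2.2.2.2, hY.2.2.2.1, fun Z h1 h2 h3 g h4 => hno Z h1 h2 h3 g h4⟩
  haveI := hflat
  haveI := hgi
  haveI : IsIso ((Neron.genericFibre R).map (f ≫ g)) := by rw [Functor.map_comp]; infer_instance
  obtain ⟨hZ, hgp, hgs⟩ := isArithSurface_of_genIso hR hY hreg hproj g
  obtain ⟨-, hp, hps⟩ := isArithSurface_of_genIso hR hX hreg hproj (f ≫ g)
  obtain ⟨-, hfp, hfs⟩ := (haveI := hY.2.2.2.1; isArithSurface_of_genIso hR hX hY.1 hY.2.2.2.2 f)
  haveI := hgp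
  haveI := hp
  haveI := hfp
  haveI := hX.2.1
  haveI := hX.2.2.2.1
  haveI := hY.2.1
  haveI := hY.2.2.2.1
  haveI := hZ.2.1
  haveI : IsProper Y.hom := Models7.isProper_of_projective hY.2.2.2.2
  haveI : IsProper Z.hom := Models7.isProper_of_projective hproj
  haveI : IsLocallyNoetherian Z.left := LocallyOfFiniteType.isLocallyNoetherian Z.hom
  obtain ⟨z, hzc, hgz⟩ := exists_contracted hY hZ g hgs hng
  have hcompg : ∀ a, Z.hom (g.left a) = Y.hom a := fun a => by rw [← Scheme.Hom.comp_apply, Over.w g]
  have hsc : IsClosed ({Y.hom z} : Set ↥(Spec (CommRingCat.of R))) := by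
    rw [← hcompg, ← Set.image_singleton]
    exact Z.hom.isClosedMap _ hgz
  have hsne : Y.hom z ≠ (etaPt : Spec (CommRingCat.of R)) := fun h => not_isClosed_eta hR (h ▸ hsc)
  have hzB : Y.hom z ∈ (V : Set ↥(Spec (CommRingCat.of R)))ᶜ := by
    intro hzV
    obtain ⟨x, rfl⟩ := hfs z
    have hxc : ¬ IsClosed ({x} : Set X.left) := fun h => hzc (by
      rw [← Set.image_singleton]; exact f.left.isClosedMap _ h)
    obtain ⟨hgen, hbir⟩ := birational_of_genIso (f ≫ g) hX hps
    have hZn : Pi1.IsNormalScheme Z.left := fun z => by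
      haveI := hZ.1 z
      exact ⟨CAlgH3.isDomain_of_isRegularLocalRing _, CAlgH3.isIntegrallyClosed_of_regular _⟩
    let y := (f ≫ g).left x
    have hconn : _root_.IsPreconnected ((f ≫ g).left.base ⁻¹' {y}) := by
      haveI := Coherent.connectedSpace_fiber_of_birational (f ≫ g).left hZn hgen hbir y
      rw [← (f ≫ g).left.range_fiberι y, ← Set.image_univ]
      exact isPreconnected_univ.image _ ((f ≫ g).left.fiberι y).continuous.continuousOn
    have hy : IsClosed ({y} : Set Z.left) := hgz
    exact false_of_contracted hX (f ≫ g) hps y hy (ringKrullDim_stalk_closed_eq_two hR hZ y hy) hconn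
      hsne (hcompg (f.left x)) (hV _ hzV) hxc rfl
  set B := (V : Set ↥(Spec (CommRingCat.of R)))ᶜ with hBdef
  have hBc : ∀ s ∈ B, IsClosed ({s} : Set ↥(Spec (CommRingCat.of R))) := fun s hs => by
    refine (PrimeSpectrum.isClosed_singleton_iff_isMaximal s).2 (s.isPrime.isMaximal fun h => hs ?_)
    rw [show s = (etaPt : Spec (CommRingCat.of R)) from PrimeSpectrum.ext h]
    exact hηV
  have hfY := finite_curvesOver hR hY (finite_compl_of_eta_mem V hηV) hBc
  choose σ hσ using hgs
  have hlt : (curvesOver Z B).ncard < n := by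
    rw [← hn]
    have hsub : σ '' curvesOver Z B ⊆ curvesOver Y B \ {z} := by
      rintro _ ⟨w, ⟨hwc, hwB⟩, rfl⟩
      refine ⟨⟨fun h => hwc ?_, by rw [← hcompg, hσ]; exact hwB⟩, fun h => hwc ?_⟩
      · have h' := g.left.isClosedMap _ h
        rwa [Set.image_singleton, hσ] at h'
      · rw [← hσ w, Set.mem_singleton_iff.1 h]
        exact hgz
    calc (curvesOver Z B).ncard = (σ '' curvesOver Z B).ncard :=
          (Set.ncard_image_of_injective _ (Function.LeftInverse.injective hσ)).symm
      _ ≤ (curvesOver Y B \ {z}).ncard := Set.ncard_le_ncard hsub (hfY.diff)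
      _ < (curvesOver Y B).ncard := Set.ncard_diff_singleton_lt_of_mem ⟨hzc, hzB⟩ hfY
  exact ih _ hlt Z (f ≫ g) hZ inferInstance rfl

end Groth.Agent.Models7
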