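import Groth.Agent.Models7.DedekindUnique
import Groth.Agent.Models7.ProjMap
import Groth.Agent.Coherent.ProjSpaceBase
import Groth.Agent.Coherent.NormalPush
import Groth.Agent.H8Lim.BiratNormal
import Groth.Agent.PicLib.FlatSections

/-!
# Arithmetic surfaces over a finite extension of the base
-/

set_option autoImplicit false
set_option linter.style.haveILetI false
set_option backward.isDefEq.respectTransparency false
set_option maxHeartbeats 1000000

universe u

open CategoryTheory CategoryTheory.Limits AlgebraicGeometry TopologicalSpace IsLocalRing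
open Groth.Agent.Coherent

namespace Groth.Agent.Models7

/-- Global functions on an integral scheme with integrally closed stalks are integrally closed. -/
theorem isIntegrallyClosed_appTop {X : Scheme.{u}} [IsIntegral X]
    (hN : ∀ x : X, IsIntegrallyClosed (X.presheaf.stalk x)) : IsIntegrallyClosed Γ(X, ⊤) := by
  refine (isIntegrallyClosed_iff (FractionRing Γ(X, ⊤))).2 fun {x} hx => ?_
  have hinj : Function.Injective (X.presheaf.germ ⊤ (genericPoint X) trivial) :=
    germ_injective_of_isIntegral X (U := ⊤) (genericPoint X) trivial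
  let ψ : FractionRing Γ(X, ⊤) →+* X.functionField :=
    IsFractionRing.lift (A := Γ(X, ⊤)) (g := (X.presheaf.germ ⊤ (genericPoint X) trivial).hom) hinj
  have hψ : ∀ a, ψ (algebraMap Γ(X, ⊤) _ a) = X.presheaf.germ ⊤ (genericPoint X) trivial a := fun a =>
    IsFractionRing.lift_algebraMap hinj a
  have h0 : ∀ x₀ : X, ∃ (U : X.Opens) (_ : x₀ ∈ U) (hU : genericPoint X ∈ U) (s : Γ(X, U)),
      X.presheaf.germ U _ hU s = ψ x := by
    intro x₀
    obtain ⟨_, ⟨U, hU, rfl⟩, hxU, -⟩ :=
      X.isBasis_affineOpens.exists_subset_of_mem_open (Set.mem_univ x₀) isOpen_univ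
    have hη : genericPoint X ∈ U := (genericPoint_specializes x₀).mem_open U.isOpen hxU
    obtain ⟨p, hp, hpx⟩ := hx
    obtain ⟨s, hs⟩ := H8Lim.mem_range_germ_of_isIntegralElem hN hU rfl hη (ψ x)
      ⟨p.map (X.presheaf.map (homOfLE (le_top (a := U))).op).hom, hp.map _, by
        rw [Polynomial.eval₂_map, ← CommRingCat.hom_comp, X.presheaf.germ_res]
        have h := congrArg ψ hpx
        rw [map_zero, ← Polynomial.aeval_def, Polynomial.aeval_def, Polynomial.hom_eval₂] at h
        rw [← h]
        congr 1
        exact RingHom.ext fun a => (hψ a).symm⟩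
    exact ⟨U, hxU, hη, s, hs⟩
  choose U hxU hη s hs using h0
  have hcompat : TopCat.Presheaf.IsCompatible X.sheaf.obj U s := by
    intro i j
    have hij : genericPoint X ∈ U i ⊓ U j := ⟨hη i, hη j⟩
    haveI : Nonempty (U i ⊓ U j : X.Opens) := ⟨⟨_, hij⟩⟩
    refine germ_injective_of_isIntegral X (genericPoint X) hij ?_
    exact (X.presheaf.germ_res_apply _ _ _ _).trans ((hs i).trans ((hs j).symm.trans
      (X.presheaf.germ_res_apply _ _ _ _).symm))
  obtain ⟨t, ht, -⟩ := X.sheaf.existsUnique_gluing' U ⊤ (fun i => homOfLE le_top)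
    (fun x _ => Opens.mem_iSup.2 ⟨x, hxU x⟩) s hcompat
  refine ⟨t, ψ.injective ?_⟩
  rw [hψ]
  obtain ⟨x₀⟩ : Nonempty X := inferInstance
  rw [← hs x₀, ← ht x₀]
  exact (X.presheaf.germ_res_apply _ _ _ _).symm

variable {R A : Type u} [CommRing R] [IsDedekindDomain R] [CommRing A] [IsDedekindDomain A] [Algebra R A]

/-- The morphism of spectra of a finite extension. -/
noncomputable abbrev baseMap (R A : Type u) [CommRing R] [CommRing A] [Algebra R A] :
    Spec (CommRingCat.of A) ⟶ Spec (CommRingCat.of R) := Spec.map (CommRingCat.ofHom (algebraMap R A))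

variable [Module.Finite R A]

instance isFinite_baseMap : IsFinite (baseMap R A) :=
  (IsFinite.SpecMap_iff _).2 (RingHom.finite_algebraMap.2 ‹Module.Finite R A›)

/-- Projective over a finite extension of the base is projective over the base. -/
theorem isProjectiveOver_of_factor (Y : Over (Spec (CommRingCat.of A)))
    (hY : Neron.IsProjectiveOver A Y) :
    Neron.IsProjectiveOver R (Over.mk (Y.hom ≫ baseMap R A)) := by
  obtain ⟨n, i, hi, hiw⟩ := hY
  haveI := hi
  haveI : IsProper Y.hom := Models7.isProper_of_projective ⟨n, i, hi, hiw⟩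
  haveI : IsProper (Over.mk (Y.hom ≫ baseMap R A)).hom := inferInstanceAs (IsProper (Y.hom ≫ baseMap R A))
  have hbc := isPullback_projSpace (n := n) (R' := R) (R := A)
  haveI : IsFinite (Proj.map (polyGradedMap n R A) (polyGradedMap_irrelevant n R A)) :=
    MorphismProperty.of_isPullback hbc.flip (inferInstanceAs (IsFinite (baseMap R A)))
  letI : Algebra (ULift.{u} ℤ) A := ((Int.castRingHom A).comp (ULift.ringEquiv (R := ℤ)).toRingHom).toAlgebra
  have hZ := isPullback_projSpace (n := n) (R' := ULift.{u} ℤ) (R := A)
  let e : CohB1.ProjSpaceOver n (Spec (CommRingCat.of A)) ⟶ CohB1.ProjSpace n A :=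
    hZ.lift (pullback.fst _ _) (CohB1.ProjSpaceOver.toBase n (Spec (CommRingCat.of A)))
      (by
        refine pullback.condition.trans (congrArg (pullback.snd _ _ ≫ ·) ?_)
        exact specULiftZIsTerminal.hom_ext _ _)
  haveI : IsIso e := by
    have h2 : IsPullback (pullback.fst _ _) (CohB1.ProjSpaceOver.toBase n (Spec (CommRingCat.of A)))
        (CohB1.ProjSpace.toSpec n (ULift.{u} ℤ))
        (Spec.map (CommRingCat.ofHom (algebraMap (ULift.{u} ℤ) A))) := by
      rw [specULiftZIsTerminal.hom_ext (Spec.map (CommRingCat.ofHom (algebraMap (ULift.{u} ℤ) A)))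
        (specULiftZIsTerminal.from _)]
      exact IsPullback.of_hasPullback _ _
    rw [show e = (h2.isoIsPullback _ _ hZ).hom from hZ.hom_ext
      ((hZ.lift_fst _ _ _).trans (h2.isoIsPullback_hom_fst _ _ hZ).symm)
      ((hZ.lift_snd _ _ _).trans (h2.isoIsPullback_hom_snd _ _ hZ).symm)]
    infer_instance
  exact isProjectiveOver_of_finite (Y := Over.mk (Y.hom ≫ baseMap R A))
    ((i ≫ e) ≫ Proj.map (polyGradedMap n R A) (polyGradedMap_irrelevant n R A))

/-- Projectivity passes to a finite extension of the base. -/
theorem isProjectiveOver_factor {X : Over (Spec (CommRingCat.of R))} (hX : Neron.IsProjectiveOver R X)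
    (π : X.left ⟶ Spec (CommRingCat.of A)) (hπ : π ≫ baseMap R A = X.hom) :
    Neron.IsProjectiveOver A (Over.mk π) := by
  obtain ⟨n, i, hi, hiw⟩ := hX
  haveI := hi
  let i' : X.left ⟶ CohB1.ProjSpaceOver n (Spec (CommRingCat.of A)) := pullback.lift (i ≫ pullback.fst _ _) π
    (by
      rw [Category.assoc, pullback.condition, ← Category.assoc]
      exact specULiftZIsTerminal.hom_ext _ _)
  let m : CohB1.ProjSpaceOver n (Spec (CommRingCat.of A)) ⟶ CohB1.ProjSpaceOver n (Spec (CommRingCat.of R)) :=
    pullback.lift (pullback.fst _ _) (pullback.snd _ _ ≫ baseMap R A)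
      (by rw [pullback.condition, Category.assoc]; exact congrArg (pullback.snd _ _ ≫ ·) (specULiftZIsTerminal.hom_ext _ _))
  haveI : IsSeparated (CohB1.ProjSpaceOver.toBase n (Spec (CommRingCat.of A))) :=
    CAlgSmall.ProjMore.isSeparated_toBase n _
  haveI : IsSeparated m := by
    have : IsSeparated (m ≫ CohB1.ProjSpaceOver.toBase n (Spec (CommRingCat.of R))) := by
      rw [show m ≫ CohB1.ProjSpaceOver.toBase n _ = CohB1.ProjSpaceOver.toBase n _ ≫ baseMap R A from
        pullback.lift_snd _ _ _]
      infer_instance
    exact IsSeparated.of_comp m (CohB1.ProjSpaceOver.toBase n (Spec (CommRingCat.of R)))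
  have him : i' ≫ m = i := by
    apply pullback.hom_ext
    · rw [Category.assoc, pullback.lift_fst, pullback.lift_fst]
    · rw [Category.assoc, pullback.lift_snd, ← Category.assoc, pullback.lift_snd]
      exact hπ.trans hiw.symm
  haveI : IsClosedImmersion (i' ≫ m) := him ▸ hi
  exact ⟨n, i', IsClosedImmersion.of_comp i' m, pullback.lift_snd _ _ _⟩

/-- An arithmetic surface is one over any finite extension of the base it factors through. -/
theorem isArithSurface_factor
    {X : Over (Spec (CommRingCat.of R))} (hX : ArSurf.IsArithSurface R X)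
    (π : X.left ⟶ Spec (CommRingCat.of A)) (hπ : π ≫ baseMap R A = X.hom) :
    ArSurf.IsArithSurface A (Over.mk π) := by
  refine ⟨hX.1, hX.2.1, hX.2.2.1, ?_, isProjectiveOver_factor hX.2.2.2.2 π hπ⟩
  haveI := hX.2.1
  haveI := hX.2.2.2.1
  show Flat π
  refine Hurwitz24.flat_of_dominant π ?_ ?_ fun z => ?_
  · have h : baseMap R A (π (genericPoint X.left)) = (etaPt : Spec (CommRingCat.of R)) := by
      rw [← Scheme.Hom.comp_apply, hπ, hom_genericPoint']
    have h' : Ideal.comap (algebraMap R A) (π (genericPoint X.left)).asIdeal = ⊥ :=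
      congrArg PrimeSpectrum.asIdeal h
    haveI : Algebra.IsIntegral R A := Algebra.IsIntegral.of_finite R A
    haveI := (π (genericPoint X.left)).isPrime
    have h3 : π (genericPoint X.left) = (etaPt : Spec (CommRingCat.of A)) :=
      PrimeSpectrum.ext (Ideal.eq_bot_of_comap_eq_bot h')
    rw [h3]
    refine ((((PrimeSpectrum.le_iff_specializes (etaPt : Spec (CommRingCat.of A)) _).1 bot_le)).antisymm ?_).eq
    exact genericPoint_specializes _
  · exact (PrimeSpectrum.topologicalKrullDim_eq_ringKrullDim (R := A)).trans_le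
      ((Order.krullDimLE_iff 1 _).1 (inferInstanceAs (Ring.KrullDimLE 1 A)))
  · haveI : IsIntegrallyClosed (Localization.AtPrime z.asIdeal) :=
      isIntegrallyClosed_of_isLocalization _ z.asIdeal.primeCompl z.asIdeal.primeCompl_le_nonZeroDivisors
    exact IsIntegrallyClosed.of_equiv (Spec.stalkIso (CommRingCat.of A) z).commRingCatIsoToRingEquiv.symm

theorem torsionFree_of_inj (hinj : Function.Injective (algebraMap R A)) : Module.IsTorsionFree R A :=
  Module.isTorsionFree_iff_algebraMap_injective.2 hinj

theorem flat_baseMap (hinj : Function.Injective (algebraMap R A)) : Flat (baseMap R A) := by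
  haveI := torsionFree_of_inj hinj
  haveI : Module.Flat R A := inferInstance
  exact (HasRingHomProperty.Spec_iff (P := @Flat)).2 (RingHom.flat_algebraMap_iff.2 ‹_›)

/-- The spectrum of the fraction field of a finite extension is the generic fibre of its spectrum. -/
theorem exists_isPullback_genPt (hinj : Function.Injective (algebraMap R A)) :
    ∃ k : Spec (CommRingCat.of (FractionRing A)) ⟶ Spec (CommRingCat.of (FractionRing R)),
      IsPullback (Neron.genPt A) k (baseMap R A) (Neron.genPt R) := by
  haveI := torsionFree_of_inj hinj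
  haveI : Module.IsTorsionFree R (FractionRing A) :=
    Module.isTorsionFree_iff_algebraMap_injective.2 (by
      rw [IsScalarTower.algebraMap_eq R A (FractionRing A)]
      exact (IsFractionRing.injective A (FractionRing A)).comp hinj)
  letI := FractionRing.liftAlgebra R (FractionRing A)
  haveI : FiniteDimensional (FractionRing R) (FractionRing A) := by infer_instance
  haveI : IsIntegralClosure A R (FractionRing A) := IsIntegralClosure.of_isIntegrallyClosed A R (FractionRing A)
  haveI : IsLocalization (Algebra.algebraMapSubmonoid A (nonZeroDivisors R)) (FractionRing A) :=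
    IsIntegralClosure.isLocalization R (FractionRing R) (FractionRing A) A
  refine ⟨Spec.map (CommRingCat.ofHom (algebraMap (FractionRing R) (FractionRing A))), ?_⟩
  exact isPullback_SpecMap_of_isPushout _ _ _ _ (CommRingCat.isPushout_iff_isPushout.mpr
    (Algebra.isPushout_of_isLocalization (nonZeroDivisors R) (FractionRing R) A (FractionRing A)))

/-- The generic fibre over a finite extension is the generic fibre. -/
theorem exists_genericFibre_iso (hinj : Function.Injective (algebraMap R A))
    {Y : Scheme.{u}} (q : Y ⟶ Spec (CommRingCat.of A)) :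
    ∃ e : pullback q (Neron.genPt A) ⟶ pullback (q ≫ baseMap R A) (Neron.genPt R), IsIso e ∧
      e ≫ pullback.fst _ _ = pullback.fst q (Neron.genPt A) := by
  obtain ⟨k, hk⟩ := exists_isPullback_genPt (R := R) hinj
  have h := (IsPullback.of_hasPullback q (Neron.genPt A)).paste_vert hk
  exact ⟨h.isoPullback.hom, inferInstance, h.isoPullback_hom_fst⟩

/-- Relative minimality passes to a finite extension of the base. -/
theorem isRelMinimal_factor (hinj : Function.Injective (algebraMap R A))
    {X : Over (Spec (CommRingCat.of R))} (hm : Neron.IsRelMinimalRegularModel R X)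
    (π : X.left ⟶ Spec (CommRingCat.of A)) (hπ : π ≫ baseMap R A = X.hom) (hflat : Flat π) :
    Neron.IsRelMinimalRegularModel A (Over.mk π) := by
  refine ⟨hm.1, isProjectiveOver_factor hm.2.1 π hπ, hflat, fun Y hYr hYp hYf g hg => ?_⟩
  haveI := hYf
  haveI := flat_baseMap (R := R) hinj
  let Y' : Over (Spec (CommRingCat.of R)) := Over.mk (Y.hom ≫ baseMap R A)
  haveI : Flat Y'.hom := inferInstanceAs (Flat (Y.hom ≫ baseMap R A))
  have hgw : g.left ≫ Y.hom = π := Over.w g
  let g' : X ⟶ Y' := Over.homMk g.left (by
    show g.left ≫ Y.hom ≫ baseMap R A = _; rw [reassoc_of% hgw]; exact hπ)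
  have hiso : IsIso ((Neron.genericFibre R).map g') := by
    obtain ⟨k, hk⟩ := exists_isPullback_genPt (R := R) hinj
    have sX := (IsPullback.of_hasPullback π (Neron.genPt A)).paste_vert hk
    rw [hπ] at sX
    have sY := (IsPullback.of_hasPullback Y.hom (Neron.genPt A)).paste_vert hk
    haveI := hg
    let G := ((Neron.genericFibre A).map g).left
    haveI : IsIso G := inferInstanceAs (IsIso ((Over.forget _).map ((Neron.genericFibre A).map g)))
    have h1 : G ≫ pullback.fst Y.hom (Neron.genPt A) = pullback.fst π (Neron.genPt A) ≫ g.left :=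
      pullback.lift_fst _ _ _
    have h2 : G ≫ pullback.snd Y.hom (Neron.genPt A) = pullback.snd π (Neron.genPt A) :=
      pullback.lift_snd _ _ _
    let G' : pullback X.hom (Neron.genPt R) ⟶ pullback (Y.hom ≫ baseMap R A) (Neron.genPt R) :=
      ((Neron.genericFibre R).map g').left
    have k1 : G' ≫ pullback.fst (Y.hom ≫ baseMap R A) (Neron.genPt R) = pullback.fst X.hom (Neron.genPt R) ≫ g.left :=
      pullback.lift_fst _ _ _
    have k2 : G' ≫ pullback.snd (Y.hom ≫ baseMap R A) (Neron.genPt R) = pullback.snd X.hom (Neron.genPt R) :=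
      pullback.lift_snd _ _ _
    have heq : G' = sX.isoPullback.inv ≫ G ≫ sY.isoPullback.hom := by
      apply pullback.hom_ext
      · rw [Category.assoc, Category.assoc, sY.isoPullback_hom_fst, h1, k1, sX.isoPullback_inv_fst_assoc]
      · rw [Category.assoc, Category.assoc, sY.isoPullback_hom_snd, k2, reassoc_of% h2, sX.isoPullback_inv_snd]
    haveI : IsIso ((Over.forget _).map ((Neron.genericFibre R).map g')) := by
      show IsIso G'
      rw [heq]; infer_instance
    exact isIso_of_reflects_iso _ (Over.forget _)
  haveI := hm.2.2.2 Y' hYr (isProjectiveOver_of_factor Y hYp) inferInstance g' hiso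
  haveI : IsIso ((Over.forget _).map g) := inferInstanceAs (IsIso ((Over.forget _).map g'))
  exact isIso_of_reflects_iso _ (Over.forget _)

end Groth.Agent.Models7
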