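import Groth.Agent.Models7.DedekindUnique
import Groth.Agent.Models7.SteinBase
import Groth.Agent.Models7.RelMinExists
import Groth.Agent.AlgSpLib.EtaleAscend
import Groth.Agent.Et18.EtaleLocalRing
import Groth.Agent.EGA43.GeomIntegral.Dvr
import Groth.Agent.FlatMor12.SteinGeneral
import Groth.Agent.LocSymLib29.Ord
import Groth.Agent.CAlgSmall.ProjMore

/-!
# Arithmetic surfaces along etale extensions of the base, and minimality from the absence of exceptional curves
-/

set_option autoImplicit false
set_option linter.style.haveILetI false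
set_option backward.isDefEq.respectTransparency false
set_option maxHeartbeats 2000000

universe u

open CategoryTheory CategoryTheory.Limits AlgebraicGeometry TopologicalSpace IsLocalRing
open Groth.Agent.Coherent

namespace Groth.Agent.Models7

variable {R : Type u} [CommRing R] [IsDedekindDomain R]

/-- Base change of a surface to an algebra. -/
noncomputable abbrev sfc (X : Over (Spec (CommRingCat.of R))) (B : Type u) [CommRing B] [Algebra R B] :
    Over (Spec (CommRingCat.of B)) :=
  Over.mk (pullback.snd X.hom (baseMap R B))

/-- The map of base changes along an algebra homomorphism. -/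
noncomputable def sfcMap (X : Over (Spec (CommRingCat.of R))) {B B' : Type u} [CommRing B] [CommRing B']
    [Algebra R B] [Algebra R B'] (φ : B →ₐ[R] B') : (sfc X B').left ⟶ (sfc X B).left :=
  pullback.lift (pullback.fst X.hom (baseMap R B'))
    (pullback.snd X.hom (baseMap R B') ≫ Spec.map (CommRingCat.ofHom φ.toRingHom)) (by
      rw [pullback.condition, Category.assoc, ← Spec.map_comp, ← CommRingCat.ofHom_comp,
        show φ.toRingHom.comp (algebraMap R B) = algebraMap R B' from φ.comp_algebraMap])

theorem sfcMap_fst (X : Over (Spec (CommRingCat.of R))) {B B' : Type u} [CommRing B] [CommRing B']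
    [Algebra R B] [Algebra R B'] (φ : B →ₐ[R] B') :
    sfcMap X φ ≫ pullback.fst X.hom (baseMap R B) = pullback.fst X.hom (baseMap R B') :=
  pullback.lift_fst _ _ _

theorem sfcMap_snd (X : Over (Spec (CommRingCat.of R))) {B B' : Type u} [CommRing B] [CommRing B']
    [Algebra R B] [Algebra R B'] (φ : B →ₐ[R] B') :
    sfcMap X φ ≫ pullback.snd X.hom (baseMap R B) =
      pullback.snd X.hom (baseMap R B') ≫ Spec.map (CommRingCat.ofHom φ.toRingHom) :=
  pullback.lift_snd _ _ _

theorem isPullback_sfcMap (X : Over (Spec (CommRingCat.of R))) {B B' : Type u} [CommRing B] [CommRing B']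
    [Algebra R B] [Algebra R B'] (φ : B →ₐ[R] B') :
    IsPullback (sfcMap X φ) (pullback.snd X.hom (baseMap R B')) (pullback.snd X.hom (baseMap R B))
      (Spec.map (CommRingCat.ofHom φ.toRingHom)) := by
  refine IsPullback.of_right ?_ (sfcMap_snd X φ) (IsPullback.of_hasPullback X.hom (baseMap R B))
  rw [sfcMap_fst, show Spec.map (CommRingCat.ofHom φ.toRingHom) ≫ baseMap R B = baseMap R B' by
    rw [← Spec.map_comp, ← CommRingCat.ofHom_comp,
      show φ.toRingHom.comp (algebraMap R B) = algebraMap R B' from φ.comp_algebraMap]]
  exact IsPullback.of_hasPullback X.hom (baseMap R B')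

section Etale

variable {A : Type u} [CommRing A] [Algebra R A] [Algebra.Etale R A]

theorem etale_baseMap : Etale (baseMap R A) :=
  (HasRingHomProperty.Spec_iff (P := @Etale)).2 (RingHom.etale_algebraMap.2 ‹_›)

theorem sfc_etale (X : Over (Spec (CommRingCat.of R))) : Etale (pullback.fst X.hom (baseMap R A)) := by
  haveI := etale_baseMap (R := R) (A := A)
  infer_instance

variable (Q : Ideal A) [Q.IsPrime]

theorem local_facts :
    Algebra.FormallyUnramified R (Localization.AtPrime Q) ∧ Algebra.EssFiniteType R (Localization.AtPrime Q) ∧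
      Module.Flat R (Localization.AtPrime Q) := by
  haveI : Algebra.FormallyUnramified A (Localization.AtPrime Q) := .of_isLocalization Q.primeCompl
  haveI : Module.Flat A (Localization.AtPrime Q) := IsLocalization.flat _ Q.primeCompl
  exact ⟨.comp R A _, Algebra.EssFiniteType.comp R A _, Module.Flat.trans R A _⟩

theorem isDVR_atPrime_etale (hR : ¬ IsField R) (hP : (Q.under R).IsMaximal) :
    ∃ _ : IsDomain (Localization.AtPrime Q), IsDiscreteValuationRing (Localization.AtPrime Q) := by
  haveI := hP
  let p := Q.under R
  haveI : IsNoetherianRing A := Algebra.FiniteType.isNoetherianRing R A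
  haveI := isDVR_atPrime p hR
  haveI := AlgSpLib.regular_atPrime_of_etale R A Q inferInstance
  letI := Localization.AtPrime.algebraOfLiesOver p Q
  haveI : IsLocalHom (algebraMap (Localization.AtPrime p) (Localization.AtPrime Q)) :=
    Localization.isLocalHom_localRingHom _ _ _ _
  obtain ⟨hu, he, hf⟩ := local_facts (R := R) Q
  haveI : Algebra.EssFiniteType (Localization.AtPrime p) (Localization.AtPrime Q) :=
    Algebra.EssFiniteType.of_comp R _ _
  haveI : Algebra.FormallyUnramified (Localization.AtPrime p) (Localization.AtPrime Q) :=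
    .of_restrictScalars R _ _
  haveI : Module.Flat (Localization.AtPrime p) (Localization.AtPrime Q) :=
    (Module.flat_iff_of_isLocalization (Localization.AtPrime p) p.primeCompl _).2 hf
  haveI : IsDomain (Localization.AtPrime Q) := CAlgH3.isDomain_of_isRegularLocalRing _
  refine ⟨inferInstance, LocSymLib29.isDVR_of_regular _ ?_⟩
  rw [Et18.ringKrullDim_eq_of_flat_of_map_maximalIdeal (Localization.AtPrime p) (Localization.AtPrime Q)
    Algebra.FormallyUnramified.map_maximalIdeal]
  exact IsDiscreteValuationRing.ringKrullDim_eq_one _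

end Etale

variable {X : Over (Spec (CommRingCat.of R))}

theorem topologicalKrullDim_eq_two_of_stalks {T : Scheme.{u}}
    (hle : ∀ t : T, ringKrullDim (T.presheaf.stalk t) ≤ 2)
    (hge : ∃ t : T, ringKrullDim (T.presheaf.stalk t) = 2) : topologicalKrullDim T = 2 := by
  refine le_antisymm ?_ ?_
  · rw [DimLib.topologicalKrullDim_eq_krullDim, Order.krullDim_eq_iSup_coheight]
    refine iSup_le fun x => ?_
    rw [← ringKrullDim_stalk_eq_coheight]
    exact hle x
  · obtain ⟨t, ht⟩ := hge
    exact ht ▸ CurvesLib24.stalk_dim_le_topologicalKrullDim t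

/-- The base change to an etale algebra which is integral, covering all points, is an arithmetic surface. -/
theorem isArithSurface_sfc_etale (hX : ArSurf.IsArithSurface R X) {A : Type u} [CommRing A] [Algebra R A]
    [Algebra.Etale R A] [IsIntegral (sfc X A).left] (hs : Function.Surjective (baseMap R A).base) :
    ArSurf.IsArithSurface A (sfc X A) := by
  haveI := hX.2.2.2.1
  haveI : IsProper X.hom := Models7.isProper_of_projective hX.2.2.2.2
  haveI : IsLocallyNoetherian X.left := LocallyOfFiniteType.isLocallyNoetherian X.hom
  haveI := sfc_etale (A := A) X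
  haveI : Surjective (baseMap R A) := ⟨hs⟩
  let c := pullback.fst X.hom (baseMap R A)
  have hreg := AlgSpLib.regular_stalks_of_etale c hX.1
  refine ⟨hreg, inferInstance, ?_, inferInstanceAs (Flat (pullback.snd X.hom (baseMap R A))),
    CAlgSmall.ProjMore.isHProjective_baseChange (IsPullback.of_hasPullback X.hom (baseMap R A)) hX.2.2.2.2⟩
  refine topologicalKrullDim_eq_two_of_stalks (fun t => ?_) ?_
  · exact (Et18.ringKrullDim_stalk_eq_of_etale c t).trans_le
      ((CurvesLib24.stalk_dim_le_topologicalKrullDim (c t)).trans hX.2.2.1.le)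
  · obtain ⟨x, hx⟩ : ∃ x : X.left, ringKrullDim (X.left.presheaf.stalk x) = 2 := by
      by_contra hno
      push Not at hno
      have h2 : topologicalKrullDim X.left ≤ 1 := by
        rw [DimLib.topologicalKrullDim_eq_krullDim, Order.krullDim_eq_iSup_coheight]
        refine iSup_le fun x => ?_
        have h := lt_of_le_of_ne ((CurvesLib24.stalk_dim_le_topologicalKrullDim x).trans hX.2.2.1.le) (hno x)
        rw [ringKrullDim_stalk_eq_coheight] at h
        have h' : Order.coheight x < (2 : ℕ∞) := WithBot.coe_lt_coe.1 h
        have h1 : Order.coheight x ≤ (1 : ℕ∞) := (ENat.lt_add_one_iff (by decide : (1 : ℕ∞) ≠ ⊤)).1 h'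
        exact_mod_cast h1
      rw [hX.2.2.1] at h2
      exact absurd h2 (by decide)
    obtain ⟨t, rfl⟩ := (inferInstance : Surjective c).surj x
    exact ⟨t, (Et18.ringKrullDim_stalk_eq_of_etale c t).trans hx⟩

/-- Localised etale base changes of a surface with trivial constants are surfaces with trivial constants. -/
theorem sfc_local (hR : ¬ IsField R) (hX : ArSurf.IsArithSurface R X)
    (hH0 : Function.Bijective X.hom.appTop)
    (hH1 : Nontrivial (Coh.HH ((Neron.genericFibre R).obj X).left (Coh.structureModule _) 1))
    {A : Type u} [CommRing A] [Algebra R A] [Algebra.Etale R A] (Q : Ideal A) [Q.IsPrime]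
    (hP : (Q.under R).IsMaximal) [IsDomain (Localization.AtPrime Q)] [IsDiscreteValuationRing (Localization.AtPrime Q)] :
    ArSurf.IsArithSurface (Localization.AtPrime Q) (sfc X (Localization.AtPrime Q)) ∧
      Function.Bijective (sfc X (Localization.AtPrime Q)).hom.appTop ∧
      Nontrivial (Coh.HH ((Neron.genericFibre (Localization.AtPrime Q)).obj (sfc X (Localization.AtPrime Q))).left
        (Coh.structureModule _) 1) := by
  haveI := hP
  haveI := hX.2.1
  haveI := hX.2.2.2.1
  haveI : IsProper X.hom := Models7.isProper_of_projective hX.2.2.2.2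
  haveI : IsLocallyNoetherian X.left := LocallyOfFiniteType.isLocallyNoetherian X.hom
  haveI : CompactSpace X.left := QuasiCompact.compactSpace_of_compactSpace X.hom
  let D := Localization.AtPrime Q
  obtain ⟨-, -, hf⟩ := local_facts (R := R) Q
  haveI hflat : Flat (baseMap R D) :=
    (HasRingHomProperty.Spec_iff (P := @Flat)).2 (RingHom.flat_algebraMap_iff.2 hf)
  let T := sfc X D
  haveI : IsProper T.hom := inferInstanceAs (IsProper (pullback.snd X.hom (baseMap R D)))
  haveI : IsLocallyNoetherian T.left := LocallyOfFiniteType.isLocallyNoetherian T.hom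
  haveI : CompactSpace T.left := QuasiCompact.compactSpace_of_compactSpace T.hom
  have happ : Function.Bijective T.hom.appTop :=
    PicLib.bijective_appTop_of_isPullback (pullback.fst X.hom (baseMap R D)) (pullback.snd X.hom (baseMap R D))
      X.hom (baseMap R D) (IsPullback.of_hasPullback _ _) hH0
  haveI : IsIso T.hom.appTop := (ConcreteCategory.isIso_iff_bijective _).2 happ
  haveI : IsLocalRing Γ(T.left, ⊤) := ((Scheme.ΓSpecIso (CommRingCat.of D)).symm ≪≫
    asIso T.hom.appTop).commRingCatIsoToRingEquiv.isLocalRing
  haveI := FlatMor12.SteinGeneral.connectedSpace_of_isLocalRing T.left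
  -- regularity through the etale cover
  let cA := sfcMap X (IsScalarTower.toAlgHom R A D)
  have hcA := isPullback_sfcMap X (IsScalarTower.toAlgHom R A D)
  haveI : IsPreimmersion (Spec.map (CommRingCat.ofHom (IsScalarTower.toAlgHom R A D).toRingHom)) :=
    IsPreimmersion.of_isLocalization (S := D) Q.primeCompl
  haveI : Flat (Spec.map (CommRingCat.ofHom (IsScalarTower.toAlgHom R A D).toRingHom)) :=
    (HasRingHomProperty.Spec_iff (P := @Flat)).2 (RingHom.flat_algebraMap_iff.2 (IsLocalization.flat D Q.primeCompl))
  haveI : IsPreimmersion cA := MorphismProperty.of_isPullback (P := @IsPreimmersion) hcA.flip inferInstance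
  haveI : Flat cA := MorphismProperty.of_isPullback (P := @Flat) hcA.flip inferInstance
  haveI := sfc_etale (A := A) X
  haveI : IsLocallyNoetherian (sfc X A).left :=
    LocallyOfFiniteType.isLocallyNoetherian (pullback.fst X.hom (baseMap R A))
  have hregA := AlgSpLib.regular_stalks_of_etale (pullback.fst X.hom (baseMap R A)) hX.1
  have hreg : ∀ t : T.left, IsRegularLocalRing (T.left.presheaf.stalk t) := fun t =>
    isRegularLocalRing_of_flat_preimmersion cA t (hregA _)
  haveI : IsIntegral T.left := EGA43.GeomIntegral.isIntegral_of_isDomain_stalk fun t =>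
    haveI := hreg t
    CAlgH3.isDomain_of_isRegularLocalRing _
  have hdim : ∀ t : T.left, ringKrullDim (T.left.presheaf.stalk t) =
      ringKrullDim (X.left.presheaf.stalk (pullback.fst X.hom (baseMap R D) t)) := fun t => by
    haveI := VarietyLib.isIso_stalkMap_of_flat_of_isPreimmersion cA t
    rw [← ringKrullDim_eq_of_ringEquiv (asIso (cA.stalkMap t)).commRingCatIsoToRingEquiv]
    refine (Et18.ringKrullDim_stalk_eq_of_etale (pullback.fst X.hom (baseMap R A)) (cA t)).trans ?_
    rw [show pullback.fst X.hom (baseMap R A) (cA t) = pullback.fst X.hom (baseMap R D) t by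
      exact (Scheme.Hom.comp_apply cA (pullback.fst X.hom (baseMap R A)) t).symm.trans
        (congrArg (fun f => (f : T.left ⟶ X.left) t) (sfcMap_fst X _))]
  refine ⟨⟨hreg, inferInstance, ?_, inferInstanceAs (Flat (pullback.snd X.hom (baseMap R D))),
    CAlgSmall.ProjMore.isHProjective_baseChange (IsPullback.of_hasPullback X.hom (baseMap R D)) hX.2.2.2.2⟩, happ, ?_⟩
  · refine topologicalKrullDim_eq_two_of_stalks (fun t => (hdim t).trans_le
      ((CurvesLib24.stalk_dim_le_topologicalKrullDim _).trans hX.2.2.1.le)) ?_
    -- a closed point of the special fibre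
    let P' : Spec (CommRingCat.of R) := (⟨Q.under R, inferInstance⟩ : PrimeSpectrum R)
    obtain ⟨x, hxP, hxc⟩ : ∃ x : X.left, X.hom x = P' ∧ IsClosed ({x} : Set X.left) := by
      have hPc : IsClosed ({P'} : Set (Spec (CommRingCat.of R))) :=
        (PrimeSpectrum.isClosed_singleton_iff_isMaximal _).2 hP
      obtain ⟨t₀⟩ : Nonempty T.left := inferInstance
      have hne : (X.hom.base ⁻¹' {P'}).Nonempty := by
        have hcl := X.hom.isClosedMap _ isClosed_univ
        rw [Set.image_univ] at hcl
        exact ((PrimeSpectrum.le_iff_specializes (etaPt : Spec (CommRingCat.of R)) P').1 bot_le).mem_closed hcl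
          ⟨genericPoint X.left, hom_genericPoint'⟩
      obtain ⟨x, hx, hxc⟩ := (hPc.preimage X.hom.continuous).exists_closed_singleton hne
      exact ⟨x, hx, hxc⟩
    obtain ⟨t, rfl⟩ : x ∈ Set.range (pullback.fst X.hom (baseMap R D)).base := by
      rw [Scheme.Pullback.range_fst]
      refine ⟨closedPoint D, ?_⟩
      rw [show X.hom x = P' from hxP]
      refine PrimeSpectrum.ext ?_
      show (maximalIdeal D).comap (algebraMap R D) = Q.comap (algebraMap R A)
      rw [IsScalarTower.algebraMap_eq R A D, ← Ideal.comap_comap]
      exact congrArg (Ideal.comap (algebraMap R A)) (Localization.AtPrime.comap_maximalIdeal (I := Q))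
    exact ⟨t, (hdim t).trans (ringKrullDim_stalk_closed_eq_two hR hX _ hxc)⟩
  · let K := FractionRing R
    haveI : Module.IsTorsionFree R D := inferInstance
    haveI : Module.IsTorsionFree R (FractionRing D) :=
      Module.isTorsionFree_iff_algebraMap_injective.2 (by
        rw [IsScalarTower.algebraMap_eq R D (FractionRing D)]
        exact (IsFractionRing.injective D (FractionRing D)).comp
          (Module.isTorsionFree_iff_algebraMap_injective.1 inferInstance))
    letI := FractionRing.liftAlgebra R (FractionRing D)
    let C := pullback X.hom (Neron.genPt R)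
    let C' := pullback (pullback.snd X.hom (baseMap R D)) (Neron.genPt D)
    let k : Spec (CommRingCat.of (FractionRing D)) ⟶ Spec (CommRingCat.of K) :=
      Spec.map (CommRingCat.ofHom (algebraMap K (FractionRing D)))
    have hk : k ≫ Neron.genPt R = Neron.genPt D ≫ baseMap R D := by
      simp only [k, K, Neron.genPt, baseMap, ← Spec.map_comp, ← CommRingCat.ofHom_comp]
      rw [← IsScalarTower.algebraMap_eq, ← IsScalarTower.algebraMap_eq]
    have hall : IsPullback (pullback.fst (pullback.snd X.hom (baseMap R D)) (Neron.genPt D) ≫ pullback.fst X.hom (baseMap R D))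
        (pullback.snd (pullback.snd X.hom (baseMap R D)) (Neron.genPt D)) X.hom (k ≫ Neron.genPt R) := by
      rw [hk]
      exact ((IsPullback.of_hasPullback (pullback.snd X.hom (baseMap R D)) (Neron.genPt D)).paste_horiz
        (IsPullback.of_hasPullback X.hom (baseMap R D)))
    let g : C' ⟶ C := pullback.lift _ (pullback.snd (pullback.snd X.hom (baseMap R D)) (Neron.genPt D) ≫ k)
      (hall.w.trans (Category.assoc _ _ _).symm)
    have sq : IsPullback g (pullback.snd (pullback.snd X.hom (baseMap R D)) (Neron.genPt D))
        (pullback.snd X.hom (Neron.genPt R)) k :=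
      IsPullback.of_right (by rw [pullback.lift_fst]; exact hall) (pullback.lift_snd _ _ _)
        (IsPullback.of_hasPullback X.hom (Neron.genPt R))
    letI : C.Over (Spec (CommRingCat.of K)) := ⟨pullback.snd X.hom (Neron.genPt R)⟩
    letI : C'.Over (Spec (CommRingCat.of (FractionRing D))) := ⟨pullback.snd _ (Neron.genPt D)⟩
    haveI : IsProper (C ↘ Spec (CommRingCat.of K)) := inferInstanceAs (IsProper (pullback.snd X.hom (Neron.genPt R)))
    haveI : IsLocallyNoetherian C := LocallyOfFiniteType.isLocallyNoetherian (pullback.snd X.hom (Neron.genPt R))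
    haveI : CompactSpace C := QuasiCompact.compactSpace_of_compactSpace (pullback.snd X.hom (Neron.genPt R))
    haveI : C.IsSeparated := ⟨by rw [← terminal.comp_from (pullback.snd X.hom (Neron.genPt R))]; infer_instance⟩
    haveI := CurveRR24.finite_HH_of_isCoh K (X := C) (isCoh_structureModule C) 1
    haveI : Nontrivial (Coh.HH C (Coh.structureModule C) 1) := hH1
    have h := CurveRR24.finrank_HH_structure_bc (k := K) (K := FractionRing D) (X := C) (X' := C') sq 1
    have h0 : 0 < Module.finrank K (Coh.HH C (Coh.structureModule C) 1) := Module.finrank_pos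
    rw [← h] at h0
    exact Module.nontrivial_of_finrank_pos h0

end Groth.Agent.Models7
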