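import Groth.Agent.CurveRR24.Degree
import Groth.Agent.Coherent.FibreVanish
import Groth.Agent.Coherent.CohOps
import Groth.Agent.SubAvoid14.IdealMul
import Groth.Agent.SerreDual.Curve
import Groth.Agent.AbCubeLib.FiniteDegree
import Groth.Agent.Models7.SteinContract
import Groth.Agent.Models7.Factor
import Groth.Agent.FlatMor12.SchDense

/-!
# Euler characteristics along finite birational morphisms of curves
-/

set_option autoImplicit false
set_option linter.style.haveILetI false
set_option backward.isDefEq.respectTransparency false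
set_option maxHeartbeats 1000000

universe u

open CategoryTheory CategoryTheory.Limits AlgebraicGeometry Opposite TopologicalSpace
open Groth.Agent.Coherent Groth.Agent.PicLib Groth.Agent.AmpleLib Groth.Agent.EulerLib

namespace Groth.Agent.Models7

variable (k : Type u) [Field k] {A B : Scheme.{u}} [A.Over (Spec (CommRingCat.of k))]
  [B.Over (Spec (CommRingCat.of k))] [IsProper (A ↘ Spec (CommRingCat.of k))]

/-- A finite morphism of integral curves over a field which is an isomorphism over a nonempty open raises
the Euler characteristic of the structure sheaf, strictly unless it is an isomorphism. -/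
theorem euler_birational [IsIntegral A] [IsIntegral B] (hdim : topologicalKrullDim A ≤ 1) (ν : B ⟶ A)
    [IsFinite ν] (hν : ν ≫ (A ↘ Spec (CommRingCat.of k)) = B ↘ Spec (CommRingCat.of k)) (U : A.Opens)
    (hU : (U : Set A).Nonempty) [IsIso (ν ∣_ U)] :
    Curv2.euler k A (Coh.structureModule A) ≤ Curv2.euler k B (Coh.structureModule B) ∧
      (Curv2.euler k A (Coh.structureModule A) = Curv2.euler k B (Coh.structureModule B) → IsIso ν) := by
  haveI := CurveRR24.isLocallyNoetherian_of_proper k (X := A)
  haveI : IsLocallyNoetherian B := LocallyOfFiniteType.isLocallyNoetherian ν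
  haveI : A.IsSeparated := ⟨by rw [← terminal.comp_from (A ↘ Spec (CommRingCat.of k))]; infer_instance⟩
  have hη : genericPoint A ∈ U := ((genericPoint_spec A).mem_open_set_iff U.2).2 (by simpa using hU)
  have hdense : DenseRange ν.base := by
    obtain ⟨⟨b, hb⟩, hbU⟩ := (ν ∣_ U).homeomorph.surjective (⟨genericPoint A, hη⟩ : U)
    have hbη : ν b = genericPoint A :=
      (morphismRestrict_base_coe ν U ⟨b, hb⟩).symm.trans (congrArg Subtype.val hbU)
    exact dense_iff_closure_eq.2 (Set.eq_univ_of_univ_subset
      ((genericPoint_closure A).ge.trans (closure_mono (Set.singleton_subset_iff.2 ⟨b, hbη⟩))))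
  let u := ClSub.unitToPush ν
  haveI : Mono u := SerreDual.mono_of_app_injective u fun W =>
    FlatMor12.SchDense.app_injective_of_isReduced_of_dense ν hdense W
  haveI : IsIso ((Scheme.Modules.restrictFunctor U.ι).map u) := by
    refine Scheme.Modules.Hom.isIso_iff_isIso_app.2 fun W => ?_
    haveI : IsIso (ν.app (U.ι ''ᵁ W)) := by
      have h : IsIso ((ν ∣_ U).app W) := inferInstance
      rw [morphismRestrict_app] at h
      exact IsIso.of_isIso_comp_right _ (B.presheaf.map (eqToHom (image_morphismRestrict_preimage ν U W)).op)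
    exact (ConcreteCategory.isIso_iff_bijective _).2 (ConcreteCategory.bijective_of_isIso (ν.app (U.ι ''ᵁ W)))
  let Q := cokernel u
  have hP : Coh.IsCoh ((Coh.push ν).obj (Coh.structureModule B)) := isCoh_push_finite ν (isCoh_structureModule B)
  have hQ : Coh.IsCoh Q := isCoh_cokernel u (isCoh_structureModule A).1 hP
  have hsupp : CohB1.support Q ⊆ (U : Set A)ᶜ := SubAvoid14.support_cokernel_subset u fun z hz =>
    (SubAvoid14.bijective_of_isIso_restrict u U (not_not.1 hz)).2
  have hηT : genericPoint A ∉ (U : Set A)ᶜ := fun h => h hη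
  haveI : Coh.IsQCoh (Coh.structureModule B) := (isCoh_structureModule B).1
  have hS : (ShortComplex.mk u (cokernel.π u) (cokernel.condition u)).ShortExact :=
    { exact := ShortComplex.exact_of_g_is_cokernel _ (cokernelIsCokernel u)
      mono_f := inferInstanceAs (Mono u)
      epi_g := inferInstanceAs (Epi (cokernel.π u)) }
  have hadd := euler_additive k A _ hS (isCoh_structureModule A) hP hQ
  change Curv2.euler k A ((Coh.push ν).obj (Coh.structureModule B)) =
    Curv2.euler k A (Coh.structureModule A) + Curv2.euler k A Q at hadd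
  rw [← AbCubeLib.euler_push k ν hν,
    CurveRR24.euler_eq_h0_of_small k hdim hQ.1 U.2.isClosed_compl hηT hsupp] at hadd
  refine ⟨by omega, fun heq => ?_⟩
  haveI : Module.Finite k (Coh.HH A Q 0) := CurveRR24.finite_HH_of_isCoh k hQ 0
  haveI : Subsingleton (Coh.HH A Q 0) := (Module.finrank_zero_iff (R := k)).1 (by omega)
  haveI : Subsingleton Γ(Q, (⊤ : A.Opens)) := (CurveRR24.hhZero k Q).symm.toEquiv.subsingleton
  obtain ⟨hfin, hpts, -⟩ := CurveRR24.closed_small k hdim U.2.isClosed_compl hηT
  haveI := Coherent.isFlasque_of_support_finite Q _ hfin hpts hsupp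
  have hQ0 : IsZero Q := by
    have hs : ∀ W : A.Opens, Subsingleton Γ(Q, W) := fun W => by
      have hepi : Epi (Q.presheaf.map (homOfLE (le_top : W ≤ ⊤)).op) :=
        TopCat.Presheaf.IsFlasque.epi (F := (Coh.toAb Q).obj) (homOfLE (le_top : W ≤ ⊤)).op
      exact ((AddCommGrpCat.epi_iff_surjective _).1 hepi).subsingleton
    rw [IsZero.iff_id_eq_zero]
    exact Scheme.Modules.hom_ext _ _ fun W => by
      ext s
      exact @Subsingleton.elim _ (hs W) _ _
  haveI : Epi u := Preadditive.epi_of_isZero_cokernel u hQ0
  haveI : IsIso u := isIso_of_mono_of_epi u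
  have happ : ∀ W : A.Opens, IsIso (ν.app W) := fun W => (ConcreteCategory.isIso_iff_bijective _).2
    (by
      haveI : IsIso (u.app W) := Scheme.Modules.Hom.isIso_iff_isIso_app.1 inferInstance W
      exact ConcreteCategory.bijective_of_isIso (u.app W))
  haveI : IsIso (ν ∣_ ⊤) :=
    isIso_morphismRestrict_of_finite_fibres ν happ ⊤ fun a _ => ν.finite_preimage_singleton a
  exact isIso_of_restrict_top ν

end Groth.Agent.Models7
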