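import Groth.Agent.Models7.GenusFormula

/-!
# Non-vanishing of first cohomology from a nonpositive Euler characteristic
-/

set_option autoImplicit false
set_option linter.style.haveILetI false
set_option backward.isDefEq.respectTransparency false

universe u

open CategoryTheory CategoryTheory.Limits AlgebraicGeometry Opposite TopologicalSpace
open Groth.Agent.Coherent Groth.Agent.PicLib Groth.Agent.AmpleLib Groth.Agent.EulerLib

namespace Groth.Agent.Models7

theorem nontrivial_H1_of_euler_nonpos {K : Type u} [Field K] (C : Over (Spec (CommRingCat.of K)))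
    (hH0 : IsIso C.hom.appTop) [C.left.Over (Spec (CommRingCat.of K))]
    (hs : (C.left ↘ Spec (CommRingCat.of K)) = C.hom)
    (hg : FGA.eulerCharLE K C.left (Coh.structureModule C.left) 1 ≤ 0) :
    Nontrivial (Coh.HH C.left (Coh.structureModule C.left) 1) := by
  by_contra hn
  rw [not_nontrivial_iff_subsingleton] at hn
  let φ := baseHom K C.left
  have hφ : Function.Bijective φ := by
    haveI : IsIso (C.left ↘ Spec (CommRingCat.of K)).appTop := by rw [hs]; exact hH0
    exact (ConcreteCategory.bijective_of_isIso (C.left ↘ Spec (CommRingCat.of K)).appTop).comp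
      (ConcreteCategory.bijective_of_isIso (Scheme.ΓSpecIso (CommRingCat.of K)).inv)
  let e : K ≃ₗ[K] GA φ (Coh.structureModule C.left) :=
    { toFun := fun c => φ c
      map_add' := fun a b => map_add φ a b
      map_smul' := fun c a => map_mul φ c a
      invFun := (Equiv.ofBijective φ hφ).symm
      left_inv := (Equiv.ofBijective φ hφ).left_inv
      right_inv := (Equiv.ofBijective φ hφ).right_inv }
  have h0 : Module.finrank K (Coh.HH C.left (Coh.structureModule C.left) 0) = 1 := by
    rw [(CurveRR24.hhZero K (Coh.structureModule C.left)).finrank_eq, e.finrank_eq.symm.trans (Module.finrank_self K)]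
  simp [FGA.eulerCharLE, Finset.sum_range_succ, h0, Module.finrank_zero_of_subsingleton] at hg

end Groth.Agent.Models7
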