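import Groth.Agent.Models7.LocalNoExc
import Groth.Agent.Models7.ExcTransfer

/-!
# Contraction of an exceptional curve over a Dedekind domain
-/

set_option autoImplicit false
set_option linter.style.haveILetI false
set_option backward.isDefEq.respectTransparency false
set_option maxHeartbeats 2000000

universe u

open CategoryTheory CategoryTheory.Limits AlgebraicGeometry TopologicalSpace IsLocalRing
open Groth.Agent.Coherent Groth.Agent.PicLib

namespace Groth.Agent.Models7

variable {R : Type u} [CommRing R] [IsDedekindDomain R] {X : Over (Spec (CommRingCat.of R))}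

/-- An exceptional curve of an arithmetic surface over a Dedekind domain contracts to an arithmetic surface. -/
theorem exists_exc_contraction (hR : ¬ IsField R) (hX : ArSurf.IsArithSurface R X) {E : Scheme.{u}} (ι : E ⟶ X.left)
    [IsClosedImmersion ι] (hE : Models.IsExcCurve ι) {s : ↥(Spec (CommRingCat.of R))}
    (hs : Set.range (ι ≫ X.hom).base = {s}) :
    s ≠ (etaPt : Spec (CommRingCat.of R)) ∧
    ∃ (Y : Over (Spec (CommRingCat.of R))) (φ : X ⟶ Y) (y : Y.left) (hy : IsClosed ({y} : Set Y.left)),
      ArSurf.IsArithSurface R Y ∧ IsProper φ.left ∧ Function.Surjective φ.left.base ∧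
      φ.left.base ⁻¹' {y} = Set.range ι.base ∧ IsIso (φ.left ∣_ (⟨{y}ᶜ, hy.isOpen_compl⟩ : Y.left.Opens)) ∧
      Y.hom y = s ∧ ringKrullDim (Y.left.presheaf.stalk y) = 2 ∧ IsIso ((Neron.genericFibre R).map φ) := by
  classical
  haveI := hX.2.1
  haveI := hX.2.2.2.1
  haveI : IsProper X.hom := Models7.isProper_of_projective hX.2.2.2.2
  haveI : IsLocallyNoetherian X.left := LocallyOfFiniteType.isLocallyNoetherian X.hom
  haveI := isIntegral_of_isExcCurve hE
  obtain ⟨hD, k, _, e₀, ⟨iso₀⟩⟩ := hE
  have hsne : s ≠ (etaPt : Spec (CommRingCat.of R)) := by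
    intro h
    apply not_isClosed_eta hR
    rw [← h, ← hs]
    exact (ι ≫ X.hom).isClosedMap.isClosed_range
  refine ⟨hsne, ?_⟩
  let J := ι.ker
  haveI : IsIso ι.toImage := inferInstance
  let e : CohB1.ProjSpace 1 k ≅ J.subscheme := e₀ ≪≫ asIso ι.toImage
  have he : e.hom ≫ J.subschemeι = e₀.hom ≫ ι := by
    show (e₀.hom ≫ ι.toImage) ≫ ι.imageι = _
    rw [Category.assoc, ι.toImage_imageι]
  have hdeg : P1Deg.HasDeg e ((Scheme.Modules.pullback J.subschemeι).obj (ClSub.idealMod J)) ((1 : ℕ) : ℤ) :=
    ⟨(Scheme.Modules.pullbackComp e.hom J.subschemeι).app _ ≪≫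
      (Scheme.Modules.pullbackCongr he).app _ ≪≫ iso₀⟩
  obtain ⟨H, hH⟩ := exists_isAmple_of_isProjectiveOver (X := X) hX.2.2.2.2
  have hnor : ∀ x : X.left, IsIntegrallyClosed (X.left.presheaf.stalk x) := fun x =>
    haveI := hX.1 x
    CAlgH3.isIntegrallyClosed_of_regular _
  obtain ⟨Y₀, q, g, y, hy, hgq, hYi, hYn, hq, hproj, hsurj, hgp, hpre, hiso, hcot⟩ :=
    exists_contraction_line X.hom hnor (fiber_dim_le_one hR hX.2.2.1.le) hH J hD e le_rfl hdeg
  haveI := hYi
  haveI := hq
  haveI := hgp
  haveI := hiso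
  haveI : IsLocallyNoetherian Y₀ := LocallyOfFiniteType.isLocallyNoetherian q
  let Y : Over (Spec (CommRingCat.of R)) := Over.mk q
  let V : Y₀.Opens := ⟨{y}ᶜ, hy.isOpen_compl⟩
  have hreg : ∀ z : Y₀, IsRegularLocalRing (Y₀.presheaf.stalk z) := fun z => by
    by_cases hz : z = y
    · subst hz
      haveI := hYn z
      haveI : IsDomain (Y₀.presheaf.stalk z) := inferInstance
      rw [IsRegularLocalRing.iff_finrank_cotangentSpace, hcot]
      refine le_antisymm ?_ ?_
      · by_contra hlt
        have hprime : ∀ Q : Ideal (Y₀.presheaf.stalk z), Q ≠ ⊥ → Q.IsPrime →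
            Q = IsLocalRing.maximalIdeal (Y₀.presheaf.stalk z) := by
          intro Q hQ hQp
          by_contra hne
          let b₀ : PrimeSpectrum (Y₀.presheaf.stalk z) := ⟨⊥, Ideal.isPrime_bot⟩
          let b₁ : PrimeSpectrum (Y₀.presheaf.stalk z) := ⟨Q, hQp⟩
          let b₂ : PrimeSpectrum (Y₀.presheaf.stalk z) := ⟨IsLocalRing.maximalIdeal _, inferInstance⟩
          have h1 : b₀ < b₁ := lt_of_le_of_ne (show (⊥ : Ideal _) ≤ Q from bot_le)
            fun h => hQ (congrArg PrimeSpectrum.asIdeal h).symm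
          have h2 : b₁ < b₂ := lt_of_le_of_ne
            (show Q ≤ IsLocalRing.maximalIdeal _ from IsLocalRing.le_maximalIdeal hQp.ne_top)
            fun h => hne (congrArg PrimeSpectrum.asIdeal h)
          exact hlt (le_iSup_of_le (((RelSeries.singleton _ b₂).cons b₁ h2).cons b₀
            (by rw [RelSeries.head_cons]; exact h1)) le_rfl)
        have h := (tfae_of_isNoetherianRing_of_isLocalRing_of_isDomain (Y₀.presheaf.stalk z)).out 3 5
        have h' := h.1 ⟨hYn z, hprime⟩
        omega
      · have h := ringKrullDim_le_spanFinrank_maximalIdeal (R := Y₀.presheaf.stalk z)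
        rwa [spanFinrank_maximalIdeal_eq_finrank_cotangentSpace, hcot] at h
    · obtain ⟨x, rfl⟩ := hsurj z
      haveI : IsIso (g.stalkMap x) :=
        ((MorphismProperty.isomorphisms _).arrow_mk_iso_iff (morphismRestrictStalkMap g V ⟨x, hz⟩)).1
          (inferInstanceAs (IsIso ((g ∣_ V).stalkMap ⟨x, hz⟩)))
      haveI := hX.1 x
      exact IsRegularLocalRing.of_ringEquiv (asIso (g.stalkMap x)).commRingCatIsoToRingEquiv.symm
  have hsupp : (J.support : Set X.left) = Set.range ι.base := by
    rw [Scheme.Hom.support_ker, ι.isClosedEmbedding.isClosed_range.closure_eq]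
  rw [hsupp] at hpre
  have hgy : ∀ a, g (ι a) = y := fun a => (hpre.ge ⟨a, rfl⟩ :)
  obtain ⟨a₀⟩ : Nonempty E := inferInstance
  have hqy : q y = s := by
    rw [← hgy a₀, ← Scheme.Hom.comp_apply, hgq, ← Scheme.Hom.comp_apply]
    exact (hs.le ⟨a₀, rfl⟩ :)
  have hgenY : g (genericPoint X.left) = genericPoint Y₀ := by
    obtain ⟨x, hx⟩ := hsurj (genericPoint Y₀)
    exact (((genericPoint_specializes x).map g.continuous).antisymm
      (hx ▸ genericPoint_specializes _)).eq.trans hx
  haveI : Flat Y.hom := by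
    refine Hurwitz24.flat_of_dominant q ?_ ?_ fun z => ?_
    · show q (genericPoint Y₀) = _
      rw [← hgenY, ← Scheme.Hom.comp_apply, hgq, hom_genericPoint']
      refine (((PrimeSpectrum.le_iff_specializes (etaPt : Spec (CommRingCat.of R)) _).1 bot_le).antisymm ?_).eq
      exact genericPoint_specializes _
    · exact (PrimeSpectrum.topologicalKrullDim_eq_ringKrullDim (R := R)).trans_le
        ((Order.krullDimLE_iff 1 _).1 (inferInstanceAs (Ring.KrullDimLE 1 R)))
    · haveI : IsIntegrallyClosed (Localization.AtPrime z.asIdeal) :=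
        isIntegrallyClosed_of_isLocalization _ z.asIdeal.primeCompl z.asIdeal.primeCompl_le_nonZeroDivisors
      exact IsIntegrallyClosed.of_equiv (Spec.stalkIso (CommRingCat.of R) z).commRingCatIsoToRingEquiv.symm
  let φ : X ⟶ Y := Over.homMk g hgq
  have hgen : IsIso ((Neron.genericFibre R).map φ) := by
    let gK := ((Neron.genericFibre R).map φ).left
    haveI : IsIso gK := by
      have h1 : gK ≫ pullback.fst q (Neron.genPt R) = pullback.fst X.hom (Neron.genPt R) ≫ g :=
        pullback.lift_fst _ _ _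
      have h2 : gK ≫ pullback.snd q (Neron.genPt R) = pullback.snd X.hom (Neron.genPt R) :=
        pullback.lift_snd _ _ _
      have sq : IsPullback (pullback.fst X.hom (Neron.genPt R)) gK g (pullback.fst q (Neron.genPt R)) := by
        refine IsPullback.of_bot ?_ h1.symm (IsPullback.of_hasPullback q (Neron.genPt R))
        rw [hgq, h2]
        exact IsPullback.of_hasPullback X.hom (Neron.genPt R)
      have hr : Set.range (pullback.fst q (Neron.genPt R)).base ⊆ Set.range V.ι.base := by
        rw [Scheme.Pullback.range_fst, Scheme.Opens.range_ι, range_genPt]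
        intro z hz hzy
        rw [Set.mem_preimage, Set.mem_singleton_iff] at hz
        exact hsne (by rw [← hqy, ← hzy]; exact hz)
      let l := IsOpenImmersion.lift V.ι (pullback.fst q (Neron.genPt R)) hr
      have sqV := (isPullback_morphismRestrict g V).flip
      have hr' : Set.range (pullback.fst X.hom (Neron.genPt R)).base ⊆ Set.range (g ⁻¹ᵁ V).ι.base := by
        rw [Scheme.Opens.range_ι]
        rintro _ ⟨c, rfl⟩
        show g (pullback.fst X.hom (Neron.genPt R) c) ∈ V
        rw [← Scheme.Hom.comp_apply, ← h1, Scheme.Hom.comp_apply]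
        obtain ⟨v, hv⟩ := hr ⟨gK c, rfl⟩
        exact hv ▸ v.2
      let l' := IsOpenImmersion.lift (g ⁻¹ᵁ V).ι (pullback.fst X.hom (Neron.genPt R)) hr'
      have sq' : IsPullback l' gK (g ∣_ V) l := by
        refine IsPullback.of_right ?_ ?_ sqV
        · rw [IsOpenImmersion.lift_fac, IsOpenImmersion.lift_fac]; exact sq
        · rw [← cancel_mono V.ι, Category.assoc, Category.assoc, morphismRestrict_ι, IsOpenImmersion.lift_fac,
            IsOpenImmersion.lift_fac_assoc]
          exact h1.symm
      exact MorphismProperty.of_isPullback (P := MorphismProperty.isomorphisms Scheme.{u}) sq'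
        (inferInstanceAs (IsIso (g ∣_ V)))
    haveI : IsIso ((Over.forget _).map ((Neron.genericFibre R).map φ)) := ‹IsIso gK›
    exact isIso_of_reflects_iso _ (Over.forget _)
  have hy2 : ringKrullDim (Y₀.presheaf.stalk y) = 2 := by
    haveI := hreg y
    have h := IsRegularLocalRing.spanFinrank_maximalIdeal (R := Y₀.presheaf.stalk y)
    rw [spanFinrank_maximalIdeal_eq_finrank_cotangentSpace, hcot] at h
    exact h.symm
  have hdimY : topologicalKrullDim Y₀ = 2 := le_antisymm
    ((CommAlg6.topologicalKrullDim_le_of_specializingMap (f := g.base) hsurj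
      g.isClosedMap.specializingMap).trans hX.2.2.1.le)
    (hy2.ge.trans (CurvesLib24.stalk_dim_le_topologicalKrullDim y))
  exact ⟨Y, φ, y, hy, ⟨hreg, hYi, hdimY, inferInstanceAs (Flat Y.hom), hproj⟩, hgp, hsurj, hpre, hiso, hqy, hy2, hgen⟩

end Groth.Agent.Models7
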