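import Groth.Agent.Models7.SmoothRelMin
import Groth.Agent.Inters29.FibreDim
import Groth.Agent.Inters29.ModelCurve
import Groth.Agent.Coherent.Chow
import Groth.Prelude.Def_ModelsG

/-!
# Extending an isomorphism of generic fibres between normal models
-/

set_option autoImplicit false
set_option linter.style.haveILetI false
set_option backward.isDefEq.respectTransparency false
set_option maxHeartbeats 1000000

universe u

open CategoryTheory CategoryTheory.Limits AlgebraicGeometry Opposite TopologicalSpace IsLocalRing

namespace Groth.Agent.Models7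

/-- In a surface, a point which is neither closed nor generic has only closed proper specialisations. -/
theorem isClosed_of_specializes_dim_two {Z : Scheme.{u}} [IsIntegral Z] (hdim : topologicalKrullDim Z ≤ 2)
    {a b : Z} (hab : a ⤳ b) (hne : a ≠ b) (hgen : a ≠ genericPoint Z) : IsClosed ({b} : Set Z) := by
  rw [← closure_subset_iff_isClosed]
  intro w hw
  by_contra hwb
  let c : Z → IrreducibleCloseds Z := fun a => ⟨closure {a}, isIrreducible_singleton.closure, isClosed_closure⟩
  have hlt : ∀ a b : Z, a ⤳ b → a ≠ b → c b < c a := fun a b hab hne =>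
    SetLike.lt_iff_le_and_exists.2 ⟨closure_minimal (Set.singleton_subset_iff.2 hab.mem_closure) isClosed_closure,
      a, subset_closure rfl, fun h => hne (hab.antisymm (specializes_iff_mem_closure.2 h)).eq⟩
  let q : LTSeries (IrreducibleCloseds Z) :=
    { length := 3
      toFun := ![c w, c b, c a, c (genericPoint Z)]
      step := fun i => by
        fin_cases i
        · exact hlt _ _ (specializes_iff_mem_closure.2 hw) (Ne.symm hwb)
        · exact hlt _ _ hab hne
        · exact hlt _ _ (genericPoint_specializes _) (Ne.symm hgen) }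
  have := Order.LTSeries.length_le_krullDim q
  have h3 : (3 : WithBot ℕ∞) ≤ 2 := le_trans this hdim
  exact absurd h3 (by decide)

/-- The local ring of a normal surface at a point which is not closed is a valuation ring. -/
theorem valuationRing_of_not_closed {Z : Scheme.{u}} [IsIntegral Z] [IsLocallyNoetherian Z]
    (hn : Pi1.IsNormalScheme Z) (hdim : topologicalKrullDim Z ≤ 2) {y : Z} (hy : ¬ IsClosed ({y} : Set Z)) :
    ValuationRing (Z.presheaf.stalk y) := by
  haveI : IsIntegrallyClosed (Z.presheaf.stalk y) := (hn y).2
  haveI : Ring.DimensionLEOne (Z.presheaf.stalk y) := ⟨fun {q} hq0 hq => by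
    by_contra hqm
    let P : Spec (Z.presheaf.stalk y) := ⟨q, hq⟩
    let z := Z.fromSpecStalk y P
    have hzy : z ⤳ y := Scheme.range_fromSpecStalk.le ⟨P, rfl⟩
    have hinj := (Z.fromSpecStalk y).isEmbedding.injective
    refine hy (isClosed_of_specializes_dim_two hdim hzy (fun h => hqm ?_) fun h => hq0 ?_)
    · have : P = closedPoint (Z.presheaf.stalk y) := hinj (h.trans Scheme.fromSpecStalk_closedPoint.symm)
      have h2 : q = maximalIdeal _ := congrArg PrimeSpectrum.asIdeal this
      rw [h2]; infer_instance
    · let B : Spec (Z.presheaf.stalk y) := ⟨⊥, Ideal.isPrime_bot⟩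
      have hB : B ⤳ P := (PrimeSpectrum.le_iff_specializes B P).1 bot_le
      have h1 : Z.fromSpecStalk y B ⤳ genericPoint Z := by
        rw [← h]; exact hB.map (Z.fromSpecStalk y).continuous
      have : B = P := hinj ((h1.antisymm (genericPoint_specializes _)).eq.trans h.symm)
      exact (congrArg PrimeSpectrum.asIdeal this).symm⟩
  by_cases hf : IsField (Z.presheaf.stalk y)
  · letI := hf.toField; infer_instance
  · have hex : ∃! q : Ideal (Z.presheaf.stalk y), q ≠ ⊥ ∧ q.IsPrime :=
      ⟨maximalIdeal _, ⟨fun h => hf (isField_iff_maximalIdeal_eq.2 h), inferInstance⟩,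
        fun q ⟨hq0, hq⟩ => eq_maximalIdeal (Ring.DimensionLEOne.maximalOfPrime hq0 hq)⟩
    haveI : IsDiscreteValuationRing (Z.presheaf.stalk y) :=
      ((IsDiscreteValuationRing.TFAE (Z.presheaf.stalk y) hf).out 3 0 :
        (IsIntegrallyClosed (Z.presheaf.stalk y) ∧ ∃! q : Ideal (Z.presheaf.stalk y), q ≠ ⊥ ∧ q.IsPrime) ↔ _).1
        ⟨inferInstance, hex⟩
    infer_instance

/-- A closed connected set all of whose points are closed is at most a point. -/
theorem subsingleton_of_closedPoints {W : Scheme.{u}} [IsLocallyNoetherian W] [CompactSpace W] {A : Set W}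
    (hA : IsClosed A) (hconn : _root_.IsPreconnected A) (hpt : ∀ w ∈ A, IsClosed ({w} : Set W)) : A.Subsingleton := by
  haveI : IsNoetherian W := {}
  haveI : NoetherianSpace W := inferInstance
  haveI : T1Space A := ⟨fun a => by
    have h := (hpt a.1 a.2).preimage (continuous_subtype_val (p := (· ∈ A)))
    rwa [show Subtype.val ⁻¹' {a.1} = ({a} : Set A) from by ext; simp [Subtype.ext_iff]] at h⟩
  haveI : Finite A := by
    have hfin : (irreducibleComponents A).Finite := NoetherianSpace.finite_irreducibleComponents
    have hsing : ∀ C ∈ irreducibleComponents A, C.Subsingleton := fun C hC => by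
      obtain ⟨g, hg⟩ := QuasiSober.sober (α := W) (hC.1.image Subtype.val continuous_subtype_val.continuousOn).closure
        isClosed_closure
      have hgA : g ∈ A := closure_minimal (Subtype.coe_image_subset A C) hA hg.mem
      intro a ha b hb
      have : ∀ d ∈ C, d.1 = g := fun d hd =>
        (hg.specializes (subset_closure ⟨d, hd, rfl⟩)).mem_closed (hpt g hgA) rfl
      exact Subtype.ext ((this a ha).trans (this b hb).symm)
    refine Set.finite_univ_iff.1 ?_
    rw [← sUnion_irreducibleComponents]
    exact hfin.sUnion fun C hC => (hsing C hC).finite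
  haveI : PreconnectedSpace A := Subtype.preconnectedSpace hconn
  haveI : Subsingleton A := PreconnectedSpace.trivial_of_discrete
  exact fun a ha b hb => congrArg Subtype.val (Subsingleton.elim (⟨a, ha⟩ : A) ⟨b, hb⟩)

variable (R : Type u) [CommRing R] [IsDomain R] [IsDiscreteValuationRing R]

/-- A point of the closed fibre of a surface which is not closed is the generic point of a component. -/
theorem closure_mem_fibreComponents {W : Over (Spec (CommRingCat.of R))} [IsIntegral W.left]
    (hdim : topologicalKrullDim W.left ≤ 2) (hη : W.hom (genericPoint W.left) ≠ closedPoint R)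
    {ξ : W.left} (hξs : W.hom ξ = closedPoint R) (hξ : ¬ IsClosed ({ξ} : Set W.left)) :
    closure ({ξ} : Set W.left) ∈ Models.fibreComponents R W := by
  have hcl := Models.isClosed_specialFibreSet R W
  refine ⟨⟨isIrreducible_singleton.closure, closure_minimal (Set.singleton_subset_iff.2 hξs) hcl⟩, ?_⟩
  rintro S ⟨hS, hSsub⟩ hle
  obtain ⟨a, ha⟩ := QuasiSober.sober hS.closure isClosed_closure
  have haξ : a ⤳ ξ := ha.specializes (subset_closure (hle (subset_closure rfl)))
  have has : W.hom a = closedPoint R := closure_minimal hSsub hcl ha.mem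
  have : a = ξ := by
    by_contra hne
    exact hξ (isClosed_of_specializes_dim_two hdim haξ hne fun h => hη (h ▸ has))
  subst this
  intro x hx
  exact (ha.specializes (subset_closure hx)).mem_closure

theorem exists_extension {C : Scheme.{u}} [IsIntegral C] {fC : C ⟶ Spec (CommRingCat.of (FractionRing R))}
    [IsProper fC] (hdimC : topologicalKrullDim C = 1)
    (XR WR : Over (Spec (CommRingCat.of R))) [IsIntegral XR.left] [IsIntegral WR.left]
    (hXn : Pi1.IsNormalScheme XR.left) (hWn : Pi1.IsNormalScheme WR.left)
    [IsProper XR.hom] [Flat XR.hom] [IsProper WR.hom] [Flat WR.hom]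
    (iX : C ⟶ XR.left) (hiX : IsPullback iX fC XR.hom (Spec.map (CommRingCat.ofHom (algebraMap R (FractionRing R)))))
    (iW : C ⟶ WR.left) (hiW : IsPullback iW fC WR.hom (Spec.map (CommRingCat.ofHom (algebraMap R (FractionRing R)))))
    (H : ∀ (ξ : WR.left) (hξ : iW.base (genericPoint C) ⤳ ξ),
      closure ({ξ} : Set WR.left) ∈ Models.fibreComponents R WR →
        ∃ (ξ' : XR.left) (hξ' : iX.base (genericPoint C) ⤳ ξ'),
          closure ({ξ'} : Set XR.left) ∈ Models.fibreComponents R XR ∧
          Set.range ((iX.stalkMap (genericPoint C)).hom.comp (XR.left.presheaf.stalkSpecializes hξ').hom) =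
            Set.range ((iW.stalkMap (genericPoint C)).hom.comp (WR.left.presheaf.stalkSpecializes hξ).hom)) :
    ∃ φ : XR ⟶ WR, iX ≫ φ.left = iW := by
  haveI := Inters29.isOpenImmersion_generic R
  haveI : IsOpenImmersion iX := MorphismProperty.of_isPullback (P := @IsOpenImmersion) hiX.flip inferInstance
  haveI : IsOpenImmersion iW := MorphismProperty.of_isPullback (P := @IsOpenImmersion) hiW.flip inferInstance
  haveI : IsLocallyNoetherian XR.left := LocallyOfFiniteType.isLocallyNoetherian XR.hom
  haveI : IsLocallyNoetherian WR.left := LocallyOfFiniteType.isLocallyNoetherian WR.hom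
  haveI : IsLocallyNoetherian C := LocallyOfFiniteType.isLocallyNoetherian fC
  haveI : CompactSpace WR.left := QuasiCompact.compactSpace_of_compactSpace WR.hom
  haveI : CompactSpace C := QuasiCompact.compactSpace_of_compactSpace fC
  have hdX' := Inters29.topologicalKrullDim_eq_two R (X := XR) (Inters29.trdAt_genericPoint R (X := XR) fC hdimC iX hiX)
  have hdX : topologicalKrullDim XR.left ≤ 2 := hdX'.le
  have hdW : topologicalKrullDim WR.left ≤ 2 := (Inters29.topologicalKrullDim_eq_two R (X := WR)
    (Inters29.trdAt_genericPoint R (X := WR) fC hdimC iW hiW)).le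
  have hgX : iX (genericPoint C) = genericPoint XR.left := genericPoint_eq_of_isOpenImmersion iX
  have hgW : iW (genericPoint C) = genericPoint WR.left := genericPoint_eq_of_isOpenImmersion iW
  let P := pullback XR.hom WR.hom
  haveI : IsProper (pullback.fst XR.hom WR.hom) := MorphismProperty.pullback_fst (P := @IsProper) _ _ inferInstance
  haveI : IsProper (pullback.snd XR.hom WR.hom) := MorphismProperty.pullback_snd (P := @IsProper) _ _ inferInstance
  let j : C ⟶ P := pullback.lift iX iW (by rw [hiX.w, hiW.w])
  haveI : IsProper (pullback.fst XR.hom WR.hom ≫ XR.hom) := inferInstance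
  haveI : IsLocallyNoetherian P := LocallyOfFiniteType.isLocallyNoetherian (pullback.fst XR.hom WR.hom ≫ XR.hom)
  haveI : QuasiCompact j := inferInstance
  let Z := j.image
  haveI : IsReduced Z := Coherent.isReduced_image j
  let c : C ⟶ Z := j.toImage
  haveI : IsDominant c := inferInstanceAs (IsDominant j.toImage)
  haveI : IrreducibleSpace Z := by
    haveI : Nonempty Z := ⟨c (genericPoint C)⟩
    have h := (IrreducibleSpace.isIrreducible_univ C).image c.base c.continuous.continuousOn
    rw [Set.image_univ] at h
    have h2 := h.closure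
    rw [c.denseRange.closure_range] at h2
    exact { isPreirreducible_univ := h2.2, toNonempty := inferInstance }
  haveI : IsIntegral Z := isIntegral_of_irreducibleSpace_of_isReduced Z
  let q : Z ⟶ XR.left := j.imageι ≫ pullback.fst XR.hom WR.hom
  let r : Z ⟶ WR.left := j.imageι ≫ pullback.snd XR.hom WR.hom
  have hcq : c ≫ q = iX := by
    show j.toImage ≫ j.imageι ≫ _ = _
    rw [← Category.assoc, j.toImage_imageι]; exact pullback.lift_fst _ _ _
  have hcr : c ≫ r = iW := by
    show j.toImage ≫ j.imageι ≫ _ = _
    rw [← Category.assoc, j.toImage_imageι]; exact pullback.lift_snd _ _ _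
  haveI : IsProper q := inferInstanceAs (IsProper (j.imageι ≫ pullback.fst XR.hom WR.hom))
  haveI : IsProper r := inferInstanceAs (IsProper (j.imageι ≫ pullback.snd XR.hom WR.hom))
  haveI : IsProper (q ≫ XR.hom) := inferInstance
  haveI : Z.IsSeparated := ⟨by rw [← terminal.comp_from (q ≫ XR.hom)]; infer_instance⟩
  haveI : WR.left.IsSeparated := ⟨by rw [← terminal.comp_from WR.hom]; infer_instance⟩
  haveI : XR.left.IsSeparated := ⟨by rw [← terminal.comp_from XR.hom]; infer_instance⟩
  have hgc : c (genericPoint C) = genericPoint Z := by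
    refine ((genericPoint_specializes _).antisymm ?_).eq.symm
    have hmem : genericPoint Z ∈ closure (Set.range c.base) := by rw [c.denseRange.closure_range]; trivial
    rw [specializes_iff_mem_closure]
    refine closure_minimal (Set.range_subset_iff.2 fun z => ?_) isClosed_closure hmem
    exact ((genericPoint_specializes z).map c.continuous).mem_closure
  have hbirat : ∀ {S : Scheme.{u}} [IsIntegral S] (t : Z ⟶ S) (i : C ⟶ S) [IsOpenImmersion i], c ≫ t = i →
      t (genericPoint Z) = genericPoint S ∧ IsIso (t.stalkMap (genericPoint Z)) ∧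
        Function.Injective (c.stalkMap (genericPoint C)) := by
    intro S _ t i _ hti
    have h1 : t (c (genericPoint C)) = genericPoint S := by
      rw [← Scheme.Hom.comp_apply, hti, genericPoint_eq_of_isOpenImmersion]
    have hc : Function.Injective (c.stalkMap (genericPoint C)) := by
      have key : ∀ z : Z, z = genericPoint Z → ∀ {S : Type u} [CommRing S] [Nontrivial S]
          (φ : Z.presheaf.stalk z →+* S), Function.Injective φ := by
        intro z hz S _ _ φ; subst hz; exact RingHom.injective (R := Z.functionField) φ
      exact key _ hgc (c.stalkMap (genericPoint C)).hom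
    have hs : Function.Surjective (t.stalkMap (c (genericPoint C))) := fun a => by
      subst hti
      obtain ⟨b, hb⟩ := (ConcreteCategory.bijective_of_isIso ((c ≫ t).stalkMap (genericPoint C))).2
        (c.stalkMap (genericPoint C) a)
      rw [Scheme.Hom.stalkMap_comp] at hb
      exact ⟨b, hc hb⟩
    have hi : Function.Injective (t.stalkMap (c (genericPoint C))) := by
      have key : ∀ z : S, z = genericPoint S → ∀ {T : Type u} [CommRing T] [Nontrivial T]
          (φ : S.presheaf.stalk z →+* T), Function.Injective φ := by
        intro z hz T _ _ φ; subst hz; exact RingHom.injective (R := S.functionField) φ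
      exact key _ h1 (t.stalkMap (c (genericPoint C))).hom
    refine ⟨hgc ▸ h1, ?_, hc⟩
    have key : ∀ z : Z, z = c (genericPoint C) → IsIso (t.stalkMap z) := by
      rintro z rfl
      exact (ConcreteCategory.isIso_iff_bijective _).2 ⟨hi, hs⟩
    exact key _ hgc.symm
  obtain ⟨hqg, hqb, hcinj⟩ := hbirat q iX hcq
  obtain ⟨hrg, hrb, -⟩ := hbirat r iW hcr
  -- the local ring of a point of `Z` in the function field of the curve
  let lc : ∀ e : Z, Z.presheaf.stalk e →+* C.functionField := fun e =>
    (c.stalkMap (genericPoint C)).hom.comp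
      (Z.presheaf.stalkSpecializes (hgc ▸ genericPoint_specializes e)).hom
  have hlc : ∀ {S : Scheme.{u}} (t : Z ⟶ S) (i : C ⟶ S) (hti : c ≫ t = i) (e : Z) (y : S) (hey : t e = y)
      (h : i (genericPoint C) ⤳ y) (a : S.presheaf.stalk y),
      ∃ b : Z.presheaf.stalk e, lc e b = i.stalkMap (genericPoint C) (S.presheaf.stalkSpecializes h a) := by
    intro S t i hti e y hey h a
    subst hti hey
    refine ⟨t.stalkMap e a, ?_⟩
    have hce : c (genericPoint C) ⤳ e := hgc ▸ genericPoint_specializes e
    show c.stalkMap (genericPoint C) (Z.presheaf.stalkSpecializes hce (t.stalkMap e a)) = _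
    rw [← Scheme.Hom.stalkSpecializes_stalkMap_apply t _ _ hce, Scheme.Hom.stalkMap_comp]
    rfl
  have hlc_inj : ∀ (e : Z), Function.Injective (lc e) := fun e => by
    have key : ∀ z : Z, z = genericPoint Z → ∀ (hz : z ⤳ e), Function.Injective (Z.presheaf.stalkSpecializes hz) := by
      rintro z rfl hz
      exact IsFractionRing.injective (Z.presheaf.stalk e) Z.functionField
    exact hcinj.comp (key _ hgc _)
  have hfields : ∀ e e' : Z, (∀ a, ∃ b, lc e' b = lc e a) → ∀ a : Z.presheaf.stalk e, ∃ b : Z.presheaf.stalk e',
      algebraMap (Z.presheaf.stalk e') Z.functionField b = algebraMap (Z.presheaf.stalk e) Z.functionField a := by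
    intro e e' h a
    obtain ⟨b, hb⟩ := h a
    refine ⟨b, ?_⟩
    have key : ∀ z : Z, z = genericPoint Z → ∀ (h1 : z ⤳ e') (h2 : z ⤳ e),
        Z.presheaf.stalkSpecializes h1 b = Z.presheaf.stalkSpecializes h2 a →
        algebraMap (Z.presheaf.stalk e') Z.functionField b = algebraMap (Z.presheaf.stalk e) Z.functionField a := by
      rintro z rfl h1 h2 he
      exact he
    exact key _ hgc _ _ (hcinj hb)
  -- every fibre of `q` is collapsed by `r`
  have hη : ∀ {S : Over (Spec (CommRingCat.of R))} [IsIntegral S.left] (i : C ⟶ S.left) [IsOpenImmersion i],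
      IsPullback i fC S.hom (Spec.map (CommRingCat.ofHom (algebraMap R (FractionRing R)))) →
      S.hom (genericPoint S.left) ≠ closedPoint R := by
    intro S _ i _ hi h
    rw [← genericPoint_eq_of_isOpenImmersion i, ← Scheme.Hom.comp_apply, hi.w, Scheme.Hom.comp_apply] at h
    refine Inters29.bot_ne_closedPoint R (Eq.trans (PrimeSpectrum.ext ?_) h)
    show ⊥ = (fC (genericPoint C)).asIdeal.comap (algebraMap R (FractionRing R))
    rw [(Ideal.eq_bot_or_top (fC (genericPoint C)).asIdeal).resolve_right (fC (genericPoint C)).2.ne_top]
    exact (Ideal.comap_bot_of_injective _ (IsFractionRing.injective R (FractionRing R))).symm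
  have hconst : ∀ y : XR.left, (r.base '' (q.base ⁻¹' {y})).Subsingleton := by
    intro y
    by_cases hy : IsClosed ({y} : Set XR.left)
    · have hys : XR.hom y = closedPoint R := by
        rcases Inters29.base_eq_bot_or_closedPoint R (XR.hom y) with h | h
        · exfalso
          have hc := XR.hom.isClosedMap _ hy
          rw [Set.image_singleton, h] at hc
          have : closedPoint R ∈ ({⟨⊥, Ideal.isPrime_bot⟩} : Set (PrimeSpectrum R)) :=
            (IsLocalRing.specializes_closedPoint _).mem_closed hc rfl
          exact Inters29.bot_ne_closedPoint R this.symm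
        · exact h
      have hin : ∀ w ∈ r.base '' (q.base ⁻¹' {y}), IsClosed ({w} : Set WR.left) := by
        rintro _ ⟨e, he, rfl⟩
        by_contra hw
        have hws : WR.hom (r e) = closedPoint R := by
          have : q ≫ XR.hom = r ≫ WR.hom := by simp [q, r, pullback.condition]
          rw [← Scheme.Hom.comp_apply, ← this, Scheme.Hom.comp_apply, Set.mem_singleton_iff.1 he, hys]
        have hcomp := closure_mem_fibreComponents R hdW (hη iW hiW) hws hw
        obtain ⟨ξ', hξ', hcomp', hrange⟩ := H (r e) (hgW ▸ genericPoint_specializes _) hcomp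
        have hnc : ¬ IsClosed ({ξ'} : Set XR.left) := by
          intro hcl
          rw [hcl.closure_eq] at hcomp'
          refine Inters29.not_isClosed_of_coheight_le_one R hdX' (hcomp'.1.2 rfl)
            (Inters29.coheight_le_one_of_maximal R (hcomp'.1.2 rfl) fun v hv hvξ => ?_) hcl
          exact hcomp'.2 ⟨isIrreducible_singleton.closure,
            closure_minimal (Set.singleton_subset_iff.2 hv) (Models.isClosed_specialFibreSet R XR)⟩
            (Set.singleton_subset_iff.2 hvξ.mem_closure) (subset_closure rfl)
        haveI := valuationRing_of_not_closed hXn hdX hnc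
        haveI := valuationRing_of_not_closed hWn hdW hw
        haveI := surjective_of_gen q hqg
        obtain ⟨e', he'⟩ := q.surjective ξ'
        haveI : ValuationRing (XR.left.presheaf.stalk (q e')) := by rw [he']; infer_instance
        have hξ : iW (genericPoint C) ⤳ r e := hgW ▸ genericPoint_specializes _
        have hqe' : iX (genericPoint C) ⤳ q e' := hgX ▸ genericPoint_specializes _
        have hto : ∀ a, ∃ b, lc e' b = lc e a := fun a => by
          obtain ⟨d, rfl⟩ := exists_preimage_stalk r hrg hrb e a
          obtain ⟨d', hd'⟩ := hrange.ge ⟨d, rfl⟩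
          obtain ⟨b, hb⟩ := hlc q iX hcq e' ξ' he' hξ' d'
          refine ⟨b, hb.trans (hd'.trans ?_)⟩
          obtain ⟨b', hb'⟩ := hlc r iW hcr e (r e) rfl hξ d
          refine hb'.symm.trans ?_
          show lc e b' = lc e (r.stalkMap e d)
          congr 1
          refine hlc_inj e (hb'.trans ?_)
          have hce : c (genericPoint C) ⤳ e := hgc ▸ genericPoint_specializes e
          show _ = c.stalkMap (genericPoint C) (Z.presheaf.stalkSpecializes hce (r.stalkMap e d))
          rw [← Scheme.Hom.stalkSpecializes_stalkMap_apply r _ _ hce]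
          have : ∀ (i : C ⟶ WR.left) (_ : c ≫ r = i) (h : i (genericPoint C) ⤳ r e),
              i.stalkMap (genericPoint C) (WR.left.presheaf.stalkSpecializes h d) =
                c.stalkMap (genericPoint C) (r.stalkMap (c (genericPoint C))
                  (WR.left.presheaf.stalkSpecializes (hce.map r.continuous) d)) := by
            rintro i rfl h; rw [Scheme.Hom.stalkMap_comp]; rfl
          exact this iW hcr hξ
        have hfrom : ∀ a, ∃ b, lc e b = lc e' a := fun a => by
          obtain ⟨d, rfl⟩ := exists_preimage_stalk q hqg hqb e' a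
          have hce : c (genericPoint C) ⤳ e' := hgc ▸ genericPoint_specializes e'
          have h1 : lc e' (q.stalkMap e' d) =
              iX.stalkMap (genericPoint C) (XR.left.presheaf.stalkSpecializes hqe' d) := by
            show c.stalkMap (genericPoint C) (Z.presheaf.stalkSpecializes hce (q.stalkMap e' d)) = _
            rw [← Scheme.Hom.stalkSpecializes_stalkMap_apply q _ _ hce]
            have : ∀ (i : C ⟶ XR.left) (_ : c ≫ q = i) (h : i (genericPoint C) ⤳ q e'),
                i.stalkMap (genericPoint C) (XR.left.presheaf.stalkSpecializes h d) =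
                  c.stalkMap (genericPoint C) (q.stalkMap (c (genericPoint C))
                    (XR.left.presheaf.stalkSpecializes (hce.map q.continuous) d)) := by
              rintro i rfl h; rw [Scheme.Hom.stalkMap_comp]; rfl
            exact (this iX hcq hqe').symm
          have h2 : ∃ d₀, iX.stalkMap (genericPoint C) (XR.left.presheaf.stalkSpecializes hξ' d₀) =
              iX.stalkMap (genericPoint C) (XR.left.presheaf.stalkSpecializes hqe' d) := by
            subst he'; exact ⟨d, rfl⟩
          obtain ⟨d₀, hd₀⟩ := h2
          obtain ⟨d', hd'⟩ := hrange.le ⟨d₀, rfl⟩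
          obtain ⟨b, hb⟩ := hlc r iW hcr e (r e) rfl hξ d'
          exact ⟨b, hb.trans (hd'.trans (hd₀.trans h1.symm))⟩
        have hee : e' = e := eq_of_stalk_le e' e (hfields e' e hfrom) (hfields e e' hto)
        subst hee
        rw [Set.mem_singleton_iff.1 he] at he'
        exact hnc (he' ▸ hy)
      have hcl : IsClosed (r.base '' (q.base ⁻¹' {y})) := r.isClosedMap _ (hy.preimage q.continuous)
      have hconn := (isPreconnected_preimage q hXn hqg hqb y).image _ r.continuous.continuousOn
      exact subsingleton_of_closedPoints hcl hconn hin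
    · haveI := valuationRing_of_not_closed hXn hdX hy
      rintro _ ⟨a, ha, rfl⟩ _ ⟨b, hb, rfl⟩
      haveI : ValuationRing (XR.left.presheaf.stalk (q a)) := by rw [Set.mem_singleton_iff.1 ha]; infer_instance
      rw [eq_of_valuationRing q hqg hqb ((Set.mem_singleton_iff.1 hb).trans (Set.mem_singleton_iff.1 ha).symm)]
  obtain ⟨φ, hφ, -⟩ := exists_desc q hXn hqg hqb r hconst
  haveI : Surjective q := surjective_of_gen q hqg
  have hw : φ ≫ WR.hom = XR.hom :=
    ext_of_isDominant_of_isSeparated (terminal.from _) (terminal.hom_ext _ _) q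
      (by rw [reassoc_of% hφ]; simp [q, r, pullback.condition])
  exact ⟨Over.homMk φ hw, by show iX ≫ φ = iW; rw [← hcq, Category.assoc, hφ, hcr]⟩

end Groth.Agent.Models7
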