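import Groth.Agent.Models7.Localise
import Groth.Agent.FlatMorGeomIrr.Components
import Groth.Agent.FlatMorGeomIrr.GeomFibre
import Groth.Agent.HenselLib.SepClosedGeneric
import Groth.Agent.MeroLib.Extend
import Groth.Agent.VarietyLib.NormalBaseChange
import Groth.Agent.FBaseLib.Geom
import Groth.Agent.CAlgH3.Serre
import Groth.Agent.CAlgH.NagataSeparable
import Groth.Agent.S7602

/-!
# Almost all fibres of a normal curve family have disjoint components
-/

set_option autoImplicit false
set_option linter.style.haveILetI false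
set_option backward.isDefEq.respectTransparency false
set_option maxHeartbeats 1000000

universe u

open CategoryTheory CategoryTheory.Limits AlgebraicGeometry TopologicalSpace IsLocalRing

namespace Groth.Agent.Models7

/-- Every point lies below at most one maximal point. -/
def UniqueMax (α : Type u) [TopologicalSpace α] : Prop :=
  ∀ t t' x : α, (∀ a, a ⤳ t → a = t) → (∀ a, a ⤳ t' → a = t') → t ⤳ x → t' ⤳ x → t = t'

theorem exists_max_specializes {α : Type u} [TopologicalSpace α] [T0Space α] [QuasiSober α] (x : α) :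
    ∃ t : α, (∀ a, a ⤳ t → a = t) ∧ t ⤳ x := by
  obtain ⟨c, hc⟩ := QuasiSober.sober (isIrreducible_irreducibleComponent (x := x)) isClosed_irreducibleComponent
  refine ⟨c, fun a ha => ?_, hc.specializes mem_irreducibleComponent⟩
  have h := (irreducibleComponent_mem_irreducibleComponents x).2 (isIrreducible_singleton (x := a)).closure
    (hc.def.symm.le.trans ha.closure_subset)
  exact ((hc.specializes (h (subset_closure rfl))).antisymm ha).eq.symm

theorem uniqueMax_of_counts {α : Type u} [TopologicalSpace α] [NoetherianSpace α] [T0Space α] [QuasiSober α]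
    (h : (irreducibleComponents α).encard = ENat.card (_root_.ConnectedComponents α)) : UniqueMax α := by
  classical
  intro t t' x ht ht' hx hx'
  let ι := ↥(irreducibleComponents α)
  haveI : Finite ι := NoetherianSpace.finite_irreducibleComponents.to_subtype
  let C : ι → Set α := Subtype.val
  let Rl : ι → ι → Prop := fun a b => (C a ∩ C b).Nonempty
  have hc := FlatMorGeomIrr.card_connectedComponents_of_cover C
    (fun a => isClosed_of_mem_irreducibleComponents a.1 a.2) (fun a => a.2.1)
    (fun y => ⟨⟨_, irreducibleComponent_mem_irreducibleComponents y⟩, mem_irreducibleComponent⟩)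
    Rl (fun a b => Iff.rfl)
  have hcard : ENat.card ι = ENat.card (Quot Rl) := by
    rw [← hc, ← h]
    exact ENat.card_coe_set_eq _
  have hsurj : Function.Surjective (Quot.mk Rl) := fun q => Quot.exists_rep q
  haveI : Finite (Quot Rl) := Finite.of_surjective _ hsurj
  have hnat : Nat.card ι = Nat.card (Quot Rl) := by
    rw [ENat.card_eq_coe_natCard, ENat.card_eq_coe_natCard] at hcard
    exact_mod_cast hcard
  have hbij : Function.Bijective (Quot.mk Rl) := (Nat.bijective_iff_surjective_and_card _).2 ⟨hsurj, hnat⟩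
  have hcl : ∀ p : α, (∀ a, a ⤳ p → a = p) → closure ({p} : Set α) ∈ irreducibleComponents α := by
    intro p hp
    obtain ⟨c, hc⟩ := QuasiSober.sober (isIrreducible_irreducibleComponent (x := p)) isClosed_irreducibleComponent
    obtain rfl := hp c (hc.specializes mem_irreducibleComponent)
    rw [hc.def]
    exact irreducibleComponent_mem_irreducibleComponents c
  let a : ι := ⟨_, hcl t ht⟩
  let b : ι := ⟨_, hcl t' ht'⟩
  have hab : a = b := hbij.1 (Quot.sound ⟨x, specializes_iff_mem_closure.1 hx, specializes_iff_mem_closure.1 hx'⟩)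
  have hset : closure ({t} : Set α) = closure {t'} := congrArg Subtype.val hab
  exact (inseparable_iff_closure_eq.2 hset).eq

theorem counts_eq_of_domain_stalks (Z : Scheme.{u}) [NoetherianSpace Z] [∀ z : Z, IsDomain (Z.presheaf.stalk z)] :
    (irreducibleComponents ↥Z).encard = ENat.card (_root_.ConnectedComponents ↥Z) := by
  classical
  let ι := ↥(irreducibleComponents ↥Z)
  haveI : Finite ι := NoetherianSpace.finite_irreducibleComponents.to_subtype
  have hmax : ∀ a : ι, ∃ c : Z, IsGenericPoint c a.1 ∧ ∀ z, z ⤳ c → z = c := fun a => by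
    obtain ⟨c, hc⟩ := QuasiSober.sober a.2.1 (isClosed_of_mem_irreducibleComponents a.1 a.2)
    refine ⟨c, hc, fun z hz => ?_⟩
    have h := a.2.2 (isIrreducible_singleton (x := z)).closure (hc.def.symm.le.trans hz.closure_subset)
    exact ((hc.specializes (h (subset_closure rfl))).antisymm hz).eq.symm
  rw [FlatMorGeomIrr.card_connectedComponents_of_cover (fun a : ι => a.1)
    (fun a => isClosed_of_mem_irreducibleComponents a.1 a.2) (fun a => a.2.1)
    (fun y => ⟨⟨_, irreducibleComponent_mem_irreducibleComponents y⟩, mem_irreducibleComponent⟩)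
    (fun a b => a = b) (fun a b => ?_)]
  · rw [← ENat.card_coe_set_eq]
    exact ENat.card_congr ⟨Quot.mk _, Quot.lift id (fun _ _ h => h), fun _ => rfl, fun q => Quot.inductionOn q fun _ => rfl⟩
  · constructor
    · rintro ⟨x, hxa, hxb⟩
      obtain ⟨c, hc, hcm⟩ := hmax a
      obtain ⟨d, hd, hdm⟩ := hmax b
      have := HenselLib.eq_of_specializes_of_isDomain_stalk x hcm hdm (hc.specializes hxa) (hd.specializes hxb)
      subst this
      exact Subtype.ext (hc.def.symm.trans hd.def)
    · rintro rfl
      obtain ⟨c, hc, -⟩ := hmax a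
      exact ⟨c, hc.mem, hc.mem⟩

theorem uniqueMax_of_generalizing_surjective {α β : Type u} [TopologicalSpace α] [TopologicalSpace β] [T0Space α]
    [QuasiSober α] (f : α → β) (hc : Continuous f) (hgen : GeneralizingMap f) (hs : Function.Surjective f)
    (h : UniqueMax α) : UniqueMax β := by
  intro t t' x ht ht' hx hx'
  obtain ⟨u, rfl⟩ := hs x
  obtain ⟨a, ha, rfl⟩ := hgen hx
  obtain ⟨b, hb, rfl⟩ := hgen hx'
  obtain ⟨c, hcm, hca⟩ := exists_max_specializes a
  obtain ⟨d, hdm, hdb⟩ := exists_max_specializes b
  have := h c d u hcm hdm (hca.trans ha) (hdb.trans hb)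
  subst this
  exact (ht _ (hca.map hc)).symm.trans (ht' _ (hdb.map hc))

/-- Equal geometric counts give unique maximal points in the fibre. -/
theorem uniqueMax_fiber {X Y : Scheme.{u}} (f : X ⟶ Y) [LocallyOfFiniteType f] [QuasiCompact f] (y : Y)
    (h : MoreMor.nGeomIrredComp f y = MoreMor.nGeomConnComp f y) : UniqueMax ↥(f.fiber y) := by
  let π := Spec.map (CommRingCat.ofHom
      (algebraMap (Y.residueField y) (SeparableClosure (Y.residueField y))))
  haveI : LocallyOfFiniteType (f.fiberToSpecResidueField y) :=
    (inferInstance : LocallyOfFiniteType (pullback.snd f (Y.fromSpecResidueField y)))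
  haveI : QuasiCompact (f.fiberToSpecResidueField y) :=
    (inferInstance : QuasiCompact (pullback.snd f (Y.fromSpecResidueField y)))
  let G := pullback (f.fiberToSpecResidueField y) π
  let q : G ⟶ f.fiber y := pullback.fst _ _
  haveI : IsLocallyNoetherian G := LocallyOfFiniteType.isLocallyNoetherian (pullback.snd (f.fiberToSpecResidueField y) π)
  haveI : CompactSpace G := QuasiCompact.compactSpace_of_compactSpace (pullback.snd (f.fiberToSpecResidueField y) π)
  haveI : IsNoetherian G := {}
  haveI : Surjective π := FBaseLib.surjective_to_field π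
  haveI : Flat π := Flat.SpecMap_iff.2 (RingHom.flat_algebraMap_iff.2 inferInstance)
  haveI : Surjective q := MorphismProperty.pullback_fst _ _ inferInstance
  haveI : Flat q := MorphismProperty.pullback_fst _ _ inferInstance
  exact uniqueMax_of_generalizing_surjective q q.continuous (Flat.generalizingMap q) q.surjective (uniqueMax_of_counts h)

variable {R : Type u} [CommRing R] [IsDedekindDomain R] {X : Over (Spec (CommRingCat.of R))}

theorem counts_eq_at_eta (hR : ¬ IsField R) (hX : ArSurf.IsArithSurface R X) :
    MoreMor.nGeomIrredComp X.hom (etaPt : Spec (CommRingCat.of R)) =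
      MoreMor.nGeomConnComp X.hom (etaPt : Spec (CommRingCat.of R)) := by
  haveI := hX.2.1
  haveI := hX.2.2.2.1
  haveI : IsProper X.hom := Models7.isProper_of_projective hX.2.2.2.2
  let K := FractionRing R
  let Ω := SeparableClosure K
  let j := pullback.fst X.hom (Neron.genPt R)
  haveI : Flat j := inferInstanceAs (Flat (pullback.fst X.hom (Neron.genPt R)))
  let XK := pullback X.hom (Neron.genPt R)
  letI : XK.Over (Spec (CommRingCat.of K)) := ⟨pullback.snd X.hom (Neron.genPt R)⟩
  have hn : Pi1.IsNormalScheme XK := fun t => by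
    haveI := isRegularLocalRing_of_flat_preimmersion j t (hX.1 _)
    exact ⟨CAlgH3.isDomain_of_isRegularLocalRing _, CAlgH3.isIntegrallyClosed_of_regular _⟩
  haveI : Algebra.IsGeometricallyReduced K Ω := CAlgH.NagataSeparable.isGeometricallyReduced_of_isSeparable K Ω
  haveI := FBaseLib.geometricallyReduced_algSpec (k := K) (K := Ω)
  have hnΩ := S7602.result K XK hn Ω
  let σ := Spec.map (CommRingCat.ofHom (algebraMap K Ω))
  let s := σ ≫ Neron.genPt R
  let z : Spec (CommRingCat.of Ω) := closedPoint Ω
  have hs : s z = (etaPt : Spec (CommRingCat.of R)) := by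
    have : Neron.genPt R (σ z) ∈ Set.range (Neron.genPt R).base := ⟨_, rfl⟩
    rw [range_genPt] at this
    rw [Scheme.Hom.comp_apply]
    exact this
  have h := FlatMorGeomIrr.counts_eq_geomFiber X.hom s z hs
  let G := pullback (pullback.snd X.hom (Neron.genPt R)) σ
  let e : G ≅ pullback X.hom s := pullbackLeftPullbackSndIso X.hom (Neron.genPt R) σ
  have he := FlatMorGeomIrr.counts_eq_of_iso e
  rw [← h.1, ← h.2, ← he.1, ← he.2]
  haveI : IsLocallyNoetherian G := LocallyOfFiniteType.isLocallyNoetherian (pullback.snd (pullback.snd X.hom (Neron.genPt R)) σ)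
  haveI : CompactSpace G := QuasiCompact.compactSpace_of_compactSpace (pullback.snd (pullback.snd X.hom (Neron.genPt R)) σ)
  haveI : IsNoetherian G := {}
  haveI : ∀ g : G, IsDomain (G.presheaf.stalk g) := fun g => (hnΩ g).1
  exact counts_eq_of_domain_stalks G

/-- Each point of the fibre over `s` lies below at most one maximal point of that fibre. -/
def FibreSep {X : Over (Spec (CommRingCat.of R))} (s : ↥(Spec (CommRingCat.of R))) : Prop :=
  ∀ t t' x : X.left, X.hom x = s → X.hom t = s → X.hom t' = s →
    (∀ a, X.hom a = s → a ⤳ t → a = t) → (∀ a, X.hom a = s → a ⤳ t' → a = t') → t ⤳ x → t' ⤳ x → t = t'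

theorem fibreSep_of_uniqueMax (s : ↥(Spec (CommRingCat.of R))) (h : UniqueMax ↥(X.hom.fiber s)) :
    FibreSep (X := X) s := by
  intro t t' x hx ht ht' hmt hmt' htx ht'x
  let e := X.hom.fiberHomeo s
  have lift : ∀ {p q : X.left} (hp : X.hom p = s) (hq : X.hom q = s), p ⤳ q → e.symm ⟨p, hp⟩ ⤳ e.symm ⟨q, hq⟩ :=
    fun hp hq h => ((subtype_specializes_iff _ _).2 h).map e.symm.continuous
  have hmax : ∀ (p : X.left) (hp : X.hom p = s), (∀ a, X.hom a = s → a ⤳ p → a = p) →
      ∀ a, a ⤳ e.symm ⟨p, hp⟩ → a = e.symm ⟨p, hp⟩ := by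
    intro p hp hmp a ha
    have h1 : e a ⤳ ⟨p, hp⟩ := by
      have := ha.map e.continuous
      rwa [e.apply_symm_apply] at this
    rw [← e.symm_apply_apply a]
    exact congrArg e.symm (Subtype.ext (hmp _ (e a).2 ((subtype_specializes_iff _ _).1 h1)))
  exact congrArg Subtype.val (e.symm.injective (h _ _ _ (hmax t ht hmt) (hmax t' ht' hmt') (lift ht hx htx) (lift ht' hx ht'x)))

theorem exists_opens_fibreSep (hR : ¬ IsField R) (hX : ArSurf.IsArithSurface R X) :
    ∃ V : (Spec (CommRingCat.of R)).Opens, (etaPt : Spec (CommRingCat.of R)) ∈ V ∧ ∀ s ∈ V, FibreSep (X := X) s := by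
  haveI : IsProper X.hom := Models7.isProper_of_projective hX.2.2.2.2
  obtain ⟨V, hV, H⟩ := FlatMorGeomIrr.exists_opens_forall_counts_eq X.hom
  have hη : genericPoint ↥(Spec (CommRingCat.of R)) = (etaPt : Spec (CommRingCat.of R)) :=
    ((genericPoint_specializes _).antisymm ((PrimeSpectrum.le_iff_specializes (etaPt : Spec (CommRingCat.of R)) _).1 bot_le)).eq
  refine ⟨V, hη ▸ ((genericPoint_spec _).mem_open_set_iff V.2).2 (by simpa using hV), fun s hs => ?_⟩
  refine fibreSep_of_uniqueMax s (uniqueMax_fiber X.hom s ?_)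
  rw [(H s hs).1, (H s hs).2, hη]
  exact counts_eq_at_eta hR hX

end Groth.Agent.Models7
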