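import Groth.Agent.Models7.FibreSep
import Groth.Agent.Models7.Factor
import Groth.Agent.Models7.ExcOfBlowUp
import Groth.Agent.Coherent.BirationalFibre
import Groth.Agent.Hurwitz24.Generic

/-!
# Morphisms of arithmetic surfaces which are isomorphisms over the generic point
-/

set_option autoImplicit false
set_option linter.style.haveILetI false
set_option backward.isDefEq.respectTransparency false
set_option maxHeartbeats 1000000

universe u

open CategoryTheory CategoryTheory.Limits AlgebraicGeometry TopologicalSpace IsLocalRing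

namespace Groth.Agent.Models7

variable {R : Type u} [CommRing R] [IsDedekindDomain R] {X Y : Over (Spec (CommRingCat.of R))}

theorem isIso_stalkMap_congr {A B : Scheme.{u}} {f f' : A ⟶ B} (h : f = f') (c : A) (hi : IsIso (f.stalkMap c)) :
    IsIso (f'.stalkMap c) := by
  subst h
  exact hi

theorem mem_range_generic (z : X.left) (hz : X.hom z = (etaPt : Spec (CommRingCat.of R))) :
    z ∈ Set.range (pullback.fst X.hom (Neron.genPt R)).base := by
  rw [Scheme.Pullback.range_fst, range_genPt]
  exact hz

theorem genericFibre_map_fst (g : X ⟶ Y) :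
    ((Neron.genericFibre R).map g).left ≫ pullback.fst Y.hom (Neron.genPt R) =
      pullback.fst X.hom (Neron.genPt R) ≫ g.left :=
  pullback.lift_fst _ _ _

theorem surj_over_eta (g : X ⟶ Y) [IsIso ((Neron.genericFibre R).map g)] (z : Y.left)
    (hz : Y.hom z = (etaPt : Spec (CommRingCat.of R))) : ∃ w : X.left, g.left w = z := by
  obtain ⟨c, rfl⟩ := mem_range_generic z hz
  let gK := ((Neron.genericFibre R).map g).left
  haveI : IsIso gK := inferInstanceAs (IsIso ((Over.forget _).map ((Neron.genericFibre R).map g)))
  obtain ⟨c', rfl⟩ := gK.homeomorph.surjective c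
  refine ⟨pullback.fst X.hom (Neron.genPt R) c', ?_⟩
  rw [← Scheme.Hom.comp_apply, ← genericFibre_map_fst g, Scheme.Hom.comp_apply]
  rfl

theorem inj_over_eta (g : X ⟶ Y) [IsIso ((Neron.genericFibre R).map g)] {a b : X.left}
    (ha : X.hom a = (etaPt : Spec (CommRingCat.of R))) (hb : X.hom b = (etaPt : Spec (CommRingCat.of R)))
    (h : g.left a = g.left b) : a = b := by
  obtain ⟨a, rfl⟩ := mem_range_generic a ha
  obtain ⟨b, rfl⟩ := mem_range_generic b hb
  let gK := ((Neron.genericFibre R).map g).left
  haveI : IsIso gK := inferInstanceAs (IsIso ((Over.forget _).map ((Neron.genericFibre R).map g)))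
  haveI : IsPreimmersion (pullback.fst Y.hom (Neron.genPt R)) := inferInstance
  rw [← Scheme.Hom.comp_apply, ← Scheme.Hom.comp_apply, ← genericFibre_map_fst g, Scheme.Hom.comp_apply,
    Scheme.Hom.comp_apply] at h
  exact congrArg _ (gK.homeomorph.injective ((pullback.fst Y.hom (Neron.genPt R)).isEmbedding.injective h))

theorem isIso_stalkMap_over_eta (g : X ⟶ Y) [IsIso ((Neron.genericFibre R).map g)] (a : X.left)
    (ha : X.hom a = (etaPt : Spec (CommRingCat.of R))) : IsIso (g.left.stalkMap a) := by
  obtain ⟨c, rfl⟩ := mem_range_generic a ha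
  let jX := pullback.fst X.hom (Neron.genPt R)
  let jY := pullback.fst Y.hom (Neron.genPt R)
  haveI : IsPreimmersion jX := inferInstanceAs (IsPreimmersion (pullback.fst X.hom (Neron.genPt R)))
  haveI : Flat jX := inferInstanceAs (Flat (pullback.fst X.hom (Neron.genPt R)))
  haveI : IsPreimmersion jY := inferInstanceAs (IsPreimmersion (pullback.fst Y.hom (Neron.genPt R)))
  haveI : Flat jY := inferInstanceAs (Flat (pullback.fst Y.hom (Neron.genPt R)))
  let gK : pullback X.hom (Neron.genPt R) ⟶ pullback Y.hom (Neron.genPt R) := ((Neron.genericFibre R).map g).left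
  haveI : IsIso gK := inferInstanceAs (IsIso ((Over.forget _).map ((Neron.genericFibre R).map g)))
  haveI h1 : IsIso ((gK ≫ jY).stalkMap c) := by
    rw [Scheme.Hom.stalkMap_comp]
    haveI := VarietyLib.isIso_stalkMap_of_flat_of_isPreimmersion jY (gK c)
    infer_instance
  haveI h2 := isIso_stalkMap_congr (genericFibre_map_fst g) c h1
  rw [Scheme.Hom.stalkMap_comp] at h2
  haveI := VarietyLib.isIso_stalkMap_of_flat_of_isPreimmersion jX c
  exact IsIso.of_isIso_comp_right (g.left.stalkMap (jX c)) (jX.stalkMap c)

/-- There is a point of the generic fibre other than the generic point. -/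
theorem exists_ne_generic_over_eta (hR : ¬ IsField R) (hX : ArSurf.IsArithSurface R X) [IsIntegral X.left] :
    ∃ w : X.left, X.hom w = (etaPt : Spec (CommRingCat.of R)) ∧ w ≠ genericPoint X.left := by
  haveI : Flat X.hom := hX.2.2.2.1
  have hC := propCurve_genericFibre hR hX
  haveI := hC.2.2.1
  obtain ⟨a, b, hab⟩ := exists_ne_of_dim_one (E := ((Neron.genericFibre R).obj X).left) hC.2.2.2
  let j : ((Neron.genericFibre R).obj X).left ⟶ X.left := pullback.fst X.hom (Neron.genPt R)
  haveI : IsPreimmersion j := inferInstanceAs (IsPreimmersion (pullback.fst X.hom (Neron.genPt R)))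
  have hη : ∀ c, X.hom (j c) = (etaPt : Spec (CommRingCat.of R)) := fun c => by
    have h : j c ∈ Set.range (pullback.fst X.hom (Neron.genPt R)).base := ⟨c, rfl⟩
    rw [Scheme.Pullback.range_fst, range_genPt] at h
    exact h
  by_cases ha : j a = genericPoint X.left
  · exact ⟨j b, hη b, fun hb => hab (j.isEmbedding.injective (ha.trans hb.symm))⟩
  · exact ⟨j a, hη a, ha⟩

/-- The target of a generic isomorphism from an arithmetic surface is an arithmetic surface. -/
theorem isArithSurface_of_genIso (hR : ¬ IsField R) (hX : ArSurf.IsArithSurface R X)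
    (hreg : ∀ y : Y.left, IsRegularLocalRing (Y.left.presheaf.stalk y)) (hproj : Neron.IsProjectiveOver R Y)
    [Flat Y.hom] (g : X ⟶ Y) [IsIso ((Neron.genericFibre R).map g)] :
    ArSurf.IsArithSurface R Y ∧ IsProper g.left ∧ Function.Surjective g.left.base := by
  haveI := hX.2.1
  haveI := hX.2.2.2.1
  haveI : IsProper X.hom := Models7.isProper_of_projective hX.2.2.2.2
  haveI : IsProper Y.hom := Models7.isProper_of_projective hproj
  haveI : IsLocallyNoetherian Y.left := LocallyOfFiniteType.isLocallyNoetherian Y.hom
  haveI : IsProper (g.left ≫ Y.hom) := by rw [Over.w g]; infer_instance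
  haveI : IsProper g.left := IsProper.of_comp g.left Y.hom
  haveI : ∀ y, _root_.IsReduced (Y.left.presheaf.stalk y) := fun y => by
    haveI := hreg y
    haveI := CAlgH3.isDomain_of_isRegularLocalRing (Y.left.presheaf.stalk y)
    infer_instance
  haveI := isReduced_of_isReduced_stalk Y.left
  have hcomp : ∀ a, Y.hom (g.left a) = X.hom a := fun a => by rw [← Scheme.Hom.comp_apply, Over.w g]
  let ξ := g.left (genericPoint X.left)
  have hgen : ∀ y : Y.left, ξ ⤳ y := by
    intro y
    have h : (etaPt : Spec (CommRingCat.of R)) ⤳ Y.hom y :=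
      (PrimeSpectrum.le_iff_specializes (etaPt : Spec (CommRingCat.of R)) _).1 bot_le
    obtain ⟨t, ht, hte⟩ := (Flat.generalizingMap Y.hom) h
    obtain ⟨w, rfl⟩ := surj_over_eta g t hte
    exact ((genericPoint_specializes w).map g.left.continuous).trans ht
  haveI : Nonempty Y.left := ⟨ξ⟩
  haveI : IrreducibleSpace Y.left := by
    rw [irreducibleSpace_def]
    convert (isIrreducible_singleton (x := ξ)).closure
    exact (Set.eq_univ_of_forall fun t => specializes_iff_mem_closure.1 (hgen t)).symm
  haveI : IsIntegral Y.left := isIntegral_of_irreducibleSpace_of_isReduced Y.left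
  have hsurj : Function.Surjective g.left.base := fun y => by
    have h := (g.left.isClosedMap _ isClosed_univ)
    obtain ⟨w, -, hw⟩ := (hgen y).mem_closed h ⟨genericPoint X.left, trivial, rfl⟩
    exact ⟨w, hw⟩
  have hξ : ξ = genericPoint Y.left := ((hgen _).antisymm (genericPoint_specializes _)).eq
  refine ⟨⟨hreg, inferInstance, le_antisymm ?_ ?_, inferInstance, hproj⟩, inferInstance, hsurj⟩
  · exact (CommAlg6.topologicalKrullDim_le_of_specializingMap (f := g.left.base) hsurj
      g.left.isClosedMap.specializingMap).trans hX.2.2.1.le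
  · obtain ⟨w, hw, hwne⟩ := exists_ne_generic_over_eta hR hX
    let z := g.left w
    have hz : Y.hom z = (etaPt : Spec (CommRingCat.of R)) := (hcomp w).trans hw
    have hne : ξ ≠ z := fun h => hwne (inj_over_eta g hom_genericPoint' hw h).symm
    have hnc : ¬ IsClosed ({z} : Set Y.left) := fun h => by
      have h' := Y.hom.isClosedMap _ h
      rw [Set.image_singleton, show Y.hom z = _ from hz] at h'
      exact not_isClosed_eta hR h'
    obtain ⟨v, hzv, hvz⟩ : ∃ v, z ⤳ v ∧ v ≠ z := by
      by_contra hall
      push Not at hall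
      exact hnc (closure_eq_iff_isClosed.1 (Set.Subset.antisymm
        (fun v hv => hall v (specializes_iff_mem_closure.2 hv)) subset_closure))
    have h1 := SDiv28.CartierPart.dim_add_one_le (hgen z) hne
    have h2 := SDiv28.CartierPart.dim_add_one_le hzv (Ne.symm hvz)
    refine le_trans ?_ (CurvesLib24.stalk_dim_le_topologicalKrullDim v)
    rw [ringKrullDim_stalk_eq_coheight]
    have h12 : (2 : ℕ∞) ≤ Order.coheight v := by
      refine le_trans ?_ h2
      calc (2 : ℕ∞) = 0 + 1 + 1 := by norm_num
        _ ≤ Order.coheight z + 1 := add_le_add (le_trans (add_le_add bot_le le_rfl) h1) le_rfl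
    exact WithBot.coe_le_coe.2 h12

/-- The closed points of an arithmetic surface have two-dimensional local rings. -/
theorem ringKrullDim_stalk_closed_eq_two (hR : ¬ IsField R) (hX : ArSurf.IsArithSurface R X) (y : X.left)
    (hy : IsClosed ({y} : Set X.left)) : ringKrullDim (X.left.presheaf.stalk y) = 2 := by
  haveI := hX.2.1
  haveI := hX.2.2.2.1
  haveI : IsProper X.hom := Models7.isProper_of_projective hX.2.2.2.2
  haveI : IsLocallyNoetherian X.left := LocallyOfFiniteType.isLocallyNoetherian X.hom
  refine le_antisymm ((CurvesLib24.stalk_dim_le_topologicalKrullDim y).trans hX.2.2.1.le) ?_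
  have hsc : IsClosed ({X.hom y} : Set ↥(Spec (CommRingCat.of R))) := by
    rw [← Set.image_singleton]; exact X.hom.isClosedMap _ hy
  have hsne : X.hom y ≠ (etaPt : Spec (CommRingCat.of R)) := fun h => not_isClosed_eta hR (h ▸ hsc)
  by_cases hc : ∃ c : X.left, c ⤳ y ∧ c ≠ y ∧ c ≠ genericPoint X.left
  · obtain ⟨c, hcy, hne, hcg⟩ := hc
    have h1 := SDiv28.CartierPart.dim_add_one_le (genericPoint_specializes c) (Ne.symm hcg)
    have h2 := SDiv28.CartierPart.dim_add_one_le hcy hne
    rw [ringKrullDim_stalk_eq_coheight]
    have h12 : (2 : ℕ∞) ≤ Order.coheight y := by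
      refine le_trans ?_ h2
      calc (2 : ℕ∞) = 0 + 1 + 1 := by norm_num
        _ ≤ Order.coheight c + 1 := add_le_add (le_trans (add_le_add bot_le le_rfl) h1) le_rfl
    exact WithBot.coe_le_coe.2 h12
  exfalso
  push Not at hc
  -- then `y` is isolated in its fibre
  let F := X.hom.fiber (X.hom y)
  let e := X.hom.fiberHomeo (X.hom y)
  haveI : LocallyOfFiniteType (X.hom.fiberToSpecResidueField (X.hom y)) :=
    (inferInstance : LocallyOfFiniteType (pullback.snd X.hom ((Spec (CommRingCat.of R)).fromSpecResidueField (X.hom y))))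
  haveI : IsLocallyNoetherian F := LocallyOfFiniteType.isLocallyNoetherian (X.hom.fiberToSpecResidueField (X.hom y))
  haveI : CompactSpace F := QuasiCompact.compactSpace_of_compactSpace (X.hom.fiberToSpecResidueField (X.hom y))
  haveI : IsNoetherian F := {}
  let p : F := X.hom.asFiber y
  have hep : (e p : X.left) = y := congrArg Subtype.val (e.apply_symm_apply _)
  have hmax : ∀ a : F, a ⤳ p → a = p := by
    intro a ha
    have h1 : (e a : X.left) ⤳ y := by
      have h0 := ha.map (continuous_subtype_val.comp e.continuous)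
      simp only [Function.comp_apply, hep] at h0
      exact h0
    suffices (e a : X.left) = y from e.injective (Subtype.ext (this.trans hep.symm))
    by_contra hne
    have := hc _ h1 hne
    exact hsne (by rw [← show X.hom (e a : X.left) = X.hom y from (e a).2, this, hom_genericPoint'])
  have hopen : IsOpen ({p} : Set F) := by
    obtain ⟨S, hSf, hSc, hSi, hS⟩ := NoetherianSpace.exists_finite_set_isClosed_irreducible (isClosed_univ (X := F))
    let B : Set F := ⋃₀ {t ∈ S | t ≠ {p}}
    have hB : IsClosed B := by
      simp only [B, Set.sUnion_eq_biUnion]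
      exact (hSf.subset fun t ht => ht.1).isClosed_biUnion fun t ht => hSc t ht.1
    have hpB : p ∉ B := by
      rintro ⟨t, ⟨ht, htne⟩, hpt⟩
      obtain ⟨c, hct⟩ := QuasiSober.sober (hSi t ht) (hSc t ht)
      have := hmax c (hct.specializes hpt)
      subst this
      apply htne
      rw [← hct.def]
      exact closure_eq_iff_isClosed.2 (by
        have : ({X.hom.asFiber y} : Set F) = e ⁻¹' (Subtype.val ⁻¹' {y}) := by
          ext a
          refine ⟨fun h => by rw [Set.mem_singleton_iff.1 h]; exact hep, fun h => e.injective (Subtype.ext ?_)⟩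
          exact (show (e a : X.left) = y from h).trans hep.symm
        rw [this]
        exact (hy.preimage continuous_subtype_val).preimage e.continuous)
    have hBc : Bᶜ = {p} := by
      ext a
      refine ⟨fun ha => ?_, fun ha => by rw [Set.mem_singleton_iff.1 ha]; exact hpB⟩
      obtain ⟨t, ht, hat⟩ := Set.mem_sUnion.1 (hS.le (Set.mem_univ a))
      by_contra hap
      exact ha ⟨t, ⟨ht, fun h => hap (h ▸ hat)⟩, hat⟩
    exact hBc ▸ hB.isOpen_compl
  have hqf : X.hom.QuasiFiniteAt y := Scheme.Hom.quasiFiniteAt_iff_isOpen_singleton_asFiber.2 hopen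
  obtain ⟨U, -, hU⟩ := X.hom.exists_isIso_morphismRestrict_toNormalization
  have hqg : X.hom.QuasiFiniteAt (genericPoint X.left) := by
    have hy' : y ∈ (X.hom.toNormalization ⁻¹ᵁ U).1 := hU.ge hqf
    exact hU.le ((genericPoint_specializes y).mem_open (X.hom.toNormalization ⁻¹ᵁ U).2 hy')
  -- so the generic fibre is a point
  let η' := X.hom (genericPoint X.left)
  let Fη := X.hom.fiber η'
  haveI : LocallyOfFiniteType (X.hom.fiberToSpecResidueField η') :=
    (inferInstance : LocallyOfFiniteType (pullback.snd X.hom ((Spec (CommRingCat.of R)).fromSpecResidueField η')))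
  haveI : JacobsonSpace Fη := LocallyOfFiniteType.jacobsonSpace (X.hom.fiberToSpecResidueField η')
  let ξ : Fη := X.hom.asFiber (genericPoint X.left)
  have hξc : IsClosed ({ξ} : Set Fη) :=
    isClosed_singleton_of_isLocallyClosed_singleton (hqg.isClopen_singleton_asFiber).isOpen.isLocallyClosed
  obtain ⟨w, hw, hwne⟩ := exists_ne_generic_over_eta hR hX
  let eη := X.hom.fiberHomeo η'
  let wf : Fη := eη.symm ⟨w, by show X.hom w = η'; rw [hw]; exact hom_genericPoint'.symm⟩
  have hsp : ξ ⤳ wf := ((subtype_specializes_iff _ _).2 (genericPoint_specializes w)).map eη.symm.continuous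
  have := eη.symm.injective (hsp.mem_closed hξc rfl : wf = ξ)
  exact hwne (congrArg Subtype.val this)

end Groth.Agent.Models7
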