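import Mathlib.RingTheory.Length
import Mathlib.RingTheory.RegularLocalRing.Defs
import Mathlib.RingTheory.Localization.AtPrime.Basic
import Mathlib.RingTheory.Nakayama

/-!
# The square of a maximal ideal with two independent generators has colength three
-/

set_option autoImplicit false

universe u

open IsLocalRing

namespace Groth.Agent.Models7

theorem length_quot_sq {R A : Type u} [CommRing R] [CommRing A] [Algebra R A] (M : Ideal A) (a b : A)
    (ha : a ∈ M) (hb : b ∈ M) (hM : M ≤ Ideal.span {a, b} ⊔ M ^ 2) (hind : ∀ x y : A, x * a + y * b ∈ M ^ 2 → x ∈ M ∧ y ∈ M) :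
    Module.length R (A ⧸ M ^ 2) = 3 * Module.length R (A ⧸ M) := by
  have hle : ∀ c ∈ M, M ≤ Submodule.comap (LinearMap.mulRight A c) (M ^ 2) := fun c hc x hx => by
    show x * c ∈ M ^ 2
    rw [pow_two]; exact Ideal.mul_mem_mul hx hc
  let g : ∀ c ∈ M, (A ⧸ M) →ₗ[R] (A ⧸ M ^ 2) := fun c hc =>
    (Submodule.mapQ M (M ^ 2) (LinearMap.mulRight A c) (hle c hc)).restrictScalars R
  let f : ((A ⧸ M) × (A ⧸ M)) →ₗ[R] (A ⧸ M ^ 2) := (g a ha).coprod (g b hb)
  let q : (A ⧸ M ^ 2) →ₗ[R] (A ⧸ M) :=
    (Submodule.mapQ (M ^ 2) M LinearMap.id (Ideal.pow_le_self two_ne_zero)).restrictScalars R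
  have hf : ∀ x y : A, f (Ideal.Quotient.mk M x, Ideal.Quotient.mk M y) = Ideal.Quotient.mk (M ^ 2) (x * a + y * b) :=
    fun x y => rfl
  have h1 : Function.Injective f := (injective_iff_map_eq_zero f).2 fun p hp => by
    obtain ⟨x, y⟩ := p
    obtain ⟨x, rfl⟩ := Ideal.Quotient.mk_surjective x
    obtain ⟨y, rfl⟩ := Ideal.Quotient.mk_surjective y
    obtain ⟨hx, hy⟩ := hind x y (Ideal.Quotient.eq_zero_iff_mem.1 ((hf x y).symm.trans hp))
    exact Prod.ext (Ideal.Quotient.eq_zero_iff_mem.2 hx) (Ideal.Quotient.eq_zero_iff_mem.2 hy)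
  have h2 : Function.Surjective q := fun z => by
    obtain ⟨z, rfl⟩ := Ideal.Quotient.mk_surjective z
    exact ⟨Ideal.Quotient.mk _ z, rfl⟩
  have h3 : Function.Exact f q := fun z => by
    obtain ⟨z, rfl⟩ := Ideal.Quotient.mk_surjective z
    constructor
    · intro hz
      have hzM : z ∈ M := Ideal.Quotient.eq_zero_iff_mem.1 hz
      obtain ⟨w, hw, e, he, rfl⟩ := Submodule.mem_sup.1 (hM hzM)
      obtain ⟨x, y, rfl⟩ := Ideal.mem_span_pair.1 hw
      refine ⟨(Ideal.Quotient.mk M x, Ideal.Quotient.mk M y), (hf x y).trans ?_⟩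
      rw [Ideal.Quotient.eq, sub_add_cancel_left]; exact neg_mem he
    · rintro ⟨⟨x, y⟩, hxy⟩
      obtain ⟨x, rfl⟩ := Ideal.Quotient.mk_surjective x
      obtain ⟨y, rfl⟩ := Ideal.Quotient.mk_surjective y
      rw [hf] at hxy
      refine Ideal.Quotient.eq_zero_iff_mem.2 ?_
      rw [← sub_add_cancel z (x * a + y * b)]
      exact add_mem (Ideal.pow_le_self two_ne_zero (Ideal.Quotient.eq.1 hxy.symm))
        (add_mem (Ideal.mul_mem_left _ _ ha) (Ideal.mul_mem_left _ _ hb))
  rw [Module.length_eq_add_of_exact f q h1 h2 h3, Module.length_prod]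
  ring

/-- Two generators of the maximal ideal of a two dimensional regular local ring are independent. -/
theorem mem_of_combination {A : Type u} [CommRing A] [IsLocalRing A] [IsNoetherianRing A]
    (h2 : (maximalIdeal A).spanFinrank = 2) {a b : A} (hab : maximalIdeal A = Ideal.span {a, b}) {x y : A}
    (h : x * a + y * b ∈ maximalIdeal A ^ 2) : x ∈ maximalIdeal A := by
  by_contra hx
  obtain ⟨u, rfl⟩ := not_not.1 hx
  have hle : maximalIdeal A ≤ Ideal.span {b} ⊔ maximalIdeal A • maximalIdeal A := by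
    conv_lhs => rw [hab]
    rw [Ideal.span_le]
    rintro z (rfl | rfl)
    · rw [show z = ↑u⁻¹ * (↑u * z + y * b) + (- (↑u⁻¹ * y)) * b by
        rw [mul_add, ← mul_assoc, Units.inv_mul, one_mul]; ring]
      exact add_mem (Ideal.mem_sup_right (Ideal.mul_mem_left _ _ (by rw [smul_eq_mul, ← pow_two]; exact h)))
        (Ideal.mem_sup_left (Ideal.mem_span_singleton'.2 ⟨_, rfl⟩))
    · exact Ideal.mem_sup_left (Ideal.mem_span_singleton_self _)
  have hb : b ∈ maximalIdeal A := hab ▸ Ideal.subset_span (by simp)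
  have heq : maximalIdeal A = Ideal.span {b} := le_antisymm
    (Submodule.le_of_le_smul_of_le_jacobson_bot (IsNoetherian.noetherian _)
      (maximalIdeal_le_jacobson _) hle) ((Ideal.span_singleton_le_iff_mem _).2 hb)
  have h1 := Submodule.spanFinrank_span_le_ncard_of_finite (R := A) (Set.finite_singleton b)
  rw [Set.ncard_singleton] at h1
  rw [heq] at h2
  exact absurd (h2 ▸ h1) (by decide)

/-- At a regular point of dimension two, the square of the maximal ideal has colength three. -/
theorem length_quot_sq_of_localization {R A : Type u} [CommRing R] [CommRing A] [Algebra R A] (M : Ideal A) [M.IsMaximal]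
    (S : Type u) [CommRing S] [Algebra A S] [IsLocalization.AtPrime S M] [IsLocalRing S] [IsNoetherianRing S]
    (h2 : (maximalIdeal S).spanFinrank = 2) {a' b' : S} (hab : maximalIdeal S = Ideal.span {a', b'}) :
    Module.length R (A ⧸ M ^ 2) = 3 * Module.length R (A ⧸ M) := by
  obtain ⟨a, sa, rfl⟩ := IsLocalization.exists_mk'_eq M.primeCompl a'
  obtain ⟨b, sb, rfl⟩ := IsLocalization.exists_mk'_eq M.primeCompl b'
  have hmap : maximalIdeal S = Ideal.span {algebraMap A S a, algebraMap A S b} := by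
    rw [hab, Ideal.span_insert, Ideal.span_insert (algebraMap A S a),
      ← Ideal.span_singleton_mul_right_unit (IsLocalization.map_units S sa) (IsLocalization.mk' S a sa),
      ← Ideal.span_singleton_mul_right_unit (IsLocalization.map_units S sb) (IsLocalization.mk' S b sb),
      IsLocalization.mk'_spec, IsLocalization.mk'_spec]
  have hmem : ∀ c : A, algebraMap A S c ∈ maximalIdeal S → c ∈ M := fun c hc =>
    (IsLocalization.AtPrime.to_map_mem_maximal_iff S M c).1 hc
  have hsq : ∀ c : A, algebraMap A S c ∈ maximalIdeal S ^ 2 → c ∈ M ^ 2 := fun c hc => by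
    refine Ideal.Quotient.eq_zero_iff_mem.1 ((IsLocalization.AtPrime.equivQuotMaximalIdealPow M S 2).injective ?_)
    rw [map_zero]
    exact Ideal.Quotient.eq_zero_iff_mem.2 hc
  refine length_quot_sq M a b (hmem a (hmap ▸ Ideal.subset_span (by simp)))
    (hmem b (hmap ▸ Ideal.subset_span (by simp))) (fun c hc => ?_) fun x y h => ?_
  · obtain ⟨x', y', hxy⟩ := Ideal.mem_span_pair.1
      (hmap ▸ (IsLocalization.AtPrime.to_map_mem_maximal_iff S M c).2 hc : algebraMap A S c ∈ _)
    obtain ⟨x, hx⟩ := Ideal.Quotient.mk_surjective ((IsLocalization.AtPrime.equivQuotMaximalIdealPow M S 2).symm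
      (Ideal.Quotient.mk _ x'))
    obtain ⟨y, hy⟩ := Ideal.Quotient.mk_surjective ((IsLocalization.AtPrime.equivQuotMaximalIdealPow M S 2).symm
      (Ideal.Quotient.mk _ y'))
    have hx' := congrArg (IsLocalization.AtPrime.equivQuotMaximalIdealPow M S 2) hx
    have hy' := congrArg (IsLocalization.AtPrime.equivQuotMaximalIdealPow M S 2) hy
    rw [AlgEquiv.apply_symm_apply, IsLocalization.AtPrime.equivQuotMaximalIdealPow_apply_mk] at hx' hy'
    refine Submodule.mem_sup.2 ⟨x * a + y * b, Ideal.mem_span_pair.2 ⟨x, y, rfl⟩, c - (x * a + y * b),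
      hsq _ (Ideal.Quotient.eq_zero_iff_mem.1 ?_), add_sub_cancel _ _⟩
    simp only [map_sub, map_add, map_mul, hx', hy', ← hxy, sub_self]
  · have h' : algebraMap A S x * algebraMap A S a + algebraMap A S y * algebraMap A S b ∈ maximalIdeal S ^ 2 := by
      rw [← map_mul, ← map_mul, ← map_add, ← IsLocalization.AtPrime.map_eq_maximalIdeal M S, ← Ideal.map_pow]
      exact Ideal.mem_map_of_mem _ h
    refine ⟨hmem x (mem_of_combination h2 hmap h'),
      hmem y (mem_of_combination h2 ?_ (x := algebraMap A S y) (y := algebraMap A S x) (a := algebraMap A S b)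
        (b := algebraMap A S a) (by rw [add_comm]; exact h'))⟩
    rw [Set.pair_comm]; exact hmap

end Groth.Agent.Models7
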