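import Groth.Agent.Models7.MinModelExists
import Groth.Agent.S3254
import Groth.Agent.S7907

/-!
# Minimal desingularizations of surfaces over a discrete valuation ring
-/

set_option autoImplicit false
set_option linter.style.haveILetI false
set_option backward.isDefEq.respectTransparency false
set_option maxHeartbeats 1000000

universe u

open CategoryTheory CategoryTheory.Limits AlgebraicGeometry TopologicalSpace IsLocalRing Opposite
open Groth.Agent.Misc15.DivDescent Groth.Agent.SDiv28.CartierPart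

namespace Groth.Agent.Models7

/-- An isomorphism over a nonempty open of the target. -/
def Bir {W X : Scheme.{u}} (g : W ⟶ X) : Prop :=
  ∃ U : X.Opens, (U : Set X).Nonempty ∧ IsIso (g ∣_ U)

theorem Bir.of_isIso {W X : Scheme.{u}} [Nonempty X] (g : W ⟶ X) [IsIso g] : Bir g :=
  ⟨⊤, ⟨Classical.arbitrary X, trivial⟩, inferInstance⟩

/-- A point which is not in a set containing all but one point. -/
theorem eq_of_iso_over_compl {W Z : Scheme.{u}} (b : W ⟶ Z) (z : Z) (hz : IsClosed ({z} : Set Z))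
    [IsIso (b ∣_ (⟨{z}ᶜ, hz.isOpen_compl⟩ : Z.Opens))] {v v' : W} (hv : b v ≠ z) (h : b v = b v') : v = v' := by
  let V : Z.Opens := ⟨{z}ᶜ, hz.isOpen_compl⟩
  have h2 : (b ∣_ V) ⟨v, hv⟩ = (b ∣_ V) ⟨v', show b v' ≠ z from h ▸ hv⟩ :=
    Subtype.ext (((morphismRestrict_base_coe b V _).trans h).trans (morphismRestrict_base_coe b V _).symm)
  exact congrArg Subtype.val ((b ∣_ V).homeomorph.injective h2)

/-- Composing with an isomorphism off a closed point keeps birationality. -/
theorem Bir.comp_of_iso_off_point {W Z Y : Scheme.{u}} [IrreducibleSpace Y] (b : W ⟶ Z) (z : Z)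
    (hz : IsClosed ({z} : Set Z)) [IsIso (b ∣_ (⟨{z}ᶜ, hz.isOpen_compl⟩ : Z.Opens))] (g : Z ⟶ Y) [IsProper g]
    (hg : Bir g) (hY : ¬ IsClosed ({genericPoint Y} : Set Y)) : Bir (b ≫ g) := by
  obtain ⟨U, hU, hiso⟩ := hg
  haveI := hiso
  have hwc : IsClosed ({g z} : Set Y) := by rw [← Set.image_singleton]; exact g.isClosedMap _ hz
  let V : Y.Opens := U ⊓ ⟨{g z}ᶜ, hwc.isOpen_compl⟩
  have hVne : (V : Set Y).Nonempty := ⟨genericPoint Y,
    ((genericPoint_spec Y).mem_open_set_iff U.2).mpr (by simpa using hU), fun h => hY ((show genericPoint Y = g z from h) ▸ hwc)⟩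
  refine ⟨V, hVne, ?_⟩
  haveI : IsIso (g ∣_ V) := isIso_restrict_of_le g inf_le_left
  haveI : IsIso (b ∣_ g ⁻¹ᵁ V) := isIso_restrict_of_le b (U := ⟨{z}ᶜ, hz.isOpen_compl⟩)
    fun x hx h => hx.2 (show g x = g z by rw [show x = z from h])
  rw [morphismRestrict_comp]
  infer_instance

/-- Birationality of the first factor. -/
theorem Bir.of_comp {W X Y : Scheme.{u}} [IrreducibleSpace Y] (k : W ⟶ X) (g : X ⟶ Y) (hkg : Bir (k ≫ g))
    (hg : Bir g) : Bir k := by
  obtain ⟨U₀, h₀, hiso₀⟩ := hkg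
  obtain ⟨U₁, h₁, hiso₁⟩ := hg
  haveI := hiso₀
  haveI := hiso₁
  have hη : ∀ U : Y.Opens, (U : Set Y).Nonempty → genericPoint Y ∈ U := fun U hU =>
    ((genericPoint_spec Y).mem_open_set_iff U.2).mpr (by simpa using hU)
  haveI : IsIso (g ∣_ (U₀ ⊓ U₁)) := isIso_restrict_of_le g inf_le_right
  haveI hc : IsIso ((k ≫ g) ∣_ (U₀ ⊓ U₁)) := isIso_restrict_of_le (k ≫ g) inf_le_left
  refine ⟨g ⁻¹ᵁ (U₀ ⊓ U₁), ?_, ?_⟩
  · obtain ⟨⟨x, hx⟩, -⟩ := (g ∣_ (U₀ ⊓ U₁)).homeomorph.surjective ⟨genericPoint Y, hη U₀ h₀, hη U₁ h₁⟩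
    exact ⟨x, hx⟩
  · rw [morphismRestrict_comp] at hc
    exact IsIso.of_isIso_comp_right (k ∣_ g ⁻¹ᵁ (U₀ ⊓ U₁)) (g ∣_ (U₀ ⊓ U₁))

variable {R : Type u} [CommRing R] [IsDomain R] [IsDiscreteValuationRing R]

/-- A proper birational modification of an arithmetic surface by a regular surface is an arithmetic surface. -/
theorem isArithSurface_of_modification {W Z : Scheme.{u}} {p : Z ⟶ Spec (CommRingCat.of R)}
    (hZ : ArSurf.IsArithSurface R (Over.mk p)) (b : W ⟶ Z) [IsProper b] (hW : RegSurf W) (hb : Bir b) :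
    ArSurf.IsArithSurface R (Over.mk (b ≫ p)) := by
  obtain ⟨hp, hS⟩ := regSurf_of_isArithSurface hZ
  haveI : IsProper p := hp
  haveI : IsIntegral Z := hS.integral
  haveI := hW.integral
  haveI : IsIntegral (Over.mk p).left := hS.integral
  haveI : IsIntegral (Over.mk (b ≫ p)).left := hW.integral
  haveI : Flat (Over.mk p).hom := hZ.2.2.2.1
  haveI : IsProper (Over.mk (b ≫ p)).hom := inferInstanceAs (IsProper (b ≫ p))
  haveI : IsLocallyNoetherian Z := hS.noeth
  obtain ⟨U, hU, hiso⟩ := hb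
  haveI := hiso
  obtain ⟨hgen, -⟩ := Coherent.birational_of_isIso_morphismRestrict b U hU
  haveI := surjective_of_gen b hgen
  have hdim : topologicalKrullDim W = 2 := le_antisymm hW.dim (hZ.2.2.1.ge.trans
    (CommAlg6.topologicalKrullDim_le_of_specializingMap (f := b.base) b.surjective b.isClosedMap.specializingMap))
  haveI : Flat (Over.mk (b ≫ p)).hom := by
    refine Hurwitz24.flat_of_dominant (b ≫ p) ?_ ?_ fun z => ?_
    · rw [Scheme.Hom.comp_apply, hgen]
      exact (Inters29.hom_genericPoint R (X := Over.mk p) (genericPoint Z)).trans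
        (((PrimeSpectrum.le_iff_specializes (⟨⊥, Ideal.isPrime_bot⟩ : PrimeSpectrum R) _).1 bot_le).antisymm
          (genericPoint_specializes _)).eq
    · exact le_of_eq ((PrimeSpectrum.topologicalKrullDim_eq_ringKrullDim (R := R)).trans
        (IsDiscreteValuationRing.ringKrullDim_eq_one R))
    · haveI : IsIntegrallyClosed (Localization.AtPrime z.asIdeal) :=
        isIntegrallyClosed_of_isLocalization _ z.asIdeal.primeCompl z.asIdeal.primeCompl_le_nonZeroDivisors
      exact IsIntegrallyClosed.of_equiv (Spec.stalkIso (CommRingCat.of R) z).commRingCatIsoToRingEquiv.symm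
  exact ⟨hW.regular, inferInstance, hdim, inferInstance, isProjectiveOver_of_regular (X := Over.mk (b ≫ p)) hW.regular hdim⟩

theorem hom_closed_of_isProper {Z : Scheme.{u}} (p : Z ⟶ Spec (CommRingCat.of R)) [IsProper p] {z : Z}
    (hz : IsClosed ({z} : Set Z)) : p z = closedPoint R := by
  have h' := p.isClosedMap _ hz
  rw [Set.image_singleton] at h'
  exact PrimeSpectrum.ext (eq_maximalIdeal ((PrimeSpectrum.isClosed_singleton_iff_isMaximal _).1 h'))

/-- The exceptional vertical curve of a point blow-up of an arithmetic surface. -/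
theorem exists_exc_fibre_comp {Z Y : Scheme.{u}} {p : Z ⟶ Spec (CommRingCat.of R)}
    (hZ : ArSurf.IsArithSurface R (Over.mk p)) (z : Z) (hz : IsClosed ({z} : Set Z))
    (hz0 : ∀ [IrreducibleSpace Z], z ≠ genericPoint Z) (b : Y ⟶ Z)
    (hb : BlowUp.IsBlowUp b (Scheme.IdealSheafData.vanishingIdeal ⟨{z}, hz⟩)) (hiso : ¬ IsIso b) :
    ∃ F : ArSurf.VertComp R (Over.mk (b ≫ p)), Models.IsExcCurve F.ι ∧
      Set.range (F.ι.base : F.curve.left → Y) = b.base ⁻¹' {z} := by
  obtain ⟨hp, hS⟩ := regSurf_of_isArithSurface hZ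
  haveI : IsProper p := hp
  haveI : IsIntegral Z := hS.integral
  haveI : IsLocallyNoetherian Z := hS.noeth
  haveI : CompactSpace Z := hS.compact
  haveI : Flat (Over.mk p).hom := hZ.2.2.2.1
  haveI : IsIntegral (Over.mk p).left := hS.integral
  have hz1 : z ≠ genericPoint Z := hz0
  have hpη : p (genericPoint Z) ≠ closedPoint R := genericPoint_ne_closedPoint (Y := Over.mk p)
  have hS' : RegSurf Z := hS
  obtain ⟨hY, hbp, hbiso⟩ := hS'.pointBlowUp z hz hz1 b hb
  haveI := hbp
  haveI := hbiso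
  haveI := hY.integral
  haveI := hY.noeth
  haveI := hY.compact
  obtain ⟨E, ι, hι, hE, hrange, -, -⟩ := exists_excCurve_pointBlowUp R p hS' hpη z hz hz1
    (ringKrullDim_eq_two_of_not_isIso hS' z hz hz1 b hb hiso) b hb
  haveI := hι
  haveI := isIntegral_of_isExcCurve hE
  let x : (Over.mk (b ≫ p)).left := ι (genericPoint E)
  haveI : IsIntegral (Over.mk (b ≫ p)).left := inferInstanceAs (IsIntegral Y)
  haveI : QuasiCompact (Over.mk (b ≫ p)).hom := inferInstanceAs (QuasiCompact (b ≫ p))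
  have hbx : b x = z := hrange.le ⟨_, rfl⟩
  have hcl : closure {x} = Set.range ι.base := by
    have h := ((genericPoint_spec E).image ι.continuous).def
    rw [Set.image_univ, ι.isClosedEmbedding.isClosed_range.closure_eq] at h
    exact h
  obtain ⟨hgb, hbb⟩ := Coherent.birational_of_isIso_morphismRestrict b (⟨{z}ᶜ, hz.isOpen_compl⟩ : Z.Opens)
    ⟨genericPoint Z, Ne.symm hz1⟩
  have hxc : ¬ IsClosed ({x} : Set (Over.mk (b ≫ p)).left) := by
    intro hc
    apply hiso
    haveI : IsIso (b.stalkMap (genericPoint Y)) := (ConcreteCategory.isIso_iff_bijective _).2 hbb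
    haveI : IsIso (b ∣_ ⊤) := isIso_morphismRestrict_of_finite_fibres b
      (Coherent.isIso_app_of_birational b hS'.isNormal hgb inferInstance) ⊤ fun w _ => by
      by_cases hw : w = z
      · subst hw
        rw [← hrange, ← hcl, hc.closure_eq]
        exact Set.finite_singleton _
      · refine Set.Subsingleton.finite fun a ha a' ha' => ?_
        exact eq_of_iso_over_compl b z hz (show b a ≠ z by rw [show b a = w from ha]; exact hw)
          ((show b a = w from ha).trans (show b a' = w from ha').symm)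
    exact isIso_of_restrict_top b
  obtain ⟨F, hF⟩ := exists_vertComp R (X := Over.mk (b ≫ p)) hY.dim
    (show (b ≫ p) (genericPoint Y) ≠ closedPoint R by rw [Scheme.Hom.comp_apply, hgb]; exact hpη)
    (show (b ≫ p) x = closedPoint R by rw [Scheme.Hom.comp_apply, hbx]; exact hom_closed_of_isProper p hz) hxc
  haveI : IsClosedImmersion (show F.curve.left ⟶ Y from F.ι) := F.isClosedImmersion
  refine ⟨F, isExcCurve_of_range_eq ι (show F.curve.left ⟶ Y from F.ι) (hcl.symm.trans hF.symm) hE, ?_⟩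
  exact (hF.trans hcl).trans hrange

/-- An exceptional curve over an open where a morphism of surfaces is an isomorphism descends. -/
theorem exists_exc_of_iso_open {Y Z : Scheme.{u}} {q : Z ⟶ Spec (CommRingCat.of R)} [IsIntegral Z]
    [IsLocallyNoetherian Z] (b : Y ⟶ Z) [IsProper b] [IsIntegral Y] (V : Z.Opens) [IsIso (b ∣_ V)]
    (E : ArSurf.VertComp R (Over.mk (b ≫ q))) (hE : Models.IsExcCurve E.ι)
    (hsub : Set.range (E.ι.base : E.curve.left → Y) ⊆ ((b ⁻¹ᵁ V : Y.Opens) : Set Y)) :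
    ∃ Γ : ArSurf.VertComp R (Over.mk q), Models.IsExcCurve Γ.ι ∧
      Set.range (Γ.ι.base : Γ.curve.left → Z) = b.base '' Set.range (E.ι.base : E.curve.left → Y) := by
  let ι : E.curve.left ⟶ Y := E.ι
  haveI : IsClosedImmersion ι := E.isClosedImmersion
  obtain ⟨hcl, hexc⟩ := isExcCurve_comp_of_isIso_over b V ι hsub hE
  refine ⟨{ curve := E.curve, ι := ι ≫ b, isClosedImmersion := hcl, isIntegral := E.isIntegral,
            dim_eq := E.dim_eq, w := ?_ }, hexc, ?_⟩
  · show (ι ≫ b) ≫ q = _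
    rw [Category.assoc]; exact E.w
  · show Set.range (ι ≫ b).base = _
    rw [Scheme.Hom.comp_base, TopCat.coe_comp, Set.range_comp]
    rfl

variable {Y : Over (Spec (CommRingCat.of R))} [IsIntegral Y.left]
  (hnor : ∀ y : Y.left, IsIntegrallyClosed (Y.left.presheaf.stalk y))
  (hdimY : topologicalKrullDim Y.left = 2) [Flat Y.hom] (hprojY : Neron.IsProjectiveOver R Y)

include hdimY in
omit [IsDomain R] [IsDiscreteValuationRing R] [Flat Y.hom] in
theorem not_isClosed_generic : ¬ IsClosed ({genericPoint Y.left} : Set Y.left) := by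
  intro hc
  have huniv : ∀ y : Y.left, y = genericPoint Y.left := fun y => (genericPoint_specializes y).mem_closed hc rfl
  haveI : Subsingleton Y.left := ⟨fun a b => (huniv a).trans (huniv b).symm⟩
  haveI : DiscreteTopology Y.left := inferInstance
  have h := topologicalKrullDim_zero_of_discreteTopology Y.left
  rw [hdimY] at h
  exact absurd h (by decide)

include hnor hdimY hprojY

/-- Two exceptional curves contracted to the same point do not meet. -/
theorem range_eq_of_exc_contracted_meet {X : Over (Spec (CommRingCat.of R))} (hX : ArSurf.IsArithSurface R X)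
    (f : X ⟶ Y) (hf : Bir f.left) (E F : ArSurf.VertComp R X) (hE : Models.IsExcCurve E.ι)
    (hF : Models.IsExcCurve F.ι) (y : Y.left) (hy : IsClosed ({y} : Set Y.left))
    (hEy : Set.range ((E.ι ≫ f.left).base : E.curve.left → Y.left) = {y})
    (hFy : Set.range ((F.ι ≫ f.left).base : F.curve.left → Y.left) = {y})
    (hmeet : ¬ Disjoint (Set.range E.ι.base) (Set.range F.ι.base)) :
    Set.range E.ι.base = Set.range F.ι.base := by
  by_contra hne
  haveI := hX.2.1
  haveI := hX.2.2.2.1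
  haveI := Inters29.isProper_of_isArithSurface R hX
  haveI := Inters29.isLocallyNoetherian_of_isProper R (X := X)
  haveI := Inters29.isProper_curve R E
  haveI := Inters29.isProper_curve R F
  obtain ⟨n, D, hD⟩ := Inters29.exists_componentList R hX.2.2.1
  choose M hM using fun j => Inters29.exists_inverse_ker R hX.1
    (Inters29.isEffCartier_listComp R D hX.1 hD j)
  obtain ⟨LE, hLE⟩ := Inters29.exists_inverse_ker R hX.1 hE.1
  obtain ⟨LF, hLF⟩ := Inters29.exists_inverse_ker R hX.1 hF.1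
  obtain ⟨i, hi⟩ := Inters29.exists_range_eq R hX.1 hX.2.2.1.le D hD E
  obtain ⟨j, hj⟩ := Inters29.exists_range_eq R hX.1 hX.2.2.1.le D hD F
  have hij : i ≠ j := fun h => hne (hi.trans (h ▸ hj.symm))
  have htr := Inters29.inter_eq_listInter R hX.1 hX.2.2.1.le D hD M hM
  have hEF : ArSurf.inter R X LF E = ArSurf.inter R X LE F := by
    rw [htr E F LF hLF i j hi hj, htr F E LE hLE j i hj hi, Inters29.inter_symm_of_list R hX.1 D hD M hM i j]
  have hpos : 0 < ArSurf.inter R X LF E := by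
    rw [htr E F LF hLF i j hi hj]
    obtain ⟨h0, h1⟩ := Inters29.inter_offDiag R hX.1 D hD M hM hij
    refine lt_of_le_of_ne h0 fun h => hmeet ?_
    rw [hi, hj]
    exact h1.1 h.symm
  obtain ⟨-, hEE⟩ := of_isExcCurve R E hE hLE
  obtain ⟨-, hFF⟩ := of_isExcCurve R F hF hLF
  have hwE : (Models.wdeg R X E : ℤ) ≤ ArSurf.inter R X LF E :=
    Int.le_of_dvd hpos (wdeg_dvd_inter R E LF)
  have hwF : (Models.wdeg R X F : ℤ) ≤ ArSurf.inter R X LE F :=
    Int.le_of_dvd (hEF ▸ hpos) (wdeg_dvd_inter R F LE)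
  have h := S7907.result R X hX Y hnor hdimY hprojY f hf y hy ![E, F]
    (fun a c hac => by fin_cases a <;> fin_cases c <;> first | rfl | exact absurd hac hne | exact absurd hac (Ne.symm hne))
    (fun a => by fin_cases a <;> assumption) ![LE, LF] (fun a => by fin_cases a <;> assumption) ![1, 1]
    (fun h => one_ne_zero (congrFun h 0))
  simp [Fintype.sum_prod_type, Fin.sum_univ_two] at h
  omega

/-- An exceptional curve contracted below, but not by a sequence of point blow-ups, gives one on the target. -/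
theorem exists_exc_of_ptSeq_rel : ∀ {W X : Scheme.{u}} {k : W ⟶ X}, PtSeq k →
    ∀ {p : X ⟶ Spec (CommRingCat.of R)}, ArSurf.IsArithSurface R (Over.mk p) →
      ∀ g : X ⟶ Y.left, g ≫ Y.hom = p → Bir g →
        (ArSurf.IsArithSurface R (Over.mk (k ≫ p)) ∧ IsProper k ∧ Bir (k ≫ g)) ∧
        ∀ E : ArSurf.VertComp R (Over.mk (k ≫ p)), Models.IsExcCurve E.ι →
          ((k ≫ g).base '' Set.range (E.ι.base : E.curve.left → W)).Subsingleton →
          ¬ (k.base '' Set.range (E.ι.base : E.curve.left → W)).Subsingleton →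
          ∃ Γ : ArSurf.VertComp R (Over.mk p), Models.IsExcCurve Γ.ι ∧
            (g.base '' Set.range (Γ.ι.base : Γ.curve.left → X)).Subsingleton := by
  haveI : IsProper Y.hom := isProper_of_projective hprojY
  haveI : IsLocallyNoetherian Y.left := LocallyOfFiniteType.isLocallyNoetherian Y.hom
  intro W X k hk
  induction hk with
  | @iso Y' X' e =>
    intro p hX g hg hbir
    obtain ⟨hp, hS⟩ := regSurf_of_isArithSurface hX
    haveI : IsProper p := hp
    haveI : IsIntegral X' := hS.integral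
    haveI : IsLocallyNoetherian X' := hS.noeth
    haveI : Nonempty Y' := ⟨e.inv (genericPoint X')⟩
    haveI : IsIntegral Y' := isIntegral_of_isOpenImmersion e.hom
    have hS' : RegSurf Y' := by
      refine ⟨inferInstance, LocallyOfFiniteType.isLocallyNoetherian e.hom,
        haveI : CompactSpace X' := hS.compact; e.inv.homeomorph.compactSpace, fun y => ?_, ?_⟩
      · haveI : IsRegularLocalRing (X'.presheaf.stalk (e.hom y)) := hS.regular (e.hom y)
        exact IsRegularLocalRing.of_ringEquiv (R := X'.presheaf.stalk (e.hom y))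
          (asIso (e.hom.stalkMap y)).commRingCatIsoToRingEquiv
      · exact (e.hom.homeomorph.isHomeomorph.topologicalKrullDim_eq _).le.trans hS.dim
    haveI : IsIso (e.hom ∣_ ⊤) := inferInstance
    refine ⟨⟨isArithSurface_of_modification hX e.hom hS' (Bir.of_isIso e.hom), inferInstance, ?_⟩, fun E hE hc _ => ?_⟩
    · obtain ⟨U, hU, hiso⟩ := hbir
      haveI := hiso
      refine ⟨U, hU, ?_⟩
      rw [morphismRestrict_comp]; infer_instance
    · obtain ⟨Γ, hΓ, hr⟩ := exists_exc_of_iso_open e.hom ⊤ E hE (fun _ _ => trivial)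
      refine ⟨Γ, hΓ, ?_⟩
      rw [hr, Set.image_image]
      exact hc
  | @step Y' Z' X' b r z hz hz0 hb hr ih =>
    intro p hX g hg hbir
    obtain ⟨⟨hZ, hrp, hbr⟩, hih⟩ := ih hX g hg hbir
    obtain ⟨hp, hSZ⟩ := regSurf_of_isArithSurface hZ
    haveI := hrp
    haveI : IsProper (r ≫ p) := hp
    haveI : IsIntegral Z' := hSZ.integral
    haveI : IsLocallyNoetherian Z' := hSZ.noeth
    have hz1 : z ≠ genericPoint Z' := hz0
    have hSZ' : RegSurf Z' := hSZ
    obtain ⟨hSY, hbp, hiso⟩ := hSZ'.pointBlowUp z hz hz1 b hb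
    haveI := hbp
    haveI := hiso
    haveI := hSY.integral
    have hAY : ArSurf.IsArithSurface R (Over.mk (b ≫ r ≫ p)) :=
      isArithSurface_of_modification hZ b hSY ⟨⟨{z}ᶜ, hz.isOpen_compl⟩, ⟨genericPoint Z', hz1.symm⟩, hiso⟩
    haveI : IsProper (r ≫ g) := by
      haveI : IsProper ((r ≫ g) ≫ Y.hom) := by rw [Category.assoc, hg]; infer_instance
      exact IsProper.of_comp (r ≫ g) Y.hom
    have hbirY : Bir (b ≫ r ≫ g) := Bir.comp_of_iso_off_point b z hz (r ≫ g) hbr (not_isClosed_generic hdimY)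
    refine ⟨⟨by rw [Category.assoc]; exact hAY, inferInstance, by rw [Category.assoc]; exact hbirY⟩,
      fun E hE hc hns => ?_⟩
    let ι : E.curve.left ⟶ Y' := E.ι
    haveI : IsClosedImmersion ι := E.isClosedImmersion
    let E' : ArSurf.VertComp R (Over.mk (b ≫ r ≫ p)) :=
      { curve := E.curve, ι := ι, isClosedImmersion := E.isClosedImmersion, isIntegral := E.isIntegral
        dim_eq := E.dim_eq, w := by show ι ≫ b ≫ r ≫ p = _; rw [← Category.assoc b r p]; exact E.w }
    have push : ∀ (V : Z'.Opens) [IsIso (b ∣_ V)], Set.range ι.base ⊆ ((b ⁻¹ᵁ V : Y'.Opens) : Set Y') →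
        ∃ Γ : ArSurf.VertComp R (Over.mk p), Models.IsExcCurve Γ.ι ∧
          (g.base '' Set.range (Γ.ι.base : Γ.curve.left → X')).Subsingleton := by
      intro V _ hV
      obtain ⟨Δ, hΔ, hr⟩ := exists_exc_of_iso_open b V E' hE hV
      refine hih Δ hΔ ?_ ?_
      · rw [show Set.range (Δ.ι.base : Δ.curve.left → Z') = b.base '' Set.range ι.base from hr, Set.image_image]
        exact hc
      · rw [show Set.range (Δ.ι.base : Δ.curve.left → Z') = b.base '' Set.range ι.base from hr, Set.image_image]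
        intro h
        apply hns
        rw [show (b ≫ r).base = b.base ≫ r.base from Scheme.Hom.comp_base b r, TopCat.coe_comp]
        exact h
    by_cases hbi : IsIso b
    · haveI : IsIso (b ∣_ ⊤) := inferInstance
      exact push ⊤ (fun _ _ => trivial)
    by_cases hmeet : ∃ v ∈ Set.range ι.base, b v = z
    · exfalso
      obtain ⟨v, hv, hvz⟩ := hmeet
      obtain ⟨F, hF, hFr⟩ := exists_exc_fibre_comp hZ z hz hz0 b hb hbi
      let y : Y.left := (r ≫ g) z
      have hy : IsClosed ({y} : Set Y.left) := by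
        rw [← Set.image_singleton]; exact (r ≫ g).isClosedMap _ hz
      have hvy : (b ≫ r ≫ g) v = y := by rw [Scheme.Hom.comp_apply, hvz]
      have hvF : v ∈ Set.range (F.ι.base : F.curve.left → Y') := hFr.ge hvz
      have hFy : Set.range ((F.ι ≫ (b ≫ r ≫ g)).base : F.curve.left → Y.left) = {y} := by
        refine Set.eq_singleton_iff_nonempty_unique_mem.2 ⟨⟨_, genericPoint F.curve.left, rfl⟩, ?_⟩
        rintro _ ⟨a, rfl⟩
        show (r ≫ g) (b (F.ι a)) = (r ≫ g) z
        rw [show b (F.ι a) = z from hFr.le ⟨a, rfl⟩]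
      have hEy : Set.range ((ι ≫ (b ≫ r ≫ g)).base : E.curve.left → Y.left) = {y} := by
        refine Set.eq_singleton_iff_nonempty_unique_mem.2 ⟨⟨_, genericPoint E.curve.left, rfl⟩, ?_⟩
        rintro _ ⟨a, rfl⟩
        rw [← hvy]
        refine hc ⟨ι a, ⟨a, rfl⟩, ?_⟩ ⟨v, hv, ?_⟩ <;> rw [Category.assoc]
        · exact (Scheme.Hom.comp_apply ι _ a).symm
      have heq : Set.range ι.base = Set.range (F.ι.base : F.curve.left → Y') :=
        range_eq_of_exc_contracted_meet hnor hdimY hprojY hAY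
          (Over.homMk (b ≫ r ≫ g) (by show (b ≫ r ≫ g) ≫ Y.hom = b ≫ r ≫ p; simp [hg])) hbirY E' F hE hF y hy hEy hFy
          (Set.not_disjoint_iff.2 ⟨v, hv, hvF⟩)
      apply hns
      have k1 : ∀ w ∈ Set.range ι.base, (b ≫ r).base w = r z := fun w hw => by
        show (b ≫ r) w = r z
        rw [Scheme.Hom.comp_apply, show b w = z from hFr.le (heq.le hw)]
      rintro _ ⟨a, ha, rfl⟩ _ ⟨a', ha', rfl⟩
      exact (k1 a ha).trans (k1 a' ha').symm
    · exact push ⟨{z}ᶜ, hz.isOpen_compl⟩ (fun v hv h => hmeet ⟨v, hv, h⟩)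

/-- A morphism to a desingularization without contracted exceptional curves descends along point blow-ups. -/
theorem exists_desc_rel {X : Scheme.{u}} {p : X ⟶ Spec (CommRingCat.of R)}
    (hX : ArSurf.IsArithSurface R (Over.mk p)) (g : X ⟶ Y.left) (hg : g ≫ Y.hom = p) (hbir : Bir g)
    (hmin : ∀ Γ : ArSurf.VertComp R (Over.mk p), Models.IsExcCurve Γ.ι →
      ¬ (g.base '' Set.range (Γ.ι.base : Γ.curve.left → X)).Subsingleton) :
    ∀ {W X' : Scheme.{u}} {π : W ⟶ X'}, PtSeq π →
      ∀ {q : X' ⟶ Spec (CommRingCat.of R)}, ArSurf.IsArithSurface R (Over.mk q) →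
        ∀ g' : X' ⟶ Y.left, g' ≫ Y.hom = q → Bir g' →
          ∀ k : W ⟶ X, k ≫ g = π ≫ g' → ∃ h : X' ⟶ X, π ≫ h = k ∧ h ≫ g = g' := by
  haveI : IsProper Y.hom := isProper_of_projective hprojY
  haveI : IsLocallyNoetherian Y.left := LocallyOfFiniteType.isLocallyNoetherian Y.hom
  haveI : Y.left.IsSeparated := ⟨by rw [← terminal.comp_from Y.hom]; infer_instance⟩
  obtain ⟨hpp, hSX⟩ := regSurf_of_isArithSurface hX
  haveI : IsProper p := hpp
  haveI : X.IsSeparated := ⟨by
    rw [show terminal.from X = p ≫ terminal.from _ from terminal.hom_ext _ _]; infer_instance⟩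
  intro W X' π hπ
  induction hπ with
  | @iso W' X'' e =>
    intro q hq g' hg' hb' k hk
    exact ⟨e.inv ≫ k, e.hom_inv_id_assoc k, by rw [Category.assoc, hk, e.inv_hom_id_assoc]⟩
  | @step W' Z' X'' b r z hz hz0 hb hr ih =>
    intro q hq g' hg' hb' k hk
    obtain ⟨⟨hZ, hrp, hbrg⟩, -⟩ := exists_exc_of_ptSeq_rel hnor hdimY hprojY hr hq g' hg' hb'
    obtain ⟨hp, hSZ⟩ := regSurf_of_isArithSurface hZ
    haveI : IsProper (r ≫ q) := hp
    haveI : IsIntegral Z' := hSZ.integral
    haveI : IsLocallyNoetherian Z' := hSZ.noeth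
    have hz1 : z ≠ genericPoint Z' := hz0
    have hSZ' : RegSurf Z' := hSZ
    obtain ⟨hWs, hbp, hiso⟩ := hSZ'.pointBlowUp z hz hz1 b hb
    haveI := hbp
    haveI := hiso
    haveI := hWs.integral
    haveI := hrp
    by_cases hbi : IsIso b
    · obtain ⟨h, hh, hhg⟩ := ih hq g' hg' hb' (inv b ≫ k) (by
        rw [Category.assoc, hk, Category.assoc, IsIso.inv_hom_id_assoc])
      exact ⟨h, by rw [Category.assoc, hh, IsIso.hom_inv_id_assoc], hhg⟩
    have hkp : k ≫ p = b ≫ r ≫ q := by rw [← hg, reassoc_of% hk, hg']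
    haveI : IsProper k := by
      haveI : IsProper (k ≫ p) := by rw [hkp]; infer_instance
      exact IsProper.of_comp k p
    haveI : IsProper (r ≫ g') := by
      haveI : IsProper ((r ≫ g') ≫ Y.hom) := by rw [Category.assoc, hg']; infer_instance
      exact IsProper.of_comp (r ≫ g') Y.hom
    have hkg : Bir (k ≫ g) := by
      rw [hk, Category.assoc]
      exact Bir.comp_of_iso_off_point b z hz (r ≫ g') hbrg (not_isClosed_generic hdimY)
    obtain ⟨U, hU, hUi⟩ := Bir.of_comp k g hkg hbir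
    have hkseq : PtSeq k := PtSeq.of_birational k hWs hSX U hU hUi
    obtain ⟨F, hF, hFr⟩ := exists_exc_fibre_comp hZ z hz hz0 b hb hbi
    let ι : F.curve.left ⟶ W' := F.ι
    let F' : ArSurf.VertComp R (Over.mk (k ≫ p)) :=
      { curve := F.curve, ι := ι, isClosedImmersion := F.isClosedImmersion, isIntegral := F.isIntegral
        dim_eq := F.dim_eq, w := by show ι ≫ k ≫ p = _; rw [hkp]; exact F.w }
    have hsub : (k.base '' Set.range ι.base).Subsingleton := by
      by_contra hns
      obtain ⟨Γ, hΓ, hΓc⟩ := (exists_exc_of_ptSeq_rel hnor hdimY hprojY hkseq hX g hg hbir).2 F' hF (by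
        rintro _ ⟨a, ha, rfl⟩ _ ⟨a', ha', rfl⟩
        show (k ≫ g) a = (k ≫ g) a'
        rw [hk, Scheme.Hom.comp_apply, Scheme.Hom.comp_apply, Scheme.Hom.comp_apply, Scheme.Hom.comp_apply,
          show b a = z from hFr.le ha, show b a' = z from hFr.le ha']) hns
      exact hmin Γ hΓ hΓc
    obtain ⟨hgen, hbij⟩ := Coherent.birational_of_isIso_morphismRestrict b (⟨{z}ᶜ, hz.isOpen_compl⟩ : Z'.Opens)
      ⟨genericPoint Z', hz1.symm⟩
    obtain ⟨k', hk', -⟩ := exists_desc b hSZ'.isNormal hgen ((ConcreteCategory.isIso_iff_bijective _).2 hbij) k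
      (fun y => by
        by_cases hy : y = z
        · subst hy
          rw [← show Set.range ι.base = _ from hFr]; exact hsub
        · refine Set.Subsingleton.image (fun a ha a' ha' => ?_) _
          exact eq_of_iso_over_compl b z hz (show b a ≠ z by rw [show b a = y from ha]; exact hy)
            ((show b a = y from ha).trans (show b a' = y from ha').symm))
    haveI := surjective_of_gen b hgen
    have hk'g : k' ≫ g = r ≫ g' :=
      ext_of_isDominant_of_isSeparated (terminal.from _) (terminal.hom_ext _ _) b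
        (by rw [reassoc_of% hk', hk, Category.assoc])
    obtain ⟨h, hh, hhg⟩ := ih hq g' hg' hb' k' hk'g
    exact ⟨h, by rw [Category.assoc, hh, hk'], hhg⟩

/-- A desingularization without contracted exceptional curves is minimal. -/
theorem existsUnique_factor_desing {X X' : Over (Spec (CommRingCat.of R))}
    (hX : ArSurf.IsArithSurface R X) (g : X ⟶ Y) (hbir : Bir g.left)
    (hmin : ∀ Γ : ArSurf.VertComp R X, Models.IsExcCurve Γ.ι →
      ¬ (g.left.base '' Set.range Γ.ι.base).Subsingleton)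
    (hX' : ArSurf.IsArithSurface R X') (g' : X' ⟶ Y) (hbir' : Bir g'.left) :
    ∃! h : X' ⟶ X, h ≫ g = g' := by
  obtain ⟨hp, hS⟩ := regSurf_of_isArithSurface hX
  obtain ⟨hp', hS'⟩ := regSurf_of_isArithSurface hX'
  haveI := hp
  haveI := hp'
  haveI := hX'.2.1
  haveI : X.left.IsSeparated := ⟨by rw [← terminal.comp_from X.hom]; infer_instance⟩
  obtain ⟨U₀, h₀, hi₀⟩ := id hbir
  obtain ⟨U₁, h₁, hi₁⟩ := id hbir'
  haveI := hi₀
  haveI := hi₁
  have hη : ∀ U : Y.left.Opens, (U : Set Y.left).Nonempty → genericPoint Y.left ∈ U := fun U hU =>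
    ((genericPoint_spec Y.left).mem_open_set_iff U.2).mpr (by simpa using hU)
  let U := U₀ ⊓ U₁
  haveI : IsIso (g.left ∣_ U) := isIso_restrict_of_le g.left inf_le_left
  haveI : IsIso (g'.left ∣_ U) := isIso_restrict_of_le g'.left inf_le_right
  let V : X'.left.Opens := g'.left ⁻¹ᵁ U
  let φ : (V : Scheme.{u}) ⟶ X.left := (g'.left ∣_ U) ≫ inv (g.left ∣_ U) ≫ (g.left ⁻¹ᵁ U).ι
  have hφg : φ ≫ g.left = V.ι ≫ g'.left := by
    simp only [φ, Category.assoc]
    rw [← morphismRestrict_ι g.left U, IsIso.inv_hom_id_assoc, morphismRestrict_ι]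
  have hVne : (V : Set X'.left).Nonempty := by
    obtain ⟨⟨x, hx⟩, -⟩ := (g'.left ∣_ U).homeomorph.surjective ⟨genericPoint Y.left, hη U₀ h₀, hη U₁ h₁⟩
    exact ⟨x, hx⟩
  haveI : IsDominant V.ι := ⟨V.ι.isOpenEmbedding.isOpen_range.dense (by rw [Scheme.Opens.range_ι]; exact hVne)⟩
  obtain ⟨W, π, k, _, hW, hπ, hπp, hkp, hU⟩ := exists_ptSeq_extend hS' X'.hom X.hom V hVne φ
    (by rw [← Over.w g, reassoc_of% hφg, Over.w g'])
  obtain ⟨hgπ, -⟩ := exists_exc_of_ptSeq_rel hnor hdimY hprojY hπ (p := X'.hom) hX' g'.left (Over.w g') hbir'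
  haveI : IsProper Y.hom := isProper_of_projective hprojY
  haveI : Y.left.IsSeparated := ⟨by rw [← terminal.comp_from Y.hom]; infer_instance⟩
  obtain ⟨U₂, h₂, hi₂⟩ := hgπ.2.2
  haveI := hi₂
  have hnV : ((π ⁻¹ᵁ V : W.Opens) : Set W).Nonempty := by
    obtain ⟨⟨w, hw⟩, hwe⟩ := ((π ≫ g'.left) ∣_ U₂).homeomorph.surjective ⟨genericPoint Y.left, hη U₂ h₂⟩
    have he : (π ≫ g'.left) w = genericPoint Y.left :=
      (morphismRestrict_base_coe _ U₂ ⟨w, hw⟩).symm.trans (congrArg Subtype.val hwe)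
    refine ⟨w, ?_⟩
    show g'.left (π w) ∈ U
    rw [← Scheme.Hom.comp_apply, he]
    exact ⟨hη U₀ h₀, hη U₁ h₁⟩
  haveI : IsDominant (π ⁻¹ᵁ V).ι :=
    ⟨(π ⁻¹ᵁ V).ι.isOpenEmbedding.isOpen_range.dense (by rw [Scheme.Opens.range_ι]; exact hnV)⟩
  have hkg : k ≫ g.left = π ≫ g'.left := by
    refine ext_of_isDominant_of_isSeparated (terminal.from _) (terminal.hom_ext _ _) (π ⁻¹ᵁ V).ι ?_
    rw [reassoc_of% hU, hφg, morphismRestrict_ι_assoc]
  obtain ⟨h, -, hhg⟩ := exists_desc_rel hnor hdimY hprojY (p := X.hom) hX g.left (Over.w g) hbir hmin hπ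
    (q := X'.hom) hX' g'.left (Over.w g') hbir' k hkg
  have hhp : h ≫ X.hom = X'.hom := by rw [← Over.w g, reassoc_of% hhg, Over.w g']
  refine ⟨Over.homMk h hhp, Over.OverMorphism.ext hhg, fun h' hh' => Over.OverMorphism.ext ?_⟩
  have hh'g : h'.left ≫ g.left = g'.left := congrArg CommaMorphism.left hh'
  have key : ∀ a : X'.left ⟶ X.left, a ≫ g.left = g'.left → V.ι ≫ a = φ := by
    intro a ha
    have hr : Set.range (V.ι ≫ a).base ⊆ Set.range (g.left ⁻¹ᵁ U).ι.base := by
      rw [Scheme.Opens.range_ι]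
      rintro _ ⟨v, rfl⟩
      show g.left ((V.ι ≫ a) v) ∈ U
      rw [← Scheme.Hom.comp_apply, Category.assoc, ha, Scheme.Hom.comp_apply]
      exact v.2
    let l := IsOpenImmersion.lift (g.left ⁻¹ᵁ U).ι (V.ι ≫ a) hr
    have hl : l ≫ (g.left ⁻¹ᵁ U).ι = V.ι ≫ a := IsOpenImmersion.lift_fac _ _ _
    have hl' : l ≫ (g.left ∣_ U) = g'.left ∣_ U := by
      rw [← cancel_mono U.ι, Category.assoc, morphismRestrict_ι, reassoc_of% hl, ha, morphismRestrict_ι]
    rw [← hl]
    simp only [φ]
    rw [← hl', Category.assoc, IsIso.hom_inv_id_assoc]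
  exact ext_of_isDominant_of_isSeparated (terminal.from _) (terminal.hom_ext _ _) V.ι
    ((key h'.left hh'g).trans (key h hhg).symm)

omit hnor hdimY hprojY [IsIntegral Y.left] [Flat Y.hom] in
/-- A contraction loses a component of the closed fibre. -/
theorem card_components_lt_of_iso_off {X Z : Over (Spec (CommRingCat.of R))} (hX : ArSurf.IsArithSurface R X)
    (b : X ⟶ Z) (z : Z.left) (hz : IsClosed ({z} : Set Z.left))
    (hiso : IsIso (b.left ∣_ (⟨{z}ᶜ, hz.isOpen_compl⟩ : Z.left.Opens))) (E : ArSurf.VertComp R X)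
    (hbE : ∀ a : E.curve.left, b.left (E.ι a) = z)
    {n m : ℕ} (Γ : Fin n → ArSurf.VertComp R X) (hΓ : Models.IsComponentList R X Γ)
    (Δ : Fin m → ArSurf.VertComp R Z) (hΔ : Models.IsComponentList R Z Δ) : m < n := by
  haveI := hX.2.1
  haveI := hX.2.2.2.1
  haveI := Inters29.isProper_of_isArithSurface R hX
  haveI := Inters29.isLocallyNoetherian_of_isProper R (X := X)
  haveI := hiso
  obtain ⟨i₀, hi₀⟩ := Inters29.exists_range_eq R hX.1 hX.2.2.1.le Γ hΓ E
  let gΓ : Fin n → X.left := fun i => (Γ i).ι (genericPoint (Γ i).curve.left)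
  let gΔ : Fin m → Z.left := fun j => (Δ j).ι (genericPoint (Δ j).curve.left)
  have hjz : ∀ j, gΔ j ≠ z := by
    intro j h
    obtain ⟨a, a', hne⟩ := exists_ne_of_dim_one (Δ j).dim_eq
    have := fun a : (Δ j).curve.left =>
      (((genericPoint_specializes a).map (Δ j).ι.continuous).mem_closed hz h : (Δ j).ι a = z)
    exact hne ((Δ j).ι.isClosedEmbedding.injective ((this a).trans (this a').symm))
  have hover : ∀ x, Z.hom (b.left x) = X.hom x := fun x => congrArg (fun φ => φ x) (Over.w b)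
  have key : ∀ j, ∃ i, b.left (gΓ i) = gΔ j := by
    intro j
    obtain ⟨⟨x, hx⟩, hxw⟩ := (b.left ∣_ (⟨{z}ᶜ, hz.isOpen_compl⟩ : Z.left.Opens)).homeomorph.surjective
      (⟨gΔ j, hjz j⟩ : (⟨{z}ᶜ, hz.isOpen_compl⟩ : Z.left.Opens))
    have hbx : b.left x = gΔ j := (morphismRestrict_base_coe b.left _ ⟨x, hx⟩).symm.trans (congrArg Subtype.val hxw)
    have hxs : x ∈ Models.specialFibreSet R X := by
      show X.hom x = closedPoint R
      rw [← hover, hbx]
      exact Inters29.range_subset_specialFibreSet R (Δ j) ⟨_, rfl⟩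
    obtain ⟨i, hi⟩ := Inters29.exists_genPt_specializes R Γ hΓ hxs
    refine ⟨i, Inters29.genPt_maximal R Δ hΔ j ?_ ?_⟩
    · show Z.hom (b.left (gΓ i)) = closedPoint R
      rw [hover]
      exact Inters29.range_subset_specialFibreSet R (Γ i) ⟨_, rfl⟩
    · show b.left (gΓ i) ⤳ gΔ j
      rw [← hbx]
      exact Specializes.map hi b.left.continuous
  choose σ hσ using key
  have hinj : Function.Injective σ := fun j j' h =>
    Inters29.genPt_injective R Δ hΔ (show gΔ j = gΔ j' by rw [← hσ j, ← hσ j', h])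
  have hni : i₀ ∉ Set.range σ := by
    rintro ⟨j, hj⟩
    obtain ⟨a, ha⟩ := hi₀.ge ⟨genericPoint (Γ i₀).curve.left, rfl⟩
    apply hjz j
    rw [← hσ j, hj]
    show b.left ((Γ i₀).ι (genericPoint (Γ i₀).curve.left)) = z
    rw [← ha]
    exact hbE a
  simpa using Fintype.card_lt_of_injective_of_notMem σ hinj hni

omit hnor [Flat Y.hom] in
/-- A desingularization maps to one without contracted exceptional curves. -/
theorem exists_desing_no_exc {X₁ : Over (Spec (CommRingCat.of R))} (hX₁ : ArSurf.IsArithSurface R X₁)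
    (g₁ : X₁ ⟶ Y) (hb₁ : Bir g₁.left) :
    ∃ (Z : Over (Spec (CommRingCat.of R))) (g : Z ⟶ Y), ArSurf.IsArithSurface R Z ∧ Bir g.left ∧
      ∀ Γ : ArSurf.VertComp R Z, Models.IsExcCurve Γ.ι → ¬ (g.left.base '' Set.range Γ.ι.base).Subsingleton := by
  haveI : IsProper Y.hom := isProper_of_projective hprojY
  haveI : Y.left.IsSeparated := ⟨by rw [← terminal.comp_from Y.hom]; infer_instance⟩
  have hlist : ∀ {Z : Over (Spec (CommRingCat.of R))}, ArSurf.IsArithSurface R Z →
      ∃ (n : ℕ) (Γ : Fin n → ArSurf.VertComp R Z), Models.IsComponentList R Z Γ := by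
    intro Z h
    haveI := h.2.1
    haveI := h.2.2.2.1
    haveI := Inters29.isProper_of_isArithSurface R h
    haveI := Inters29.isLocallyNoetherian_of_isProper R (X := Z)
    exact Inters29.exists_componentList R h.2.2.1
  obtain ⟨n, Γ, hΓ⟩ := hlist hX₁
  induction n using Nat.strong_induction_on generalizing X₁ with
  | _ n ih =>
    by_cases hex : ∃ E : ArSurf.VertComp R X₁, Models.IsExcCurve E.ι ∧
        (g₁.left.base '' Set.range E.ι.base).Subsingleton
    · obtain ⟨E, hE, hEc⟩ := hex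
      obtain ⟨k', _, _, _, e, L, he, hL, hself⟩ := exists_excCurve_data hX₁ E hE
      obtain ⟨X₂, c, x, hx, hX₂, hrange, hpre, hiso⟩ := S3254.result R X₁ hX₁ E k' e he L hL hself
      obtain ⟨hp₁, hS₁⟩ := regSurf_of_isArithSurface hX₁
      obtain ⟨hp₂, hS₂⟩ := regSurf_of_isArithSurface hX₂
      haveI := hp₁
      haveI := hp₂
      haveI := hS₁.integral
      haveI := hS₂.integral
      haveI := hS₂.noeth
      haveI : IsProper c.left := by
        haveI : IsProper (c.left ≫ X₂.hom) := by rw [Over.w c]; infer_instance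
        exact IsProper.of_comp c.left X₂.hom
      haveI := hiso
      have hxη : genericPoint X₂.left ≠ x := fun h => not_isClosed_generic (Y := X₂) hX₂.2.2.1 (h ▸ hx)
      obtain ⟨hgen, hbij⟩ := Coherent.birational_of_isIso_morphismRestrict c.left
        (⟨{x}ᶜ, hx.isOpen_compl⟩ : X₂.left.Opens) ⟨genericPoint X₂.left, hxη⟩
      haveI := surjective_of_gen c.left hgen
      obtain ⟨g₂, hg₂, -⟩ := exists_desc c.left hS₂.isNormal hgen ((ConcreteCategory.isIso_iff_bijective _).2 hbij)
        g₁.left (fun w => by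
          by_cases hw : w = x
          · subst hw
            refine hEc.anti (Set.image_mono fun a ha => ?_)
            by_contra hn
            exact hpre.ge hn ha
          · refine Set.Subsingleton.image (fun a ha a' ha' => ?_) _
            exact eq_of_iso_over_compl c.left x hx (show c.left a ≠ x by rw [show c.left a = w from ha]; exact hw)
              ((show c.left a = w from ha).trans (show c.left a' = w from ha').symm))
      have hw₂ : g₂ ≫ Y.hom = X₂.hom :=
        ext_of_isDominant_of_isSeparated (terminal.from _) (terminal.hom_ext _ _) c.left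
          (by rw [reassoc_of% hg₂, Over.w g₁, Over.w c])
      have hb₂ : Bir g₂ := by
        obtain ⟨U₀, h₀, hi₀⟩ := hb₁
        haveI := hi₀
        haveI : IsProper g₂ := by
          haveI : IsProper (g₂ ≫ Y.hom) := by rw [hw₂]; infer_instance
          exact IsProper.of_comp g₂ Y.hom
        have hxc : IsClosed ({g₂ x} : Set Y.left) := by rw [← Set.image_singleton]; exact g₂.isClosedMap _ hx
        let V : Y.left.Opens := U₀ ⊓ ⟨{g₂ x}ᶜ, hxc.isOpen_compl⟩
        refine ⟨V, ⟨genericPoint Y.left, ((genericPoint_spec Y.left).mem_open_set_iff U₀.2).mpr (by simpa using h₀),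
          fun h => not_isClosed_generic hdimY ((show genericPoint Y.left = g₂ x from h) ▸ hxc)⟩, ?_⟩
        haveI hc : IsIso ((c.left ≫ g₂) ∣_ V) := by
          rw [hg₂]; exact isIso_restrict_of_le g₁.left inf_le_left
        rw [morphismRestrict_comp] at hc
        haveI : IsIso (c.left ∣_ g₂ ⁻¹ᵁ V) := isIso_restrict_of_le c.left (U := ⟨{x}ᶜ, hx.isOpen_compl⟩)
          fun a ha h => ha.2 (show g₂ a = g₂ x by rw [show a = x from h])
        exact IsIso.of_isIso_comp_left (c.left ∣_ g₂ ⁻¹ᵁ V) (g₂ ∣_ V)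
      obtain ⟨m, Δ, hΔ⟩ := hlist hX₂
      exact ih m (card_components_lt_of_iso_off hX₁ c x hx hiso E
        (fun a => hrange.le ⟨a, rfl⟩) Γ hΓ Δ hΔ) hX₂ (Over.homMk g₂ hw₂) hb₂ Δ hΔ
    · push Not at hex
      exact ⟨X₁, g₁, hX₁, hb₁, fun Γ h => (hex Γ h).not_subsingleton⟩

end Groth.Agent.Models7
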