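import Groth.Agent.Clifford24.Nodal.Crit
import Groth.Agent.Models7.ExcTransfer
import Groth.Agent.Models7.ExcOfBlowUp
import Groth.Agent.CAlgH3.RegularLocal
import Groth.Agent.EGA41Lib.FieldSeparableSmooth
import Groth.Agent.S7615
import Groth.Agent.MeroLib.Torsion
import Groth.Agent.DimLib.ProjDim
import Groth.Agent.NodeLib7.ClosedSub
import Groth.Prelude.Def_ModelsG

/-!
# Contractions of nodal families
-/

set_option autoImplicit false
set_option backward.isDefEq.respectTransparency false
set_option linter.style.haveILetI false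

universe u

open CategoryTheory CategoryTheory.Limits AlgebraicGeometry IsLocalRing
open Groth.Agent.Clifford24.Nodal

namespace Groth.Agent.Models7.NodalContract

/-- A uniformiser of the local ring upstairs is not in the square of the maximal ideal downstairs. -/
theorem notMem_sq {A B : Type u} [CommRing A] [CommRing B] [IsLocalRing A] [IsLocalRing B] (φ : A →+* B)
    [IsLocalHom φ] (t : A) (hm : maximalIdeal B = Ideal.span {φ t}) (h0 : φ t ≠ 0) :
    t ∈ maximalIdeal A ∧ t ∉ maximalIdeal A ^ 2 := by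
  have hmem : φ t ∈ maximalIdeal B := hm ▸ Ideal.mem_span_singleton_self _
  refine ⟨fun h => (mem_maximalIdeal _).1 hmem (h.map φ), fun h => ?_⟩
  have hle : (maximalIdeal A ^ 2).map φ ≤ maximalIdeal B ^ 2 := by
    rw [Ideal.map_pow]
    refine Ideal.pow_right_mono (Ideal.map_le_iff_le_comap.2 fun a ha => ?_) 2
    exact (mem_maximalIdeal (φ a)).2 fun hu => (mem_maximalIdeal a).1 ha (isUnit_of_map_unit φ a hu)
  have h2 := hle (Ideal.mem_map_of_mem φ h)
  rw [hm, Ideal.span_singleton_pow, Ideal.mem_span_singleton] at h2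
  obtain ⟨c, hc⟩ := h2
  have h3 : φ t * (1 - φ t * c) = 0 := by
    rw [mul_sub, mul_one, ← mul_assoc, ← pow_two, ← hc, sub_self]
  have hu : IsUnit (1 - φ t * c) := IsLocalRing.notMem_maximalIdeal.1 fun hm' =>
    (maximalIdeal.isMaximal B).ne_top ((Ideal.eq_top_iff_one _).2 (by
      simpa using add_mem hm' (Ideal.mul_mem_right c _ hmem)))
  exact h0 (hu.mul_left_eq_zero.1 h3)

/-- The quotient of a two-dimensional regular ring by an element outside the square of the maximal ideal. -/
theorem regular_quotient {A : Type u} [CommRing A] [IsRegularLocalRing A] (h2 : ringKrullDim A = 2) {t : A}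
    (ht : t ∈ maximalIdeal A) (ht2 : t ∉ maximalIdeal A ^ 2) :
    IsRegularLocalRing (A ⧸ Ideal.span {t}) ∧ ringKrullDim (A ⧸ Ideal.span {t}) = 1 := by
  obtain ⟨h, hd⟩ := CAlgH3.regular_quotient_of_notMem_sq ht ht2
  refine ⟨h, ?_⟩
  haveI := h
  have h1 := (isRegularLocalRing_iff (R := A)).1 inferInstance
  have h' := (isRegularLocalRing_iff (R := A ⧸ Ideal.span {t})).1 inferInstance
  rw [h2] at h1
  rw [← h'] at hd ⊢
  norm_cast at h1 hd ⊢
  omega

/-- The flatness of a regular ring over a discrete valuation ring in which the parameter survives. -/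
theorem flat_of_param {O A : Type u} [CommRing O] [IsDomain O] [IsLocalRing O] [IsPrincipalIdealRing O] [CommRing A]
    [IsDomain A] (φ : O →+* A) (t : O) (hm : maximalIdeal O = Ideal.span {t}) (ht : φ t ≠ 0) : φ.Flat := by
  have hinj : Function.Injective φ := by
    rw [RingHom.injective_iff_ker_eq_bot]
    by_contra hne
    haveI := RingHom.ker_isPrime φ
    have hmax : (RingHom.ker φ).IsMaximal := IsPrime.to_maximal_ideal hne
    have := IsLocalRing.eq_maximalIdeal hmax
    exact ht (RingHom.mem_ker.1 (this ▸ hm ▸ Ideal.mem_span_singleton_self t))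
  letI := φ.toAlgebra
  haveI : FaithfulSMul O A := (faithfulSMul_iff_algebraMap_injective O A).2 hinj
  exact RingHom.flat_algebraMap_iff.2 inferInstance

section field

variable (k : Type u) [Field k]

attribute [local instance] Curv2.stalkAlgebra

/-- A morphism over a field is linear on local rings. -/
theorem stalkMap_algebraMap {Z W : Scheme.{u}} [Z.Over (Spec (CommRingCat.of k))] [W.Over (Spec (CommRingCat.of k))]
    (g : Z ⟶ W) (hg : g ≫ (W ↘ Spec (CommRingCat.of k)) = Z ↘ Spec (CommRingCat.of k)) (z : Z) (c : k) :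
    g.stalkMap z (algebraMap k (W.presheaf.stalk (g z)) c) = algebraMap k (Z.presheaf.stalk z) c := by
  have h3 : CommRingCat.ofHom (algebraMap k (W.presheaf.stalk (g z))) ≫ g.stalkMap z =
      CommRingCat.ofHom (algebraMap k (Z.presheaf.stalk z)) := by
    apply Spec.map_injective
    rw [Spec.map_comp, VarietyLib.specMap_stalkAlgebra, VarietyLib.specMap_stalkAlgebra,
      Scheme.SpecMap_stalkMap_fromSpecStalk_assoc]
    exact congrArg (Z.fromSpecStalk z ≫ ·) hg
  exact ConcreteCategory.congr_hom h3 c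

/-- A smooth point gives a formally smooth local ring. -/
theorem formallySmooth_stalk {Z : Scheme.{u}} [Z.Over (Spec (CommRingCat.of k))] (z : Z)
    (h : ∃ U : Z.Opens, z ∈ U ∧ Smooth (U.ι ≫ (Z ↘ Spec (CommRingCat.of k)))) :
    Algebra.FormallySmooth k (Z.presheaf.stalk z) := by
  let q := Z ↘ Spec (CommRingCat.of k)
  obtain ⟨U, hz, hU⟩ := h
  haveI := hU
  have h2 : (q.stalkMap z).hom.FormallySmooth := SmoothLib.formallySmooth_stalkMap_of_nhd q hz
  let w : PrimeSpectrum k := q.base z
  let α : CommRingCat.of k ⟶ (Spec (CommRingCat.of k)).presheaf.stalk (q.base z) :=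
    StructureSheaf.toStalk (CommRingCat.of k) (q.base z)
  have hα : α ≫ q.stalkMap z = CommRingCat.ofHom (algebraMap k (Z.presheaf.stalk z)) := by
    refine Spec.map_injective ?_
    rw [Spec.map_comp, VarietyLib.specMap_stalkAlgebra]
    refine Eq.trans ?_ (Scheme.SpecMap_stalkMap_fromSpecStalk q (x := z))
    exact congrArg (Spec.map (q.stalkMap z) ≫ ·) (Spec.fromSpecStalk_eq' (R := CommRingCat.of k) (x := q.base z)).symm
  haveI : IsIso α := by
    rw [ConcreteCategory.isIso_iff_bijective]
    letI : Algebra k ((Spec (CommRingCat.of k)).presheaf.stalk (q.base z)) := α.hom.toAlgebra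
    haveI : IsLocalization.AtPrime ((Spec (CommRingCat.of k)).presheaf.stalk (q.base z)) w.asIdeal :=
      StructureSheaf.IsLocalization.to_stalk _ w
    exact IsField.localization_map_bijective (M := w.asIdeal.primeCompl) (fun h0 => h0 w.asIdeal.zero_mem)
      (Field.toIsField k)
  have h3 := (RingHom.FormallySmooth.respectsIso.cancel_left_isIso α (q.stalkMap z)).2 h2
  rw [← CommRingCat.hom_comp, hα] at h3
  exact RingHom.formallySmooth_algebraMap.1 h3

/-- A finite field extension inside a formally smooth one is separable, and so formally smooth. -/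
theorem formallySmooth_residue {L : Type u} [Field L] [Algebra k L] [Algebra.FormallySmooth k L]
    {F : Type u} [Field F] [Algebra k F] [Module.Finite k F] (ψ : F →ₐ[k] L) : Algebra.FormallySmooth k F := by
  haveI := (EGA41Lib.formallySmooth_iff_isGeometricallyReduced_field k L).1 inferInstance
  haveI := Algebra.IsGeometricallyReduced.of_injective ψ ψ.toRingHom.injective
  exact (EGA41Lib.formallySmooth_iff_isGeometricallyReduced_field k F).2 inferInstance

/-- A closed point with regular local ring below a smooth generic point is smooth. -/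
theorem formallySmooth_of_below {Z W : Scheme.{u}} [Z.Over (Spec (CommRingCat.of k))] [W.Over (Spec (CommRingCat.of k))]
    [LocallyOfFiniteType (W ↘ Spec (CommRingCat.of k))]
    (g : Z ⟶ W) (hg : g ≫ (W ↘ Spec (CommRingCat.of k)) = Z ↘ Spec (CommRingCat.of k)) (z : Z)
    (hz : IsField (Z.presheaf.stalk z)) (hs : Algebra.FormallySmooth k (Z.presheaf.stalk z))
    (hcl : IsClosed ({g z} : Set W)) [IsRegularLocalRing (W.presheaf.stalk (g z))]
    :
    ((W ↘ Spec (CommRingCat.of k)).stalkMap (g z)).hom.FormallySmooth := by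
  letI := hz.toField
  haveI := (NodeLib7.isClosed_iff_finite k W (g z)).1 hcl
  let φ : W.presheaf.stalk (g z) →+* Z.presheaf.stalk z := (g.stalkMap z).hom
  have hker : ∀ a ∈ maximalIdeal (W.presheaf.stalk (g z)), φ a = 0 := fun a ha => by
    by_contra h
    exact (mem_maximalIdeal _).1 ha (isUnit_of_map_unit φ a (isUnit_iff_ne_zero.2 h))
  let ψ : ResidueField (W.presheaf.stalk (g z)) →ₐ[k] Z.presheaf.stalk z :=
    { Ideal.Quotient.lift (maximalIdeal (W.presheaf.stalk (g z))) φ hker with
      commutes' := fun c => stalkMap_algebraMap k g hg z c }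
  haveI := formallySmooth_residue k ψ
  haveI : Algebra.EssFiniteType k (W.presheaf.stalk (g z)) := by
    obtain ⟨_, ⟨V, hV, rfl⟩, hyV, -⟩ :=
      W.isBasis_affineOpens.exists_subset_of_mem_open (Set.mem_univ (g z)) isOpen_univ
    have h3 := (Synt15.stalk_algebra_data (W ↘ Spec (CommRingCat.of k)) hV hyV).1
    have e : (W ↘ Spec (CommRingCat.of k)).appLE ⊤ ⊤ le_top = (W ↘ Spec (CommRingCat.of k)).appTop := by
      exact ((W ↘ Spec (CommRingCat.of k)).appLE_eq_app (U := ⊤))
    exact Eq.mp (by rw [e]) h3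
  haveI := NodeLib7.formallySmooth_of_regular_of_residueField k (W.presheaf.stalk (g z))
  exact NodeLib7.formallySmooth_stalkMap k (g z)

end field

variable {R : Type u} [CommRing R] [IsDomain R] [IsPrincipalIdealRing R]

/-- The local rings of the spectrum of a principal ideal domain. -/
theorem stalk_facts (s : ↥(Spec (CommRingCat.of R))) :
    IsDomain ((Spec (CommRingCat.of R)).presheaf.stalk s) ∧
      IsPrincipalIdealRing ((Spec (CommRingCat.of R)).presheaf.stalk s) := by
  let P : PrimeSpectrum R := s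
  letI : Algebra R ((Spec (CommRingCat.of R)).presheaf.stalk s) :=
    (StructureSheaf.toStalk (CommRingCat.of R) s).hom.toAlgebra
  haveI : IsLocalization.AtPrime ((Spec (CommRingCat.of R)).presheaf.stalk s) P.asIdeal :=
    StructureSheaf.IsLocalization.to_stalk _ P
  refine ⟨inferInstance, ⟨fun I => ?_⟩⟩
  rw [← IsLocalization.map_under P.asIdeal.primeCompl _ I, Ideal.under_def]
  obtain ⟨a, ha⟩ := (IsPrincipalIdealRing.principal (I.comap (algebraMap R _)))
  exact ⟨⟨algebraMap R _ a, by
    rw [show I.comap (algebraMap R ((Spec (CommRingCat.of R)).presheaf.stalk s)) = Ideal.span {a} from ha,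
      Ideal.map_span, Set.image_singleton]⟩⟩

end Groth.Agent.Models7.NodalContract

namespace Groth.Agent.Models7.NodalContract

/-- The generic point of a curve inside a fibre of a nodal family is a smooth generic point of the fibre. -/
theorem generic_facts {X S : Scheme.{u}} (p : X ⟶ S) [Flat p] [LocallyOfFinitePresentation p]
    (hc : ∀ x, HasChart p x) {e a : X} (hea : e ⤳ a) (hne : a ≠ e) (hf : p a = p e) :
    FlatMor12.IsFibreMax p e ∧ ∃ U : X.Opens, e ∈ U ∧ Smooth (U.ι ≫ p) := by
  have hpos : rdeg p e ≠ 0 := fun h => hne (eq_of_rdeg_eq_zero p h hea hf)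
  refine ⟨fun w hw hfw => ?_, (smooth_or_node p (hc e)).resolve_right fun h => hpos (rdeg_eq_zero_of_node p h)⟩
  by_contra hwe
  have h1 := rdeg_lt_of_specializes p hw (fun h => hwe h.symm) hfw.symm
  obtain ⟨η, hη, hηf, hmax⟩ := exists_fibreMax p w
  have h2 : rdeg p η = 1 := rdeg_eq_one_of_chart p (hc η) hmax
  have h3 : rdeg p w ≤ rdeg p η := by
    by_cases h : η = w
    · rw [h]
    · exact (rdeg_lt_of_specializes p hη h hηf.symm).le
  omega

/-- The local ring of a generic point of a fibre of a nodal family is a field modulo the base. -/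
theorem isField_fibre_stalk {X S : Scheme.{u}} (p : X ⟶ S) (hp : Curv2.IsNodalFamily p) {e : X}
    (hmax : FlatMor12.IsFibreMax p e) : IsField ((p.fiber (p e)).presheaf.stalk (p.asFiber e)) := by
  haveI := hp.2.1
  letI : (p.fiber (p e)).Over (Spec (CommRingCat.of (S.residueField (p e)))) := ⟨p.fiberToSpecResidueField (p e)⟩
  haveI : LocallyOfFiniteType (p.fiber (p e) ↘ Spec (CommRingCat.of (S.residueField (p e)))) :=
    (MorphismProperty.pullback_snd _ _ inferInstance : LocallyOfFiniteType (p.fiberToSpecResidueField (p e)))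
  haveI : ∀ w, _root_.IsReduced ((p.fiber (p e)).presheaf.stalk w) :=
    fun w => NodeLib7.isReduced_stalk_of_atWorstNodal (S.residueField (p e)) (p.fiber (p e)) (hp.2.2 (p e)).2 w
  haveI : IsReduced (p.fiber (p e)) := isReduced_of_isReduced_stalk _
  exact MeroLib.isField_stalk_of_max fun z hz => (FlatMor12.fibreMax_asFiber p hmax z hz).symm

/-- A point of a divisor does not have a field as local ring. -/
theorem not_isField_of_mem_divisor {E X : Scheme.{u}} (ι : E ⟶ X) [IsClosedImmersion ι]
    (hD : BlowUp.IsEffCartierIdeal ι.ker) (x : E) : ¬ IsField (X.presheaf.stalk (ι x)) := by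
  intro hF
  obtain ⟨⟨W, hW⟩, hxW, f, hf, hker⟩ := hD (ι x)
  change IsAffineOpen W at hW
  letI := X.presheaf.algebra_section_stalk ⟨ι x, hxW⟩
  haveI := hW.isLocalization_stalk ⟨ι x, hxW⟩
  have hsupp : ι x ∈ ι.ker.support := by
    show ι x ∈ (ι.ker.support : Set X)
    rw [Scheme.Hom.support_ker]; exact subset_closure ⟨x, rfl⟩
  have hnb : ι x ∉ X.basicOpen f := by
    rw [Scheme.IdealSheafData.mem_support_iff_of_mem (U := ⟨W, hW⟩) hxW, hker, Scheme.mem_zeroLocus_iff] at hsupp
    exact hsupp f (Ideal.mem_span_singleton_self f)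
  have hnu : ¬ IsUnit (algebraMap Γ(X, W) (X.presheaf.stalk (ι x)) f) := fun h =>
    hnb ((X.mem_basicOpen f (ι x) hxW).2 h)
  letI := hF.toField
  have h0 : algebraMap Γ(X, W) (X.presheaf.stalk (ι x)) f = 0 := by
    by_contra h
    exact hnu (isUnit_iff_ne_zero.2 h)
  obtain ⟨⟨c, hc⟩, hcf⟩ :=
    (IsLocalization.map_eq_zero_iff (hW.primeIdealOf ⟨ι x, hxW⟩).asIdeal.primeCompl _ f).1 h0
  obtain rfl : c = 0 := (mem_nonZeroDivisors_iff_right.1 hf) c hcf
  exact hc (Submodule.zero_mem _)

variable {R : Type u} [CommRing R] [IsDomain R] [IsPrincipalIdealRing R]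

attribute [local instance] Curv2.stalkAlgebra

/-- The data at the centre: flatness, smoothness, and a one-dimensional fibre. -/
theorem at_centre {X X' : Scheme.{u}} (p : X ⟶ Spec (CommRingCat.of R)) (p' : X' ⟶ Spec (CommRingCat.of R))
    (hp : Curv2.IsNodalFamily p) [LocallyOfFiniteType p'] (b : X ⟶ X') (hcomm : b ≫ p' = p) {e : X}
    (hmax : FlatMor12.IsFibreMax p e) (hsm : ∃ U : X.Opens, e ∈ U ∧ Smooth (U.ι ≫ p))
    (hnf : ¬ IsField (X.presheaf.stalk e)) (hcl : IsClosed ({b e} : Set X'))
    [IsRegularLocalRing (X'.presheaf.stalk (b e))] (hdim : ringKrullDim (X'.presheaf.stalk (b e)) = 2) :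
    (p'.stalkMap (b e)).hom.Flat ∧ (p'.stalkMap (b e)).hom.FormallySmooth ∧ ¬ FlatMor12.IsFibreMax p' (b e) := by
  subst hcomm
  haveI := hp.1; haveI := hp.2.1
  haveI := CAlgH3.isDomain_of_isRegularLocalRing (X'.presheaf.stalk (b e))
  obtain ⟨hO1, hO2⟩ := stalk_facts (p' (b e))
  haveI := hO1; haveI := hO2
  obtain ⟨t, ht⟩ := IsPrincipalIdealRing.principal (maximalIdeal ((Spec (CommRingCat.of R)).presheaf.stalk (p' (b e))))
  change maximalIdeal _ = Ideal.span {t} at ht
  let φ₀ := (p'.stalkMap (b e)).hom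
  let φ := (b.stalkMap e).hom
  -- the maximal ideal upstairs
  have hfield := isField_fibre_stalk (b ≫ p') hp hmax
  obtain ⟨eq⟩ := CAlgH.CIScheme.fiberStalk_equiv (b ≫ p') e
  have hmB : maximalIdeal (X.presheaf.stalk e) = Ideal.span {φ (φ₀ t)} := by
    have hq : IsField (X.presheaf.stalk e ⧸
        (maximalIdeal ((Spec (CommRingCat.of R)).presheaf.stalk (p' (b e)))).map ((b ≫ p').stalkMap e).hom) :=
      MulEquiv.isField hfield eq.toMulEquiv
    have := IsLocalRing.eq_maximalIdeal ((Ideal.Quotient.maximal_ideal_iff_isField_quotient _).2 hq)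
    rw [← this, ht, Ideal.map_span, Set.image_singleton, Scheme.Hom.stalkMap_comp]
    rfl
  have hne : φ (φ₀ t) ≠ 0 := fun h => hnf (by
    rw [IsLocalRing.isField_iff_maximalIdeal_eq, hmB, h, Ideal.span_singleton_eq_bot])
  obtain ⟨htA, htA2⟩ := notMem_sq φ (φ₀ t) hmB hne
  have hflat : φ₀.Flat := flat_of_param φ₀ t ht (fun h => hne (by rw [h, map_zero]))
  obtain ⟨hreg, hd⟩ := regular_quotient hdim htA htA2
  -- the fibre downstairs
  obtain ⟨eq'⟩ := CAlgH.CIScheme.fiberStalk_equiv p' (b e)
  have hmap : (maximalIdeal ((Spec (CommRingCat.of R)).presheaf.stalk (p' (b e)))).map (p'.stalkMap (b e)).hom =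
      Ideal.span {φ₀ t} := by
    rw [ht, Ideal.map_span, Set.image_singleton]
  let E : (p'.fiber (p' (b e))).presheaf.stalk (p'.asFiber (b e)) ≃+* (X'.presheaf.stalk (b e) ⧸ Ideal.span {φ₀ t}) :=
    eq'.symm.trans (Ideal.quotEquivOfEq hmap)
  haveI := hreg
  haveI : IsRegularLocalRing ((p'.fiber (p' (b e))).presheaf.stalk (p'.asFiber (b e))) :=
    IsRegularLocalRing.of_ringEquiv E.symm
  have hdimW : ringKrullDim ((p'.fiber (p' (b e))).presheaf.stalk (p'.asFiber (b e))) = 1 := by
    rw [ringKrullDim_eq_of_ringEquiv E, hd]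
  refine ⟨hflat, ?_, ?_⟩
  · let s := p' (b e)
    let k := (Spec (CommRingCat.of R)).residueField s
    let Z := (b ≫ p').fiber s
    let W := p'.fiber s
    letI : Z.Over (Spec (CommRingCat.of k)) := ⟨(b ≫ p').fiberToSpecResidueField s⟩
    letI : W.Over (Spec (CommRingCat.of k)) := ⟨p'.fiberToSpecResidueField s⟩
    haveI : LocallyOfFiniteType (W ↘ Spec (CommRingCat.of k)) :=
      (MorphismProperty.pullback_snd _ _ inferInstance : LocallyOfFiniteType (p'.fiberToSpecResidueField s))
    let g : Z ⟶ W := pullback.map _ _ _ _ b (𝟙 _) (𝟙 _) (by simp) (by simp)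
    let z : Z := (b ≫ p').asFiber e
    have hg : g ≫ p'.fiberToSpecResidueField s = (b ≫ p').fiberToSpecResidueField s := by
      exact (pullback.lift_snd _ _ _).trans (Category.comp_id _)
    have hgι : g ≫ p'.fiberι s = (b ≫ p').fiberι s ≫ b := pullback.lift_fst _ _ _
    have hgz : g z = p'.asFiber (b e) := by
      apply (p'.fiberι s).isEmbedding.injective
      rw [← Scheme.Hom.comp_apply, hgι, Scheme.Hom.comp_apply]
      exact (congrArg b ((b ≫ p').fiberι_asFiber e)).trans (p'.fiberι_asFiber (b e)).symm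
    have hclW : IsClosed ({g z} : Set W) := by
      rw [hgz]
      have : ({p'.asFiber (b e)} : Set W) = (p'.fiberι s) ⁻¹' {b e} := by
        ext w
        simp only [Set.mem_singleton_iff, Set.mem_preimage]
        exact ⟨fun h => h ▸ p'.fiberι_asFiber (b e),
          fun h => (p'.fiberι s).isEmbedding.injective (h.trans (p'.fiberι_asFiber (b e)).symm)⟩
      rw [this]
      exact hcl.preimage (p'.fiberι s).continuous
    have hsZ : Algebra.FormallySmooth k (Z.presheaf.stalk z) := by
      refine formallySmooth_stalk k z (SmoothLib.smooth_nhd_baseChange (b ≫ p') _ (IsPullback.of_hasPullback _ _) z ?_)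
      rw [show pullback.fst (b ≫ p') _ z = e from (b ≫ p').fiberι_asFiber e]
      exact hsm
    haveI : IsRegularLocalRing (W.presheaf.stalk (g z)) := by rw [hgz]; infer_instance
    have h := formallySmooth_of_below k g hg z hfield hsZ hclW
    have hι : p'.fiberι s (g z) = b e := by rw [hgz]; exact p'.fiberι_asFiber (b e)
    haveI : LocallyOfFinitePresentation p' := inferInstance
    have key : ∀ a : X', a = b e → (p'.stalkMap (b e)).hom.Flat → (p'.stalkMap a).hom.Flat := fun a ha hh => ha ▸ hh
    have := SmoothLib.formallySmooth_stalkMap_of_fibre p' s (g z) (key _ hι hflat) h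
    have key2 : ∀ a : X', a = b e → (p'.stalkMap a).hom.FormallySmooth → (p'.stalkMap (b e)).hom.FormallySmooth :=
      fun a ha hh => ha ▸ hh
    exact key2 _ hι this
  · intro hm
    let A₁ := (p'.fiber (p' (b e))).presheaf.stalk (p'.asFiber (b e))
    haveI := CAlgH3.isDomain_of_isRegularLocalRing A₁
    let w := (p'.fiber (p' (b e))).fromSpecStalk (p'.asFiber (b e))
    have hh : ∀ P, w P = p'.asFiber (b e) := fun P => by
      have hP : w P ⤳ p'.asFiber (b e) := by
        have : w P ∈ Set.range w := ⟨P, rfl⟩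
        rwa [Scheme.range_fromSpecStalk] at this
      exact (FlatMor12.fibreMax_asFiber p' hm _ hP).symm
    have h0 : (⟨⊥, Ideal.isPrime_bot⟩ : PrimeSpectrum A₁) = closedPoint A₁ :=
      w.isEmbedding.injective ((hh _).trans (hh _).symm)
    have h1 : IsField A₁ := IsLocalRing.isField_iff_maximalIdeal_eq.2 (congrArg PrimeSpectrum.asIdeal h0).symm
    letI := h1.toField
    rw [ringKrullDim_eq_zero_of_field] at hdimW
    exact absurd hdimW (by norm_num)

end Groth.Agent.Models7.NodalContract

namespace Groth.Agent.Models7.NodalContract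

variable {R : Type u} [CommRing R] [IsDomain R] [IsPrincipalIdealRing R]

/-- Nodal families stay nodal under contractions of exceptional curves. -/
theorem main {X X' E : Scheme.{u}} (p : X ⟶ Spec (CommRingCat.of R)) (p' : X' ⟶ Spec (CommRingCat.of R))
    (hp : Curv2.IsNodalFamily p) (ι : E ⟶ X) [IsClosedImmersion ι] (hE : Models.IsExcCurve ι) (b : X ⟶ X')
    (hb : Models.IsContractionOf ι b) (hcomm : b ≫ p' = p) [LocallyOfFiniteType p'] : Curv2.IsNodalFamily p' := by
  subst hcomm
  obtain ⟨-, -, y, hy, hrange, hreg, hdim, hblow⟩ := hb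
  obtain ⟨hflat, hlfp, hc⟩ := (isNodalFamily_iff _).1 hp
  haveI := hflat; haveI := hlfp
  haveI := isIntegral_of_isExcCurve hE
  have hbE : ∀ a, b (ι a) = y := fun a => hrange.le ⟨a, rfl⟩
  let U : X'.Opens := ⟨{y}ᶜ, hy.isOpen_compl⟩
  haveI hiso : IsIso (b ∣_ U) := ProjLib.isIso_morphismRestrict hblow _
    (Set.disjoint_left.mpr fun _ h h' => h' ((Scheme.IdealSheafData.coe_support_vanishingIdeal _).le h))
  have haway : ∀ x : X', x ≠ y → HasChart p' x ∧ (p'.stalkMap x).hom.Flat := fun x hx => by
    obtain ⟨⟨a, ha⟩, hax⟩ := (b ∣_ U).homeomorph.surjective (⟨x, hx⟩ : U)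
    have hba : b a = x := (morphismRestrict_base_coe b U ⟨a, ha⟩).symm.trans (congrArg Subtype.val hax)
    subst hba
    refine ⟨?_, ?_⟩
    · have h1 : HasChart ((b ⁻¹ᵁ U).ι ≫ b ≫ p') ⟨a, ha⟩ := HasChart.precomp _ (hc a)
      have e1 : (b ⁻¹ᵁ U).ι ≫ b ≫ p' = ((b ∣_ U) ≫ U.ι) ≫ p' := by
        rw [morphismRestrict_ι, Category.assoc]
      rw [e1] at h1
      have h2 := HasChart.image ((b ∣_ U) ≫ U.ι) h1
      rw [Scheme.Hom.comp_apply, show U.ι ((b ∣_ U) ⟨a, ha⟩) = b a from morphismRestrict_base_coe b U ⟨a, ha⟩] at h2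
      exact h2
    · haveI := isIso_stalkMap_of_isIso_restrict b U a ha
      have h := Flat.stalkMap (b ≫ p') a
      rw [Scheme.Hom.stalkMap_comp] at h
      exact (RingHom.Flat.respectsIso.cancel_right_isIso (p'.stalkMap (b a)) (b.stalkMap a)).1 h
  -- a generic point of the curve
  let e₀ := genericPoint E
  obtain ⟨a₁, ha₁⟩ : ∃ a : E, a ≠ e₀ := by
    obtain ⟨-, k, hk, i, -⟩ := id hE
    have hd : topologicalKrullDim E = 1 := by
      rw [← i.hom.homeomorph.isHomeomorph.topologicalKrullDim_eq]
      exact DimLib.PN.topologicalKrullDim_projSpace 1 k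
    obtain ⟨a, c, hac⟩ := exists_ne_of_dim_one hd
    by_cases h : a = e₀
    · exact ⟨c, fun hc => hac (h.trans hc.symm)⟩
    · exact ⟨a, h⟩
  have hsp : ι e₀ ⤳ ι a₁ := (genericPoint_specializes a₁).map ι.continuous
  have hne : ι a₁ ≠ ι e₀ := fun h => ha₁ (ι.isClosedEmbedding.injective h)
  have hpe : (b ≫ p') (ι a₁) = (b ≫ p') (ι e₀) := by
    rw [Scheme.Hom.comp_apply, Scheme.Hom.comp_apply, hbE, hbE]
  obtain ⟨hmax, hsm⟩ := generic_facts (b ≫ p') hc hsp hne hpe
  haveI : IsRegularLocalRing (X'.presheaf.stalk (b (ι e₀))) := (hbE e₀).symm ▸ hreg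
  obtain ⟨hfl, hfs, hnm⟩ := at_centre (b ≫ p') p' hp b rfl hmax hsm (not_isField_of_mem_divisor ι hE.1 e₀)
    ((hbE e₀).symm ▸ hy) ((hbE e₀).symm ▸ hdim)
  haveI : Flat p' := Flat.of_stalkMap p' fun x => by
    by_cases hx : x = y
    · subst hx; rw [← hbE e₀]; exact hfl
    · exact (haway x hx).2
  haveI : LocallyOfFinitePresentation p' := inferInstance
  refine (isNodalFamily_iff p').2 ⟨inferInstance, inferInstance, fun x => ?_⟩
  by_cases hx : x = y
  · rw [hx, ← hbE e₀]
    refine hasChart_of_smooth p' ((SmoothLib.smooth_nhd_iff p' _).2 hfs) fun V n hV hn => ?_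
    obtain ⟨η, hη, -, hmaxη⟩ := exists_fibreMax p' (b (ι e₀))
    have hηy : η ≠ y := fun h => hnm ((hbE e₀).symm ▸ h ▸ hmaxη)
    exact (rdeg_of_smoothOfRelativeDimension p' n V (hη.mem_open V.isOpen hV) hmaxη).symm.trans
      (rdeg_eq_one_of_chart p' (haway η hηy).1 hmaxη)
  · exact (haway x hx).1

end Groth.Agent.Models7.NodalContract
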