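import Groth.Agent.Models7.NodeResolve.Main
import Groth.Agent.Models7.NodalContract
import Groth.Agent.Models7.MinimalSmooth
import Groth.Agent.Models7.MinModelExists

/-!
# Minimal models of curves with semistable reduction are nodal
-/

set_option autoImplicit false
set_option backward.isDefEq.respectTransparency false
set_option linter.style.haveILetI false

universe u

open CategoryTheory CategoryTheory.Limits AlgebraicGeometry IsLocalRing TopologicalSpace

namespace Groth.Agent.Models7

variable {R : Type u} [CommRing R] [IsDomain R] [IsDiscreteValuationRing R]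
variable {C : Scheme.{u}} {f : C ⟶ Spec (CommRingCat.of (FractionRing R))}

/-- A composite of contractions is proper. -/
theorem isProper_of_contractionSeq {Y X : Scheme.{u}} {r : Y ⟶ X} (hr : Models.IsContractionSeq r) : IsProper r := by
  induction hr with
  | iso e => infer_instance
  | step ι b r hι hE hb hr ih =>
    haveI := ih
    haveI := hb.2.1
    infer_instance

/-- Nodal families stay nodal under composites of contractions. -/
theorem isNodalFamily_of_contractionSeq {Y X : Scheme.{u}} {r : Y ⟶ X} (hr : Models.IsContractionSeq r) :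
    ∀ (p : X ⟶ Spec (CommRingCat.of R)) [LocallyOfFiniteType p], Curv2.IsNodalFamily (r ≫ p) → Curv2.IsNodalFamily p := by
  induction hr with
  | iso e =>
    intro p _ h
    obtain ⟨h1, h2, h3⟩ := (Clifford24.Nodal.isNodalFamily_iff _).1 h
    haveI := h1; haveI := h2
    have e1 : p = e.inv ≫ e.hom ≫ p := (e.inv_hom_id_assoc p).symm
    haveI : Flat p := by rw [e1]; infer_instance
    haveI : LocallyOfFinitePresentation p := inferInstance
    refine (Clifford24.Nodal.isNodalFamily_iff p).2 ⟨inferInstance, inferInstance, fun x => ?_⟩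
    have := (h3 (e.inv x)).image e.hom
    rwa [← Scheme.Hom.comp_apply, e.inv_hom_id, Scheme.Hom.id_base, TopCat.id_app] at this
  | step ι b r hι hE hb hr ih =>
    intro p _ h
    haveI := isProper_of_contractionSeq hr
    haveI := hι
    exact ih p (NodalContract.main (b ≫ r ≫ p) (r ≫ p) (by rwa [Category.assoc] at h) ι hE b hb rfl)

/-- Components of a space homeomorphic to a curve. -/
theorem components_dim_one {Z : Type*} {Y : Type*} [TopologicalSpace Z] [TopologicalSpace Y] (e : Y ≃ₜ Z)
    [IrreducibleSpace Y] (hY : topologicalKrullDim Y = 1) :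
    ∀ T ∈ irreducibleComponents Z, topologicalKrullDim T = 1 := by
  intro T hT
  have hi : IsIrreducible (Set.univ : Set Z) := by
    rw [← e.surjective.range_eq, ← Set.image_univ]
    exact (IrreducibleSpace.isIrreducible_univ Y).image _ e.continuous.continuousOn
  have hT' : T = Set.univ := Set.Subset.antisymm (Set.subset_univ _) (hT.2 hi (Set.subset_univ _))
  subst hT'
  rw [(Homeomorph.Set.univ Z).isHomeomorph.topologicalKrullDim_eq, ← e.isHomeomorph.topologicalKrullDim_eq, hY]

/-- A fibre is the image of an embedding onto it. -/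
theorem fibre_components_dim_one {Y X S : Scheme.{u}} (p : X ⟶ S) (s : S) (h : Y ⟶ X)
    (hh : Topology.IsEmbedding h.base) (hr : Set.range h.base = p.base ⁻¹' {s}) [IrreducibleSpace Y]
    (hY : topologicalKrullDim Y = 1) :
    ∀ T ∈ irreducibleComponents (p.fiber s : Type u), topologicalKrullDim T = 1 :=
  components_dim_one ((hh.toHomeomorph.trans (Homeomorph.setCongr hr)).trans (p.fiberHomeo s).symm) hY

/-- A smooth model with closed fibre a projective line is a nodal family. -/
theorem isNodalFamily_of_smooth [IsIntegral C] (hC : Curve.IsSmoothProperCurve (FractionRing R) C f)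
    {X : Scheme.{u}} {p : X ⟶ Spec (CommRingCat.of R)} {gX : C ⟶ X} (hX : GenModel R C f X p gX) [Smooth p]
    (e : Models.specialFibre R X p ≅ CohB1.ProjSpace 1 (ResidueField R)) : Curv2.IsNodalFamily p := by
  haveI : IsProper p := hX.model.2.1
  haveI : IsLocallyNoetherian X := LocallyOfFiniteType.isLocallyNoetherian p
  haveI : LocallyOfFinitePresentation p := inferInstance
  refine ⟨hX.model.1.1, inferInstance, fun s => ⟨?_, fun w _ => Or.inl ⟨⊤, trivial, ?_⟩⟩⟩
  · rcases Inters29.base_eq_bot_or_closedPoint R s with hs | hs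
    · haveI := hX.isOpenImmersion
      refine fibre_components_dim_one p s gX gX.isOpenEmbedding.isEmbedding ?_ hC.2.2.2
      ext x
      rw [hX.mem_range_iff]
      show p x ≠ closedPoint R ↔ p x = s
      constructor
      · intro h
        rw [hs]
        exact (Inters29.base_eq_bot_or_closedPoint R (p x)).resolve_right h
      · intro h
        rw [h, hs]
        exact Inters29.bot_ne_closedPoint R
    · let c := Spec.map (CommRingCat.ofHom (algebraMap R (ResidueField R)))
      haveI : IsClosedImmersion c := Inters29.isClosedImmersion_residue R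
      haveI := CurveLib.isIntegral_projSpace (ResidueField R) 1
      refine fibre_components_dim_one p s (e.inv ≫ pullback.fst p c)
        (e.inv ≫ pullback.fst p c).isEmbedding ?_ (DimLib.PN.topologicalKrullDim_projSpace 1 (ResidueField R))
      rw [Scheme.Hom.comp_base, TopCat.coe_comp, Set.range_comp, Set.range_eq_univ.2 e.inv.surjective, Set.image_univ]
      refine (Scheme.Pullback.range_fst (f := p) (g := c)).trans ?_
      ext x
      show p x ∈ Set.range c.base ↔ p x = s
      rw [hs]
      constructor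
      · rintro ⟨a, ha⟩
        rw [← ha, Subsingleton.elim (α := PrimeSpectrum (ResidueField R)) a (closedPoint (ResidueField R))]
        exact IsLocalRing.comap_closedPoint (IsLocalRing.residue R)
      · intro h
        exact ⟨closedPoint (ResidueField R), (IsLocalRing.comap_closedPoint (IsLocalRing.residue R)).trans h.symm⟩
  · haveI : Smooth (p.fiberToSpecResidueField s) := MorphismProperty.pullback_snd _ _ ‹Smooth p›
    show Smooth ((⊤ : (p.fiber s).Opens).ι ≫ p.fiberToSpecResidueField s)
    infer_instance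

/-- Two minimal models in positive genus are isomorphic. -/
theorem exists_iso_of_minimal [IsIntegral C] (hC : PropCurve (FractionRing R) C f) (hH0 : IsIso f.appTop)
    (hg : 0 < Models.curveGenus (FractionRing R) C f)
    {X X₀ : Scheme.{u}} {p : X ⟶ Spec (CommRingCat.of R)} {p₀ : X₀ ⟶ Spec (CommRingCat.of R)}
    {gX : C ⟶ X} {g₀ : C ⟶ X₀} (hX : GenModel R C f X p gX) (h₀ : GenModel R C f X₀ p₀ g₀)
    (hXm : ∀ Γ : ArSurf.VertComp R (Over.mk p), ¬ Models.IsExcCurve Γ.ι)
    (h₀m : ∀ Γ : ArSurf.VertComp R (Over.mk p₀), ¬ Models.IsExcCurve Γ.ι) :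
    ∃ e : X₀ ≅ X, e.hom ≫ p = p₀ ∧ g₀ ≫ e.hom = gX := by
  obtain ⟨a, ⟨ha, ha'⟩, -⟩ := existsUnique_to_minimal hC hH0 hg hX h₀ hXm
  obtain ⟨b, ⟨hb, hb'⟩, -⟩ := existsUnique_to_minimal hC hH0 hg h₀ hX h₀m
  obtain ⟨i, -, hi⟩ := existsUnique_to_minimal hC hH0 hg hX hX hXm
  obtain ⟨j, -, hj⟩ := existsUnique_to_minimal hC hH0 hg h₀ h₀ h₀m
  have hab : a ≫ b = 𝟙 X₀ :=
    (hj (a ≫ b) ⟨by rw [Category.assoc, hb, ha], by rw [reassoc_of% ha', hb']⟩).trans
      (hj (𝟙 X₀) ⟨Category.id_comp _, Category.comp_id _⟩).symm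
  have hba : b ≫ a = 𝟙 X :=
    (hi (b ≫ a) ⟨by rw [Category.assoc, ha, hb], by rw [reassoc_of% hb', ha']⟩).trans
      (hi (𝟙 X) ⟨Category.id_comp _, Category.comp_id _⟩).symm
  exact ⟨⟨a, b, hab, hba⟩, ha, ha'⟩

/-- **Minimal models of curves with semistable reduction are nodal.** -/
theorem minimal_nodal [IsIntegral C] (hC : Curve.IsSmoothProperCurve (FractionRing R) C f)
    (hH0 : IsIso f.appTop) (hss : Models.HasSemistableReduction R C f)
    {X : Scheme.{u}} {p : X ⟶ Spec (CommRingCat.of R)} {gX : C ⟶ X} (hX : GenModel R C f X p gX)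
    (hXm : ∀ Γ : ArSurf.VertComp R (Over.mk p), ¬ Models.IsExcCurve Γ.ι) : Curv2.IsNodalFamily p := by
  obtain ⟨ϖ, hϖ⟩ := IsDiscreteValuationRing.exists_irreducible R
  obtain ⟨W, q, hW, hWn⟩ := NodeResolve.exists_regular_nodal_model hϖ hC hss
  obtain ⟨gW, hgW⟩ := hW.1.2.2.2
  obtain ⟨X₀, p₀, g₀, b, h₀, h₀m, hbp, hgb, hseq⟩ := GenModel.exists_minimal hC ⟨hW, hgW⟩
  haveI : IsProper p₀ := h₀.model.2.1
  haveI : IsProper p := hX.model.2.1
  have h₀n : Curv2.IsNodalFamily p₀ := isNodalFamily_of_contractionSeq hseq p₀ (by rwa [hbp])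
  by_cases hiso : ∃ e : X₀ ≅ X, e.hom ≫ p = p₀ ∧ g₀ ≫ e.hom = gX
  · obtain ⟨e, he, -⟩ := hiso
    exact isNodalFamily_of_contractionSeq (Models.IsContractionSeq.iso e) p (by rwa [he])
  rcases Nat.eq_zero_or_pos (Models.curveGenus (FractionRing R) C f) with hg | hg
  · obtain ⟨e, he⟩ := specialFibre_iso_projLine hC hH0 hg hX h₀ hXm h₀m hiso
    haveI : Smooth p := by
      refine smooth_of_specialFibre hC hX ?_
      rw [← he]
      haveI : Smooth (CohB1.ProjSpace.toSpec 1 (ResidueField R)) := P1Lib24.smooth_projLine (ResidueField R)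
      infer_instance
    exact isNodalFamily_of_smooth hC hX e
  · exact absurd (exists_iso_of_minimal hC hH0 hg hX h₀ hXm h₀m) hiso

end Groth.Agent.Models7
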