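import Groth.Agent.Models7.ContractionSeq
import Groth.Agent.Inters29.Model
import Groth.Agent.Inters29.ModelCurve
import Groth.Agent.Inters29.Exist
import Groth.Agent.Inters29.Family
import Groth.Agent.Models7.PropCurve

/-!
# Point blow-ups of regular proper models
-/

set_option autoImplicit false
set_option linter.style.haveILetI false
set_option backward.isDefEq.respectTransparency false
set_option maxHeartbeats 1000000

universe u

open CategoryTheory CategoryTheory.Limits AlgebraicGeometry TopologicalSpace IsLocalRing Opposite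
open Groth.Agent.Misc15.DivDescent Groth.Agent.SDiv28.CartierPart

namespace Groth.Agent.Models7

variable (R : Type u) [CommRing R] [IsDomain R] [IsDiscreteValuationRing R]

/-- A regular proper model together with the inclusion of its generic fibre. -/
structure GenModel (C : Scheme.{u}) (f : C ⟶ Spec (CommRingCat.of (FractionRing R))) (X : Scheme.{u})
    (p : X ⟶ Spec (CommRingCat.of R)) (g : C ⟶ X) : Prop where
  model : Models.IsRegularProperModel R X p C f
  pullback : IsPullback g f p (Spec.map (CommRingCat.ofHom (algebraMap R (FractionRing R))))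

variable {R} {C : Scheme.{u}} {f : C ⟶ Spec (CommRingCat.of (FractionRing R))}

theorem GenModel.isOpenImmersion {X : Scheme.{u}} {p : X ⟶ Spec (CommRingCat.of R)} {g : C ⟶ X}
    (h : GenModel R C f X p g) : IsOpenImmersion g :=
  haveI := Inters29.isOpenImmersion_generic R
  MorphismProperty.of_isPullback (P := @IsOpenImmersion) h.pullback.flip inferInstance

theorem GenModel.isIntegral [IsIntegral C] {X : Scheme.{u}} {p : X ⟶ Spec (CommRingCat.of R)} {g : C ⟶ X}
    (h : GenModel R C f X p g) : IsIntegral X :=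
  Inters29.isIntegral_model R h.model.1 h.model.2.2

theorem GenModel.genericPoint_ne [IsIntegral C] {X : Scheme.{u}} {p : X ⟶ Spec (CommRingCat.of R)} {g : C ⟶ X}
    (h : GenModel R C f X p g) [IsIntegral X] : p (genericPoint X) ≠ closedPoint R := by
  haveI : Flat (Over.mk p).hom := h.model.1.1
  haveI : IsIntegral (Over.mk p).left := inferInstanceAs (IsIntegral X)
  show (Over.mk p).hom (genericPoint (Over.mk p).left) ≠ _
  rw [Inters29.hom_genericPoint R (X := Over.mk p) (genericPoint X)]
  exact Inters29.bot_ne_closedPoint R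

theorem GenModel.regSurf [IsIntegral C] {X : Scheme.{u}} {p : X ⟶ Spec (CommRingCat.of R)} {g : C ⟶ X}
    (h : GenModel R C f X p g) (hC : PropCurve (FractionRing R) C f) : RegSurf X := by
  haveI := h.isIntegral
  haveI : IsProper p := h.model.2.1
  haveI : IsIntegral (Over.mk p).left := inferInstanceAs (IsIntegral X)
  haveI : Flat (Over.mk p).hom := h.model.1.1
  haveI : IsProper (Over.mk p).hom := h.model.2.1
  haveI : IsProper f := hC.1
  exact ⟨inferInstance, LocallyOfFiniteType.isLocallyNoetherian p, QuasiCompact.compactSpace_of_compactSpace p,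
    h.model.2.2, (Inters29.topologicalKrullDim_eq_two R (X := Over.mk p)
      (Inters29.trdAt_genericPoint R (X := Over.mk p) f hC.2.2.2 g h.pullback)).le⟩

theorem GenModel.mem_range_iff {X : Scheme.{u}} {p : X ⟶ Spec (CommRingCat.of R)} {g : C ⟶ X}
    (h : GenModel R C f X p g) (x : X) : x ∈ Set.range g ↔ p x ≠ closedPoint R := by
  constructor
  · rintro ⟨c, rfl⟩
    rw [← Scheme.Hom.comp_apply, h.pullback.w, Scheme.Hom.comp_apply]
    have hc : Spec.map (CommRingCat.ofHom (algebraMap R (FractionRing R))) (f c) =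
        (⟨⊥, Ideal.isPrime_bot⟩ : PrimeSpectrum R) := by
      rw [Subsingleton.elim (α := PrimeSpectrum (FractionRing R)) (f c) ⟨⊥, Ideal.isPrime_bot⟩]
      exact PrimeSpectrum.ext (Ideal.comap_bot_of_injective _ (IsFractionRing.injective R (FractionRing R)))
    rw [hc]
    exact Inters29.bot_ne_closedPoint R
  · intro hx
    rw [← h.pullback.isoPullback_hom_fst, Scheme.Hom.comp_base, TopCat.coe_comp, Set.range_comp,
      Set.range_eq_univ.2 h.pullback.isoPullback.hom.surjective, Set.image_univ, Scheme.Pullback.range_fst]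
    refine ⟨(⟨⊥, Ideal.isPrime_bot⟩ : PrimeSpectrum (FractionRing R)), ?_⟩
    rw [(Inters29.base_eq_bot_or_closedPoint R (p x)).resolve_right hx]
    exact PrimeSpectrum.ext (Ideal.comap_bot_of_injective _ (IsFractionRing.injective R (FractionRing R)))

theorem GenModel.hom_closed {X : Scheme.{u}} {p : X ⟶ Spec (CommRingCat.of R)} {g : C ⟶ X}
    (h : GenModel R C f X p g) {z : X} (hz : IsClosed ({z} : Set X)) : p z = closedPoint R := by
  haveI : IsProper p := h.model.2.1
  have h' := p.isClosedMap _ hz
  rw [Set.image_singleton] at h'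
  exact PrimeSpectrum.ext (eq_maximalIdeal ((PrimeSpectrum.isClosed_singleton_iff_isMaximal _).1 h'))

/-- Two inclusions of the generic fibre over a third model are equal. -/
theorem GenModel.eq_of_comp {W X : Scheme.{u}} {q : W ⟶ Spec (CommRingCat.of R)} {p : X ⟶ Spec (CommRingCat.of R)}
    {gX : C ⟶ X} (hX : GenModel R C f X p gX) {g g' : C ⟶ W} (hW : GenModel R C f W q g)
    (hW' : GenModel R C f W q g') (π : W ⟶ X) (h : g ≫ π = gX) (h' : g' ≫ π = gX) : g = g' := by
  haveI := hX.isOpenImmersion
  let k := hW.pullback.lift g' f hW'.pullback.w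
  have hk : k ≫ g = g' := hW.pullback.lift_fst _ _ _
  have : k = 𝟙 C := by
    rw [← cancel_mono gX, Category.id_comp]
    conv_lhs => rw [← h]
    rw [reassoc_of% hk, h']
  rw [← hk, this, Category.id_comp]

/-- A proper modification off the generic fibre of a model is a model. -/
theorem GenModel.modification [IsIntegral C] {W Z : Scheme.{u}} {q : Z ⟶ Spec (CommRingCat.of R)} {gZ : C ⟶ Z}
    (hZ : GenModel R C f Z q gZ) (b : W ⟶ Z) [IsProper b] [IsIntegral W]
    (hW : ∀ w : W, IsRegularLocalRing (W.presheaf.stalk w)) (V : Z.Opens) [IsIso (b ∣_ V)]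
    (hV : ∀ z : Z, q z ≠ closedPoint R → z ∈ V) :
    ∃ gW : C ⟶ W, gW ≫ b = gZ ∧ GenModel R C f W (b ≫ q) gW := by
  haveI := hZ.isOpenImmersion
  haveI : IsProper q := hZ.model.2.1
  have hr : Set.range gZ.base ⊆ Set.range V.ι.base := by
    rw [Scheme.Opens.range_ι]
    rintro _ ⟨c, rfl⟩
    exact hV _ ((hZ.mem_range_iff _).1 ⟨c, rfl⟩)
  let k := IsOpenImmersion.lift V.ι gZ hr
  have hk : k ≫ V.ι = gZ := IsOpenImmersion.lift_fac _ _ _
  let gW : C ⟶ W := (k ≫ inv (b ∣_ V)) ≫ (b ⁻¹ᵁ V).ι
  have h1 : IsPullback (k ≫ inv (b ∣_ V)) (𝟙 C) (b ∣_ V) k :=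
    IsPullback.of_vert_isIso ⟨by rw [Category.id_comp, Category.assoc, IsIso.inv_hom_id, Category.comp_id]⟩
  have h2 : IsPullback gW (𝟙 C) b gZ := by
    have h := h1.paste_horiz (isPullback_morphismRestrict b V).flip
    rwa [hk] at h
  have h3 : IsPullback gW f (b ≫ q) (Spec.map (CommRingCat.ofHom (algebraMap R (FractionRing R)))) := by
    have h := h2.paste_vert hZ.pullback
    rwa [Category.id_comp] at h
  refine ⟨gW, ?_, ⟨⟨⟨?_, inferInstance, inferInstance, gW, h3⟩, inferInstance, hW⟩, h3⟩⟩
  · simpa using h2.w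
  refine Hurwitz24.flat_of_dominant (b ≫ q) ?_ ?_ fun y => ?_
  · have hη : genericPoint W ∈ Set.range gW := by
      haveI : IsOpenImmersion gW := by
        haveI := Inters29.isOpenImmersion_generic R
        exact MorphismProperty.of_isPullback (P := @IsOpenImmersion) h3.flip inferInstance
      exact ((genericPoint_spec W).mem_open_set_iff gW.isOpenEmbedding.isOpen_range).mpr
        (by simpa using Set.range_nonempty gW)
    obtain ⟨c, hc⟩ := hη
    rw [← hc, ← Scheme.Hom.comp_apply, h3.w, Scheme.Hom.comp_apply,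
      Subsingleton.elim (α := PrimeSpectrum (FractionRing R)) (f c) ⟨⊥, Ideal.isPrime_bot⟩]
    refine Eq.trans ?_ (((PrimeSpectrum.le_iff_specializes
      (⟨⊥, Ideal.isPrime_bot⟩ : PrimeSpectrum R) _).1 bot_le).antisymm (genericPoint_specializes _)).eq
    exact PrimeSpectrum.ext (Ideal.comap_bot_of_injective _ (IsFractionRing.injective R (FractionRing R)))
  · exact le_of_eq ((PrimeSpectrum.topologicalKrullDim_eq_ringKrullDim (R := R)).trans
      (IsDiscreteValuationRing.ringKrullDim_eq_one R))
  · haveI : IsIntegrallyClosed (Localization.AtPrime y.asIdeal) :=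
      isIntegrallyClosed_of_isLocalization _ y.asIdeal.primeCompl y.asIdeal.primeCompl_le_nonZeroDivisors
    exact IsIntegrallyClosed.of_equiv (Spec.stalkIso (CommRingCat.of R) y).commRingCatIsoToRingEquiv.symm

/-- The source of a sequence of point blow-ups of a model is a model. -/
theorem GenModel.of_ptSeq [IsIntegral C] (hC : PropCurve (FractionRing R) C f) :
    ∀ {W X : Scheme.{u}} {π : W ⟶ X}, PtSeq π → ∀ {p : X ⟶ Spec (CommRingCat.of R)} {gX : C ⟶ X},
      GenModel R C f X p gX → IsProper π ∧ RegSurf W ∧ ∃ gW : C ⟶ W, gW ≫ π = gX ∧ GenModel R C f W (π ≫ p) gW := by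
  intro W X π hπ
  induction hπ with
  | @iso Y' X' e =>
    intro p gX hX
    haveI := hX.isIntegral
    haveI : IsIntegral Y' := by
      haveI : Nonempty Y' := ⟨e.inv (genericPoint X')⟩
      exact isIntegral_of_isOpenImmersion e.hom
    have hS := hX.regSurf hC
    haveI : IsIso (e.hom ∣_ ⊤) := inferInstance
    have hreg : ∀ y : Y', IsRegularLocalRing (Y'.presheaf.stalk y) := fun y => by
      haveI := hS.regular (e.hom y)
      exact IsRegularLocalRing.of_ringEquiv (R := X'.presheaf.stalk (e.hom y))
        (asIso (e.hom.stalkMap y)).commRingCatIsoToRingEquiv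
    obtain ⟨gW, hgW, hWm⟩ := hX.modification e.hom hreg ⊤ (fun _ _ => trivial)
    exact ⟨inferInstance, hWm.regSurf hC, gW, hgW, hWm⟩
  | @step Y' Z' X' b r z hz hz0 hb hr ih =>
    intro p gX hX
    obtain ⟨hrp, hZ, gZ, hgZ, hZm⟩ := ih hX
    haveI := hrp
    haveI := hZ.integral
    have hz1 : z ≠ genericPoint Z' := hz0
    obtain ⟨hY, hbp, hiso⟩ := hZ.pointBlowUp z hz hz1 b hb
    haveI := hbp
    haveI := hY.integral
    haveI := hiso
    obtain ⟨gW, hgW, hWm⟩ := hZm.modification b hY.regular ⟨{z}ᶜ, hz.isOpen_compl⟩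
      (fun x hx h => hx (by rw [show x = z from h]; exact hZm.hom_closed hz))
    refine ⟨inferInstance, hY, gW, by rw [reassoc_of% hgW, hgZ], ?_⟩
    rw [Category.assoc]
    exact hWm

end Groth.Agent.Models7
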