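import Groth.Agent.Models7.TraceInjective
import Groth.Agent.AbSchLib.GlobalSections
import Groth.Agent.AbSchLib.SmoothReduced
import Groth.Agent.Inters29.ModelCurve
import Groth.Agent.Unram17Lib.RelDim
import Groth.Agent.TopDim.Basic
import Groth.Agent.Coherent.ProperFinite
import Groth.Agent.Coherent.CohOps
import Groth.Prelude.Def_Models

/-!
# Models of geometrically connected smooth curves: constant functions, cohomology with nonzero forms
-/

set_option autoImplicit false
set_option linter.style.haveILetI false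
set_option backward.isDefEq.respectTransparency false
set_option maxHeartbeats 1000000

universe u

open CategoryTheory CategoryTheory.Limits AlgebraicGeometry Opposite TopologicalSpace
open Groth.Agent.Coherent Groth.Agent.EulerLib

namespace Groth.Agent.Models7

variable (R : Type u) [CommRing R] [IsDomain R] [IsDiscreteValuationRing R]
variable {X C : Scheme.{u}} [X.Over (Spec (CommRingCat.of R))]
  {f : C ⟶ Spec (CommRingCat.of (FractionRing R))}
  {g : C ⟶ X} (H : IsPullback g f (X ↘ Spec (CommRingCat.of R))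
    (Spec.map (CommRingCat.ofHom (algebraMap R (FractionRing R)))))

theorem basicOpen_base_le {π : R} (hπ : Irreducible π) {b : R} (hb : b ≠ 0) :
    X.basicOpen (baseHom R X π) ≤ X.basicOpen (baseHom R X b) := by
  obtain ⟨k, v, rfl⟩ := IsDiscreteValuationRing.eq_unit_mul_pow_irreducible hb hπ
  intro x hx
  rw [Scheme.mem_basicOpen X (U := ⊤) _ x (trivial : x ∈ (⊤ : X.Opens))] at hx ⊢
  rw [map_mul, map_pow, map_mul, map_pow]
  exact ((v.isUnit.map (baseHom R X)).map (X.presheaf.germ ⊤ x trivial).hom).mul (hx.pow k)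

include H in
theorem appTop_baseHom (b : R) :
    g.appTop (baseHom R X b) = Coh.toGlobal f (algebraMap R (FractionRing R) b) := by
  show (g ≫ (X ↘ Spec (CommRingCat.of R))).appTop ((Scheme.ΓSpecIso (CommRingCat.of R)).inv b) = _
  rw [H.w, Scheme.Hom.comp_appTop]
  exact congrArg f.appTop
    (congr($(Scheme.ΓSpecIso_inv_naturality (CommRingCat.ofHom (algebraMap R (FractionRing R)))) b)).symm

include H in
theorem mem_basicOpen_of_generic {b : R} (hb : b ≠ 0) (c : C) : g c ∈ X.basicOpen (baseHom R X b) := by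
  have h : c ∈ g ⁻¹ᵁ X.basicOpen (baseHom R X b) := by
    rw [Scheme.preimage_basicOpen_top, appTop_baseHom R H, C.basicOpen_of_isUnit]
    · trivial
    · exact ((isUnit_iff_ne_zero.2 ((map_ne_zero_iff _ (IsFractionRing.injective R (FractionRing R))).2 hb))).map _
  exact h

include H in
theorem basicOpen_le_range {π : R} (hπ : Irreducible π) :
    (X.basicOpen (baseHom R X π) : Set X) ⊆ Set.range g := by
  intro x hx
  let q := X ↘ Spec (CommRingCat.of R)
  have h1 : x ∈ q ⁻¹ᵁ (Spec (CommRingCat.of R)).basicOpen ((Scheme.ΓSpecIso (CommRingCat.of R)).inv π) := by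
    rw [Scheme.preimage_basicOpen_top]; exact hx
  have h2 : q x ∈ PrimeSpectrum.basicOpen π := (basicOpen_eq_of_affine (R := CommRingCat.of R) π).le (show q x ∈ _ from h1)
  let η : Spec (CommRingCat.of (FractionRing R)) := (⟨⊥, Ideal.isPrime_bot⟩ : PrimeSpectrum (FractionRing R))
  have h3 : q x = Spec.map (CommRingCat.ofHom (algebraMap R (FractionRing R))) η := by
    refine PrimeSpectrum.ext ?_
    have hbot : (q x).asIdeal = ⊥ := by
      by_contra hne
      haveI := (q x).2.isMaximal hne
      refine h2 ?_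
      rw [IsLocalRing.eq_maximalIdeal (inferInstance : (q x).asIdeal.IsMaximal)]
      exact hπ.not_isUnit
    rw [hbot]
    exact (Ideal.comap_bot_of_injective _ (IsFractionRing.injective R (FractionRing R))).symm
  obtain ⟨c, hc, -⟩ := Scheme.exists_preimage_of_isPullback H x η h3
  exact ⟨c, hc⟩

include H in
/-- A proper model of a geometrically connected smooth curve has only constant functions. -/
theorem bijective_baseHom [IsProper f] [GeometricallyConnected f] [Smooth f] [IsProper (X ↘ Spec (CommRingCat.of R))]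
    [Flat (X ↘ Spec (CommRingCat.of R))] : Function.Bijective (baseHom R X) := by
  obtain ⟨π, hπ⟩ := IsDiscreteValuationRing.exists_irreducible R
  haveI := AbSchLib.geometricallyReduced_of_smooth f
  have hC := AbSchLib.bijective_appTop_of_field (FractionRing R) f
  have hK : Function.Bijective (Coh.toGlobal f) :=
    hC.comp (ConcreteCategory.bijective_of_isIso (Scheme.ΓSpecIso (CommRingCat.of (FractionRing R))).inv)
  let q := X ↘ Spec (CommRingCat.of R)
  haveI := Inters29.isOpenImmersion_generic R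
  haveI : IsOpenImmersion g := MorphismProperty.of_isPullback (P := @IsOpenImmersion) H.flip inferInstance
  haveI : CompactSpace X := QuasiCompact.compactSpace_of_compactSpace q
  have hinj : Function.Injective (baseHom R X) := (injective_iff_map_eq_zero _).2 fun b hb => by
    have := appTop_baseHom R H b
    rw [hb, map_zero] at this
    exact IsFractionRing.injective R (FractionRing R) ((hK.1 (this.symm.trans (map_zero _).symm)).trans (map_zero _).symm)
  have htf : ∀ (n : ℕ) (t : Γ(X, ⊤)), baseHom R X π ^ n * t = 0 → t = 0 := fun n t ht => by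
    refine TopCat.Presheaf.section_ext X.sheaf ⊤ _ _ fun x _ => ?_
    obtain ⟨U, hU, hxU, -⟩ := exists_isAffineOpen_mem_and_subset (x := x) (U := ⊤) trivial
    have hflat := q.flat_appLE (isAffineOpen_top _) hU (show U ≤ q ⁻¹ᵁ ⊤ from fun _ _ => trivial)
    let ψ : R →+* Γ(X, U) := (q.appLE ⊤ U (show U ≤ q ⁻¹ᵁ ⊤ from fun _ _ => trivial)).hom.comp (Scheme.ΓSpecIso (CommRingCat.of R)).inv.hom
    have hψ : ψ.Flat :=
      RingHom.Flat.comp (RingHom.Flat.of_bijective (ConcreteCategory.bijective_of_isIso (Scheme.ΓSpecIso (CommRingCat.of R)).inv)) hflat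
    letI : Algebra R Γ(X, U) := ψ.toAlgebra
    haveI : Module.Flat R Γ(X, U) := hψ
    have hreg : IsSMulRegular Γ(X, U) (π ^ n) :=
      Module.Flat.isSMulRegular_of_nonZeroDivisors (mem_nonZeroDivisors_of_ne_zero (pow_ne_zero n hπ.ne_zero))
    have hres : X.presheaf.map (homOfLE (le_top : U ≤ ⊤)).op t = 0 := by
      refine hreg.right_eq_zero_of_smul ?_
      rw [Algebra.smul_def]
      show ψ (π ^ n) * _ = 0
      have h := congrArg (X.presheaf.map (homOfLE (le_top : U ≤ ⊤)).op).hom ht
      rw [map_mul, map_pow, map_zero] at h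
      rw [map_pow]
      exact h
    show X.presheaf.germ ⊤ x trivial t = X.presheaf.germ ⊤ x trivial 0
    rw [map_zero, ← TopCat.Presheaf.germ_res_apply X.presheaf (homOfLE (le_top : U ≤ ⊤)) x hxU, hres, map_zero]
  have hginj : ∀ t : Γ(X, ⊤), g.appTop t = 0 → t = 0 := fun t ht => by
    have hle : X.basicOpen (baseHom R X π) ≤ g.opensRange := basicOpen_le_range R H hπ
    haveI := g.isIso_app (X.basicOpen (baseHom R X π)) hle
    have h0 : X.presheaf.map (homOfLE (le_top : X.basicOpen (baseHom R X π) ≤ ⊤)).op t = 0 := by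
      refine (ConcreteCategory.bijective_of_isIso (g.app (X.basicOpen (baseHom R X π)))).1 ?_
      rw [map_zero]
      refine (ConcreteCategory.congr_hom (g.naturality (homOfLE (le_top : X.basicOpen (baseHom R X π) ≤ ⊤)).op) t).trans ?_
      exact (congrArg (C.presheaf.map ((Opens.map g.base).map (homOfLE (le_top : X.basicOpen (baseHom R X π) ≤ ⊤))).op) ht).trans
        (map_zero (C.presheaf.map ((Opens.map g.base).map (homOfLE (le_top : X.basicOpen (baseHom R X π) ≤ ⊤))).op).hom)
    obtain ⟨n, hn⟩ := exists_pow_mul_eq_zero_of_res_basicOpen_eq_zero_of_isCompact X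
      (U := ⊤) isCompact_univ t (baseHom R X π) h0
    exact htf n t hn
  refine ⟨hinj, fun s => ?_⟩
  obtain ⟨z, hz⟩ := hK.2 (g.appTop s)
  obtain ⟨⟨a, b⟩, hab⟩ := IsLocalization.surj (nonZeroDivisors R) z
  obtain ⟨k, v, hbv⟩ := IsDiscreteValuationRing.eq_unit_mul_pow_irreducible (nonZeroDivisors.ne_zero b.2) hπ
  have hrel : baseHom R X π ^ k * s = baseHom R X (a * ↑v⁻¹) := by
    refine sub_eq_zero.1 (hginj _ ?_)
    rw [map_sub, map_mul, map_pow, appTop_baseHom R H, appTop_baseHom R H, ← hz]
    refine sub_eq_zero.2 ?_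
    refine (congrArg (· * Coh.toGlobal f z) (map_pow (Coh.toGlobal f) _ k).symm).trans ((map_mul (Coh.toGlobal f) _ z).symm.trans ?_)
    refine congrArg (Coh.toGlobal f) ?_
    simp only at hab
    rw [hbv, map_mul, map_pow] at hab
    rw [map_mul, ← hab,
      show z * (algebraMap R (FractionRing R) ↑v * algebraMap R (FractionRing R) π ^ k) * algebraMap R (FractionRing R) ↑v⁻¹ =
        algebraMap R (FractionRing R) π ^ k * z * (algebraMap R (FractionRing R) ↑v * algebraMap R (FractionRing R) ↑v⁻¹) by ring,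
      ← map_mul, Units.mul_inv, map_one, mul_one]
  clear hab hbv hz
  generalize a * ↑v⁻¹ = a' at hrel
  induction k generalizing a' with
  | zero => exact ⟨a', by simpa using hrel.symm⟩
  | succ k ih =>
    by_cases hdiv : π ∣ a'
    · obtain ⟨a'', rfl⟩ := hdiv
      refine ih a'' (sub_eq_zero.1 (htf 1 _ ?_))
      rw [map_mul, pow_succ', mul_assoc] at hrel
      rw [pow_one, mul_sub, hrel, sub_self]
    · exfalso
      have hu : IsUnit a' := by
        by_contra hu
        exact hdiv ((hπ.maximalIdeal_eq ▸ (IsLocalRing.mem_maximalIdeal a').2 hu : a' ∈ Ideal.span {π}) |> Ideal.mem_span_singleton.1)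
      haveI : Nonempty C := (GeometricallyConnected.connectedSpace_of_subsingleton f).toNonempty
      obtain ⟨c⟩ := ‹Nonempty C›
      obtain ⟨y, -, hy⟩ := (isClosed_univ (X := X)).exists_closed_singleton ⟨g c, trivial⟩
      have hclosed : IsClosed (q.base '' {y}) := q.isClosedMap _ hy
      rw [Set.image_singleton] at hclosed
      have hmax : q y = IsLocalRing.closedPoint R :=
        PrimeSpectrum.ext (IsLocalRing.eq_maximalIdeal ((PrimeSpectrum.isClosed_singleton_iff_isMaximal _).1 hclosed))
      have hmem : y ∈ X.basicOpen (baseHom R X π) := by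
        have hua : IsUnit (baseHom R X π ^ (k + 1) * s) := hrel ▸ hu.map _
        rw [Scheme.mem_basicOpen X (U := ⊤) _ y (trivial : y ∈ (⊤ : X.Opens))]
        refine (isUnit_pow_iff k.succ_ne_zero).1 ?_
        rw [← map_pow]
        exact (isUnit_of_mul_isUnit_left hua).map _
      have h1 : y ∈ q ⁻¹ᵁ (Spec (CommRingCat.of R)).basicOpen ((Scheme.ΓSpecIso (CommRingCat.of R)).inv π) := by
        rw [Scheme.preimage_basicOpen_top]; exact hmem
      have h2 : q y ∈ PrimeSpectrum.basicOpen π :=
        (basicOpen_eq_of_affine (R := CommRingCat.of R) π).le (show q y ∈ _ from h1)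
      rw [hmax] at h2
      exact h2 hπ.not_isUnit

include H in
/-- Some quasi-coherent module has a nonzero form on its first cohomology. -/
theorem exists_form_HH_one [SmoothOfRelativeDimension 1 f] [IsProper f] [GeometricallyConnected f]
    [IsProper (X ↘ Spec (CommRingCat.of R))] [Flat (X ↘ Spec (CommRingCat.of R))] :
    ∃ F : X.Modules, Coh.IsQCoh F ∧ ∃ l : Coh.HH X F 1 →ₗ[R] R, l ≠ 0 := by
  obtain ⟨π, hπ⟩ := IsDiscreteValuationRing.exists_irreducible R
  haveI : Smooth f := SmoothOfRelativeDimension.smooth 1 f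
  have hbij := bijective_baseHom R H
  haveI : Nonempty C := (GeometricallyConnected.connectedSpace_of_subsingleton f).toNonempty
  haveI : JacobsonSpace C := LocallyOfFiniteType.jacobsonSpace f
  -- two closed points of the generic fibre
  have hne : closedPoints C ≠ ∅ := fun h => by
    have := closure_closedPoints (X := C)
    rw [h, closure_empty] at this
    exact Set.empty_ne_univ this
  obtain ⟨p₀, hp₀⟩ := Set.nonempty_iff_ne_empty.2 hne
  obtain ⟨q₀, hq₀, hpq⟩ : ∃ q₀ : C, q₀ ∈ closedPoints C ∧ q₀ ≠ p₀ := by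
    by_contra hcon
    push Not at hcon
    have hsub : closedPoints C ⊆ {p₀} := fun z hz => hcon z hz
    haveI : Subsingleton C := ⟨fun a b => by
      have h := (closure_mono hsub).trans hp₀.closure_eq.le
      rw [closure_closedPoints] at h
      exact (h (Set.mem_univ a) : a = p₀).trans (h (Set.mem_univ b) : b = p₀).symm⟩
    haveI : DiscreteTopology C := Subsingleton.discreteTopology
    have h1 := (TopDim.localDim_le_dim p₀).trans (topologicalKrullDim_zero_of_discreteTopology C)
    rw [Unram17Lib.localDim_of_smoothOfRelativeDimension (FractionRing R) f 1] at h1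
    exact absurd h1 (by decide)
  haveI := Inters29.isOpenImmersion_generic R
  haveI : IsOpenImmersion g := MorphismProperty.of_isPullback (P := @IsOpenImmersion) H.flip inferInstance
  have hcl : ∀ {c d : C}, IsClosed ({c} : Set C) → g d ∈ closure ({g c} : Set X) → d = c := fun {c d} hc hd => by
    have : d ∈ closure ({c} : Set C) := by
      rw [g.isOpenEmbedding.isInducing.closure_eq_preimage_closure_image, Set.image_singleton]
      exact hd
    rwa [hc.closure_eq] at this
  let φ := baseHom R X
  let q := X ↘ Spec (CommRingCat.of R)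
  haveI : IsLocallyNoetherian X := LocallyOfFiniteType.isLocallyNoetherian q
  haveI : CompactSpace X := QuasiCompact.compactSpace_of_compactSpace q
  haveI : QuasiSeparatedSpace X := quasiSeparatedSpace_of_quasiSeparated q
  let T : Closeds X := ⟨closure {g p₀} ∪ closure {g q₀}, isClosed_closure.union isClosed_closure⟩
  let I := Scheme.IdealSheafData.vanishingIdeal T
  let ι := I.subschemeι
  let Z := I.subscheme
  have hrange : Set.range ι = (closure {g p₀} ∪ closure {g q₀} : Set X) := by
    rw [I.range_subschemeι]; rfl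
  haveI : CompactSpace Z := QuasiCompact.compactSpace_of_compactSpace ι
  haveI : QuasiSeparatedSpace Z := quasiSeparatedSpace_of_quasiSeparated ι
  haveI hOq : Coh.IsQCoh (Coh.structureModule X) := (isCoh_structureModule X).1
  haveI : IsLocallyNoetherian Z := LocallyOfFiniteType.isLocallyNoetherian ι
  haveI : Coh.IsQCoh (Coh.structureModule Z) := (isCoh_structureModule Z).1
  let K := (Coh.push ι).obj (Coh.structureModule Z)
  haveI : Coh.IsQCoh K := isQCoh_push ι _
  let σ : Coh.structureModule X ⟶ K := unitDesc K (show Γ(K, ⊤) from (1 : Γ(Z, ⊤)))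
  have hσ : ∀ (V : X.Opens) (r : Γ(X, V)), (show Γ(Z, ι ⁻¹ᵁ V) from σ.app V r) = ι.app V r := fun V r => by
    have h := app_unit σ r
    rw [unitVal_unitDesc] at h
    refine h.trans ?_
    show ι.app V r * Z.presheaf.map (homOfLE _).op (1 : Γ(Z, ⊤)) = ι.app V r
    rw [map_one, mul_one]
  haveI : Epi σ := epi_of_locally_surjective σ fun W a y hy => by
    obtain ⟨V, hV, hyV, hVW⟩ := exists_isAffineOpen_mem_and_subset hy
    obtain ⟨r, hr⟩ := ι.app_surjective V hV (show Γ(Z, ι ⁻¹ᵁ V) from resM K hVW a)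
    exact ⟨V, hVW, hyV, r, (hσ V r).trans hr⟩
  let S : ShortComplex X.Modules := ShortComplex.mk (kernel.ι σ) σ (kernel.condition σ)
  have hS : S.ShortExact :=
    { exact := ShortComplex.exact_of_f_is_kernel _ (kernelIsKernel σ)
      mono_f := inferInstanceAs (Mono (kernel.ι σ))
      epi_g := inferInstanceAs (Epi σ) }
  have hI : Coh.IsCoh S.X₁ := isCoh_kernel σ (isCoh_structureModule X) ‹_›
  haveI : Module.Finite R (HA φ S.X₁ (⊤ : X.Opens) 1) := finCoh_of_isProper q S.X₁ hI 1
  -- a section separating the two points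
  let B : Z.Opens := Z.basicOpen (ι.appTop (φ π))
  obtain ⟨zp, hzp⟩ : g p₀ ∈ Set.range ι := by rw [hrange]; exact Or.inl (subset_closure rfl)
  obtain ⟨zq, hzq⟩ : g q₀ ∈ Set.range ι := by rw [hrange]; exact Or.inr (subset_closure rfl)
  have hB : ∀ z, z ∈ B ↔ ι z ∈ X.basicOpen (φ π) := fun z => by
    show z ∈ Z.basicOpen _ ↔ _
    rw [← Scheme.preimage_basicOpen_top]
    rfl
  let Op : Z.Opens := B ⊓ ι ⁻¹ᵁ ⟨(closure {g q₀})ᶜ, isClosed_closure.isOpen_compl⟩
  let Oq : Z.Opens := B ⊓ ι ⁻¹ᵁ ⟨(closure {g p₀})ᶜ, isClosed_closure.isOpen_compl⟩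
  let O : Bool → Z.Opens := fun b => bif b then Op else Oq
  have hOle : ∀ b, O b ≤ B := fun b => by cases b <;> exact inf_le_left
  have hcov : B ≤ iSup O := fun z hz => by
    obtain ⟨c, hc⟩ := basicOpen_le_range R H hπ ((hB z).1 hz)
    have hz' : ι z ∈ (closure {g p₀} ∪ closure {g q₀} : Set X) := hrange ▸ ⟨z, rfl⟩
    rcases hz' with h | h
    · refine Opens.mem_iSup.2 ⟨true, hz, fun h' => hpq ?_⟩
      exact (hcl hq₀ (hc ▸ h')).symm.trans (hcl hp₀ (hc ▸ h))
    · refine Opens.mem_iSup.2 ⟨false, hz, fun h' => hpq ?_⟩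
      exact (hcl hq₀ (hc ▸ h)).symm.trans (hcl hp₀ (hc ▸ h'))
  let sf : ∀ b, Γ(Z, O b) := fun b => bif b then 1 else 0
  have hcompat : TopCat.Presheaf.IsCompatible Z.sheaf.1 O sf := fun b c => by
    by_cases hbc : b = c
    · subst hbc; rfl
    · have hbot : O b ⊓ O c = ⊥ := by
        rw [eq_bot_iff]
        intro z hz
        have hz' : ι z ∈ (closure {g p₀} ∪ closure {g q₀} : Set X) := hrange ▸ ⟨z, rfl⟩
        cases b <;> cases c
        · exact absurd rfl hbc
        · exact absurd hz' fun h => h.elim hz.1.2 hz.2.2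
        · exact absurd hz' fun h => h.elim hz.2.2 hz.1.2
        · exact absurd rfl hbc
      have : Subsingleton Γ(Z, O b ⊓ O c) := by rw [hbot]; infer_instance
      exact this.elim _ _
  obtain ⟨s, hs, -⟩ : ∃! s : Γ(Z, B), ∀ b, Z.presheaf.map (homOfLE (hOle b)).op s = sf b :=
    Z.sheaf.existsUnique_gluing' O B (fun b => homOfLE (hOle b)) hcov sf hcompat
  obtain ⟨n, e, he⟩ := exists_eq_pow_mul_of_isCompact_of_isQuasiSeparated Z ⊤ isCompact_univ
    (isQuasiSeparated_univ) (ι.appTop (φ π)) s
  have hzpB : zp ∈ B := (hB zp).2 (hzp ▸ mem_basicOpen_of_generic R H hπ.ne_zero p₀)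
  have hzqB : zq ∈ B := (hB zq).2 (hzq ▸ mem_basicOpen_of_generic R H hπ.ne_zero q₀)
  have hgerm : ∀ (b : Bool) (z : Z) (hz : z ∈ O b), Z.presheaf.germ ⊤ z trivial e =
      Z.presheaf.germ ⊤ z trivial (ι.appTop (φ π)) ^ n * Z.presheaf.germ (O b) z hz (sf b) := fun b z hz => by
    have he' := congrArg (Z.presheaf.germ B z (hOle b hz)) he
    rw [map_mul, map_pow] at he'
    rw [← hs b, TopCat.Presheaf.germ_res_apply]
    refine Eq.trans ?_ (he'.trans ?_)
    · exact (TopCat.Presheaf.germ_res_apply Z.presheaf _ z (hOle b hz) e).symm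
    · congr 2
      exact TopCat.Presheaf.germ_res_apply Z.presheaf _ z (hOle b hz) _
  have hq0 : Z.presheaf.germ ⊤ zq trivial e = 0 := by
    have hz : zq ∈ O false := ⟨hzqB, fun h => hpq (hcl hp₀ (hzq ▸ h))⟩
    rw [hgerm false zq hz]
    simp [sf]
  have hp1 : IsUnit (Z.presheaf.germ ⊤ zp trivial e) := by
    have hz : zp ∈ O true := ⟨hzpB, fun h => hpq (hcl hq₀ (hzp ▸ h)).symm⟩
    rw [hgerm true zp hz]
    simp only [sf, cond_true, map_one, mul_one]
    exact ((Scheme.mem_basicOpen Z (U := ⊤) _ zp (trivial : zp ∈ (⊤ : Z.Opens))).1 hzpB).pow n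
  let δe : HA φ S.X₁ (⊤ : X.Opens) 1 := deltaG φ hS (show GA φ S.X₃ from e)
  by_contra hcon
  push Not at hcon
  -- every element of the first cohomology of the kernel is torsion
  obtain ⟨⟨a, ha⟩, hae⟩ : δe ∈ Submodule.torsion R (HA φ S.X₁ (⊤ : X.Opens) 1) := by
    by_contra hnt
    let N := HA φ S.X₁ (⊤ : X.Opens) 1
    let b := Module.Free.chooseBasis R (N ⧸ Submodule.torsion R N)
    obtain ⟨i, hi⟩ : ∃ i, b.coord i (Submodule.Quotient.mk δe) ≠ 0 := by
      by_contra hall
      push Not at hall
      exact hnt ((Submodule.Quotient.mk_eq_zero _).1 (b.forall_coord_eq_zero_iff.1 hall))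
    have h0 := hcon S.X₁ hI.1 ((b.coord i).comp ((Submodule.torsion R N).mkQ.comp (HHBaseEquiv R S.X₁ 1).toLinearMap))
    have := LinearMap.congr_fun h0 ((HHBaseEquiv R S.X₁ 1).symm δe)
    simp only [LinearMap.comp_apply, LinearMap.zero_apply] at this
    refine hi (Eq.trans ?_ this)
    exact congrArg (fun x => b.coord i ((Submodule.torsion R N).mkQ x)) ((HHBaseEquiv R S.X₁ 1).apply_symm_apply δe).symm
  have hzero : deltaG φ hS (a • (show GA φ S.X₃ from e)) = 0 := by
    rw [map_smul]
    exact hae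
  obtain ⟨y, hy⟩ := (deltaG_eq_zero_iff φ hS _).1 hzero
  obtain ⟨b, hb⟩ := hbij.2 (show Γ(X, ⊤) from y)
  have heq : ι.appTop (φ b) = ι.appTop (φ a) * e := by
    refine Eq.trans ?_ (hy.trans rfl)
    rw [hb]
    exact (hσ ⊤ _).symm
  have hb0 : b = 0 := by
    by_contra hb0
    have hu : zq ∈ Z.basicOpen (ι.appTop (φ b)) := by
      rw [← Scheme.preimage_basicOpen_top]
      show ι zq ∈ X.basicOpen (φ b)
      rw [hzq]
      exact mem_basicOpen_of_generic R H hb0 q₀
    rw [Scheme.mem_basicOpen Z (U := ⊤) _ zq (trivial : zq ∈ (⊤ : Z.Opens)), heq, map_mul, hq0, mul_zero] at hu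
    exact not_isUnit_zero hu
  rw [hb0, map_zero, map_zero] at heq
  have h1 := congrArg (Z.presheaf.germ ⊤ zp trivial) heq
  rw [map_zero, map_mul] at h1
  have hua : IsUnit (Z.presheaf.germ ⊤ zp trivial (ι.appTop (φ a))) := by
    rw [← Scheme.mem_basicOpen Z (U := ⊤) _ zp (trivial : zp ∈ (⊤ : Z.Opens)), ← Scheme.preimage_basicOpen_top]
    show ι zp ∈ X.basicOpen (φ a)
    rw [hzp]
    exact mem_basicOpen_of_generic R H (nonZeroDivisors.ne_zero ha) p₀
  exact (hua.mul hp1).ne_zero h1.symm

end Groth.Agent.Models7
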