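import Groth.Agent.SplitP1.Decomp
import Groth.Agent.DimLib.ProjDim
import Groth.Agent.Clifford24.Lipman.Field
import Groth.Agent.Clifford24.Lipman.ClosedSub
import Groth.Agent.Coherent.ProjSpaceCoh
import Groth.Agent.AmpleLib.Relative

/-!
# Invertible modules on a curve isomorphic to the projective line
-/

set_option autoImplicit false
set_option linter.style.haveILetI false
set_option backward.isDefEq.respectTransparency.types false

universe u

open CategoryTheory CategoryTheory.Limits AlgebraicGeometry TopologicalSpace Opposite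
open Groth.Agent.Coherent Groth.Agent.PicLib Groth.Agent.AmpleLib Groth.Agent.EulerLib

namespace Groth.Agent.Models7.P1Deg

variable {k : Type u} [Field k] {E : Scheme.{u}} (e : CohB1.ProjSpace 1 k ≅ E)

local notation "T(" d ")" => Twist.twistProjSpace 1 k d

/-- The invertible module `M` has degree `m`. -/
def HasDeg (M : E.Modules) (m : ℤ) : Prop :=
  Nonempty ((Scheme.Modules.pullback e.hom).obj M ≅ T(m))

theorem exists_hasDeg {M : E.Modules} (hM : PicF.IsInvertible M) : ∃ m, HasDeg e M m := by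
  have hP : PicF.IsInvertible ((Scheme.Modules.pullback e.hom).obj M) := PicLoc.isInvertible_pullback e.hom hM
  have hE : FlatMod.IsFinLocFreeOfRank 1 ((Scheme.Modules.pullback e.hom).obj M) :=
    fun x => isFinLocFreeOfRank_one hP x
  obtain ⟨d, ⟨φ⟩⟩ := SplitP1.exists_decomp 1 _ (SplitP1.isCoh_of_rank hE)
    fun x => SplitP1.nonempty_basis_stalk hE x
  exact ⟨d default, ⟨φ ≪≫ coproductUniqueIso _⟩⟩

theorem HasDeg.of_iso {M N : E.Modules} {m : ℤ} (h : HasDeg e M m) (φ : M ≅ N) : HasDeg e N m := by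
  obtain ⟨ψ⟩ := h
  exact ⟨(Scheme.Modules.pullback e.hom).mapIso φ.symm ≪≫ ψ⟩

theorem twist_unique {a b : ℤ} (φ : T(a) ≅ T(b)) : a = b := by
  have h : ∀ c, (c - a + 1).toNat = (c - b + 1).toNat := fun c => by
    haveI := SplitP1.finite_hom_twist (SplitP1.isCoh_twist_obj k a) c
    rw [← SplitP1.finrank_hom_twist (k := k) a c, ← SplitP1.finrank_hom_twist (k := k) b c]
    exact (Linear.homCongr k φ (Iso.refl T(c))).finrank_eq
  have h1 := h a
  have h2 := h b
  omega

theorem HasDeg.unique {M : E.Modules} {a b : ℤ} (ha : HasDeg e M a) (hb : HasDeg e M b) : a = b := by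
  obtain ⟨φ⟩ := ha
  obtain ⟨ψ⟩ := hb
  exact twist_unique (φ.symm ≪≫ ψ)

theorem HasDeg.tensor {M N : E.Modules} (hM : PicF.IsInvertible M) (hN : PicF.IsInvertible N) {a b : ℤ}
    (ha : HasDeg e M a) (hb : HasDeg e N b) : HasDeg e (CohB1.tensorMod M N) (a + b) := by
  obtain ⟨φ⟩ := ha
  obtain ⟨ψ⟩ := hb
  obtain ⟨t⟩ := exists_pullTensorIso e.hom hM hN
  obtain ⟨s⟩ := SplitP1.nonempty_twist_add k (a := a) (b := b) rfl
  exact ⟨t ≪≫ tensorIso φ ψ ≪≫ s⟩

theorem hasDeg_structure : HasDeg e (Coh.structureModule E) 0 := by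
  obtain ⟨φ⟩ := exists_pullStructureIso (X := E) e.hom
  obtain ⟨ψ⟩ := SplitP1.nonempty_twist_zero k
  exact ⟨φ ≪≫ ψ.symm⟩

theorem HasDeg.pow {M : E.Modules} (hM : PicF.IsInvertible M) {a : ℤ} (ha : HasDeg e M a) :
    ∀ n : ℕ, HasDeg e (CohB1.tensorPow M n) (n * a)
  | 0 => by rw [Nat.cast_zero, zero_mul]; exact hasDeg_structure e
  | n + 1 => by
    rw [Nat.cast_succ, add_one_mul]
    exact (HasDeg.pow hM ha n).tensor e (isInvertible_tensorPow hM n) hM ha

/-- The degree of an inverse. -/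
theorem HasDeg.inverse {M N : E.Modules} (hM : PicF.IsInvertible M) (hN : PicF.IsInvertible N)
    (φ : CohB1.tensorMod M N ≅ Coh.structureModule E) {b : ℤ} (hb : HasDeg e N b) : HasDeg e M (-b) := by
  obtain ⟨a, ha⟩ := exists_hasDeg e hM
  have h := ((ha.tensor e hM hN hb).of_iso e φ).unique e (hasDeg_structure e)
  rwa [show -b = a by omega]

variable (k) in
theorem noH2 : Lipman24.NoH2 (CohB1.ProjSpace 1 k) := by
  haveI : (CohB1.ProjSpace 1 k).IsSeparated := ⟨by
    rw [← terminal.comp_from ((CohB1.ProjSpace 1 k) ↘ Spec (CommRingCat.of k))]; infer_instance⟩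
  exact Lipman24.noH2_of_dim ((DimLib.PN.topologicalKrullDim_projSpace 1 k).le.trans (by norm_num))

theorem noH2' (e : CohB1.ProjSpace 1 k ≅ E) : Lipman24.NoH2 E :=
  Lipman24.NoH2.closedImmersion e.inv (noH2 k)

/-- The module `M` is the pullback of its twist along the inverse. -/
theorem HasDeg.iso_pullback {M : E.Modules} {m : ℤ} (h : HasDeg e M m) :
    Nonempty ((Scheme.Modules.pullback e.inv).obj T(m) ≅ M) := by
  obtain ⟨φ⟩ := h
  exact ⟨(Scheme.Modules.pullback e.inv).mapIso φ.symm ≪≫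
    (Scheme.Modules.pullbackComp e.inv e.hom).app M ≪≫
    (Scheme.Modules.pullbackCongr e.inv_hom_id).app M ≪≫ (Scheme.Modules.pullbackId E).app M⟩

theorem HasDeg.subsingleton_H1 {M : E.Modules} (hM : PicF.IsInvertible M) {m : ℤ} (h : HasDeg e M m)
    (hm : -1 ≤ m) : Subsingleton (Coh.HH E M 1) := by
  obtain ⟨ψ⟩ := h.iso_pullback e
  have hq : Coh.IsQCoh T(m) := isQCoh_of_isInvertible (SplitP1.inv_twist k m)
  have h1 := Lipman24.subsingleton_H1_pullback e.inv (noH2 k) hq
    (Coherent.subsingleton_HH_twist (n := 1) (R := k) (d := m) 1 (by omega) (by omega))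
  haveI : Epi ψ.hom := inferInstance
  haveI := hq
  exact Lipman24.subsingleton_H1_of_epi (noH2' e) (EGA43.InjFibre.isQCoh_pullback e.inv _)
    (isQCoh_of_isInvertible hM) ψ.hom h1

theorem gl_twist {m : ℤ} (hm : 0 ≤ m) : Lipman24.Gl T(m) := by
  have h1 : Subsingleton (Coh.HH (CohB1.ProjSpace 1 k) (Coh.structureModule _) 1) := by
    obtain ⟨ψ⟩ := SplitP1.nonempty_twist_zero k
    haveI : Coh.IsQCoh T(0) := isQCoh_of_isInvertible (SplitP1.inv_twist k 0)
    haveI : Epi ψ.hom := inferInstance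
    exact Lipman24.subsingleton_H1_of_epi (noH2 k) inferInstance isQCoh_structureModule ψ.hom
      (Coherent.subsingleton_HH_twist (n := 1) (R := k) (d := 0) 1 (by omega) (by omega))
  refine Lipman24.gl_of_deg_nonneg k ((DimLib.PN.topologicalKrullDim_projSpace 1 k).le.trans (by norm_num)) h1
    (SplitP1.inv_twist k m) fun _ => ?_
  have key : ∀ d : ℤ, 0 ≤ d → Curv2.euler k (CohB1.ProjSpace 1 k) T(d) = d + 1 := by
    intro d hd
    rw [Curv2.euler, finsum_eq_single _ 0 fun i hi => ?_]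
    · rw [SplitP1.h0_twist k d]; simp; omega
    · haveI := Coherent.subsingleton_HH_twist (n := 1) (R := k) (d := d) i (by omega) (by omega)
      rw [Module.finrank_zero_of_subsingleton, Nat.cast_zero, mul_zero]
  have e0 : Curv2.euler k (CohB1.ProjSpace 1 k) (Coh.structureModule _) = 1 := by
    obtain ⟨ψ⟩ := SplitP1.nonempty_twist_zero k
    rw [← zero_add (1 : ℤ), ← key 0 le_rfl, Curv2.euler, Curv2.euler]
    exact finsum_congr fun i => by rw [CurveRR24.finrank_HH_congr k ψ i]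
  rw [Curv2.deg, key m hm, e0]
  omega

theorem HasDeg.gl {M : E.Modules} {m : ℤ} (h : HasDeg e M m) (hm : 0 ≤ m) : Lipman24.Gl M := by
  obtain ⟨ψ⟩ := h.iso_pullback e
  exact ((gl_twist hm).pullback e.inv (SplitP1.inv_twist k m)).of_iso ψ

/-- A module with a section not vanishing everywhere has nonnegative degree. -/
theorem HasDeg.nonneg {M : E.Modules} (hM : PicF.IsInvertible M) {m : ℤ} (h : HasDeg e M m) {s : Γ(M, ⊤)}
    {x : E} (hx : x ∈ glocus M s) : 0 ≤ m := by
  by_contra hm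
  obtain ⟨φ⟩ := h
  let y := e.inv x
  have hy : y ∈ glocus T(m) (φ.hom.app ⊤ (pullSec e.hom s)) := by
    rw [glocus_map_iso, glocus_pullSec e.hom hM]
    show e.hom (e.inv x) ∈ glocus M s
    rwa [← Scheme.Hom.comp_apply, e.inv_hom_id]
  haveI := Coherent.subsingleton_HH_twist (n := 1) (R := k) (d := m) 0 (by omega) (by omega)
  haveI : Subsingleton Γ(T(m), ⊤) :=
    ((CurveRR24.hhZero k (X := CohB1.ProjSpace 1 k) T(m)).toEquiv.subsingleton_congr.1 inferInstance :)
  have h0 : φ.hom.app ⊤ (pullSec e.hom s) = 0 := Subsingleton.elim _ _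
  obtain ⟨W, hyW, g, hg⟩ := exists_isGen (SplitP1.inv_twist k m) y
  have hb := glocus_inf (φ.hom.app ⊤ (pullSec e.hom s)) hg
  have hc : hg.coef le_rfl (resM _ le_top (φ.hom.app ⊤ (pullSec e.hom s))) = 0 := by
    rw [h0, map_zero]
    exact IsGen.coef_eq _ _ (zero_smul _ _)
  have : y ∈ (CohB1.ProjSpace 1 k).basicOpen (0 : Γ(CohB1.ProjSpace 1 k, W)) := by
    rw [← hc]; exact hb.le ⟨hy, hyW⟩
  rw [Scheme.basicOpen_zero] at this
  exact this

end Groth.Agent.Models7.P1Deg
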