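import Groth.Agent.PicLib.CocycleGlue
import Groth.Agent.PicLib.PullbackGen
import Groth.Agent.BlowUpLib.FiniteBirational

/-!
# Descent of invertible modules along maps which are isomorphisms over an open
-/

set_option autoImplicit false
set_option backward.isDefEq.respectTransparency.types false
set_option maxHeartbeats 800000

universe u

open CategoryTheory CategoryTheory.Limits AlgebraicGeometry TopologicalSpace
open Groth.Agent.Coherent Groth.Agent.PicLib Groth.Agent.VarietyLib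

noncomputable section

namespace Groth.Agent.Models7

variable {Y X : Scheme.{u}} (ν : Y ⟶ X) (U : X.Opens) [IsIso (ν ∣_ U)]

theorem app_bijective_of_le {V : X.Opens} (h : V ≤ U) : Function.Bijective (ν.app V) :=
  haveI := BlowUpLib.isIso_app_of_le ν U h
  ConcreteCategory.bijective_of_isIso (ν.app V)

theorem app_res' {V W : X.Opens} (h : W ≤ V) (a : Γ(X, V)) :
    ν.app W (PicLib.res h a) = PicLib.res (ν.preimage_mono h) (ν.app V a) :=
  ConcreteCategory.congr_hom (ν.naturality (homOfLE h).op) a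

theorem existsUnique_preimage_mem {x : X} (hx : x ∈ U) : ∃! y : Y, ν y = x := by
  have hb : Function.Bijective (ν ∣_ U) := (ν ∣_ U).homeomorph.bijective
  obtain ⟨y, hy⟩ := hb.2 ⟨x, hx⟩
  have hval : ∀ z : (ν ⁻¹ᵁ U).toScheme, ((ν ∣_ U) z).1 = ν z.1 := fun z => morphismRestrict_base_coe ν U z
  refine ⟨y.1, show ν y.1 = x by rw [← hval, hy], fun z hz => ?_⟩
  let z' : (ν ⁻¹ᵁ U).toScheme := ⟨z, show ν z ∈ U from hz ▸ hx⟩
  exact congrArg Subtype.val (hb.1 (a₁ := z') (a₂ := y) (hy ▸ Subtype.ext ((hval z').trans hz)))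

/-- An invertible module which is free over an open `W` covering the complement of the locus where a
closed map is an isomorphism comes from the target. -/
theorem exists_pullback_iso_of_isIso_over (hν : IsClosedMap ν) (W : X.Opens) (hUW : U ⊔ W = ⊤)
    {L : Y.Modules} (hL : PicF.IsInvertible L) {g : Γ(L, ν ⁻¹ᵁ W)} (hg : IsGen L (ν ⁻¹ᵁ W) g) :
    ∃ M : X.Modules, PicF.IsInvertible M ∧ Nonempty ((Scheme.Modules.pullback ν).obj M ≅ L) := by
  classical
  have hloc : ∀ x : {x : X // x ∈ U}, ∃ (O : X.Opens) (t : Γ(L, ν ⁻¹ᵁ O)),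
      x.1 ∈ O ∧ O ≤ U ∧ IsGen L (ν ⁻¹ᵁ O) t := fun x => by
    obtain ⟨y, hy, huniq⟩ := existsUnique_preimage_mem ν U x.2
    obtain ⟨A, hyA, s, hs⟩ := exists_isGen hL y
    let O : X.Opens := U ⊓ ⟨(ν '' (A : Set Y)ᶜ)ᶜ, (hν _ A.isOpen.isClosed_compl).isOpen_compl⟩
    have hxO : x.1 ∈ O := ⟨x.2, fun ⟨z, hz, hzx⟩ => hz (by rw [huniq z hzx]; exact hyA)⟩
    have hOA : ν ⁻¹ᵁ O ≤ A := fun z hz => not_not.1 fun h => hz.2 ⟨z, h, rfl⟩
    exact ⟨O, _, hxO, inf_le_left, hs.restrict hOA⟩
  choose O t hxO hOU ht using hloc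
  let V : Option {x : X // x ∈ U} → X.Opens := fun i => i.elim W O
  let s : ∀ i, Γ(L, ν ⁻¹ᵁ V i) := fun i => match i with
    | none => g
    | some x => t x
  have hs : ∀ i, IsGen L (ν ⁻¹ᵁ V i) (s i) := fun i => by
    cases i with
    | none => exact hg
    | some x => exact ht x
  have hV : ∀ i, i ≠ none → V i ≤ U := fun i hi => by
    cases i with
    | none => exact absurd rfl hi
    | some x => exact hOU x
  have hex : ∀ i j, ∃ a : (Γ(X, V i ⊓ V j))ˣ,
      ν.app (V i ⊓ V j) (a : Γ(X, V i ⊓ V j)) • resM L (ν.preimage_mono inf_le_right) (s j) =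
        resM L (ν.preimage_mono inf_le_left) (s i) ∧ (i = none → j = none → a = 1) := by
    intro i j
    by_cases h : i = none ∧ j = none
    · obtain ⟨rfl, rfl⟩ := h
      exact ⟨1, by rw [Units.val_one, map_one, one_smul], fun _ _ => rfl⟩
    · have hle : V i ⊓ V j ≤ U := by
        rcases not_and_or.1 h with h | h
        · exact inf_le_left.trans (hV i h)
        · exact inf_le_right.trans (hV j h)
      have hu := ((hs j).restrict (ν.preimage_mono (inf_le_right : V i ⊓ V j ≤ V j))).isUnit_coef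
        ((hs i).restrict (ν.preimage_mono (inf_le_left : V i ⊓ V j ≤ V i)))
      have hb := app_bijective_of_le ν U hle
      obtain ⟨a, ha⟩ := hb.2 (((hs j).restrict (ν.preimage_mono inf_le_right)).coef le_rfl
        (resM L (ν.preimage_mono inf_le_left) (s i)))
      obtain ⟨b, hb'⟩ := hu.exists_right_inv
      obtain ⟨c, hc⟩ := hb.2 b
      have hau : a * c = 1 := hb.1 (by rw [map_mul, ha, hc, hb', map_one])
      refine ⟨(IsUnit.of_mul_eq_one c hau).unit, ?_, fun hi hj => absurd ⟨hi, hj⟩ h⟩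
      rw [IsUnit.unit_spec, ha]
      have h2 := ((hs j).restrict (ν.preimage_mono (inf_le_right : V i ⊓ V j ≤ V j))).coef_spec le_rfl
        (resM L (ν.preimage_mono inf_le_left) (s i))
      rwa [resM_self] at h2
  choose η hη hη1 using hex
  have key : ∀ i j (T : X.Opens) (hi : T ≤ V i) (hj : T ≤ V j),
      ν.app T (PicLib.res (le_inf hi hj) (η i j : Γ(X, V i ⊓ V j))) • resM L (ν.preimage_mono hj) (s j) =
        resM L (ν.preimage_mono hi) (s i) := by
    intro i j T hi hj
    have h := congrArg (resM L (ν.preimage_mono (le_inf hi hj))) (hη i j)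
    rw [resM_smul, resM_resM, resM_resM] at h
    rw [app_res']
    exact h
  have hco : ∀ (x : X) (i j k : {i // x ∈ V i}),
      CocycleGlue.eta V η i k = CocycleGlue.eta V η i j * CocycleGlue.eta V η j k := by
    intro x i j k
    let T := V i.1 ⊓ V j.1 ⊓ V k.1
    have hx : x ∈ T := ⟨⟨i.2, j.2⟩, k.2⟩
    have hi : T ≤ V i.1 := inf_le_left.trans inf_le_left
    have hj : T ≤ V j.1 := inf_le_left.trans inf_le_right
    have hk : T ≤ V k.1 := inf_le_right
    show X.presheaf.germ _ x _ _ = X.presheaf.germ _ x _ _ * X.presheaf.germ _ x _ _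
    rw [← StarGlue.germ_resO (le_inf hi hk) hx, ← StarGlue.germ_resO (le_inf hi hj) hx,
      ← StarGlue.germ_resO (le_inf hj hk) hx, ← map_mul]
    refine congrArg _ ?_
    by_cases h : i.1 = none ∧ j.1 = none ∧ k.1 = none
    · rw [hη1 _ _ h.1 h.2.2, hη1 _ _ h.1 h.2.1, hη1 _ _ h.2.1 h.2.2, Units.val_one, Units.val_one, Units.val_one]
      simp
    · have hTU : T ≤ U := by
        rcases not_and_or.1 h with h | h
        · exact hi.trans (hV _ h)
        rcases not_and_or.1 h with h | h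
        · exact hj.trans (hV _ h)
        · exact hk.trans (hV _ h)
      refine (app_bijective_of_le ν U hTU).1 (((hs k.1).restrict (ν.preimage_mono hk) _ le_rfl).1 ?_)
      simp only [resM_self]
      show _ • resM L (ν.preimage_mono hk) (s k.1) = _ • resM L (ν.preimage_mono hk) (s k.1)
      rw [key i.1 k.1 T hi hk, map_mul, mul_smul, key j.1 k.1 T hj hk, key i.1 j.1 T hi hj]
  have hcov : iSup V = ⊤ := top_le_iff.1 fun x _ => by
    rcases (hUW.ge (trivial : x ∈ (⊤ : X.Opens))) with h | h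
    · exact Opens.mem_iSup.2 ⟨some ⟨x, h⟩, hxO ⟨x, h⟩⟩
    · exact Opens.mem_iSup.2 ⟨none, h⟩
  obtain ⟨M, m, hM, hgen, hmη⟩ := CocycleGlue.exists_invertible V η hco hcov
  refine ⟨M, hM, ?_⟩
  let P := (Scheme.Modules.pullback ν).obj M
  have hcov' : ⨆ i, ν ⁻¹ᵁ V i = ⊤ := top_le_iff.1 fun z _ => by
    obtain ⟨i, hi⟩ := Opens.mem_iSup.1 (hcov.ge (trivial : ν z ∈ (⊤ : X.Opens)))
    exact Opens.mem_iSup.2 ⟨i, hi⟩
  have hm : ∀ i, IsGen P (ν ⁻¹ᵁ V i) (pullSec ν (m i)) := fun i => isGen_pullSec ν (hgen i) hM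
  obtain ⟨φ, hφ⟩ := exists_hom_of_gen (L := P) (M := L) (fun i => ν ⁻¹ᵁ V i) hcov'
    (fun i => pullSec ν (m i)) hm s (fun i j T hi hj c hc => by
      have h1 : resM P (ν.preimage_mono (inf_le_left : V i ⊓ V j ≤ V i)) (pullSec ν (m i)) =
          ν.app _ (η i j : Γ(X, V i ⊓ V j)) •
            resM P (ν.preimage_mono (inf_le_right : V i ⊓ V j ≤ V j)) (pullSec ν (m j)) := by
        have := congrArg (pullSec ν) (hmη i j)
        rw [pullSec_smul, ← resM_pullSec, ← resM_pullSec] at this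
        exact this
      have hT : T ≤ ν ⁻¹ᵁ (V i ⊓ V j) := fun z hz => ⟨hi hz, hj hz⟩
      have h1' := congrArg (resM P hT) h1
      rw [resM_smul, resM_resM, resM_resM, hc] at h1'
      have hcη := (hm j T hj).1 h1'
      have h2 := congrArg (resM L hT) (hη i j)
      rw [resM_smul, resM_resM, resM_resM] at h2
      rw [hcη]
      exact h2.symm)
  have : IsIso φ := isIso_of_gens φ (fun i => ν ⁻¹ᵁ V i) hcov' _ hm fun i => (hφ i).symm ▸ hs i
  exact ⟨asIso φ⟩

end Groth.Agent.Models7
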