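import Groth.Agent.Inters29.Fibre
import Groth.Agent.Inters29.Comp


/-!
# The reduced closed fibre as the sum of the components
-/

set_option autoImplicit false
set_option linter.style.haveILetI false
set_option backward.isDefEq.respectTransparency false
set_option maxHeartbeats 1000000

universe u

open CategoryTheory CategoryTheory.Limits AlgebraicGeometry IsLocalRing
open Groth.Agent.Coherent Groth.Agent.PicLib Groth.Agent.AmpleLib
open Groth.Agent.Misc15.DivDescent Groth.Agent.SDiv28.CartierPart

namespace Groth.Agent.Models7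

variable (R : Type u) [CommRing R] [IsDomain R] [IsDiscreteValuationRing R]
variable {X : Over (Spec (CommRingCat.of R))} [IsIntegral X.left] [IsLocallyNoetherian X.left] [Flat X.hom]

theorem stk_le_stk {Y : Scheme.{u}} {I J : Y.IdealSheafData} (h : I ≤ J) (x : Y) : stk I x ≤ stk J x := by
  obtain ⟨_, ⟨U, hU, rfl⟩, hxU, -⟩ :=
    Y.isBasis_affineOpens.exists_subset_of_mem_open (Set.mem_univ x) isOpen_univ
  rw [stk_eq I ⟨U, hU⟩ hxU, stk_eq J ⟨U, hU⟩ hxU]
  exact Ideal.map_mono (h _)

theorem prod_pow_le_prod {Y : Scheme.{u}} {ι : Type*} (s : Finset ι) (D : ι → Y.IdealSheafData) (a : ι → ℕ)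
    (ha : ∀ i ∈ s, a i ≠ 0) : ∏ i ∈ s, D i ^ a i ≤ ∏ i ∈ s, D i := by
  intro U
  refine fun c hc => ?_
  rw [mem_ideal_iff] at hc ⊢
  intro x hx
  have h := hc x hx
  rw [stk_prod] at h ⊢
  refine (Finset.prod_le_prod' fun i hi => ?_ : (_ : Ideal _) ≤ _) h
  rw [stk_pow]
  exact Ideal.pow_le_self (ha i hi)

omit [IsIntegral X.left] [IsLocallyNoetherian X.left] [Flat X.hom] in
theorem redFibreIdeal_le_ker (Γ : ArSurf.VertComp R X) : Models.redFibreIdeal R X ≤ Γ.ι.ker := by
  refine le_of_le_of_eq ?_ (Props12.ker_eq_vanishingIdeal Γ.ι).symm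
  refine Scheme.IdealSheafData.vanishingIdeal_antimono ?_
  show closure (Set.range Γ.ι.base) ⊆ Models.specialFibreSet R X
  exact closure_minimal (Inters29.range_subset_specialFibreSet R Γ) (Models.isClosed_specialFibreSet R X)

variable {n : ℕ} (Γ : Fin n → ArSurf.VertComp R X)

/-- The reduced closed fibre is the sum of the components of the closed fibre. -/
theorem redFibreIdeal_eq_prod (hreg : ∀ x : X.left, IsRegularLocalRing (X.left.presheaf.stalk x))
    (hΓ : Models.IsComponentList R X Γ) : Models.redFibreIdeal R X = ∏ i, (Γ i).ι.ker := by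
  classical
  let D := fun i => (Γ i).ι.ker
  have hD := Inters29.isEffCartier_listComp R Γ hreg hΓ
  refine le_antisymm ?_ ?_
  · have hgen : ∀ i j, gen (D i) = gen (D j) → i = j := fun i j h => Inters29.genPt_injective R Γ hΓ (by
      show (Γ i).ι _ = (Γ j).ι _
      rw [← Inters29.gen_ker, ← Inters29.gen_ker]; exact h)
    intro U
    refine fun c hc => ?_
    rw [mem_ideal_iff] at hc ⊢
    intro x hx
    have h := mem_stk_prod D hD (fun _ => 1) Finset.univ (fun i _ j _ h => hgen i j h) x _ fun i _ h => by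
      rw [pow_one]
      refine stk_le_stk (redFibreIdeal_le_ker R (Γ i)) _ ?_
      rw [stk_specializes _ h]
      exact Ideal.mem_map_of_mem _ (hc x hx)
    simpa only [pow_one] using h
  · refine Scheme.IdealSheafData.le_support_iff_le_vanishingIdeal.1 fun z hz => ?_
    obtain ⟨i, hi⟩ := Inters29.exists_genPt_specializes R Γ hΓ hz
    have hle : ∏ j, (Γ j).ι.ker ≤ (Γ i).ι.ker := by
      intro U
      refine fun c hc => ?_
      rw [mem_ideal_iff] at hc ⊢
      intro x hx
      have h := hc x hx
      rw [stk_prod] at h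
      exact Ideal.le_of_dvd (Finset.dvd_prod_of_mem _ (Finset.mem_univ i)) h
    refine Scheme.IdealSheafData.support_antitone hle ?_
    rw [SetLike.mem_coe.symm, Inters29.support_ker_eq R]
    exact hi.mem_closed (Γ i).ι.isClosedEmbedding.isClosed_range ⟨_, rfl⟩

end Groth.Agent.Models7
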