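import Groth.Agent.Models7.PicDVR
import Groth.Agent.Models7.ChainField
import Groth.Agent.Models7.RedFibre
import Groth.Agent.Inters29.Connected
import Groth.Agent.Inters29.ModelPic
import Groth.Agent.Inters29.Family
import Groth.Agent.Inters29.FibreDim
import Groth.Agent.Inters29.Exist

/-!
# Torsion invertible modules on a regular proper model
-/

set_option autoImplicit false
set_option linter.style.haveILetI false
set_option backward.isDefEq.respectTransparency false

universe u

open CategoryTheory CategoryTheory.Limits AlgebraicGeometry

namespace Groth.Agent.Models7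

variable {R : Type u} [CommRing R] [IsDomain R] [IsDiscreteValuationRing R]
variable {C X : Scheme.{u}} {f : C ⟶ Spec (CommRingCat.of (FractionRing R))} {p : X ⟶ Spec (CommRingCat.of R)}

/-- The functions on the reduced closed fibre of a regular proper model form a field, finite over the base. -/
theorem redFibre_field (hC : Curve.IsSmoothProperCurve (FractionRing R) C f) (hH0 : IsIso f.appTop)
    (hX : Models.IsRegularProperModel R X p C f) :
    IsField ↑Γ((Models.redFibreIdeal R (Over.mk p)).subscheme, ⊤) ∧
      (((Models.redFibreIdeal R (Over.mk p)).subschemeι ≫ p).appTop.hom.comp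
        (Scheme.ΓSpecIso (CommRingCat.of R)).inv.hom).Finite := by
  have hC' := hC
  haveI := hC.2.2.1
  haveI : IsIntegral X := Inters29.isIntegral_model R hX.1 hX.2.2
  haveI := hX.2.1
  haveI : IsLocallyNoetherian X := LocallyOfFiniteType.isLocallyNoetherian p
  haveI : IsIntegral (Over.mk p).left := inferInstanceAs (IsIntegral X)
  haveI : IsLocallyNoetherian (Over.mk p).left := inferInstanceAs (IsLocallyNoetherian X)
  haveI : Flat (Over.mk p).hom := hX.1.1
  haveI : IsProper (Over.mk p).hom := hX.2.1
  haveI : IsProper f := hC.1
  obtain ⟨g, hg⟩ := hX.1.2.2.2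
  have hdim : topologicalKrullDim (Over.mk p).left = 2 :=
    Inters29.topologicalKrullDim_eq_two R (X := Over.mk p)
      (Inters29.trdAt_genericPoint R (X := Over.mk p) f hC.2.2.2 g hg)
  obtain ⟨n, Γ, hΓ⟩ := Inters29.exists_componentList R (X := Over.mk p) hdim
  have hconn : _root_.IsConnected (Models.specialFibreSet R (Over.mk p)) :=
    Inters29.isConnected_specialFibreSet R hH0 g hg
  have hD := Inters29.isEffCartier_model hC' hX hΓ
  choose L hL using fun i => Inters29.exists_inverse_ker R (X := Over.mk p) hX.2.2 (hD i)
  have h := isField_of_rigid R (X := Over.mk p) hX.2.2 Γ L hL hΓ hconn (fun _ => 1) (fun _ => le_rfl)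
    (rigid_one R Γ L)
  have e : ∏ j, (Γ j).ι.ker ^ 1 = Models.redFibreIdeal R (Over.mk p) := by
    simp only [pow_one]
    exact (redFibreIdeal_eq_prod R Γ hX.2.2 hΓ).symm
  rwa [e] at h

/-- A torsion invertible module on a regular proper model, of order prime to the residue characteristic and
trivial on the reduced closed fibre, is trivial. -/
theorem torsion_trivial (hC : Curve.IsSmoothProperCurve (FractionRing R) C f) (hH0 : IsIso f.appTop)
    (hX : Models.IsRegularProperModel R X p C f) {h : ℕ} (hh : 0 < h)
    (hchar : ∀ q : ℕ, q.Prime → CharP (IsLocalRing.ResidueField R) q → ¬ q ∣ h)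
    {M : X.Modules} (hM : PicF.IsInvertible M)
    (htors : Nonempty (CohB1.tensorPow M h ≅ Coh.structureModule X))
    (htriv : Nonempty ((Scheme.Modules.pullback (Models.redFibreIdeal R (Over.mk p)).subschemeι).obj M ≅
      Coh.structureModule (Models.redFibreIdeal R (Over.mk p)).subscheme)) :
    Nonempty (M ≅ Coh.structureModule X) := by
  haveI : IsProper (Over.mk p).hom := hX.2.1
  obtain ⟨hF, hfin⟩ := redFibre_field hC hH0 hX
  exact trivial_of_redFibre R (X := Over.mk p) hM h hh hchar htors htriv hF hfin

end Groth.Agent.Models7
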