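import Groth.Agent.Models7.PicRoot
import Groth.Agent.Models7.PicModel
import Groth.Agent.Models7.ExcOfBlowUp
import Groth.Agent.SDiv28.LocalDim
import Groth.Agent.CurveRR24.RR

/-!
# The Picard group of a model and of its closed fibre
-/

set_option autoImplicit false
set_option linter.style.haveILetI false
set_option backward.isDefEq.respectTransparency.types false

universe u

open CategoryTheory CategoryTheory.Limits AlgebraicGeometry
open Groth.Agent.PicLib Groth.Agent.AmpleLib

noncomputable section

namespace Groth.Agent.Models7

/-- The Picard group as invertible classes. -/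
def toPicM (X : Scheme.{u}) [PicGrp.Law X] : PicLoc.PicSet X ≃* PicM X where
  toFun c := ⟨c.1, c.2⟩
  invFun a := ⟨a.val, a.prop⟩
  left_inv _ := rfl
  right_inv _ := rfl
  map_mul' a b := PicM.ext (PicGrp.mul_val a b)

theorem le_one_of_add_one_le_two {a : WithBot ℕ∞} (h : a + 1 ≤ 2) : a ≤ 1 := by
  induction a using WithBot.recBotCoe with
  | bot => exact bot_le
  | coe a =>
    induction a using ENat.recTopCoe with
    | top => exact absurd h (by decide)
    | coe a =>
      have h' : ((a : ℕ∞) + 1) ≤ 2 := WithBot.coe_le_coe.1 h
      have : a + 1 ≤ 2 := by exact_mod_cast h'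
      exact_mod_cast (show a ≤ 1 by omega)

variable (R : Type u) [CommRing R] [IsDomain R] [IsDiscreteValuationRing R]

theorem specMap_residue_apply (y : Spec (CommRingCat.of (IsLocalRing.ResidueField R))) :
    Spec.map (CommRingCat.ofHom (algebraMap R (IsLocalRing.ResidueField R))) y = IsLocalRing.closedPoint R := by
  refine PrimeSpectrum.ext ?_
  change Ideal.comap (IsLocalRing.residue R) (y : PrimeSpectrum (IsLocalRing.ResidueField R)).asIdeal =
    IsLocalRing.maximalIdeal R
  rw [((y : PrimeSpectrum (IsLocalRing.ResidueField R)).asIdeal).eq_bot_of_prime, ← RingHom.ker_eq_comap_bot,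
    IsLocalRing.ker_residue]

variable {X : Scheme.{u}} (p : X ⟶ Spec (CommRingCat.of R))

/-- Trivial on the closed fibre implies trivial on the reduced closed fibre. -/
theorem trivial_redFibre_of_closedFibre [IsProper p] (M : X.Modules)
    (h : Nonempty ((Scheme.Modules.pullback (pullback.fst p
      (Spec.map (CommRingCat.ofHom (algebraMap R (IsLocalRing.ResidueField R)))))).obj M ≅ Coh.structureModule _)) :
    Nonempty ((Scheme.Modules.pullback (Models.redFibreIdeal R (Over.mk p)).subschemeι).obj M ≅
      Coh.structureModule (Models.redFibreIdeal R (Over.mk p)).subscheme) := by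
  let ρ := (Models.redFibreIdeal R (Over.mk p)).subschemeι
  let s := Spec.map (CommRingCat.ofHom (algebraMap R (IsLocalRing.ResidueField R)))
  haveI : IsClosedImmersion s := IsClosedImmersion.spec_of_surjective _ IsLocalRing.residue_surjective
  haveI : IsClosedImmersion (pullback.fst p s) := MorphismProperty.pullback_fst _ _ inferInstance
  have hle : (pullback.fst p s).ker ≤ ρ.ker := by
    rw [Scheme.IdealSheafData.ker_subschemeι]
    refine Scheme.IdealSheafData.le_support_iff_le_vanishingIdeal.1 fun z hz => ?_
    refine (Scheme.Hom.support_ker (pullback.fst p s)).ge (subset_closure ?_)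
    rw [Scheme.Pullback.range_fst]
    exact ⟨IsLocalRing.closedPoint _, (specMap_residue_apply R _).trans (show p z = _ from hz).symm⟩
  obtain ⟨e⟩ := h
  obtain ⟨c⟩ := exists_pullStructureIso (IsClosedImmersion.lift (pullback.fst p s) ρ hle)
  exact ⟨((Scheme.Modules.pullbackComp (IsClosedImmersion.lift (pullback.fst p s) ρ hle) (pullback.fst p s)).app M ≪≫
    (Scheme.Modules.pullbackCongr (IsClosedImmersion.lift_fac _ _ _)).app M).symm ≪≫
    (Scheme.Modules.pullback _).mapIso e ≪≫ c⟩

end Groth.Agent.Models7
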