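import Groth.Agent.Models7.PicThick
import Groth.Agent.PicLib.FormalGen
import Groth.Prelude.Def_ModelsG

/-!
# Torsion invertible modules on a proper scheme over a discrete valuation ring
-/

set_option autoImplicit false
set_option linter.style.haveILetI false
set_option backward.isDefEq.respectTransparency false

universe u

open CategoryTheory CategoryTheory.Limits AlgebraicGeometry Opposite TopologicalSpace IsLocalRing
open Groth.Agent.Coherent Groth.Agent.PicLib Groth.Agent.AmpleLib

namespace Groth.Agent.Models7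

theorem toGlobal_comp' {R : Type u} [CommRing R] {Y Z : Scheme.{u}} (t : Y ⟶ Z) (g : Z ⟶ Spec (CommRingCat.of R))
    (r : R) : Coh.toGlobal (t ≫ g) r = t.appTop (Coh.toGlobal g r) := by
  show (t ≫ g).appTop ((Scheme.ΓSpecIso (CommRingCat.of R)).inv r) = _
  rw [Scheme.Hom.comp_appTop]
  rfl

variable (R : Type u) [CommRing R] [IsDomain R] [IsDiscreteValuationRing R]

/-- A torsion invertible module, of order prime to the residue characteristic, trivial on the reduced
closed fibre is trivial. -/
theorem trivial_of_redFibre {X : Over (Spec (CommRingCat.of R))} [IsProper X.hom] {M : X.left.Modules}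
    (hM : PicF.IsInvertible M) (h : ℕ) (hh : 0 < h)
    (hchar : ∀ q : ℕ, q.Prime → CharP (ResidueField R) q → ¬ q ∣ h)
    (htors : Nonempty (CohB1.tensorPow M h ≅ Coh.structureModule X.left))
    (htriv : Nonempty ((Scheme.Modules.pullback (Models.redFibreIdeal R X).subschemeι).obj M ≅
      Coh.structureModule (Models.redFibreIdeal R X).subscheme))
    (hF : IsField ↑Γ((Models.redFibreIdeal R X).subscheme, ⊤))
    (hfin : (((Models.redFibreIdeal R X).subschemeι ≫ X.hom).appTop.hom.comp
      (Scheme.ΓSpecIso (CommRingCat.of R)).inv.hom).Finite) :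
    Nonempty (M ≅ Coh.structureModule X.left) := by
  classical
  let k := ResidueField R
  let m := maximalIdeal R
  let I := Models.redFibreIdeal R X
  let T := I.subscheme
  let ρ : T ⟶ X.left := I.subschemeι
  let φ : R →+* Γ(T, ⊤) := Coh.toGlobal (ρ ≫ X.hom)
  letI : Field Γ(T, ⊤) := hF.toField
  have hrange : Set.range ρ.base = Models.specialFibreSet R X := by
    rw [Scheme.IdealSheafData.range_subschemeι]
    rfl
  haveI : IsReduced T := Props12.isReduced_subscheme_vanishingIdeal _
  -- the maximal ideal dies on the reduced fibre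
  have hmax : ∀ r ∈ m, φ r = 0 := fun r hr => by
    refine (basicOpen_eq_bot_iff _).1 (Opens.ext (Set.eq_empty_iff_forall_notMem.2 fun z hz => ?_))
    have hpt : (ρ ≫ X.hom) z = closedPoint R := by
      have : ρ z ∈ Models.specialFibreSet R X := hrange.le ⟨z, rfl⟩
      exact this
    have h2 : z ∈ (ρ ≫ X.hom) ⁻¹ᵁ ((Spec (CommRingCat.of R)).basicOpen ((Scheme.ΓSpecIso (CommRingCat.of R)).inv r)) := by
      rw [Scheme.preimage_basicOpen]; exact hz
    have h3 : closedPoint R ∈ (Spec (CommRingCat.of R)).basicOpen ((Scheme.ΓSpecIso (CommRingCat.of R)).inv r) :=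
      hpt ▸ h2
    rw [basicOpen_eq_of_affine] at h3
    exact h3 hr
  let φk : k →+* Γ(T, ⊤) := Ideal.Quotient.lift m φ hmax
  letI : Algebra k Γ(T, ⊤) := φk.toAlgebra
  haveI : Module.Finite k Γ(T, ⊤) :=
    RingHom.finite_algebraMap.1 (RingHom.Finite.of_comp_finite (f := Ideal.Quotient.mk m) (g := φk) (by
      rw [show φk.comp (Ideal.Quotient.mk m) = φ from RingHom.ext fun _ => rfl]; exact hfin))
  obtain ⟨q₀, hq₀⟩ := ExpChar.exists k
  have hcop : ∀ n : ℕ, Nat.Coprime (q₀ ^ n) h := fun n => by
    cases hq₀ with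
    | zero => rw [one_pow]; exact Nat.coprime_one_left h
    | prime hp => exact Nat.Coprime.pow_left n (hp.coprime_iff_not_dvd.2 (hchar _ hp inferInstance))
  have hhR : IsUnit (h : R) := by
    by_contra hnu
    have hz : (h : k) = 0 := by
      rw [← map_natCast (residue R)]
      exact Ideal.Quotient.eq_zero_iff_mem.2 hnu
    rcases CharP.exists' k with h0 | ⟨p, hp, hcp⟩
    · haveI := h0
      exact hh.ne' (Nat.cast_eq_zero.1 hz)
    · exact hchar p hp.out hcp ((CharP.cast_eq_zero_iff k p h).1 hz)
  letI : X.left.Over (Spec (CommRingCat.of R)) := ⟨X.hom⟩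
  haveI : IsProper (X.left ↘ Spec (CommRingCat.of R)) := ‹IsProper X.hom›
  -- trivial on every thickening
  obtain ⟨s, hs⟩ := exists_glocus_of_formal (A := R) (X := X.left) m hM fun n => by
    let ι := Spec.map (CommRingCat.ofHom (Ideal.Quotient.mk (m ^ (n + 1))))
    haveI : IsClosedImmersion ι := IsClosedImmersion.spec_of_surjective _ Ideal.Quotient.mk_surjective
    let j := pullback.fst X.hom ι
    let Xn := pullback X.hom ι
    haveI : IsClosedImmersion j := MorphismProperty.pullback_fst _ _ inferInstance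
    let ψ : R ⧸ m ^ (n + 1) →+* Γ(T, ⊤) :=
      Ideal.Quotient.lift _ φ fun r hr => hmax r (Ideal.pow_le_self (Nat.succ_ne_zero n) hr)
    let t : T ⟶ Spec (CommRingCat.of (R ⧸ m ^ (n + 1))) := T.toSpecΓ ≫ Spec.map (CommRingCat.ofHom ψ)
    have ht : t ≫ ι = ρ ≫ X.hom := by
      refine ext_of_isAffine (CommRingCat.hom_ext (RingHom.ext fun c => ?_))
      obtain ⟨r, rfl⟩ := (ConcreteCategory.bijective_of_isIso (Scheme.ΓSpecIso (CommRingCat.of R)).inv).2 c
      show Coh.toGlobal (t ≫ ι) r = φ r
      simp only [t, ι, Category.assoc, ← Spec.map_comp, toGlobal_comp']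
      have h2 := congr($(Scheme.ΓSpecIso_inv_naturality (CommRingCat.ofHom (Ideal.Quotient.mk (m ^ (n + 1))) ≫
        CommRingCat.ofHom ψ)) r)
      refine (congrArg T.toSpecΓ.appTop h2.symm).trans ?_
      rw [Scheme.toSpecΓ_appTop]
      exact ConcreteCategory.congr_hom (Scheme.ΓSpecIso Γ(T, ⊤)).inv_hom_id _
    let σ : T ⟶ Xn := pullback.lift ρ t ht.symm
    have hσ : σ ≫ j = ρ := pullback.lift_fst _ _ _
    haveI : IsClosedImmersion (σ ≫ j) := hσ.symm ▸ inferInstance
    haveI : IsClosedImmersion σ := IsClosedImmersion.of_comp σ j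
    haveI : Surjective σ := ⟨fun y => by
      have hy : j y ∈ Models.specialFibreSet R X := by
        show X.hom (j y) = closedPoint R
        rw [← Scheme.Hom.comp_apply, pullback.condition, Scheme.Hom.comp_apply]
        have h2 : ι (pullback.snd X.hom ι y) ∈ Set.range (PrimeSpectrum.comap (Ideal.Quotient.mk (m ^ (n + 1)))) :=
          ⟨_, rfl⟩
        rw [_root_.range_comap_of_surjective _ _ Ideal.Quotient.mk_surjective, Ideal.mk_ker] at h2
        refine PrimeSpectrum.ext ?_
        exact ((maximalIdeal.isMaximal R).eq_of_le (PrimeSpectrum.isPrime _).ne_top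
          ((PrimeSpectrum.isPrime _).le_of_pow_le h2)).symm
      obtain ⟨z, hz⟩ := hrange.ge hy
      exact ⟨z, j.injective (by rw [← Scheme.Hom.comp_apply, hσ, hz])⟩⟩
    have hhn : IsUnit (h : Γ(Xn, ⊤)) := by
      simpa using hhR.map (Coh.toGlobal (j ≫ X.hom))
    have hL := PicLoc.isInvertible_pullback j hM
    have h1 : PicM.pull σ (PicM.of hL) = 1 := by
      rw [← PicM.pull_of j hM, PicM.pull_pull, hσ, PicM.pull_of, PicM.of_eq_one_iff]
      exact htriv
    have h2 : PicM.of hL ^ h = 1 := by
      rw [← PicM.pull_of j hM, ← map_pow, ← PicM.of_tensorPow hM h,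
        (PicM.of_eq_one_iff (isInvertible_tensorPow hM h)).2 htors, map_one]
    show PicM.pull j (PicM.of hM) = 1
    rw [PicM.pull_of, PicM.of_eq_one_iff]
    refine trivial_of_thickening σ hL h hhn ?_ ?_ fun u hu => ?_
    · rw [← PicM.of_eq_one_iff (isInvertible_tensorPow hL h), PicM.of_tensorPow]; exact h2
    · rw [← PicM.of_eq_one_iff (PicLoc.isInvertible_pullback σ hL), ← PicM.pull_of]; exact h1
    · have hint : IsIntegral k u := Algebra.IsIntegral.isIntegral u
      obtain ⟨g, hg, e, he⟩ := (minpoly.irreducible hint).hasSeparableContraction q₀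
      refine ⟨q₀ ^ e, hcop e, ?_⟩
      have hg0 : Polynomial.aeval (u ^ q₀ ^ e) g = 0 := by
        have := congrArg (Polynomial.aeval u) he
        rwa [Polynomial.expand_aeval, minpoly.aeval] at this
      obtain ⟨G, rfl⟩ := Polynomial.map_surjective (residue R) residue_surjective g
      have hcomp : σ.appTop.hom.comp (Coh.toGlobal (j ≫ X.hom)) = φk.comp (residue R) := RingHom.ext fun r => by
        show σ.appTop (Coh.toGlobal (j ≫ X.hom) r) = φ r
        rw [← toGlobal_comp', ← Category.assoc, hσ]
        rfl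
      refine ⟨G.map (Coh.toGlobal (j ≫ X.hom)), ?_, ?_⟩
      · rw [Polynomial.eval₂_map, hcomp, ← Polynomial.eval₂_map]
        exact hg0
      · rw [Polynomial.derivative_map, Polynomial.eval₂_map, hcomp, ← Polynomial.eval₂_map, ← Polynomial.derivative_map]
        exact isUnit_iff_ne_zero.2 (hg.aeval_derivative_ne_zero hg0)
  -- the generating locus contains the closed fibre, hence everything
  have htop : glocus M s = ⊤ := by
    refine Opens.ext (Set.eq_univ_iff_forall.2 fun z => by_contra fun hz => ?_)
    have hcl := X.hom.isClosedMap _ (glocus M s).isOpen.isClosed_compl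
    obtain ⟨w, hw, hw'⟩ : closedPoint R ∈ X.hom.base '' (↑(glocus M s))ᶜ :=
      (IsLocalRing.specializes_closedPoint (X.hom z)).mem_closed hcl ⟨z, hz, rfl⟩
    exact hw (hs w (by
      show (X.hom w : Spec (CommRingCat.of R)) ∈ PrimeSpectrum.zeroLocus (m : Set R)
      rw [hw']; exact fun r hr => hr))
  have hgen : IsGen M ⊤ s := by
    have := (isGen_glocus s).restrict htop.ge
    rwa [resM_resM, resM_self] at this
  haveI : IsIso (unitDesc M s) := isIso_of_isGen _ (by rw [unitVal_unitDesc, resM_self]; exact hgen)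
  exact ⟨(asIso (unitDesc M s)).symm⟩

end Groth.Agent.Models7
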