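import Groth.Agent.Models7.PointClass
import Groth.Agent.Inters29.Class
import Groth.Agent.Inters29.Vertical
import Groth.Agent.ZeroSchLib.Basic
import Groth.Agent.HodgeQ27.Restrict
import Groth.Agent.SDiv28.CartierPart
import Groth.Agent.CurveRR24.PointInv
import Groth.Agent.PicLib.TwistGen
import Groth.Agent.S7688
import Groth.Agent.TF7.Exist
import Groth.Agent.LocSymLib29.Ord
import Groth.Agent.VarietyLib.ProperCurveAmple
import Groth.Agent.GenSmoothLib.OmegaFree

/-!
# The Picard group of a reduced proper curve modulo powers of invertible order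

It is generated by one class for each irreducible component.
-/

set_option autoImplicit false
set_option linter.style.haveILetI false
set_option backward.isDefEq.respectTransparency.types false
set_option maxHeartbeats 1000000

universe u

open CategoryTheory CategoryTheory.Limits AlgebraicGeometry TopologicalSpace
open Groth.Agent.Coherent Groth.Agent.PicLib Groth.Agent.Misc15.DivDescent Groth.Agent.CurveRR24
open Groth.Agent.AmpleLib

noncomputable section

namespace Groth.Agent.Models7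

variable {X : Scheme.{u}}

theorem stk_ptIdeal_self {P : X} (hP : IsClosed ({P} : Set X)) :
    stk (ptIdeal P hP) P = IsLocalRing.maximalIdeal (X.presheaf.stalk P) := by
  obtain ⟨U, hU, hPU, -⟩ := exists_isAffineOpen_mem_and_subset (x := P) (U := ⊤) trivial
  rw [stk_eq _ ⟨U, hU⟩ hPU]
  have := hU.isLocalization_stalk ⟨P, hPU⟩
  letI := TopCat.Presheaf.algebra_section_stalk X.presheaf (⟨P, hPU⟩ : U)
  have h : (ptIdeal P hP).ideal ⟨U, hU⟩ = (hU.primeIdealOf ⟨P, hPU⟩).asIdeal := by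
    ext a
    rw [mem_ptIdeal_iff hP ⟨U, hU⟩ a]
    have hmem : P ∈ X.basicOpen a ↔ a ∉ (hU.primeIdealOf ⟨P, hPU⟩).asIdeal := by
      rw [← hU.fromSpec_image_basicOpen a]
      constructor
      · rintro ⟨p, hp, hpP⟩
        rw [← hU.fromSpec.isOpenEmbedding.injective (hpP.trans (hU.fromSpec_primeIdealOf ⟨P, hPU⟩).symm)]
        exact hp
      · intro h
        exact ⟨_, h, hU.fromSpec_primeIdealOf ⟨P, hPU⟩⟩
    rw [hmem, not_not]
  rw [h]
  exact IsLocalization.AtPrime.map_eq_maximalIdeal _ _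

theorem stk_ptIdeal_ne {P x : X} (hP : IsClosed ({P} : Set X)) (h : x ≠ P) : stk (ptIdeal P hP) x = ⊤ :=
  SDiv28.CartierPart.stk_eq_top fun hx => h ((support_ptIdeal hP).subset hx)

/-- An effective Cartier ideal supported at finitely many closed points with valuation rings as local
rings is a product of powers of the point ideals. -/
theorem exists_eq_prod_ptIdeal (I : X.IdealSheafData) (hI : BlowUp.IsEffCartierIdeal I)
    (F : Finset {x : X // IsClosed ({x} : Set X)}) (hF : (I.support : Set X) ⊆ Subtype.val '' (F : Set {x : X // IsClosed ({x} : Set X)}))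
    (hdom : ∀ x ∈ F, IsDomain (X.presheaf.stalk x.1))
    (hdvr : ∀ x, ∀ h : x ∈ F, haveI := hdom x h; IsDiscreteValuationRing (X.presheaf.stalk x.1)) :
    ∃ n : {x : X // IsClosed ({x} : Set X)} → ℕ, I = ∏ x ∈ F, ptIdeal x.1 x.2 ^ n x := by
  classical
  have hex : ∀ x, x ∈ F → ∃ n : ℕ, stk I x.1 = IsLocalRing.maximalIdeal (X.presheaf.stalk x.1) ^ n := fun x h => by
    haveI := hdom x h
    haveI := hdvr x h
    obtain ⟨U, hxU, g, hg, hgI⟩ := hI x.1
    obtain ⟨ϖ, hϖ⟩ := IsDiscreteValuationRing.exists_irreducible (X.presheaf.stalk x.1)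
    have hne : X.presheaf.germ U.1 x.1 hxU g ≠ 0 := by
      have := U.2.isLocalization_stalk ⟨x.1, hxU⟩
      letI := TopCat.Presheaf.algebra_section_stalk X.presheaf (⟨x.1, hxU⟩ : U.1)
      exact nonZeroDivisors.ne_zero (FlatMor12.BlowUpDisjoint.comap_nonzero_divisor
        (U.2.primeIdealOf ⟨x.1, hxU⟩).asIdeal.primeCompl (S := X.presheaf.stalk x.1) hg)
    obtain ⟨n, u, hu⟩ := IsDiscreteValuationRing.eq_unit_mul_pow_irreducible hne hϖ
    refine ⟨n, ?_⟩
    rw [stk_span I U hgI hxU, hu, hϖ.maximalIdeal_eq, Ideal.span_singleton_pow,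
      Ideal.span_singleton_mul_left_unit u.isUnit]
  let n : {x : X // IsClosed ({x} : Set X)} → ℕ := fun x => if h : x ∈ F then (hex x h).choose else 0
  refine ⟨n, ext_stk fun y => ?_⟩
  rw [SDiv28.CartierPart.stk_prod]
  by_cases hy : ∃ x ∈ F, x.1 = y
  · obtain ⟨x, hxF, rfl⟩ := hy
    rw [Finset.prod_eq_single_of_mem x hxF fun b hb hbx => by
      rw [SDiv28.CartierPart.stk_pow, stk_ptIdeal_ne b.2 (fun h => hbx (Subtype.ext h.symm)), Ideal.top_pow, Ideal.one_eq_top],
      SDiv28.CartierPart.stk_pow, stk_ptIdeal_self x.2]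
    show _ = _ ^ (dite _ _ _ : ℕ)
    rw [dif_pos hxF]
    exact (hex x hxF).choose_spec
  · rw [SDiv28.CartierPart.stk_eq_top fun h => hy (by obtain ⟨x, hx, rfl⟩ := hF h; exact ⟨x, hx, rfl⟩)]
    refine (Finset.prod_eq_one fun b hb => ?_).trans Ideal.one_eq_top |>.symm
    rw [SDiv28.CartierPart.stk_pow, stk_ptIdeal_ne b.2 (fun h => hy ⟨b, hb, h.symm⟩), Ideal.top_pow, Ideal.one_eq_top]

section Span

variable {ι : Type*} [Fintype ι] (e : ι → PicM X) (q : ℕ)

/-- Classes which are products of a power of order `q` and of the given classes. -/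
def modPowSpan : Submonoid (PicM X) where
  carrier := {c | ∃ (d : PicM X) (a : ι → ℕ), c = d ^ q * ∏ i, e i ^ a i}
  one_mem' := ⟨1, 0, by simp⟩
  mul_mem' := by
    rintro _ _ ⟨d, a, rfl⟩ ⟨d', a', rfl⟩
    refine ⟨d * d', a + a', ?_⟩
    simp only [mul_pow, Pi.add_apply, pow_add, Finset.prod_mul_distrib]
    ac_rfl

theorem pow_mem_modPowSpan (d : PicM X) : d ^ q ∈ modPowSpan e q := ⟨d, 0, by simp⟩

theorem gen_mem_modPowSpan (i : ι) : e i ∈ modPowSpan e q := by
  classical
  exact ⟨1, fun m => if m = i then 1 else 0, by simp⟩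

theorem inv_mem_modPowSpan (hq : 0 < q) {c c' : PicM X} (h : c * c' = 1) (hc : c ∈ modPowSpan e q) :
    c' ∈ modPowSpan e q := by
  have : c' = c ^ (q - 1) * c' ^ q := by
    calc c' = (c * c') ^ (q - 1) * c' := by rw [h, one_pow, one_mul]
      _ = c ^ (q - 1) * c' ^ (q - 1 + 1) := by rw [mul_pow, mul_assoc, ← pow_succ]
      _ = _ := by rw [Nat.sub_add_cancel hq]
  rw [this]
  exact mul_mem (pow_mem hc _) (pow_mem_modPowSpan e q c')

end Span

variable {k : Type u} [Field k]

theorem exists_smooth_chart [IsAlgClosed k] (f : X ⟶ Spec (CommRingCat.of k)) [IsProper f] [IsReduced X]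
    (hdim : topologicalKrullDim X ≤ 1) (hgen : ∀ z ∈ genericPoints X, ¬ IsClosed ({z} : Set X))
    {η : X} (hη : η ∈ genericPoints X) :
    ∃ U : X.Opens, IsAffineOpen U ∧ η ∈ U ∧ (∀ z ∈ U, η ⤳ z) ∧ IsIntegral U.toScheme ∧
      SmoothOfRelativeDimension 1 (U.ι ≫ f) := by
  classical
  haveI : IsNoetherian X := { __ := LocallyOfFiniteType.isLocallyNoetherian f
                              __ := QuasiCompact.compactSpace_of_compactSpace f }
  let C := closure ({η} : Set X)
  have hC : C ∈ irreducibleComponents X := hη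
  let O : X.Opens := ⟨(⋃₀ (irreducibleComponents X \ {C}))ᶜ, by
    rw [Set.sUnion_eq_biUnion, isOpen_compl_iff]
    exact NoetherianSpace.finite_irreducibleComponents.sdiff.isClosed_biUnion
      fun W hW => isClosed_of_mem_irreducibleComponents W hW.1⟩
  have hOsub : ∀ z ∈ O, η ⤳ z := fun z hz => by
    obtain ⟨η', hη', hsp⟩ := TF7.exists_genericPoint_specializes z
    by_cases h : closure ({η'} : Set X) = C
    · exact specializes_iff_mem_closure.2 (show z ∈ C from h ▸ specializes_iff_mem_closure.1 hsp)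
    · exact absurd ⟨_, ⟨hη', h⟩, specializes_iff_mem_closure.1 hsp⟩ hz
  have hηO : η ∈ O := by
    rintro ⟨W, ⟨hW, hne⟩, hηW⟩
    have hsub : C ⊆ W := closure_minimal (Set.singleton_subset_iff.2 hηW) (isClosed_of_mem_irreducibleComponents W hW)
    exact hne ((hC.eq_of_le hW.1 hsub).symm)
  let V : X.Opens := O ⊓ f.smoothLocus
  have hηV : η ∈ V := by
    refine ⟨hηO, ?_⟩
    obtain ⟨z, hzO, hz⟩ := f.dense_smoothLocus_of_perfectField.inter_open_nonempty O O.isOpen ⟨η, hηO⟩
    exact (hOsub z hzO).mem_open f.smoothLocus.isOpen hz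
  obtain ⟨U, hU, hηU, hUV⟩ := exists_isAffineOpen_mem_and_subset (x := η) (U := V) hηV
  have hUη : ∀ z ∈ U, η ⤳ z := fun z hz => hOsub z (hUV hz).1
  haveI : Smooth (U.ι ≫ f) := by
    rw [← Scheme.Hom.smoothLocus_eq_top_iff]
    rw [← Scheme.Hom.preimage_smoothLocus_eq]
    exact eq_top_iff.2 fun z _ => (hUV z.2).2
  haveI : Nonempty U.toScheme := ⟨⟨η, hηU⟩⟩
  haveI : IrreducibleSpace U.toScheme := by
    have hgp : IsGenericPoint (⟨η, hηU⟩ : U.toScheme) Set.univ := by
      refine Set.eq_univ_of_forall fun z => ?_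
      exact specializes_iff_mem_closure.1 (U.ι.isOpenEmbedding.isInducing.specializes_iff.1 (hUη z.1 z.2))
    exact { isPreirreducible_univ := hgp.isIrreducible.2, toNonempty := inferInstance }
  haveI : IsIntegral U.toScheme := isIntegral_of_irreducibleSpace_of_isReduced _
  have hUdim : topologicalKrullDim U.toScheme = ((1 : ℕ) : WithBot ℕ∞) := by
    refine le_antisymm ((U.ι.isOpenEmbedding.isInducing.topologicalKrullDim_le).trans hdim) ?_
    haveI : JacobsonSpace X := LocallyOfFiniteType.jacobsonSpace f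
    obtain ⟨z, hzU, hz⟩ := nonempty_inter_closedPoints (Z := (U : Set X)) ⟨η, hηU⟩ U.isOpen.isLocallyClosed
    have hne : (⟨η, hηU⟩ : U.toScheme) ≠ ⟨z, hzU⟩ := fun h => hgen η hη (by rw [show η = z from congrArg Subtype.val h]; exact hz)
    refine Order.one_le_krullDim_iff.2 ?_
    refine ⟨⟨closure {(⟨z, hzU⟩ : U.toScheme)}, isIrreducible_singleton.closure, isClosed_closure⟩,
      ⟨Set.univ, IrreducibleSpace.isIrreducible_univ _, isClosed_univ⟩, lt_of_le_of_ne (Set.subset_univ _) fun h => ?_⟩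
    have h1 : (⟨η, hηU⟩ : U.toScheme) ∈ closure {(⟨z, hzU⟩ : U.toScheme)} :=
      (congrArg IrreducibleCloseds.carrier h).ge trivial
    have h2 : z ⤳ η := U.ι.isOpenEmbedding.isInducing.specializes_iff.2 (specializes_iff_mem_closure.2 h1)
    exact hne (Subtype.ext (h2.antisymm (hUη z hzU)).eq.symm)
  exact ⟨U, hU, hηU, hUη, inferInstance, GenSmoothLib.smoothOfRelativeDimension_toField (U.ι ≫ f) hUdim⟩

theorem isDVR_of_smooth_chart (f : X ⟶ Spec (CommRingCat.of k)) [LocallyOfFiniteType f]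
    (hdim : topologicalKrullDim X ≤ 1)
    (hgen : ∀ z ∈ genericPoints X, ¬ IsClosed ({z} : Set X)) (U : X.Opens) [Smooth (U.ι ≫ f)] {x : X}
    (hxU : x ∈ U) (hx : IsClosed ({x} : Set X)) :
    ∃ _ : IsDomain (X.presheaf.stalk x), IsDiscreteValuationRing (X.presheaf.stalk x) := by
  haveI := VarietyLib.isRegularLocalRing_stalk_of_smooth k U.toScheme (U.ι ≫ f) ⟨x, hxU⟩
  haveI : IsRegularLocalRing (X.presheaf.stalk x) :=
    IsRegularLocalRing.of_ringEquiv (U.stalkIso ⟨x, hxU⟩).commRingCatIsoToRingEquiv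
  haveI := CAlgH3.isDomain_of_isRegularLocalRing (X.presheaf.stalk x)
  refine ⟨inferInstance, LocSymLib29.isDVR_of_regular _ (le_antisymm (S7688.stalk_dim_le hdim x) ?_)⟩
  rw [ringKrullDim_stalk_eq_coheight]
  obtain ⟨η, hη, hsp⟩ := TF7.exists_genericPoint_specializes x
  have hne : x ≠ η := fun h => hgen η hη (h ▸ hx)
  have hlt : x < η := lt_of_le_not_ge hsp fun h => hne (Specializes.antisymm h hsp).eq
  exact_mod_cast le_trans le_add_self (Order.coheight_add_one_le hlt)

theorem isEffCartier_zeroScheme_of_reduced [IsReduced X] {L : X.Modules} (hL : PicF.IsInvertible L)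
    (φ : Coh.structureModule X ⟶ L) (h : ∀ η ∈ genericPoints X, η ∈ glocus L (unitVal φ ⊤)) :
    BlowUp.IsEffCartierIdeal (PicF2.zeroScheme L φ) := by
  intro x
  obtain ⟨U₀, hx₀, e₀, he₀⟩ := exists_isGen hL x
  obtain ⟨V, hV, hxV, hVU⟩ := exists_isAffineOpen_mem_and_subset (x := x) (U := U₀) hx₀
  let he := he₀.restrict (show V ≤ U₀ from hVU)
  refine ⟨⟨V, hV⟩, hxV, _, mem_nonZeroDivisors_iff_right.2 fun a ha => ?_,
    ZeroSchLib.zeroScheme_ideal_eq_span φ hL ⟨V, hV⟩ he⟩
  refine IsNilpotent.eq_zero ?_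
  rw [← mem_nilradical, nilradical_eq_sInf, Ideal.mem_sInf]
  intro P (hP : P.IsPrime)
  obtain ⟨Q, hQ, hQP⟩ := Ideal.exists_minimalPrimes_le (bot_le (a := P))
  refine hQP ((hQ.1.1.mem_or_mem (ha ▸ Q.zero_mem)).resolve_right fun hc => ?_)
  let z : X := hV.fromSpec ⟨Q, hQ.1.1⟩
  obtain ⟨η, hη, hsp⟩ := TF7.exists_genericPoint_specializes z
  have hzV : z ∈ V := hV.range_fromSpec.subset ⟨_, rfl⟩
  obtain ⟨⟨Q', hQ'⟩, hQη⟩ := hV.range_fromSpec.symm.subset (hsp.mem_open V.isOpen hzV)
  have hle : Q' ≤ Q := (PrimeSpectrum.le_iff_specializes ⟨Q', hQ'⟩ ⟨Q, hQ.1.1⟩).2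
    (hV.fromSpec.isOpenEmbedding.isInducing.specializes_iff.1 (hQη.symm ▸ hsp))
  have hQQ : Q' = Q := le_antisymm hle (hQ.2 ⟨hQ', bot_le⟩ hle)
  have hzg : z ∈ glocus L (unitVal φ ⊤) := by
    have : η = z := by rw [← hQη]; subst hQQ; rfl
    exact this ▸ h η hη
  have h1 := (glocus_inf (unitVal φ ⊤) he).le ⟨hzg, hzV⟩
  rw [resM_unitVal, ← hV.fromSpec_image_basicOpen] at h1
  obtain ⟨p, hp, hpz⟩ := h1
  rw [hV.fromSpec.isOpenEmbedding.injective hpz] at hp
  exact hp hc

theorem exists_point_of_chart [IsAlgClosed k] (f : X ⟶ Spec (CommRingCat.of k)) [IsProper f] {U : X.Opens}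
    (hU : IsAffineOpen U) [Algebra k Γ(X, U)] (hj : hU.fromSpec ≫ f = bsp k Γ(X, U)) {x : X}
    (hx : IsClosed ({x} : Set X)) (hxU : x ∈ U) :
    ∃ φ : Γ(X, U) →ₐ[k] k, (Spec.map (CommRingCat.ofHom φ.toRingHom) ≫ hU.fromSpec).ker = ptIdeal x hx ∧
      ∀ b : Γ(X, U), x ∈ X.basicOpen b → φ b ≠ 0 := by
  let P := pointOfClosedPoint f x hx
  have hrange : Set.range P ⊆ Set.range hU.fromSpec := by
    rintro _ ⟨a, rfl⟩
    rw [hU.range_fromSpec, pointOfClosedPoint_apply]
    exact hxU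
  let Q := IsOpenImmersion.lift hU.fromSpec P hrange
  have hQ : Q ≫ hU.fromSpec = P := IsOpenImmersion.lift_fac _ _ hrange
  let φ : Γ(X, U) →ₐ[k] k :=
    { (Spec.preimage Q).hom with
      commutes' := fun a => by
        have h : Q ≫ bsp k Γ(X, U) = 𝟙 _ := by rw [← hj, ← Category.assoc, hQ, pointOfClosedPoint_comp]
        rw [← Spec.map_preimage Q, ← Spec.map_comp, ← Spec.map_id] at h
        exact RingHom.congr_fun (congrArg CommRingCat.Hom.hom (Spec.map_injective h)) a }
  have hφQ : Spec.map (CommRingCat.ofHom φ.toRingHom) = Q := Spec.map_preimage Q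
  refine ⟨φ, ?_, fun b hb h0 => ?_⟩
  · rw [hφQ, hQ]
    show Scheme.Hom.ker (Spec.map _ ≫ _) = _
    rw [Scheme.Hom.ker_comp_of_isIso, ker_fromSpecResidueField']
  obtain ⟨pt⟩ : Nonempty (Spec (CommRingCat.of k)) := inferInstance
  have hmem : P pt ∈ X.basicOpen b := (pointOfClosedPoint_apply f x hx pt).symm ▸ hb
  rw [← hQ, Scheme.Hom.comp_apply, ← hφQ, ← hU.fromSpec_image_basicOpen] at hmem
  obtain ⟨p, hp, hpe⟩ := hmem
  rw [hU.fromSpec.isOpenEmbedding.injective hpe] at hp
  exact hp (show φ b ∈ (pt : PrimeSpectrum k).asIdeal by rw [h0]; exact Ideal.zero_mem _)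

theorem isEffCartier_ptIdeal [IsAlgClosed k] (f : X ⟶ Spec (CommRingCat.of k)) [IsProper f] {U : X.Opens}
    (hU : IsAffineOpen U) [Algebra k Γ(X, U)] [SmoothOfRelativeDimension 1 (bsp k Γ(X, U))]
    (hj : hU.fromSpec ≫ f = bsp k Γ(X, U)) {x : X} (hx : IsClosed ({x} : Set X)) (hxU : x ∈ U) :
    BlowUp.IsEffCartierIdeal (ptIdeal x hx) := by
  obtain ⟨φ, hφ, -⟩ := exists_point_of_chart f hU hj hx hxU
  exact hφ ▸ isEffCartier_pointOf hU.fromSpec hj φ

/-- On a reduced proper curve over an algebraically closed field the invertible classes are, up to powers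
of invertible order, generated by one class for each irreducible component. -/
theorem exists_generators_mod_pow [IsAlgClosed k] (f : X ⟶ Spec (CommRingCat.of k)) [IsProper f] [IsReduced X]
    (hdim : topologicalKrullDim X ≤ 1) (hgen : ∀ z ∈ genericPoints X, ¬ IsClosed ({z} : Set X))
    (q : ℕ) (hq : (q : k) ≠ 0) :
    ∃ e : genericPoints X → PicM X, ∀ c : PicM X, ∃ (d : PicM X) (a : genericPoints X →₀ ℕ),
      c = d ^ q * a.prod fun i n => e i ^ n := by
  classical
  haveI : IsNoetherian X := { __ := LocallyOfFiniteType.isLocallyNoetherian f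
                              __ := QuasiCompact.compactSpace_of_compactSpace f }
  haveI : JacobsonSpace X := LocallyOfFiniteType.jacobsonSpace f
  have hgfin : (genericPoints X).Finite :=
    (NoetherianSpace.finite_irreducibleComponents (α := X)).preimage
      (f := fun y : X => closure ({y} : Set X)) (fun a _ b _ h =>
        ((specializes_iff_closure_subset.2 h.ge).antisymm (specializes_iff_closure_subset.2 h.le)).eq)
  haveI := hgfin.fintype
  choose U hUaff hUmem hUsp hUint hUsm using fun η : genericPoints X => exists_smooth_chart f hdim hgen η.2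
  -- charts
  let φU : ∀ η, k →+* Γ(X, U η) := fun η =>
    ((f.appLE ⊤ (U η) le_top).hom.comp (Scheme.ΓSpecIso (CommRingCat.of k)).inv.hom)
  letI algU : ∀ η, Algebra k Γ(X, U η) := fun η => (φU η).toAlgebra
  have hj : ∀ η, (hUaff η).fromSpec ≫ f = bsp k Γ(X, U η) := fun η => by
    have e : f.appLE ⊤ (U η) le_top =
        (Scheme.ΓSpecIso (CommRingCat.of k)).hom ≫ CommRingCat.ofHom (φU η) := by
      ext a
      show f.appLE ⊤ (U η) le_top a =
        f.appLE ⊤ (U η) le_top ((Scheme.ΓSpecIso (CommRingCat.of k)).inv ((Scheme.ΓSpecIso (CommRingCat.of k)).hom a))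
      exact congrArg (f.appLE ⊤ (U η) le_top) (ConcreteCategory.congr_hom (Scheme.ΓSpecIso (CommRingCat.of k)).hom_inv_id a).symm
    rw [← (isAffineOpen_top (Spec (CommRingCat.of k))).SpecMap_appLE_fromSpec f (hUaff η) le_top, e,
      Spec.map_comp, Category.assoc, IsAffineOpen.fromSpec_top, Scheme.isoSpec_Spec_inv, ← Spec.map_comp,
      Iso.inv_hom_id, Spec.map_id, Category.comp_id]
  haveI : ∀ η, IsDomain Γ(X, U η) := fun η => by
    haveI := hUint η
    haveI : IsDomain Γ(U η, ⊤) := inferInstance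
    exact MulEquiv.isDomain _ (U η).topIso.commRingCatIsoToRingEquiv.symm.toMulEquiv
  haveI : ∀ η, Algebra.FiniteType k Γ(X, U η) := fun η =>
    (f.finiteType_appLE (isAffineOpen_top _) (hUaff η) le_top).comp
      (RingHom.FiniteType.of_surjective _
        (ConcreteCategory.bijective_of_isIso (Scheme.ΓSpecIso (CommRingCat.of k)).inv).2)
  haveI : ∀ η, SmoothOfRelativeDimension 1 (bsp k Γ(X, U η)) := fun η => by
    haveI := hUsm η
    rw [← hj η, ← (hUaff η).isoSpec_inv_ι, Category.assoc]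
    exact (MorphismProperty.cancel_left_of_respectsIso (P := @SmoothOfRelativeDimension 1) _ _).2 (hUsm η)
  have hex : ∀ η : genericPoints X, Nonempty (Γ(X, U η) →ₐ[k] k) := fun η => by
    obtain ⟨z, hzU, hz⟩ := nonempty_inter_closedPoints (Z := ((U η : X.Opens) : Set X)) ⟨_, hUmem η⟩ (U η).isOpen.isLocallyClosed
    obtain ⟨m, hm⟩ := Ideal.exists_maximal Γ(X, U η)
    obtain ⟨χ, -⟩ := exists_algHom_of_mem_range (Algebra.ofId k Γ(X, U η)) (AlgHom.id k k)
      ⟨m, hm.isPrime, by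
        refine (Ideal.eq_bot_of_prime _).trans ?_
        exact (RingHom.ker_eq_bot_iff_eq_zero _).2 (fun a ha => ha) |>.symm⟩
    exact ⟨χ⟩
  let φ₀ := fun η => (hex η).some
  choose b hb hcongr using fun η => exists_pcl_congr (hUaff η).fromSpec (hj η) q hq (φ₀ η)
  let e : genericPoints X → PicM X := fun η => pcl (hUaff η).fromSpec (hj η) (φ₀ η)
  refine ⟨e, ?_⟩
  have hq0 : 0 < q := Nat.pos_of_ne_zero fun h => hq (by rw [h, Nat.cast_zero])
  suffices h : ∀ c, c ∈ modPowSpan e q by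
    intro c
    obtain ⟨d, a, rfl⟩ := h c
    exact ⟨d, Finsupp.equivFunOnFinite.symm a, by rw [Finsupp.prod_fintype _ _ fun i => pow_zero _]; rfl⟩
  -- the good and bad points
  let G : X.Opens := ⨆ η, X.basicOpen (b η)
  have hGη : ∀ η : genericPoints X, (η : X) ∈ X.basicOpen (b η) := fun η => by
    rw [← (hUaff η).fromSpec_image_basicOpen]
    refine ⟨(hUaff η).primeIdealOf ⟨η.1, hUmem η⟩, fun hmem => hb η ?_, (hUaff η).fromSpec_primeIdealOf _⟩
    have hle : ((hUaff η).primeIdealOf ⟨η.1, hUmem η⟩).asIdeal ≤ ⊥ := by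
      refine (PrimeSpectrum.le_iff_specializes ((hUaff η).primeIdealOf ⟨η.1, hUmem η⟩) ⟨⊥, Ideal.isPrime_bot⟩).2 ?_
      refine (hUaff η).fromSpec.isOpenEmbedding.isInducing.specializes_iff.1 ?_
      rw [(hUaff η).fromSpec_primeIdealOf]
      exact hUsp η _ ((hUaff η).range_fromSpec.subset ⟨_, rfl⟩)
    exact Ideal.mem_bot.1 (hle hmem)
  have hFfin : ((G : Set X)ᶜ).Finite :=
    (S7688.finite_of_isClosed_no_generic hdim G.isOpen.isClosed_compl fun y hy hgy =>
      hy (Opens.mem_iSup.2 ⟨⟨y, hgy⟩, hGη ⟨y, hgy⟩⟩)).1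
  -- points of the good locus
  have hpt : ∀ (x : X) (hx : IsClosed ({x} : Set X)), x ∈ G → ∀ hI : BlowUp.IsEffCartierIdeal (ptIdeal x hx),
      Inters29.idealCl (ptIdeal x hx) hI ∈ modPowSpan e q := by
    intro x hx hxG hI
    obtain ⟨η, hxb⟩ := Opens.mem_iSup.1 hxG
    obtain ⟨φ, hker, hφ⟩ := exists_point_of_chart f (hUaff η) (hj η) hx (X.basicOpen_le _ hxb)
    have hφb : φ (b η) ≠ 0 := hφ _ hxb
    obtain ⟨d, hd⟩ := hcongr η φ hφb
    have : Inters29.idealCl (ptIdeal x hx) hI = pcl (hUaff η).fromSpec (hj η) φ :=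
      Inters29.idealCl_congr hker.symm hI (isEffCartier_pointOf (hUaff η).fromSpec (hj η) φ)
    rw [this, ← hd]
    exact mul_mem (pow_mem_modPowSpan e q d) (gen_mem_modPowSpan e q η)
  -- modules with a section generating off the good locus
  have hsec : ∀ (M : X.Modules) (hM : PicF.IsInvertible M) (t : Γ(M, ⊤)),
      genericPoints X ∪ (G : Set X)ᶜ ⊆ glocus M t → PicM.of hM ∈ modPowSpan e q := by
    intro M hM t ht
    let σ := unitDesc M t
    have hσ : unitVal σ ⊤ = t := by rw [unitVal_unitDesc, resM_self]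
    let I := PicF2.zeroScheme M σ
    have hI : BlowUp.IsEffCartierIdeal I :=
      isEffCartier_zeroScheme_of_reduced hM σ fun η hη => by rw [hσ]; exact ht (Or.inl hη)
    obtain ⟨ei⟩ := Inters29.nonempty_tensor_zeroScheme_iso hM σ hI
    have hsupp : (I.support : Set X) ⊆ (glocus M t : Set X)ᶜ := fun x hx =>
      hσ ▸ (HodgeQ27.mem_support_zeroScheme_iff hM σ x).1 hx
    have hcl : IsClosed ((glocus M t : Set X)ᶜ) := (glocus M t).isOpen.isClosed_compl
    have hfin := S7688.finite_of_isClosed_no_generic hdim hcl fun y hy hgy => hy (ht (Or.inl hgy))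
    let F : Finset {x : X // IsClosed ({x} : Set X)} :=
      ((hfin.1.preimage Subtype.val_injective.injOn).toFinset :)
    have hF : (I.support : Set X) ⊆ Subtype.val '' (F : Set {x : X // IsClosed ({x} : Set X)}) := by
      intro x hx
      refine ⟨⟨x, hfin.2 {x} (Set.singleton_subset_iff.2 (hsupp hx))⟩, ?_, rfl⟩
      rw [Finset.mem_coe, Set.Finite.mem_toFinset]
      exact hsupp hx
    have hFG : ∀ x ∈ F, x.1 ∈ G := fun x hx => by
      by_contra h
      exact (Set.Finite.mem_toFinset _).1 hx (ht (Or.inr h))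
    have hdvr' : ∀ x ∈ F, ∃ _ : IsDomain (X.presheaf.stalk x.1), IsDiscreteValuationRing (X.presheaf.stalk x.1) :=
      fun x hx => by
        obtain ⟨η, hη⟩ := Opens.mem_iSup.1 (hFG x hx)
        haveI := hUsm η
        haveI : Smooth ((U η).ι ≫ f) := SmoothOfRelativeDimension.smooth 1 _
        exact isDVR_of_smooth_chart f hdim hgen (U η) (X.basicOpen_le _ hη) x.2
    obtain ⟨n, hn⟩ := exists_eq_prod_ptIdeal I hI F hF (fun x hx => (hdvr' x hx).choose)
      (fun x hx => (hdvr' x hx).choose_spec)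
    have hptI : ∀ x : F, BlowUp.IsEffCartierIdeal (ptIdeal x.1.1 x.1.2) := fun x => by
      obtain ⟨η, hxb⟩ := Opens.mem_iSup.1 (hFG x.1 x.2)
      exact isEffCartier_ptIdeal f (hUaff η) (hj η) x.1.2 (X.basicOpen_le _ hxb)
    have hIeq : I = ∏ x : F, ptIdeal x.1.1 x.1.2 ^ n x.1 := hn.trans (Finset.prod_coe_sort F _).symm
    have hmem : Inters29.idealCl I hI ∈ modPowSpan e q := by
      rw [Inters29.idealCl_congr hIeq hI
        (Inters29.isEffCartier_prod Finset.univ _ fun x : F => Inters29.isEffCartier_pow (hptI x) _),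
        Inters29.idealCl_prod Finset.univ _ fun x : F => Inters29.isEffCartier_pow (hptI x) _]
      refine prod_mem fun x _ => ?_
      rw [Inters29.idealCl_pow (hptI x)]
      exact pow_mem (hpt x.1.1 x.1.2 (hFG x.1 x.2) (hptI x)) _
    refine inv_mem_modPowSpan e q hq0 (c := Inters29.idealCl I hI) ?_ hmem
    rw [mul_comm, Inters29.idealCl, PicM.of_mul]
    exact (PicM.of_eq_one_iff _).2 ⟨ei⟩
  -- every class
  letI : X.Over (Spec (CommRingCat.of k)) := ⟨f⟩
  haveI : IsProper (X ↘ Spec (CommRingCat.of k)) := ‹IsProper f›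
  obtain ⟨A, hA, hamp⟩ := VarietyLib.exists_ample_of_dim_le_one k (X := X) hdim
  intro c
  obtain ⟨L, hL, rfl⟩ := c.exists_eq_of
  have hBfin : (genericPoints X ∪ (G : Set X)ᶜ).Finite := hgfin.union hFfin
  obtain ⟨N₁, hN₁⟩ := exists_twist_gen_of_finite hamp hL _ hBfin
  obtain ⟨N₂, hN₂⟩ := exists_twist_gen_of_finite hamp (AmpleLib.isInvertible_structureModule (X := X)) _ hBfin
  obtain ⟨t₁, ht₁⟩ := hN₁ (N₁ + N₂) (Nat.le_add_right _ _)
  obtain ⟨t₂, ht₂⟩ := hN₂ (N₁ + N₂) (Nat.le_add_left _ _)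
  have h1 := hsec _ (isInvertible_tensorMod hL (isInvertible_tensorPow hA _)) t₁ ht₁
  have h2 := hsec _ (isInvertible_tensorMod (AmpleLib.isInvertible_structureModule (X := X)) (isInvertible_tensorPow hA _)) t₂ ht₂
  rw [← PicM.of_mul hL (isInvertible_tensorPow hA _)] at h1
  rw [← PicM.of_mul (AmpleLib.isInvertible_structureModule (X := X)) (isInvertible_tensorPow hA _),
    show PicM.of (AmpleLib.isInvertible_structureModule (X := X)) = 1 from (PicM.of_eq_one_iff _).2 ⟨Iso.refl _⟩, one_mul] at h2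
  obtain ⟨w, hw⟩ := PicM.exists_mul_eq_one (PicM.of (isInvertible_tensorPow hA (N₁ + N₂)))
  have h3 := mul_mem h1 (inv_mem_modPowSpan e q hq0 hw h2)
  rwa [mul_assoc, hw, mul_one] at h3

end Groth.Agent.Models7
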