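import Groth.Agent.Models7.PicModPow
import Groth.Agent.Models7.PicThickSurj
import Groth.Agent.Models7.PicClosedFibre
import Groth.Agent.S15407
import Groth.Agent.S19553
import Groth.Agent.Inters29.CompGroup
import Groth.Agent.Props12.KerReduced

/-!
# Classes on a model of degree divisible by `q` on every component are `q`-th powers
-/

set_option autoImplicit false
set_option linter.style.haveILetI false
set_option backward.isDefEq.respectTransparency.types false
set_option maxHeartbeats 1000000

universe u

open CategoryTheory CategoryTheory.Limits AlgebraicGeometry TopologicalSpace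
open Groth.Agent.PicLib

noncomputable section

namespace Groth.Agent.Models7

theorem exists_eq_pow_mul_of_fin {X : Scheme.{u}} {ι : Type*} [Fintype ι] (E : ι → PicM X) {q : ℕ} (hq : 0 < q)
    (c : PicM X) (h : ∃ (d : PicM X) (a : ι → ℕ), c = d ^ q * ∏ i, E i ^ a i) :
    ∃ (d : PicM X) (a : ι → Fin q), c = d ^ q * ∏ i, E i ^ (a i : ℕ) := by
  obtain ⟨d, a, rfl⟩ := h
  refine ⟨d * ∏ i, E i ^ (a i / q), fun i => ⟨a i % q, Nat.mod_lt _ hq⟩, ?_⟩
  have key : (∏ i, E i ^ a i) = (∏ i, E i ^ (a i / q)) ^ q * ∏ i, E i ^ (a i % q) := by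
    rw [← Finset.prod_pow, ← Finset.prod_mul_distrib]
    refine Finset.prod_congr rfl fun i _ => ?_
    rw [← pow_mul, ← pow_add, mul_comm, Nat.div_add_mod]
  rw [key, mul_pow, mul_assoc]

variable (R : Type u) [CommRing R] [IsDomain R] [IsDiscreteValuationRing R]

theorem isPow_of_degVec_dvd [IsAdicComplete (IsLocalRing.maximalIdeal R) R]
    (hk : IsAlgClosed (IsLocalRing.ResidueField R))
    (C : Scheme.{u}) (fC : C ⟶ Spec (CommRingCat.of (FractionRing R))) [IsProper fC] [Smooth fC]
    (hC0 : Models.hRank (FractionRing R) C fC (Coh.structureModule C) 0 = 1)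
    (hg2 : 2 ≤ Models.curveGenus (FractionRing R) C fC)
    (X : Scheme.{u}) (p : X ⟶ Spec (CommRingCat.of R)) (hX : Models.IsRegularProperModel R X p C fC)
    {n : ℕ} (Γ : Fin n → ArSurf.VertComp R (Over.mk p)) (hΓ : Models.IsComponentList R (Over.mk p) Γ)
    (q : ℕ) (hq : 1 ≤ q) (hqk : (q : IsLocalRing.ResidueField R) ≠ 0)
    [PicGrp.Law X] [PicGrp.Law (pullback p (Spec.map (CommRingCat.ofHom (algebraMap R (IsLocalRing.ResidueField R)))))]
    (hi : PicGrp.PullMul (pullback.fst p (Spec.map (CommRingCat.ofHom (algebraMap R (IsLocalRing.ResidueField R))))))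
    (c : PicM X) (hc : ∀ j, (q : ℤ) ∣ Inters29.degVec (p := p) Γ c j) : ∃ d : PicM X, c = d ^ q := by
  classical
  haveI := hX.2.1
  haveI : Flat p := hX.1.1
  haveI : IsAlgClosed (IsLocalRing.ResidueField R) := hk
  have hC := Inters29.isSmoothProperCurve_of_model R hC0 (le_trans (by norm_num) hg2) hX Γ hΓ
  have hC1 : topologicalKrullDim C = 1 := hC.2.2.2
  haveI := Inters29.isIntegral_of_hRank (FractionRing R) fC hC0
  haveI : IsIntegral X := Inters29.isIntegral_model R hX.1 hX.2.2
  haveI : IsLocallyNoetherian X := LocallyOfFiniteType.isLocallyNoetherian p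
  have hqR : IsUnit (q : R) := by
    refine not_not.1 fun hnu => hqk ?_
    rw [← map_natCast (IsLocalRing.residue R)]
    exact Ideal.Quotient.eq_zero_iff_mem.2 hnu
  obtain ⟨hsurj, -⟩ := S15407.result R hk C fC hC0 hg2 hC1 X p hX q hq hqk hi
  let k := IsLocalRing.ResidueField R
  let s := Spec.map (CommRingCat.ofHom (algebraMap R k))
  let i := pullback.fst p s
  let Xk := pullback p s
  haveI : IsClosedImmersion s := IsClosedImmersion.spec_of_surjective _ IsLocalRing.residue_surjective
  haveI : IsClosedImmersion i := MorphismProperty.pullback_fst _ _ inferInstance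
  haveI : IsProper (pullback.snd p s) := MorphismProperty.pullback_snd (P := @IsProper) _ _ inferInstance
  -- the reduced closed fibre
  let ρ := (Models.redFibreIdeal R (Over.mk p)).subschemeι
  let Z := (Models.redFibreIdeal R (Over.mk p)).subscheme
  haveI : IsReduced Z := Props12.isReduced_subscheme_vanishingIdeal _
  have hρrange : Set.range ρ = Models.specialFibreSet R (Over.mk p) := by
    refine (Scheme.IdealSheafData.range_subschemeι _).trans ?_
    exact Scheme.IdealSheafData.coe_support_vanishingIdeal ..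
  have hirange : Set.range i = Models.specialFibreSet R (Over.mk p) := by
    ext z
    rw [Scheme.Pullback.range_fst]
    constructor
    · rintro ⟨y, hy⟩
      exact hy.symm.trans (specMap_residue_apply R y)
    · intro hz
      exact ⟨IsLocalRing.closedPoint _, (specMap_residue_apply R _).trans (show p z = _ from hz).symm⟩
  have hle : i.ker ≤ ρ.ker := by
    rw [Scheme.IdealSheafData.ker_subschemeι]
    exact Scheme.IdealSheafData.le_support_iff_le_vanishingIdeal.1 fun z hz =>
      (Scheme.Hom.support_ker i).ge (subset_closure (hirange.ge hz))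
  let t := IsClosedImmersion.lift i ρ hle
  have ht : t ≫ i = ρ := IsClosedImmersion.lift_fac _ _ hle
  haveI : IsClosedImmersion (t ≫ i) := by rw [ht]; infer_instance
  haveI : IsClosedImmersion t := IsClosedImmersion.of_comp t i
  haveI : Surjective t := ⟨fun y => by
    obtain ⟨z, hz⟩ := hρrange.ge (hirange.le ⟨y, rfl⟩)
    exact ⟨z, i.isClosedEmbedding.injective (by rw [← hz, ← ht]; rfl)⟩⟩
  let fZ := t ≫ pullback.snd p s
  haveI : IsProper fZ := inferInstance
  have hdimk : topologicalKrullDim Xk ≤ 1 := by
    obtain ⟨g, hg⟩ := hX.1.2.2.2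
    haveI : IsIntegral (Over.mk p).left := inferInstanceAs (IsIntegral X)
    haveI : Flat (Over.mk p).hom := hX.1.1
    haveI : IsProper (Over.mk p).hom := hX.2.1
    have hd2 : topologicalKrullDim X = 2 := Inters29.topologicalKrullDim_eq_two R (X := Over.mk p)
      (Inters29.trdAt_genericPoint R (X := Over.mk p) fC hC1 g hg)
    cases isEmpty_or_nonempty Xk with
    | inl h =>
      haveI : IsEmpty (IrreducibleCloseds Xk) :=
        ⟨fun C => C.isIrreducible.nonempty.elim fun x _ => IsEmpty.false x⟩
      exact (le_of_eq Order.krullDim_eq_bot).trans bot_le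
    | inr h =>
      have hgp : p (genericPoint X) ≠ IsLocalRing.closedPoint R :=
        genericPoint_ne_closedPoint (Y := Over.mk p)
      have h1 := SDiv28.topologicalKrullDim_add_one_le i.isClosedEmbedding fun d =>
        ⟨genericPoint X, (genericPoint_spec X).specializes (Set.mem_univ _), fun ⟨y, hy⟩ => hgp (by
          rw [← hy, ← Scheme.Hom.comp_apply, pullback.condition, Scheme.Hom.comp_apply]
          exact specMap_residue_apply R _)⟩
      rw [hd2] at h1
      exact le_one_of_add_one_le_two h1
  have hdimZ : topologicalKrullDim Z ≤ 1 := t.isClosedEmbedding.isInducing.topologicalKrullDim_le.trans hdimk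
  -- generic points of the reduced fibre and components
  have hcomp : ∀ η ∈ genericPoints Z,
      ∃ m, closure ({ρ η} : Set X) = Set.range (Γ m).ι.base := fun η hη => by
    have hmem : closure ({ρ η} : Set X) ∈ Models.fibreComponents R (Over.mk p) := by
      have hcl : IsClosed (Models.specialFibreSet R (Over.mk p)) := Models.isClosed_specialFibreSet R (Over.mk p)
      refine ⟨⟨isIrreducible_singleton.closure,
        closure_minimal (Set.singleton_subset_iff.2 (hρrange.le ⟨η, rfl⟩)) hcl⟩, fun S hS hsub => ?_⟩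
      obtain ⟨σ, hσ⟩ := QuasiSober.sober (IsIrreducible.closure hS.1) (isClosed_closure (s := (S : Set X)))
      obtain ⟨τ, hτ⟩ := hρrange.ge (closure_minimal hS.2 hcl hσ.mem)
      have h1 : ρ τ ⤳ ρ η := by
        rw [hτ]
        exact hσ.specializes (subset_closure (hsub (subset_closure rfl)))
      have h2 : τ ⤳ η := ρ.isClosedEmbedding.isInducing.specializes_iff.1 h1
      have h3 : closure ({η} : Set Z) = closure {τ} :=
        Set.Subset.antisymm (closure_minimal (Set.singleton_subset_iff.2 (specializes_iff_mem_closure.1 h2)) isClosed_closure)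
          (hη.2 isIrreducible_singleton.closure
            (closure_minimal (Set.singleton_subset_iff.2 (specializes_iff_mem_closure.1 h2)) isClosed_closure))
      have hητ : η = τ := ((specializes_iff_closure_subset.2 h3.ge).antisymm (specializes_iff_closure_subset.2 h3.le)).eq
      show S ⊆ closure ({ρ η} : Set X)
      rw [hητ, hτ, hσ.def]
      exact subset_closure
    obtain ⟨m, hm⟩ := hΓ.2.ge hmem
    exact ⟨m, hm.symm⟩
  choose cm hcm using hcomp
  have hinj : Function.Injective fun η : genericPoints Z => cm η.1 η.2 := fun η η' h => by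
    have h1 : closure ({ρ η.1} : Set X) = closure {ρ η'.1} := by
      rw [hcm η.1 η.2, hcm η'.1 η'.2, show cm η.1 η.2 = cm η'.1 η'.2 from h]
    exact Subtype.ext (ρ.isClosedEmbedding.injective
      ((specializes_iff_closure_subset.2 h1.ge).antisymm (specializes_iff_closure_subset.2 h1.le)).eq)
  have hgen : ∀ η ∈ genericPoints Z, ¬ IsClosed ({η} : Set Z) := fun η hη hcl => by
    have h1 : IsClosed ({ρ η} : Set X) := by
      simpa [Set.image_singleton] using ρ.isClosedEmbedding.isClosedMap _ hcl
    have h2 := (hcm η hη).symm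
    rw [h1.closure_eq] at h2
    haveI : Subsingleton (Γ (cm η hη)).curve.left := ⟨fun a b => (Γ (cm η hη)).ι.isClosedEmbedding.injective
      ((h2.le ⟨a, rfl⟩ : _ = ρ η).trans (h2.le ⟨b, rfl⟩ : _ = ρ η).symm)⟩
    have h3 := (Γ (cm η hη)).dim_eq
    have h4 : topologicalKrullDim (Γ (cm η hη)).curve.left ≤ 0 := topologicalKrullDim_zero_of_discreteTopology _
    rw [h3] at h4
    exact absurd h4 (by decide)
  obtain ⟨e, he⟩ := exists_generators_mod_pow fZ hdimZ hgen q hqk
  -- classes on the model
  have hk' : ∀ c : PicM Xk, ∃ d : PicM X, PicM.pull i d = c := fun c => by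
    obtain ⟨d, hd⟩ := hsurj ((toPicM Xk).symm c)
    exact ⟨toPicM X d, (congrArg (toPicM Xk) hd).trans ((toPicM Xk).apply_symm_apply c)⟩
  have hZ' : ∀ c : PicM Z, ∃ d : PicM X, PicM.pull ρ d = c := fun c => by
    obtain ⟨d₁, hd₁⟩ := exists_pull_eq_thickening k (pullback.snd p s) hdimk t c
    obtain ⟨d, hd⟩ := hk' d₁
    exact ⟨d, by rw [← ht, ← PicM.pull_pull, hd, hd₁]⟩
  have hker : ∀ c : PicM X, PicM.pull ρ c = 1 → ∃ d : PicM X, c = d ^ q := fun c hc => by
    rw [← ht, ← PicM.pull_pull] at hc
    obtain ⟨L, hL, hcL⟩ := (PicM.pull i c).exists_eq_of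
    have hu : IsUnit (q : Γ(Xk, ⊤)) := by
      have h := hqR.map (Coh.toGlobal (i ≫ p))
      rw [map_natCast] at h
      exact h
    rw [hcL, PicM.pull_of, PicM.of_eq_one_iff] at hc
    obtain ⟨M', hM', hpow, -⟩ := exists_root_lift t q hu hL (M := Coh.structureModule _)
      AmpleLib.isInvertible_structureModule (by
        refine (Nonempty.some ?_)
        have hone : PicM.of (AmpleLib.isInvertible_structureModule (X := Z)) = 1 :=
          (PicM.of_eq_one_iff _).2 ⟨Iso.refl _⟩
        rw [← PicM.of_eq_iff (AmpleLib.isInvertible_tensorPow AmpleLib.isInvertible_structureModule q)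
          (PicLoc.isInvertible_pullback t hL), PicM.of_tensorPow (AmpleLib.isInvertible_structureModule (X := Z)) q, hone, one_pow]
        exact ((PicM.of_eq_one_iff _).2 hc).symm)
    obtain ⟨μ, hμ⟩ := hk' (PicM.of hM')
    obtain ⟨w, hw⟩ := PicM.exists_mul_eq_one (μ ^ q)
    obtain ⟨d, -, hd⟩ := exists_root_closedFibre p q hqR (c * w) (by
      show PicM.pull i (c * w) = 1
      have h1 : PicM.pull i c = PicM.pull i (μ ^ q) := by
        rw [map_pow, hμ, hcL, ← PicM.of_tensorPow, PicM.of_eq_iff]
        exact ⟨hpow.some.symm⟩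
      rw [map_mul, h1, ← map_mul, hw, map_one])
    exact ⟨d * μ, by rw [mul_pow, hd, mul_assoc, mul_comm w, hw, mul_one]⟩
  choose E hE using fun η => hZ' (e η)
  haveI : IsNoetherian Z := { __ := LocallyOfFiniteType.isLocallyNoetherian fZ
                              __ := QuasiCompact.compactSpace_of_compactSpace fZ }
  haveI : Finite (genericPoints Z) := Finite.of_injective _ hinj
  haveI := Fintype.ofFinite (genericPoints Z)
  have hspan : ∀ c : PicM X, ∃ (d : PicM X) (a : genericPoints Z → Fin q),
      c = d ^ q * ∏ η, E η ^ (a η : ℕ) := fun c => by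
    refine exists_eq_pow_mul_of_fin E hq c ?_
    obtain ⟨d₀, a, ha⟩ := he (PicM.pull ρ c)
    obtain ⟨d, hd⟩ := hZ' d₀
    let y := d ^ q * ∏ η, E η ^ a η
    obtain ⟨w, hw⟩ := PicM.exists_mul_eq_one y
    have hy : PicM.pull ρ y = PicM.pull ρ c := by
      rw [ha, map_mul, map_pow, hd, map_prod, Finsupp.prod_fintype _ _ fun i => pow_zero _]
      refine congrArg (_ * ·) (Finset.prod_congr rfl fun η _ => ?_)
      rw [map_pow, hE]
    obtain ⟨r, hr⟩ := hker (c * w) (by rw [map_mul, ← hy, ← map_mul, hw, map_one])
    refine ⟨r * d, a, ?_⟩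
    calc c = c * w * y := by rw [mul_assoc, mul_comm w, hw, mul_one]
      _ = _ := by rw [hr, mul_pow, mul_assoc]
  -- degrees modulo `q`
  haveI : NeZero q := ⟨Nat.one_le_iff_ne_zero.1 hq⟩
  let D : PicM X → Fin n → ZMod q := fun c j => (Inters29.degVec (p := p) Γ c j : ℤ)
  have hDmul : ∀ a b, D (a * b) = D a + D b := fun a b => funext fun j => by
    show ((Inters29.degVec (p := p) Γ (a * b) j : ℤ) : ZMod q) = _
    rw [Inters29.degVec_mul, Pi.add_apply, Int.cast_add]
    rfl
  have hDone : D 1 = 0 := funext fun j => by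
    show ((Inters29.degVec (p := p) Γ 1 j : ℤ) : ZMod q) = _
    rw [Inters29.degVec_one]
    simp
  have hDpow : ∀ d, D (d ^ q) = 0 := fun d => by
    have : ∀ m : ℕ, D (d ^ m) = m • D d := fun m => by
      induction m with
      | zero => rw [pow_zero, hDone, zero_smul]
      | succ m ih => rw [pow_succ, hDmul, ih, succ_nsmul]
    rw [this]
    funext j
    simp
  let F : (genericPoints Z → Fin q) → Fin n → ZMod q := fun a => D (∏ η, E η ^ (a η : ℕ))
  have hFsurj : Function.Surjective F := fun w => by
    choose M hMi hMdeg using fun i => S19553.result R hk C fC hC0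
      (Models.curveGenus (FractionRing R) C fC) hg2 rfl X p hX Γ hΓ i
    let c₀ := ∏ i, PicM.of (hMi i) ^ (w i).val
    have hc₀ : D c₀ = w := by
      have hsum : ∀ (T : Finset (Fin n)) (x : Fin n → PicM X) (m : Fin n → ℕ),
          D (∏ i ∈ T, x i ^ m i) = ∑ i ∈ T, m i • D (x i) := fun T x m => by
        have hp' : ∀ (y : PicM X) (m : ℕ), D (y ^ m) = m • D y := fun y m => by
          induction m with
          | zero => rw [pow_zero, hDone, zero_smul]
          | succ m ih => rw [pow_succ, hDmul, ih, succ_nsmul]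
        induction T using Finset.induction_on with
        | empty => rw [Finset.prod_empty, Finset.sum_empty, hDone]
        | insert a T ha ih => rw [Finset.prod_insert ha, Finset.sum_insert ha, hDmul, ih, hp']
      rw [hsum]
      funext j
      simp only [Finset.sum_apply, Pi.smul_apply, D, Inters29.degVec_of, hMdeg]
      simp [Finset.sum_ite_eq]
    obtain ⟨d, a, ha⟩ := hspan c₀
    exact ⟨a, by rw [← hc₀, ha, hDmul, hDpow, zero_add]⟩
  have hcard : Fintype.card (genericPoints Z → Fin q) ≤ Fintype.card (Fin n → ZMod q) := by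
    simp only [Fintype.card_fun, Fintype.card_fin, ZMod.card]
    refine Nat.pow_le_pow_right hq ?_
    simpa using Fintype.card_le_of_injective _ hinj
  have hFinj : Function.Injective F := by
    have hb : Fintype.card (genericPoints Z → Fin q) = Fintype.card (Fin n → ZMod q) :=
      le_antisymm hcard (Fintype.card_le_of_surjective F hFsurj)
    exact ((Fintype.bijective_iff_surjective_and_card F).2 ⟨hFsurj, hb⟩).1
  obtain ⟨d, a, ha⟩ := hspan c
  have ha0 : a = fun _ => ⟨0, hq⟩ := hFinj (by
    have h1 : D c = 0 := funext fun j => (ZMod.intCast_zmod_eq_zero_iff_dvd _ _).2 (hc j)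
    rw [ha, hDmul, hDpow, zero_add] at h1
    show F a = _
    exact h1.trans (by simp [F, hDone]))
  exact ⟨d, by rw [ha, ha0]; simp⟩

end Groth.Agent.Models7
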