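import Groth.Agent.FlatMorThick.PicTorsion
import Groth.Agent.PicDef15.ClosedFibre
import Groth.Agent.PicLib.PicGroup

/-!
# Roots of invertible modules along thickenings and over a complete base
-/

set_option autoImplicit false
set_option linter.style.haveILetI false
set_option backward.isDefEq.respectTransparency.types false
set_option maxHeartbeats 1000000

universe u

open CategoryTheory CategoryTheory.Limits AlgebraicGeometry Opposite TopologicalSpace
open Groth.Agent.Coherent Groth.Agent.Coherent.Serre Groth.Agent.Coherent.Existence Groth.Agent.PicLib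
open Groth.Agent.AmpleLib Groth.Agent.FlatMorThick

noncomputable section

namespace Groth.Agent.Models7

/-- Roots of invertible order of invertible modules lift uniquely along a thickening: existence. -/
theorem exists_root_lift {X X' : Scheme.{u}} (i : X ⟶ X') [IsClosedImmersion i] [Surjective i]
    (n : ℕ) (hu : IsUnit (n : Γ(X', ⊤))) {L : X'.Modules} (hL : PicF.IsInvertible L)
    {M : X.Modules} (hM : PicF.IsInvertible M) (e : CohB1.tensorPow M n ≅ (Scheme.Modules.pullback i).obj L) :
    ∃ M' : X'.Modules, PicF.IsInvertible M' ∧ Nonempty (CohB1.tensorPow M' n ≅ L) ∧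
      Nonempty ((Scheme.Modules.pullback i).obj M' ≅ M) := by
  have hn : ∀ V : X'.Opens, IsUnit (n : Γ(X', V)) := fun V => by
    simpa using hu.map (PicLib.res (le_top : V ≤ ⊤))
  obtain ⟨U, g, hmem, hg⟩ := exists_cover hM
  have h : ∀ x' : X', ∃ W : X'.Opens, x' ∈ W ∧ IsAffineOpen W ∧
      (∃ s : Γ(M, i ⁻¹ᵁ W), IsGen M (i ⁻¹ᵁ W) s) ∧ ∃ l : Γ(L, W), IsGen L W l := by
    intro x'
    obtain ⟨z, rfl⟩ := i.surjective x'
    obtain ⟨UL, hzUL, l, hl⟩ := exists_isGen hL (i z)
    obtain ⟨O, hO, hOU⟩ := i.isClosedEmbedding.isInducing.isOpen_iff.1 (U z).isOpen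
    obtain ⟨W, hW, hzW, hWO⟩ := exists_isAffineOpen_mem_and_subset (U := (⟨O, hO⟩ : X'.Opens) ⊓ UL) (x := i z)
      ⟨show z ∈ i ⁻¹' O from hOU.ge (hmem z), hzUL⟩
    exact ⟨W, hzW, hW, ⟨_, (hg z).restrict (show i ⁻¹ᵁ W ≤ U z from fun y hy => hOU.le (hWO hy).1)⟩,
      ⟨_, hl.restrict (show W ≤ UL from fun y hy => (hWO hy).2)⟩⟩
  choose W hWmem hW hs₀ hl₀ using h
  choose s hs using hs₀
  choose l₀ hl₀ using hl₀
  have hcov : ⨆ a, W a = ⊤ := top_le_iff.1 fun x _ => Opens.mem_iSup.2 ⟨x, hWmem x⟩
  -- adjust the generators of `L`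
  have hes : ∀ a, IsGen _ (i ⁻¹ᵁ W a) (e.hom.app (i ⁻¹ᵁ W a) (powSec (s a) n)) := fun a =>
    isGen_app_iso e (isGen_powSec (hs a) n)
  have hpl : ∀ a, IsGen _ (i ⁻¹ᵁ W a) (pullSec i (l₀ a)) := fun a => isGen_pullSec i (hl₀ a) hL
  let v : ∀ a, Γ(X, i ⁻¹ᵁ W a) := fun a => (hpl a).coef le_rfl (e.hom.app _ (powSec (s a) n))
  choose u hu' using fun a => i.app_surjective (W a) (hW a) (v a)
  have huu : ∀ a, IsUnit (u a) := fun a => isUnit_of_app i _ (hu' a ▸ (hpl a).isUnit_coef (hes a))
  let l : ∀ a, Γ(L, W a) := fun a => u a • l₀ a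
  have hl : ∀ a, IsGen L (W a) (l a) := fun a => (isGen_smul_iff (huu a)).2 (hl₀ a)
  have hle : ∀ a, pullSec i (l a) = e.hom.app _ (powSec (s a) n) := fun a => by
    have h := (hpl a).coef_spec le_rfl (e.hom.app _ (powSec (s a) n))
    rw [resM_self] at h
    rw [pullSec_smul, hu']
    exact h
  -- transition functions
  let η₀ : ∀ a b, Γ(X, i ⁻¹ᵁ (W a ⊓ W b)) := fun a b =>
    (hs b).coef (i.preimage_mono inf_le_right) (resM M (i.preimage_mono inf_le_left) (s a))
  have hE0 : ∀ a b (V : X.Opens) (h : V ≤ i ⁻¹ᵁ (W a ⊓ W b)),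
      resM M (h.trans (i.preimage_mono inf_le_left)) (s a) =
        PicLib.res h (η₀ a b) • resM M (h.trans (i.preimage_mono inf_le_right)) (s b) := by
    intro a b V h
    have := congrArg (resM M h) ((hs b).coef_spec (i.preimage_mono inf_le_right)
      (resM M (i.preimage_mono (inf_le_left : W a ⊓ W b ≤ W a)) (s a)))
    rw [resM_smul, resM_resM, resM_resM] at this
    exact this.symm
  have hη₀u : ∀ a b, IsUnit (η₀ a b) := fun a b => by
    have h := ((hs b).restrict (i.preimage_mono (inf_le_right : W a ⊓ W b ≤ W b))).isUnit_coef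
      ((hs a).restrict (i.preimage_mono (inf_le_left : W a ⊓ W b ≤ W a)))
    rwa [IsGen.coef_eq _ le_rfl (r := η₀ a b)
      (by rw [resM_resM]; exact ((hs b).coef_spec _ _))] at h
  let θ : ∀ a b, Γ(X', W a ⊓ W b) := fun a b => (hl b).coef inf_le_right (resM L inf_le_left (l a))
  have hθ : ∀ a b, θ a b • resM L (inf_le_right : W a ⊓ W b ≤ W b) (l b) = resM L inf_le_left (l a) :=
    fun a b => (hl b).coef_spec _ _
  have hθu : ∀ a b, IsUnit (θ a b) := fun a b => by
    have h := ((hl b).restrict (inf_le_right : W a ⊓ W b ≤ W b)).isUnit_coef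
      ((hl a).restrict (inf_le_left : W a ⊓ W b ≤ W a))
    rwa [IsGen.coef_eq _ le_rfl (r := θ a b) (by rw [resM_self]; exact hθ a b)] at h
  have hres : ∀ a (V : X'.Opens) (h : V ≤ W a),
      pullSec i (resM L h (l a)) = e.hom.app _ (powSec (resM M (i.preimage_mono h) (s a)) n) := fun a V h => by
    rw [← resM_pullSec i h (l a), hle, ← resM_powSec, app_resM]
  have hθη : ∀ a b, i.app _ (θ a b) = η₀ a b ^ n := fun a b => by
    have hg := isGen_pullSec i ((hl b).restrict (inf_le_right : W a ⊓ W b ≤ W b)) hL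
    refine (hg _ le_rfl).1 ?_
    show _ • resM _ le_rfl _ = _ • resM _ le_rfl _
    rw [resM_self, ← pullSec_smul, hθ, hres, hres]
    have h := hE0 a b _ le_rfl
    rw [show PicLib.res (le_refl (i ⁻¹ᵁ (W a ⊓ W b))) (η₀ a b) = η₀ a b from
      ConcreteCategory.congr_hom (X.presheaf.map_id _) _] at h
    rw [h, powSec_smul, Scheme.Modules.Hom.app_smul]
  choose η hη hηn using fun a b => exists_root i (hn _) (η₀ a b) (hη₀u a b) (θ a b) (hθη a b)
  have hηu : ∀ a b, IsUnit (η a b) := fun a b => isUnit_of_app i _ (hη a b ▸ hη₀u a b)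
  have hco : ∀ a b c (V : X'.Opens) (ha : V ≤ W a) (hb : V ≤ W b) (hc : V ≤ W c),
      PicLib.res (le_inf ha hc) (η a c) =
        PicLib.res (le_inf ha hb) (η a b) * PicLib.res (le_inf hb hc) (η b c) := by
    intro a b c V ha hb hc
    refine eq_of_pow_eq i (hn V) ((hηu a c).map _) ?_ ?_
    · rw [mul_pow, ← map_pow, ← map_pow, ← map_pow, hηn, hηn, hηn]
      refine ((hl c).restrict hc _ le_rfl).1 ?_
      show _ • resM _ le_rfl _ = _ • resM _ le_rfl _
      rw [resM_self, mul_smul]
      have e1 := congrArg (resM L (le_inf ha hc)) (hθ a c)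
      have e2 := congrArg (resM L (le_inf ha hb)) (hθ a b)
      have e3 := congrArg (resM L (le_inf hb hc)) (hθ b c)
      rw [resM_smul, resM_resM, resM_resM] at e1 e2 e3
      rw [e1, e3, e2]
    · rw [map_mul, FlatMorThick.app_res, FlatMorThick.app_res, FlatMorThick.app_res, hη, hη, hη]
      refine (hs c _ (i.preimage_mono hc)).1 ?_
      show _ • _ = _ • _
      rw [← hE0 a c, mul_smul, ← hE0 b c, ← hE0 a b]
  obtain ⟨M', s', hM', hgen, hsη⟩ := CocycleGlue.exists_invertible W (fun a b => (hηu a b).unit)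
    (fun x a b c => by
      have hx : x ∈ W a.1 ⊓ W b.1 ⊓ W c.1 := ⟨⟨a.2, b.2⟩, c.2⟩
      have ha : W a.1 ⊓ W b.1 ⊓ W c.1 ≤ W a.1 := inf_le_left.trans inf_le_left
      have hb : W a.1 ⊓ W b.1 ⊓ W c.1 ≤ W b.1 := inf_le_left.trans inf_le_right
      have hc : W a.1 ⊓ W b.1 ⊓ W c.1 ≤ W c.1 := inf_le_right
      show X'.presheaf.germ _ x _ _ = X'.presheaf.germ _ x _ _ * X'.presheaf.germ _ x _ _
      rw [← VarietyLib.StarGlue.germ_resO (le_inf ha hc) hx,
        ← VarietyLib.StarGlue.germ_resO (le_inf ha hb) hx,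
        ← VarietyLib.StarGlue.germ_resO (le_inf hb hc) hx, ← map_mul]
      exact congrArg _ (hco _ _ _ _ ha hb hc)) hcov
  refine ⟨M', hM', ?_, ?_⟩
  · obtain ⟨e', -⟩ := exists_iso_of_gens W hcov (fun a => powSec (s' a) n) (fun a => isGen_powSec (hgen a) n) l hl
      (fun a b V hi hj c hc => by
        have hV : V ≤ W a ⊓ W b := le_inf hi hj
        have hrel : resM M' hi (s' a) = PicLib.res hV (η a b) • resM M' hj (s' b) := by
          have h := congrArg (resM M' hV) (hsη a b)
          rw [resM_smul, resM_resM, resM_resM] at h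
          exact h
        rw [resM_powSec, resM_powSec, hrel, powSec_smul] at hc
        have hc' : PicLib.res hV (η a b) ^ n = c :=
          ((isGen_powSec ((hgen b).restrict hj) n) V le_rfl).1 (by simpa only [resM_self] using hc)
        have h := congrArg (resM L hV) (hθ a b)
        rw [resM_smul, resM_resM, resM_resM] at h
        rw [← hc', ← map_pow, hηn, h])
    exact ⟨e'⟩
  · let P := (Scheme.Modules.pullback i).obj M'
    let t : ∀ a, Γ(P, i ⁻¹ᵁ W a) := fun a => pullSec i (s' a)
    have ht : ∀ a, IsGen P _ (t a) := fun a => isGen_pullSec i (hgen a) hM'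
    have hcov' : ⨆ a, i ⁻¹ᵁ W a = ⊤ :=
      top_le_iff.1 fun z _ => Opens.mem_iSup.2 ⟨_, hWmem (i z)⟩
    have htη : ∀ a b, resM P (i.preimage_mono inf_le_left) (t a) =
        η₀ a b • resM P (i.preimage_mono (inf_le_right : W a ⊓ W b ≤ W b)) (t b) := fun a b => by
      refine (resM_pullSec i inf_le_left (s' a)).trans ?_
      rw [hsη a b, pullSec_smul]
      refine congrArg₂ (fun (r : Γ(X, i ⁻¹ᵁ (W a ⊓ W b))) m => r • m) (hη a b) ?_
      exact (resM_pullSec i inf_le_right (s' b)).symm
    obtain ⟨e, -⟩ := exists_iso_of_gens (fun a => i ⁻¹ᵁ W a) hcov' t ht s hs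
      (fun a b V hi hj c hc => by
        have hV : V ≤ i ⁻¹ᵁ (W a ⊓ W b) := fun z hz => ⟨hi hz, hj hz⟩
        have h := congrArg (resM P hV) (htη a b)
        rw [resM_smul, resM_resM, resM_resM] at h
        rw [← ((ht b) V hj).1 (h.symm.trans hc)]
        exact hE0 a b V hV)
    exact ⟨e⟩

open Groth.Agent.PicDef15

variable {A : Type u} [CommRing A] [IsLocalRing A] {X : Scheme.{u}} (f : X ⟶ Spec (CommRingCat.of A))
  [IsNoetherianRing A] [IsAdicComplete (IsLocalRing.maximalIdeal A) A] [IsProper f]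

/-- A class trivial on every thickening of the closed fibre is trivial. -/
theorem eq_one_of_levels (c : PicM X)
    (h : ∀ n, PicM.pull (CohB1.thickι f (IsLocalRing.maximalIdeal A) n) c = 1) : c = 1 := by
  obtain ⟨L, hL, rfl⟩ := PicM.exists_eq_of c
  let I := IsLocalRing.maximalIdeal A
  let _ : X.Over (Spec (CommRingCat.of A)) := ⟨f⟩
  have : IsProper (X ↘ Spec (CommRingCat.of A)) := ‹IsProper f›
  obtain ⟨s, hs⟩ := exists_glocus_of_formal I hL fun n => h n
  have htop : glocus L s = ⊤ := eq_top_of_contains_special (I := I) _ hs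
  have hgen : IsGen L ⊤ s := by
    intro V hV
    have := isGen_glocus (L := L) s V (hV.trans htop.ge)
    simpa only [resM_resM] using this
  have : IsIso (unitDesc L s) := by
    refine isIso_of_isGen _ ?_
    rw [unitVal_unitDesc, resM_self]
    exact hgen
  exact (PicM.of_eq_one_iff hL).2 ⟨(asIso (unitDesc L s)).symm⟩

/-- A compatible family of classes on the thickenings comes from a class on the scheme. -/
theorem exists_of_levels (d : ∀ n, PicM (CohB1.thick f (IsLocalRing.maximalIdeal A) n))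
    (hd : ∀ n, PicM.pull (CohB1.thickTrans f (IsLocalRing.maximalIdeal A) n) (d (n + 1)) = d n) :
    ∃ c : PicM X, ∀ n, PicM.pull (CohB1.thickι f (IsLocalRing.maximalIdeal A) n) c = d n := by
  let I := IsLocalRing.maximalIdeal A
  let _ : X.Over (Spec (CommRingCat.of A)) := ⟨f⟩
  have : IsProper (X ↘ Spec (CommRingCat.of A)) := ‹IsProper f›
  have : IsLocallyNoetherian X := LocallyOfFiniteType.isLocallyNoetherian f
  have hι := fun k => isClosedImmersion_thickι f I k
  have hcart := isPullback_thickTrans f I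
  choose M hM hdM using fun n => (d n).exists_eq_of
  have hiso : ∀ n, Nonempty ((Scheme.Modules.pullback (CohB1.thickTrans f I n)).obj (M (n + 1)) ≅ M n) := fun n => by
    have e := hd n
    rw [hdM (n + 1), hdM n, PicM.pull_of, PicM.of_eq_iff] at e
    exact e
  let S := AdicSys.ofCart I (fun n => CohB1.thick f I n) (fun n => CohB1.thickToBase f I n)
    (fun n => CohB1.thickTrans f I n) hcart
  let Ls : AdicMod S := ⟨fun n => M n, fun n => (hiso n).some⟩
  let w : ∀ k, S.X k ⟶ X := fun k => CohB1.thickι f I k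
  have : ∀ k, IsClosedImmersion (w k) := hι
  have hws : ∀ k, w k ≫ f = S.s k := fun k => pullback.condition
  have hwt : ∀ k, S.i k ≫ w (k + 1) = w k := fun k => thickTrans_thickι f I k
  have hLc : ∀ k, Coh.IsCoh (Ls.F k) := fun k => by
    have : IsLocallyNoetherian (CohB1.thick f I k) := LocallyOfFiniteType.isLocallyNoetherian (CohB1.thickι f I k)
    exact PicLib.isCoh_of_isInvertible (hM k)
  have hG := isCohFormal_modSys (S := S) Ls w hwt hws hLc
  obtain ⟨N, hN, ⟨e⟩⟩ := algebraizable_of_proper (I := I) X _ hG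
  have hMk : ∀ k, Nonempty ((Scheme.Modules.pullback (CohB1.thickι f I k)).obj N ≅ M k) := fun k =>
    nonempty_pull_iso_of_completion (S := S) Ls w hwt hws e k
  have hju : ∀ k, S.j k ≫ w k = w 0 := fun k => by
    induction k with
    | zero => exact Category.id_comp _
    | succ k ih => rw [AdicSys.j_succ, Category.assoc]; exact (congrArg (_ ≫ ·) (hwt k)).trans ih
  have hjs : ∀ k, Surjective (S.j k) := fun k => by
    induction k with
    | zero => exact inferInstanceAs (Surjective (𝟙 (S.X 0)))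
    | succ k ih =>
      have : Surjective (S.i k) := MorphismProperty.of_isPullback (hcart k).flip (surjective_specQuotTrans I k)
      exact inferInstanceAs (Surjective (S.j k ≫ S.i k))
  have hNi : PicF.IsInvertible N := isInvertible_of_levels (I := I) w
    (fun k => mem_openIdeal_pow_of_isPullback I k (IsPullback.of_hasPullback f (CohB1.specQuot I k)))
    (fun y hy => mem_range_of_isPullback_specQuot I 0 (IsPullback.of_hasPullback f (CohB1.specQuot I 0)) hy)
    (fun k => by
      rw [← hju k, Scheme.Hom.comp_base, TopCat.coe_comp, Set.range_comp]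
      have := hjs k
      exact (congrArg (w k '' ·) (S.j k).surjective.range_eq).trans Set.image_univ)
    S.j hju hN fun k => glocus_isInvertible_of_iso (hMk k).some.symm (hM k)
  refine ⟨PicM.of hNi, fun n => ?_⟩
  rw [hdM n, PicM.pull_of, PicM.of_eq_iff]
  exact hMk n

/-- Classes trivial on the closed fibre are divisible by integers invertible in the base. -/
theorem exists_root_closedFibre (q : ℕ) (hq : IsUnit (q : A)) (c : PicM X)
    (hc : PicM.pull (pullback.fst f (Spec.map (CommRingCat.ofHom (IsLocalRing.residue A)))) c = 1) :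
    ∃ d : PicM X, PicM.pull (pullback.fst f (Spec.map (CommRingCat.ofHom (IsLocalRing.residue A)))) d = 1 ∧
      d ^ q = c := by
  let I := IsLocalRing.maximalIdeal A
  obtain ⟨E, hE, hEι⟩ := exists_fibre_iso f
  have hι := fun k => isClosedImmersion_thickι f I k
  have hcart := isPullback_thickTrans f I
  have h0 : PicM.pull (CohB1.thickι f I 0) c = 1 := by
    rw [show CohB1.thickι f I 0 = inv E ≫ pullback.fst _ _ by rw [← hEι, IsIso.inv_hom_id_assoc],
      ← PicM.pull_pull, hc, map_one]
  have step : ∀ n (a : PicM (CohB1.thick f I n)), a ^ q = PicM.pull (CohB1.thickι f I n) c →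
      ∃ b : PicM (CohB1.thick f I (n + 1)), b ^ q = PicM.pull (CohB1.thickι f I (n + 1)) c ∧
        PicM.pull (CohB1.thickTrans f I n) b = a := by
    intro n a ha
    have : IsClosedImmersion (CohB1.thickι f I (n + 1)) := hι _
    have : IsClosedImmersion (CohB1.thickTrans f I n ≫ CohB1.thickι f I (n + 1)) := by
      rw [thickTrans_thickι]; exact hι n
    have : IsClosedImmersion (CohB1.thickTrans f I n) :=
      IsClosedImmersion.of_comp _ (CohB1.thickι f I (n + 1))
    have : Surjective (CohB1.thickTrans f I n) :=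
      MorphismProperty.of_isPullback (hcart n).flip (surjective_specQuotTrans I n)
    have hu : IsUnit (q : Γ(CohB1.thick f I (n + 1), ⊤)) := by
      have h := hq.map (Coh.toGlobal (CohB1.thickι f I (n + 1) ≫ f))
      rw [map_natCast] at h
      exact h
    obtain ⟨L, hL, hcL⟩ := (PicM.pull (CohB1.thickι f I (n + 1)) c).exists_eq_of
    obtain ⟨M, hM, rfl⟩ := a.exists_eq_of
    rw [← thickTrans_thickι f I n, ← PicM.pull_pull, hcL, PicM.pull_of, ← PicM.of_tensorPow, PicM.of_eq_iff] at ha
    obtain ⟨M', hM', hpow, hres⟩ := exists_root_lift (CohB1.thickTrans f I n) q hu hL hM ha.some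
    refine ⟨PicM.of hM', ?_, ?_⟩
    · rw [hcL, ← PicM.of_tensorPow, PicM.of_eq_iff]; exact hpow
    · rw [PicM.pull_of, PicM.of_eq_iff]; exact hres
  choose next hnext hres using step
  let seq : ∀ n, {a : PicM (CohB1.thick f I n) // a ^ q = PicM.pull (CohB1.thickι f I n) c} := fun n =>
    Nat.rec (motive := fun n => {a : PicM (CohB1.thick f I n) // a ^ q = PicM.pull (CohB1.thickι f I n) c})
      ⟨1, by rw [one_pow, h0]⟩ (fun n a => ⟨next n a.1 a.2, hnext n a.1 a.2⟩) n
  obtain ⟨d, hd⟩ := exists_of_levels f (fun n => (seq n).1) fun n => hres n _ (seq n).2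
  refine ⟨d, ?_, ?_⟩
  · rw [← hEι, ← PicM.pull_pull, hd 0]
    exact map_one _
  · obtain ⟨c', hc'⟩ := PicM.exists_mul_eq_one c
    refine PicM.eq_of_mul_inv hc' (eq_one_of_levels f _ fun n => ?_)
    rw [map_mul, map_pow, hd, (seq n).2, ← map_mul, hc', map_one]

end Groth.Agent.Models7
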