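import Mathlib.RingTheory.Polynomial.GaussLemma
import Mathlib.RingTheory.UniqueFactorizationDomain.GCDMonoid
import Mathlib.RingTheory.Filtration
import Mathlib.RingTheory.Localization.FractionRing
import Mathlib.RingTheory.LocalRing.RingHom.Basic
import Mathlib.RingTheory.LocalRing.ResidueField.Basic
import Mathlib.RingTheory.Polynomial.Content

/-!
# The maximal ideal of a regular local ring in a birational regular extension

If a birational dominating extension of local rings `A → B` with `B` factorial, `m_A = (a, b)` and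
`(a, b)B = g · (a', b')` with `a'`, `b'` coprime nonunits, then `g` is a unit.
-/

set_option autoImplicit false
set_option linter.style.haveILetI false

universe u

open IsLocalRing Polynomial

namespace Groth.Agent.Models7

/-- The homogeneous expansions of the elements of powers of a two generated ideal. -/
theorem exists_expansion {A : Type*} [CommRing A] (a b : A) : ∀ (n : ℕ) (p : A),
    p ∈ Ideal.span ({a, b} : Set A) ^ n →
    ∃ F : ℕ → A, p = ∑ i ∈ Finset.range (n + 1), F i * (a ^ (n - i) * b ^ i) := by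
  intro n
  induction n with
  | zero => exact fun p _ => ⟨fun _ => p, by simp⟩
  | succ n ih =>
    intro p hp
    rw [pow_succ] at hp
    refine Submodule.mul_induction_on hp (fun x hx y hy => ?_) fun x y ⟨F, hF⟩ ⟨G, hG⟩ =>
      ⟨F + G, by rw [hF, hG, ← Finset.sum_add_distrib]; simp only [Pi.add_apply, add_mul]⟩
    obtain ⟨F, rfl⟩ := ih x hx
    obtain ⟨u, v, rfl⟩ := Ideal.mem_span_pair.1 hy
    refine ⟨fun i => (if i ≤ n then u * F i else 0) + (if i = 0 then 0 else v * F (i - 1)), ?_⟩
    simp only [add_mul, Finset.sum_add_distrib, mul_add]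
    refine congrArg₂ (· + ·) ?_ ?_
    · rw [Finset.sum_range_succ _ (n + 1), if_neg (by omega), zero_mul, add_zero, Finset.sum_mul]
      refine Finset.sum_congr rfl fun i hi => ?_
      have hin : i ≤ n := Nat.lt_succ_iff.1 (Finset.mem_range.1 hi)
      rw [if_pos hin, show n + 1 - i = (n - i) + 1 by omega, pow_succ]
      ring
    · rw [Finset.sum_range_succ' _ (n + 1), if_pos rfl, zero_mul, add_zero, Finset.sum_mul]
      refine Finset.sum_congr rfl fun i _ => ?_
      rw [if_neg (Nat.succ_ne_zero i), Nat.add_sub_cancel, Nat.succ_sub_succ_eq_sub, pow_succ]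
      ring

/-- Polynomials vanishing at a ratio of two coprime nonunits have nonunit coefficients. -/
theorem coeff_mem_maximalIdeal_of_root {B : Type*} [CommRing B] [IsDomain B] [IsLocalRing B]
    [UniqueFactorizationMonoid B] {K : Type*} [Field K] [Algebra B K] [IsFractionRing B K] {a b : B} (ha : a ≠ 0)
    (hcop : IsRelPrime a b) (ham : a ∈ maximalIdeal B) (hbm : b ∈ maximalIdeal B) (R : B[X])
    (hR : (R.map (algebraMap B K)).eval (algebraMap B K b / algebraMap B K a) = 0) (i : ℕ) :
    R.coeff i ∈ maximalIdeal B := by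
  letI : NormalizedGCDMonoid B := Classical.choice inferInstance
  let L : B[X] := C a * X - C b
  have hprim : L.IsPrimitive := by
    intro r hr
    have h := C_dvd_iff_dvd_coeff _ _ |>.1 hr
    refine hcop ?_ ?_
    · have := h 1; simpa [L] using this
    · have := h 0; simpa [L] using this
  have ha' : algebraMap B K a ≠ 0 := fun h => ha (IsFractionRing.injective B K (h.trans (map_zero _).symm))
  have hdvd : L.map (algebraMap B K) ∣ R.map (algebraMap B K) := by
    have h1 : L.map (algebraMap B K) = C (algebraMap B K a) * (X - C (algebraMap B K b / algebraMap B K a)) := by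
      simp only [L, Polynomial.map_sub, Polynomial.map_mul, map_C, map_X, mul_sub, ← map_mul]
      rw [mul_div_cancel₀ _ ha']
    rw [h1, (isUnit_C.2 ha'.isUnit).mul_left_dvd]
    exact dvd_iff_isRoot.2 hR
  obtain ⟨S, hS⟩ := hprim.dvd_of_fraction_map_dvd_fraction_map hdvd
  have h0 : R.map (IsLocalRing.residue B) = 0 := by
    rw [hS, Polynomial.map_mul]
    simp [L, (residue_eq_zero_iff a).2 ham, (residue_eq_zero_iff b).2 hbm]
  exact (residue_eq_zero_iff _).1 (by rw [← coeff_map, h0, coeff_zero])

/-- The common factor of the generators of the maximal ideal in a birational factorial extension. -/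
theorem isUnit_common_factor {A B : Type*} [CommRing A] [IsLocalRing A] [IsNoetherianRing A] [IsDomain A]
    [CommRing B] [IsDomain B] [IsLocalRing B] [UniqueFactorizationMonoid B] (φ : A →+* B) [IsLocalHom φ]
    (hinj : Function.Injective φ) (hbir : ∀ z : B, ∃ p q : A, q ≠ 0 ∧ z * φ q = φ p)
    {a b : A} (hm : maximalIdeal A = Ideal.span {a, b}) {g a' b' : B} (hga : φ a = g * a') (hgb : φ b = g * b')
    (ha : a ≠ 0) (hcop : IsRelPrime a' b') (ha'm : a' ∈ maximalIdeal B) (hb'm : b' ∈ maximalIdeal B) :
    IsUnit g := by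
  by_contra hg
  replace hg : g ∈ maximalIdeal B := hg
  let K := FractionRing B
  let ι : B →+* K := algebraMap B K
  have hι : Function.Injective ι := IsFractionRing.injective B K
  have hφa : φ a ≠ 0 := fun h => ha (hinj (h.trans (map_zero φ).symm))
  have ha'0 : a' ≠ 0 := fun h => hφa (by rw [hga, h, mul_zero])
  have hg0 : g ≠ 0 := fun h => hφa (by rw [hga, h, zero_mul])
  let t : K := ι b' / ι a'
  have ha'K : ι a' ≠ 0 := fun h => ha'0 (hι (h.trans (map_zero ι).symm))
  have key : ∀ p : A, p ≠ 0 → ∃ (n : ℕ) (P : A[X]), (∃ i, P.coeff i ∉ maximalIdeal A) ∧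
      ι (φ p) = ι (φ a) ^ n * ((P.map φ).map ι).eval t := by
    intro p hp
    obtain ⟨n, hn, hn'⟩ : ∃ n, p ∈ maximalIdeal A ^ n ∧ p ∉ maximalIdeal A ^ (n + 1) := by
      classical
      have hex : ∃ n, p ∉ maximalIdeal A ^ n := by
        by_contra h
        push Not at h
        refine hp ?_
        have h2 : p ∈ ⨅ n, maximalIdeal A ^ n := Submodule.mem_iInf _ |>.2 h
        rwa [Ideal.iInf_pow_eq_bot_of_isLocalRing _ (maximalIdeal.isMaximal A).ne_top, Ideal.mem_bot] at h2
      have h0 : Nat.find hex ≠ 0 := fun h => by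
        have := Nat.find_spec hex
        rw [h, pow_zero, Ideal.one_eq_top] at this
        exact this trivial
      refine ⟨Nat.find hex - 1, not_not.1 (Nat.find_min hex (by omega)), ?_⟩
      rw [Nat.sub_add_cancel (Nat.one_le_iff_ne_zero.2 h0)]
      exact Nat.find_spec hex
    obtain ⟨F, hF⟩ := exists_expansion a b n p (hm ▸ hn)
    refine ⟨n, ∑ i ∈ Finset.range (n + 1), C (F i) * X ^ i, ?_, ?_⟩
    · by_contra hall
      push Not at hall
      refine hn' ?_
      rw [hF]
      refine Ideal.sum_mem _ fun i hi => ?_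
      rw [pow_succ']
      refine Ideal.mul_mem_mul ?_ ?_
      · have hc := hall i
        rw [finsetSum_coeff] at hc
        simp only [coeff_C_mul, coeff_X_pow, mul_ite, mul_one, mul_zero] at hc
        rwa [Finset.sum_ite_eq, if_pos hi] at hc
      · have hin : i ≤ n := Nat.lt_succ_iff.1 (Finset.mem_range.1 hi)
        rw [show n = (n - i) + i by omega, pow_add, Nat.add_sub_cancel]
        exact Ideal.mul_mem_mul (Ideal.pow_mem_pow (hm ▸ Ideal.subset_span (by simp)) _)
          (Ideal.pow_mem_pow (hm ▸ Ideal.subset_span (by simp)) _)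
    · rw [hF]
      simp only [map_sum, map_mul, map_pow, Polynomial.map_sum, Polynomial.map_mul, Polynomial.map_pow, map_C,
        map_X, eval_finsetSum, eval_mul, eval_C, eval_pow, eval_X, Finset.mul_sum, hga, hgb]
      refine Finset.sum_congr rfl fun i hi => ?_
      have hin : i ≤ n := Nat.lt_succ_iff.1 (Finset.mem_range.1 hi)
      have hb' : ι b' = t * ι a' := (div_mul_cancel₀ _ ha'K).symm
      rw [hb', mul_pow, mul_pow, mul_pow, mul_pow]
      rw [← pow_sub_mul_pow (ι g) hin, ← pow_sub_mul_pow (ι a') hin]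
      ring
  obtain ⟨p, q, hq, hpq⟩ := hbir a'
  have hp : p ≠ 0 := by
    rintro rfl
    rw [map_zero, mul_eq_zero] at hpq
    exact hq (hinj ((hpq.resolve_left ha'0).trans (map_zero φ).symm))
  obtain ⟨n, P, ⟨i, hi⟩, hP⟩ := key p hp
  obtain ⟨m, Q, ⟨j, hj⟩, hQ⟩ := key q hq
  have hmem : ∀ x : A, φ x ∈ maximalIdeal B → x ∈ maximalIdeal A := fun x hx h => hx (h.map φ)
  have hpq' : ι a' * (ι (φ a) ^ m * ((Q.map φ).map ι).eval t) = ι (φ a) ^ n * ((P.map φ).map ι).eval t := by
    rw [← hP, ← hQ, ← map_mul, hpq]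
  have hφaK : ι (φ a) ≠ 0 := fun h => hφa (hι (h.trans (map_zero ι).symm))
  rcases le_or_gt n m with hnm | hnm
  · refine hi (hmem _ ?_)
    obtain ⟨d, rfl⟩ := Nat.exists_eq_add_of_le hnm
    let R : B[X] := C (a' * φ a ^ d) * Q.map φ - P.map φ
    have h0 := coeff_mem_maximalIdeal_of_root (K := K) ha'0 hcop ha'm hb'm R (by
      simp only [R, Polynomial.map_sub, Polynomial.map_mul, map_C, eval_sub, eval_mul, eval_C, map_mul, map_pow,
        Polynomial.map_pow, eval_pow]
      rw [sub_eq_zero]
      refine mul_left_cancel₀ (pow_ne_zero n hφaK) ?_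
      rw [← hpq', pow_add]
      ring) i
    simp only [R, coeff_sub, coeff_C_mul, coeff_map] at h0
    have h1 : a' * φ a ^ d * φ (Q.coeff i) ∈ maximalIdeal B :=
      Ideal.mul_mem_right _ _ (Ideal.mul_mem_right _ _ ha'm)
    simpa using sub_mem h1 h0
  · refine hj (hmem _ ?_)
    obtain ⟨d, rfl⟩ := Nat.exists_eq_add_of_lt hnm
    let R : B[X] := Q.map φ - C (g * φ a ^ d) * P.map φ
    have h0 := coeff_mem_maximalIdeal_of_root (K := K) ha'0 hcop ha'm hb'm R (by
      simp only [R, Polynomial.map_sub, Polynomial.map_mul, map_C, eval_sub, eval_mul, eval_C, map_mul, map_pow,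
        Polynomial.map_pow, eval_pow]
      rw [sub_eq_zero]
      refine mul_left_cancel₀ (mul_ne_zero ha'K (pow_ne_zero m hφaK)) ?_
      rw [show ι a' * ι (φ a) ^ m * ((Q.map φ).map ι).eval t =
        ι a' * (ι (φ a) ^ m * ((Q.map φ).map ι).eval t) from mul_assoc _ _ _, hpq',
        show ι (φ a) ^ (m + d + 1) = ι g * ι a' * (ι (φ a) ^ m * ι (φ a) ^ d) by
          rw [← pow_add, pow_succ', hga, map_mul]]
      ring) j
    simp only [R, coeff_sub, coeff_C_mul, coeff_map] at h0
    have h1 : g * φ a ^ d * φ (P.coeff j) ∈ maximalIdeal B :=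
      Ideal.mul_mem_right _ _ (Ideal.mul_mem_right _ _ hg)
    simpa using add_mem h0 h1

end Groth.Agent.Models7
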