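import Groth.Agent.Models7.ExtendModel
import Groth.Agent.Models7.SteinContract
import Groth.Agent.Models7.QuadFactor
import Groth.Agent.Inters29.PrimeDiv
import Groth.Agent.CAlgH3.Factorial
import Groth.Agent.CurvesLib24.Basic

/-!
# A birational morphism of regular surfaces factors through the blow-up of a fundamental point
-/

set_option autoImplicit false
set_option linter.style.haveILetI false
set_option backward.isDefEq.respectTransparency false
set_option maxHeartbeats 1000000

universe u

open CategoryTheory CategoryTheory.Limits AlgebraicGeometry TopologicalSpace IsLocalRing Opposite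
open Groth.Agent.Misc15.DivDescent Groth.Agent.SDiv28.CartierPart

namespace Groth.Agent.Models7

/-- Two generators for an ideal spanned by at most two elements. -/
theorem exists_pair_of_spanFinrank {A : Type*} [CommRing A] [IsNoetherianRing A] (I : Ideal A)
    (h : Submodule.spanFinrank I ≤ 2) : ∃ a b : A, I = Ideal.span {a, b} := by
  obtain ⟨s, hs, hspan⟩ := Submodule.FG.exists_span_set_encard_eq_spanFinrank (IsNoetherian.noetherian I)
  have hle : s.encard ≤ 2 := by rw [hs]; exact_mod_cast h
  rcases s.eq_empty_or_nonempty with rfl | ⟨a, ha⟩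
  · exact ⟨0, 0, hspan.symm.trans (by simp [Ideal.span_insert])⟩
  · rcases (s \ {a}).eq_empty_or_nonempty with he | ⟨b, hb⟩
    · refine ⟨a, a, hspan.symm.trans ?_⟩
      rw [Set.pair_eq_singleton, show s = {a} from
        Set.Subset.antisymm (Set.diff_eq_empty.1 he) (Set.singleton_subset_iff.2 ha)]
    · refine ⟨a, b, hspan.symm.trans ?_⟩
      have hab : ({a, b} : Set A) ⊆ s := Set.insert_subset ha (Set.singleton_subset_iff.2 hb.1)
      have : ({a, b} : Set A) = s := (Set.finite_singleton b |>.insert a).eq_of_subset_of_encard_le hab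
        (by rw [Set.encard_pair (fun h => hb.2 (Set.mem_singleton_iff.2 h.symm))]; exact hle)
      rw [this]

/-- The stalk of the ideal of a closed point is the maximal ideal. -/
theorem stk_vanishingIdeal_point {Y : Scheme.{u}} (y : Y) (hy : IsClosed ({y} : Set Y)) :
    stk (Scheme.IdealSheafData.vanishingIdeal ⟨{y}, hy⟩) y = maximalIdeal (Y.presheaf.stalk y) := by
  let C : Closeds Y := ⟨{y}, hy⟩
  let I := Scheme.IdealSheafData.vanishingIdeal C
  have hsupp : (I.support : Set Y) = {y} := Scheme.IdealSheafData.coe_support_vanishingIdeal C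
  have hy' : y ∈ I.support := hsupp.ge rfl
  haveI : IsReduced I.subscheme := Props12.isReduced_subscheme_vanishingIdeal C
  have hsub : Subsingleton I.subscheme := ⟨fun a b => I.subschemeι.isClosedEmbedding.injective
    ((Set.mem_singleton_iff.1 (hsupp.le (I.range_subschemeι.le ⟨a, rfl⟩))).trans
      (Set.mem_singleton_iff.1 (hsupp.le (I.range_subschemeι.le ⟨b, rfl⟩))).symm)⟩
  haveI : IrreducibleSpace I.subscheme :=
    { isPreirreducible_univ := Set.subsingleton_univ.isPreirreducible
      toNonempty := ⟨(I.range_subschemeι.ge hy').choose⟩ }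
  haveI : IsIntegral I.subscheme := isIntegral_of_irreducibleSpace_of_isReduced _
  haveI hP := isPrime_stk (D := I) hy'
  refine le_antisymm ((mem_support_iff_stk I y).1 hy') ?_
  have h := (Inters29.fromSpecStalk_mem_support_iff I ⟨_, hP⟩).2 le_rfl
  have he : Y.fromSpecStalk y ⟨_, hP⟩ = Y.fromSpecStalk y (closedPoint (Y.presheaf.stalk y)) :=
    (Set.mem_singleton_iff.1 (hsupp.le h)).trans Scheme.fromSpecStalk_closedPoint.symm
  exact (congrArg PrimeSpectrum.asIdeal ((Y.fromSpecStalk y).isEmbedding.injective he)).ge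

/-- The inverse image of a fundamental point of a birational morphism of regular surfaces is a divisor. -/
theorem isEffCartier_comap_point {X Y : Scheme.{u}} [IsIntegral X] [IsLocallyNoetherian X] [CompactSpace X]
    [IsIntegral Y] [IsLocallyNoetherian Y]
    (hX : ∀ x : X, IsRegularLocalRing (X.presheaf.stalk x)) (hY : ∀ y : Y, IsRegularLocalRing (Y.presheaf.stalk y))
    (hdX : topologicalKrullDim X ≤ 2) (hdY : topologicalKrullDim Y ≤ 2) (hYn : Pi1.IsNormalScheme Y)
    (f : X ⟶ Y) [IsProper f] (hgen : f (genericPoint X) = genericPoint Y)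
    (hbir : IsIso (f.stalkMap (genericPoint X))) (y : Y) (hy : IsClosed ({y} : Set Y)) (hy0 : y ≠ genericPoint Y)
    (hbig : ∃ x x' : X, x ≠ x' ∧ f x = y ∧ f x' = y) :
    BlowUp.IsEffCartierIdeal ((Scheme.IdealSheafData.vanishingIdeal ⟨{y}, hy⟩).comap f) := by
  let I := Scheme.IdealSheafData.vanishingIdeal ⟨{y}, hy⟩
  haveI : IsDominant f := Hurwitz24.isDominant_of_generic f hgen
  haveI : IsNoetherian X := {}
  refine Inters29.isEffCartier_of_stk _ fun x => ?_
  rw [stk_comap]
  by_cases hx : f x = y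
  swap
  · rw [stk_eq_top (fun h => hx ((Scheme.IdealSheafData.coe_support_vanishingIdeal _).le h)), Ideal.map_top]
    exact ⟨⟨1, Ideal.span_singleton_one.symm⟩, top_ne_bot⟩
  let A := Y.presheaf.stalk (f x)
  let B := X.presheaf.stalk x
  let φ : A →+* B := (f.stalkMap x).hom
  have hinj : Function.Injective φ := CurvesLib24.stalkMap_injective f x
  have hstk : stk I (f x) = maximalIdeal A := by
    show stk I (f x) = maximalIdeal (Y.presheaf.stalk (f x))
    rw [hx]; exact stk_vanishingIdeal_point y hy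
  haveI := hX x
  haveI := hY (f x)
  haveI : UniqueFactorizationMonoid B := CAlgH3.ufm_of_regular B
  obtain ⟨a, b, hab⟩ := exists_pair_of_spanFinrank (maximalIdeal A) (by
    have h1 : ((maximalIdeal A).spanFinrank : WithBot ℕ∞) ≤ 2 := by
      rw [IsRegularLocalRing.spanFinrank_maximalIdeal]
      exact (CurvesLib24.stalk_dim_le_topologicalKrullDim (f x)).trans hdY
    exact_mod_cast h1)
  have hne : maximalIdeal A ≠ ⊥ := by
    intro h
    refine hy0 ?_
    let P : Spec A := ⟨⊥, Ideal.isPrime_bot⟩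
    have hP : P = closedPoint A := PrimeSpectrum.ext h.symm
    have h1 : Y.fromSpecStalk (f x) P = genericPoint Y := by
      obtain ⟨Q, hQ⟩ : genericPoint Y ∈ Set.range (Y.fromSpecStalk (f x)) :=
        Scheme.range_fromSpecStalk.ge (genericPoint_specializes _)
      have hle : P ⤳ Q := (PrimeSpectrum.le_iff_specializes P Q).1 bot_le
      exact ((hQ ▸ hle.map (Y.fromSpecStalk (f x)).continuous).antisymm (genericPoint_specializes _)).eq
    rw [← h1, hP]
    exact hx.symm.trans Scheme.fromSpecStalk_closedPoint.symm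
  rw [hstk, hab, Ideal.map_span, Set.image_pair]
  refine ⟨?_, fun h => hne ?_⟩
  swap
  · rw [hab, Ideal.span_eq_bot]
    intro z hz
    have := Ideal.span_eq_bot.1 h (φ z) (by
      rcases hz with rfl | rfl
      · exact Set.mem_insert _ _
      · exact Set.mem_insert_of_mem _ rfl)
    exact hinj (this.trans (map_zero φ).symm)
  by_cases ha : a = 0
  · exact ⟨φ b, by rw [ha, map_zero]; exact Ideal.span_insert_zero⟩
  have hφa : φ a ≠ 0 := fun h => ha (hinj (h.trans (map_zero φ).symm))
  obtain ⟨g, a', b', hga, hgb, hu⟩ : ∃ g a' b', φ a = g * a' ∧ φ b = g * b' ∧ IsRelPrime a' b' := by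
    obtain ⟨a', b', g, hcop, h1, h2⟩ := UniqueFactorizationMonoid.exists_reduced_factors (φ a) hφa (φ b)
    exact ⟨g, a', b', h1.symm, h2.symm, fun d hd1 hd2 => hcop hd1 hd2⟩
  by_cases hunit : IsUnit a' ∨ IsUnit b'
  · refine ⟨g, le_antisymm ?_ ?_⟩
    · rw [Ideal.span_le]
      rintro z (rfl | rfl) <;> exact Ideal.mem_span_singleton'.2 ⟨_, (mul_comm _ _).trans (by first | exact hga.symm | exact hgb.symm)⟩
    · rw [Ideal.span_le, Set.singleton_subset_iff]
      rcases hunit with h | h <;> obtain ⟨w, rfl⟩ := h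
      · refine Ideal.mem_span_pair.2 ⟨↑w⁻¹, 0, ?_⟩
        rw [hga, zero_mul, add_zero, mul_comm, mul_assoc, Units.mul_inv, mul_one]
      · refine Ideal.mem_span_pair.2 ⟨0, ↑w⁻¹, ?_⟩
        rw [hgb, zero_mul, zero_add, mul_comm, mul_assoc, Units.mul_inv, mul_one]
  push Not at hunit
  exfalso
  have hgu : IsUnit g := by
    refine isUnit_common_factor φ hinj (fun z => ?_) hab hga hgb ha hu hunit.1 hunit.2
    obtain ⟨w, hw⟩ := (ConcreteCategory.bijective_of_isIso (f.stalkMap (genericPoint X))).2
      (X.presheaf.stalkSpecializes (genericPoint_specializes x) z)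
    have key : ∀ (v : Y), v = genericPoint Y → ∀ (h : v ⤳ f x) (c : Y.presheaf.stalk v), ∃ p q : A, q ≠ 0 ∧
        c * Y.presheaf.stalkSpecializes h q = Y.presheaf.stalkSpecializes h p := by
      rintro v rfl h c
      obtain ⟨p, q, hq, hpq⟩ := IsFractionRing.div_surjective (A := A) (K := Y.functionField) c
      refine ⟨p, q, nonZeroDivisors.ne_zero hq, ?_⟩
      rw [← hpq]
      exact div_mul_cancel₀ _ (fun h0 => nonZeroDivisors.ne_zero hq
        (IsFractionRing.injective A Y.functionField (h0.trans (map_zero _).symm)))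
    obtain ⟨p, q, hq, hpq⟩ := key _ hgen ((genericPoint_specializes x).map f.continuous) w
    refine ⟨p, q, hq, ?_⟩
    apply IsFractionRing.injective (X.presheaf.stalk x) X.functionField
    show X.presheaf.stalkSpecializes (genericPoint_specializes x) (z * f.stalkMap x q) =
      X.presheaf.stalkSpecializes (genericPoint_specializes x) (f.stalkMap x p)
    rw [map_mul, ← Scheme.Hom.stalkSpecializes_stalkMap_apply, ← Scheme.Hom.stalkSpecializes_stalkMap_apply,
      ← hw, ← map_mul, hpq]
  -- a curve of the fibre passes through the point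
  have hA : IsClosed (f.base ⁻¹' {y}) := hy.preimage f.continuous
  have hconn := isPreconnected_preimage f hYn hgen hbir y
  obtain ⟨c, hcA, hcx, hcc⟩ : ∃ c ∈ f.base ⁻¹' {y}, c ⤳ x ∧ ¬ IsClosed ({c} : Set X) := by
    by_cases hxc : IsClosed ({x} : Set X)
    · obtain ⟨x₁, x₂, hne12, hx₁, hx₂⟩ := hbig
      obtain ⟨z, hz, hzne⟩ : ∃ z ∈ f.base ⁻¹' {y}, z ≠ x := by
        by_cases h : x₁ = x
        · exact ⟨x₂, hx₂, fun h' => hne12 (h.trans h'.symm)⟩
        · exact ⟨x₁, hx₁, h⟩
      obtain ⟨c, hc, hne', hsp⟩ := exists_specializes_ne hA hconn hx hxc hz hzne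
      exact ⟨c, hc, hsp, fun h => hne' ((hsp.mem_closed h rfl).symm)⟩
    · exact ⟨x, hx, specializes_rfl, hxc⟩
  obtain ⟨Q, hQ⟩ : c ∈ Set.range (X.fromSpecStalk x) := Scheme.range_fromSpecStalk.ge hcx
  let P : PrimeSpectrum B := Q
  have hle : (maximalIdeal A).map φ ≤ P.asIdeal := by
    have h1 : X.fromSpecStalk x Q ∈ ((I.comap f).support : Set X) := by
      rw [Scheme.IdealSheafData.support_comap, hQ]
      exact (Scheme.IdealSheafData.coe_support_vanishingIdeal _).ge hcA
    have h2 := (Inters29.fromSpecStalk_mem_support_iff (I.comap f) P).1 h1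
    rwa [stk_comap, hstk] at h2
  have hmem : ∀ z ∈ maximalIdeal A, φ z ∈ P.asIdeal := fun z hz => hle (Ideal.mem_map_of_mem φ hz)
  have hgP : g ∉ P.asIdeal := fun h => P.2.ne_top (Ideal.eq_top_of_isUnit_mem _ h hgu)
  have haP : a' ∈ P.asIdeal := (P.2.mem_or_mem (hga ▸ hmem a (hab ▸ Ideal.subset_span (by simp)))).resolve_left hgP
  have hbP : b' ∈ P.asIdeal := (P.2.mem_or_mem (hgb ▸ hmem b (hab ▸ Ideal.subset_span (by simp)))).resolve_left hgP
  have ha'0 : a' ≠ 0 := fun h => hφa (by rw [hga, h, mul_zero])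
  obtain ⟨π, hπP, hπ⟩ := Ideal.IsPrime.exists_mem_prime_of_ne_bot P.2
    (fun h => ha'0 (Ideal.mem_bot.1 (h ▸ haP)))
  haveI hπ' : (Ideal.span {π}).IsPrime := (Ideal.span_singleton_prime hπ.ne_zero).2 hπ
  by_cases hP : P.asIdeal = Ideal.span {π}
  · exact hπ.not_unit (hu (Ideal.mem_span_singleton.1 (hP ▸ haP)) (Ideal.mem_span_singleton.1 (hP ▸ hbP)))
  · let P₀ : PrimeSpectrum B := ⟨⊥, Ideal.isPrime_bot⟩
    let P₁ : PrimeSpectrum B := ⟨Ideal.span {π}, hπ'⟩
    let i := X.fromSpecStalk x
    have hsp : i P₁ ⤳ c := hQ ▸ ((PrimeSpectrum.le_iff_specializes P₁ P).1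
      ((Ideal.span_singleton_le_iff_mem _).2 hπP)).map i.continuous
    refine hcc (isClosed_of_specializes_dim_two hdX hsp (fun h => hP ?_) fun h => hπ.ne_zero ?_)
    · exact (congrArg PrimeSpectrum.asIdeal (i.isEmbedding.injective (h.trans hQ.symm))).symm
    · obtain ⟨Q₀, hQ₀⟩ : genericPoint X ∈ Set.range i := Scheme.range_fromSpecStalk.ge (genericPoint_specializes _)
      have h0 : P₁ = Q₀ := i.isEmbedding.injective (h.trans hQ₀.symm)
      have h1 : (P₀ : PrimeSpectrum B) = P₁ := by
        refine i.isEmbedding.injective (Eq.trans ?_ h.symm)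
        have hh : i P₀ ⤳ i P₁ := ((PrimeSpectrum.le_iff_specializes P₀ P₁).1 bot_le).map i.continuous
        rw [show i P₁ = genericPoint X from h] at hh
        exact (hh.antisymm (genericPoint_specializes _)).eq
      exact Ideal.span_singleton_eq_bot.1 (congrArg PrimeSpectrum.asIdeal h1).symm

end Groth.Agent.Models7
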