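import Groth.Agent.Models7.RootFamily
import Groth.Agent.PicTau27.CurveAlg
import Groth.Agent.FlatMor12.BlowUpDisjoint
import Groth.Agent.Inters29.PullIdeal
import Groth.Agent.PicLib.PicGroup

/-!
# Classes of the smooth rational points of a proper curve modulo powers
-/

set_option autoImplicit false
set_option linter.style.haveILetI false
set_option backward.isDefEq.respectTransparency.types false
set_option maxHeartbeats 1000000

universe u

open CategoryTheory CategoryTheory.Limits AlgebraicGeometry
open Groth.Agent.PicLib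

noncomputable section

namespace Groth.Agent.Models7

theorem isEffCartier_top (X : Scheme.{u}) : BlowUp.IsEffCartierIdeal (⊤ : X.IdealSheafData) := fun x => by
  obtain ⟨U, hU, hxU, -⟩ := exists_isAffineOpen_mem_and_subset (x := x) (U := ⊤) trivial
  exact ⟨⟨U, hU⟩, hxU, 1, one_mem _, by rw [Ideal.span_singleton_one]; rfl⟩

/-- An ideal which is effective Cartier on an open containing its support is effective Cartier. -/
theorem isEffCartier_of_open {X Y : Scheme.{u}} (j : Y ⟶ X) [IsOpenImmersion j] (I : X.IdealSheafData)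
    (hI : (I.support : Set X) ⊆ Set.range j) (h : BlowUp.IsEffCartierIdeal (I.comap j)) :
    BlowUp.IsEffCartierIdeal I := by
  refine FlatMor12.BlowUpDisjoint.isEffCartierIdeal_of_cover I fun x => ?_
  by_cases hx : x ∈ (I.support : Set X)
  · exact ⟨Y, j, inferInstance, hI hx, h⟩
  · let W : X.Opens := ⟨(I.support : Set X)ᶜ, I.support.isClosed.isOpen_compl⟩
    refine ⟨W, W.ι, inferInstance, by rw [Scheme.Opens.range_ι]; exact hx, ?_⟩
    rw [ProjLib.comap_eq_top_of_disjoint I W.ι (by rw [Scheme.Opens.range_ι]; exact disjoint_compl_left)]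
    exact isEffCartier_top _

variable {k : Type u} [Field k] {Z : Scheme.{u}} {f : Z ⟶ Spec (CommRingCat.of k)} [IsProper f]
  {B : Type u} [CommRing B] [Algebra k B] (j : Spec (CommRingCat.of B) ⟶ Z) [IsOpenImmersion j]
  (hj : j ≫ f = bsp k B)

omit [IsProper f] [IsOpenImmersion j] in
include hj in
theorem point_comp (φ : B →ₐ[k] k) : (Spec.map (CommRingCat.ofHom φ.toRingHom) ≫ j) ≫ f = 𝟙 _ := by
  rw [Category.assoc, hj, map_bsp]
  exact Spec.map_id _

omit [IsOpenImmersion j] in
include hj in
theorem isClosedImmersion_point (φ : B →ₐ[k] k) :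
    IsClosedImmersion (Spec.map (CommRingCat.ofHom φ.toRingHom) ≫ j) := by
  haveI : IsClosedImmersion ((Spec.map (CommRingCat.ofHom φ.toRingHom) ≫ j) ≫ f) := by
    rw [point_comp j hj φ]; infer_instance
  exact IsClosedImmersion.of_comp _ f

variable [SmoothOfRelativeDimension 1 (bsp k B)]

include hj in
theorem isEffCartier_pointOf (φ : B →ₐ[k] k) :
    BlowUp.IsEffCartierIdeal (Spec.map (CommRingCat.ofHom φ.toRingHom) ≫ j).ker := by
  let P := Spec.map (CommRingCat.ofHom φ.toRingHom)
  haveI : IsClosedImmersion (P ≫ j) := isClosedImmersion_point j hj φ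
  refine isEffCartier_of_open j _ ?_ ?_
  · rw [Scheme.Hom.support_ker]
    show closure (Set.range (P ≫ j)) ⊆ _
    rw [(P ≫ j).isClosedEmbedding.isClosed_range.closure_eq, Scheme.Hom.comp_base, TopCat.coe_comp, Set.range_comp]
    exact Set.image_subset_range _ _
  · letI : (Spec (CommRingCat.of B)).Over (Spec (CommRingCat.of k)) := ⟨bsp k B⟩
    haveI : IsSeparated ((Spec (CommRingCat.of B)) ↘ Spec (CommRingCat.of k)) :=
      inferInstanceAs (IsSeparated (bsp k B))
    haveI : SmoothOfRelativeDimension 1 ((Spec (CommRingCat.of B)) ↘ Spec (CommRingCat.of k)) :=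
      inferInstanceAs (SmoothOfRelativeDimension 1 (bsp k B))
    have h : P ≫ bsp k B = 𝟙 _ := (map_bsp φ).trans (Spec.map_id _)
    haveI : IsClosedImmersion (P ≫ bsp k B) := by rw [h]; infer_instance
    haveI : IsClosedImmersion P := IsClosedImmersion.of_comp P (bsp k B)
    have sq : IsPullback P (𝟙 _) j (P ≫ j) :=
      IsPullback.of_isLimit' ⟨(Category.id_comp _).symm⟩ (PullbackCone.IsLimit.mk _ (fun s => s.snd)
        (fun s => (cancel_mono j).1 (((Category.assoc _ _ _)).trans s.condition.symm))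
        (fun s => Category.comp_id _) fun s m _ h2 => (Category.comp_id m).symm.trans h2)
    have hk : (P ≫ j).ker.comap j = P.ker := by
      refine (Scheme.IdealSheafData.ker_fst_of_isClosedImmersion (P ≫ j) j).symm.trans ?_
      conv_rhs => rw [← sq.isoPullback_hom_fst]
      rw [Scheme.Hom.ker_comp_of_isIso]
    rw [hk]
    exact PicTau27.isEffCartier_point P h

/-- The class of the ideal of a rational point of the chart. -/
def pcl (φ : B →ₐ[k] k) : PicM Z :=
  PicM.of (FlatMor12.IdealModGen.isInvertible_idealMod _ (isEffCartier_pointOf j hj φ))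

omit [IsProper f] [IsOpenImmersion j] [SmoothOfRelativeDimension 1 (bsp k B)] in
include hj in
theorem isPullback_ptS_graph (φ : B →ₐ[k] k) :
    IsPullback (Spec.map (CommRingCat.ofHom φ.toRingHom) ≫ j) (Spec.map (CommRingCat.ofHom φ.toRingHom))
      (ptS f φ) (pullback.lift j (𝟙 _) (by rw [Category.id_comp, hj]) : _ ⟶ pullback f (bsp k B)) := by
  let P := Spec.map (CommRingCat.ofHom φ.toRingHom)
  let Γg : Spec (CommRingCat.of B) ⟶ pullback f (bsp k B) := pullback.lift j (𝟙 _) (by rw [Category.id_comp, hj])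
  show IsPullback (P ≫ j) P (ptS f φ) Γg
  have hPb : (P ≫ j) ≫ f = 𝟙 _ := point_comp j hj φ
  have hS1 : ptS f φ ≫ pullback.fst f (bsp k B) = 𝟙 Z := pullback.lift_fst _ _ _
  have hS2 : ptS f φ ≫ pullback.snd f (bsp k B) = f ≫ P := pullback.lift_snd _ _ _
  have hG1 : Γg ≫ pullback.fst f (bsp k B) = j := pullback.lift_fst _ _ _
  have hG2 : Γg ≫ pullback.snd f (bsp k B) = 𝟙 _ := pullback.lift_snd _ _ _
  have w : (P ≫ j) ≫ ptS f φ = P ≫ Γg := by
    apply pullback.hom_ext
    · rw [Category.assoc, Category.assoc, hS1, Category.comp_id, Category.assoc, hG1]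
    · rw [Category.assoc (P ≫ j), hS2, ← Category.assoc, hPb, Category.id_comp, Category.assoc, hG2,
        Category.comp_id]
  have hfst : ∀ s : PullbackCone (ptS f φ) Γg, s.fst = s.snd ≫ j ∧ s.fst ≫ f ≫ P = s.snd := fun s => by
    refine ⟨?_, ?_⟩
    · have h := congrArg (fun m => m ≫ pullback.fst f (bsp k B)) s.condition
      simp only [Category.assoc, hS1, hG1] at h
      rwa [Category.comp_id] at h
    · have h := congrArg (fun m => m ≫ pullback.snd f (bsp k B)) s.condition
      simp only [Category.assoc, hS2, hG2] at h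
      rwa [Category.comp_id] at h
  refine IsPullback.of_isLimit' ⟨w⟩ (PullbackCone.IsLimit.mk _ (fun s => s.fst ≫ f) (fun s => ?_) (fun s => ?_)
    fun s m h1 _ => ?_)
  · rw [Category.assoc, ← Category.assoc f P j, ← Category.assoc, (hfst s).2, ← (hfst s).1]
  · rw [Category.assoc, (hfst s).2]
  · rw [← h1, Category.assoc, hPb, Category.comp_id]

include hj in
theorem isEffCartier_graph : BlowUp.IsEffCartierIdeal
    (pullback.lift j (𝟙 _) (by rw [Category.id_comp, hj]) : _ ⟶ pullback f (bsp k B)).ker := by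
  let b := bsp k B
  letI : (Spec (CommRingCat.of B)).Over (Spec (CommRingCat.of k)) := ⟨b⟩
  haveI : IsSeparated ((Spec (CommRingCat.of B)) ↘ Spec (CommRingCat.of k)) := inferInstanceAs (IsSeparated b)
  haveI : SmoothOfRelativeDimension 1 ((Spec (CommRingCat.of B)) ↘ Spec (CommRingCat.of k)) :=
    inferInstanceAs (SmoothOfRelativeDimension 1 b)
  let Γg : Spec (CommRingCat.of B) ⟶ pullback f b := pullback.lift j (𝟙 _) (by rw [Category.id_comp, hj])
  haveI : IsClosedImmersion Γg :=
    haveI : IsClosedImmersion (Γg ≫ pullback.snd f b) := by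
      rw [show Γg ≫ pullback.snd f b = 𝟙 _ from pullback.lift_snd _ _ _]; infer_instance
    IsClosedImmersion.of_comp Γg (pullback.snd f b)
  let j' : pullback b b ⟶ pullback f b :=
    pullback.map b b f b j (𝟙 _) (𝟙 _) (by rw [Category.comp_id, hj]) (by rw [Category.comp_id, Category.id_comp])
  haveI : IsOpenImmersion j' := inferInstance
  have hfac : Γg = pullback.diagonal b ≫ j' := by
    apply pullback.hom_ext
    · simp only [Γg, j', pullback.map, Category.assoc, pullback.lift_fst]
      rw [← Category.assoc, pullback.diagonal_fst, Category.id_comp]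
    · simp only [Γg, j', pullback.map, Category.assoc, pullback.lift_snd]
      rw [Category.comp_id, pullback.diagonal_snd]
  refine isEffCartier_of_open j' _ ?_ ?_
  · rw [Scheme.Hom.support_ker]
    show closure (Set.range Γg) ⊆ _
    rw [Γg.isClosedEmbedding.isClosed_range.closure_eq, hfac, Scheme.Hom.comp_base, TopCat.coe_comp, Set.range_comp]
    exact Set.image_subset_range _ _
  · show BlowUp.IsEffCartierIdeal (Γg.ker.comap j')
    have sq : IsPullback (pullback.diagonal b) (𝟙 _) j' Γg :=
      IsPullback.of_isLimit' ⟨by rw [Category.id_comp, hfac]⟩ (PullbackCone.IsLimit.mk _ (fun s => s.snd)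
        (fun s => (cancel_mono j').1 ((Category.assoc _ _ _).trans
          ((congrArg (s.snd ≫ ·) hfac.symm).trans s.condition.symm)))
        (fun s => Category.comp_id _) fun s m _ h2 => (Category.comp_id m).symm.trans h2)
    have hk : Γg.ker.comap j' = (pullback.diagonal b).ker := by
      refine (Scheme.IdealSheafData.ker_fst_of_isClosedImmersion Γg j').symm.trans ?_
      conv_rhs => rw [← sq.isoPullback_hom_fst]
      rw [Scheme.Hom.ker_comp_of_isIso]
    rw [hk]
    exact PicTau27.isEffCartier_diagonal (C := Spec (CommRingCat.of B))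

include hj in
/-- Up to powers of invertible order, almost all point classes of an integral chart agree. -/
theorem exists_pcl_congr [IsAlgClosed k] [IsDomain B] [Algebra.FiniteType k B] (q : ℕ) (hq : (q : k) ≠ 0)
    (φ₀ : B →ₐ[k] k) :
    ∃ b : B, b ≠ 0 ∧ ∀ φ : B →ₐ[k] k, φ b ≠ 0 → ∃ d : PicM Z, d ^ q * pcl j hj φ₀ = pcl j hj φ := by
  have hΔ := isEffCartier_graph j hj
  let D : PicM (pullback f (bsp k B)) := PicM.of (FlatMor12.IdealModGen.isInvertible_idealMod _ hΔ)
  let Γg : Spec (CommRingCat.of B) ⟶ pullback f (bsp k B) := pullback.lift j (𝟙 _) (by rw [Category.id_comp, hj])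
  haveI : IsClosedImmersion Γg :=
    haveI : IsClosedImmersion (Γg ≫ pullback.snd f (bsp k B)) := by
      rw [show Γg ≫ pullback.snd f (bsp k B) = 𝟙 _ from pullback.lift_snd _ _ _]; infer_instance
    IsClosedImmersion.of_comp Γg (pullback.snd f (bsp k B))
  have hD : ∀ φ : B →ₐ[k] k, PicM.pull (ptS f φ) D = pcl j hj φ := fun φ => by
    have hc : Γg.ker.comap (ptS f φ) = (Spec.map (CommRingCat.ofHom φ.toRingHom) ≫ j).ker := by
      haveI := isClosedImmersion_point j hj φ
      refine (Scheme.IdealSheafData.ker_fst_of_isClosedImmersion Γg (ptS f φ)).symm.trans ?_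
      conv_rhs => rw [← (isPullback_ptS_graph j hj φ).isoPullback_hom_fst]
      rw [Scheme.Hom.ker_comp_of_isIso]
    rw [PicM.pull_of, pcl, PicM.of_eq_iff]
    obtain ⟨e⟩ := Inters29.nonempty_pullback_idealMod_iso (ptS f φ) Γg.ker hΔ
      (by rw [hc]; exact isEffCartier_pointOf j hj φ)
    exact ⟨e ≪≫ eqToIso (by rw [hc])⟩
  obtain ⟨a, ha⟩ := PicM.exists_mul_eq_one (pcl j hj φ₀)
  let c := D * PicM.pull (pullback.fst f (bsp k B)) a
  have hc : ∀ φ, PicM.pull (ptS f φ) c = pcl j hj φ * a := fun φ => by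
    rw [map_mul, hD, PicM.pull_pull, show ptS f φ ≫ pullback.fst f (bsp k B) = 𝟙 Z from pullback.lift_fst _ _ _,
      PicM.pull_id]
  obtain ⟨b, hb, hroot⟩ := exists_root_generic f B q hq c φ₀ (by rw [hc, ha])
  refine ⟨b, hb, fun φ hφ => ?_⟩
  obtain ⟨d, hd⟩ := hroot φ hφ
  refine ⟨d, ?_⟩
  rw [hd, hc, mul_assoc, mul_comm a, ha, mul_one]

end Groth.Agent.Models7
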