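import Groth.Agent.Inters29.Comp
import Groth.Agent.CurveRR24.Sky
import Groth.Agent.SerreDual.PushEquiv
import Groth.Prelude.Def_ModelsG

/-!
# Closed subschemes of length one
-/

set_option autoImplicit false
set_option linter.style.haveILetI false
set_option backward.isDefEq.respectTransparency false
set_option maxHeartbeats 1000000

universe u

open CategoryTheory CategoryTheory.Limits AlgebraicGeometry Opposite TopologicalSpace IsLocalRing
open Groth.Agent.Coherent Groth.Agent.PicLib Groth.Agent.AmpleLib Groth.Agent.EulerLib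

namespace Groth.Agent.Models7

/-- An ideal with reduced subscheme is the vanishing ideal of its support. -/
theorem eq_vanishingIdeal_of_isReduced {X : Scheme.{u}} (I : X.IdealSheafData) [IsReduced I.subscheme] :
    I = Scheme.IdealSheafData.vanishingIdeal I.support := by
  rw [Scheme.IdealSheafData.vanishingIdeal_support]
  ext U : 2
  refine (Ideal.radical_eq_iff.2 ?_).symm
  rw [Ideal.isRadical_iff_quotient_reduced]
  exact isReduced_of_injective (I.subschemeObjIso U).commRingCatIsoToRingEquiv.symm.toRingHom
    (I.subschemeObjIso U).commRingCatIsoToRingEquiv.symm.injective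

/-- A closed subscheme of a one-dimensional integral scheme which misses the generic point is affine. -/
theorem isAffine_of_misses_generic {Y : Scheme.{u}} [IsIntegral Y] [IsLocallyNoetherian Y] [CompactSpace Y]
    (hdim : topologicalKrullDim Y ≤ 1) {Z : Scheme.{u}} (j : Z ⟶ Y) [IsClosedImmersion j]
    (hg : genericPoint Y ∉ Set.range j.base) : IsAffine Z := by
  haveI : CompactSpace Z := j.isClosedEmbedding.compactSpace
  haveI : IsLocallyNoetherian Z := LocallyOfFiniteType.isLocallyNoetherian j
  have hd : topologicalKrullDim Z ≤ 0 := by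
    refine Order.krullDim_nonpos_iff_forall_isMax.2 fun a b hab => ?_
    by_contra hba
    have hlt : a < b := lt_of_le_not_ge hab hba
    have he := j.isClosedEmbedding
    let f : IrreducibleCloseds Z → IrreducibleCloseds Y := fun T =>
      ⟨j.base '' T.carrier, T.isIrreducible.image _ he.continuous.continuousOn, he.isClosedMap _ T.isClosed⟩
    have hf : f a < f b := SetLike.lt_iff_le_and_exists.2 ⟨Set.image_mono hab, by
      obtain ⟨x, hxb, hxa⟩ := (SetLike.lt_iff_le_and_exists.1 hlt).2
      refine ⟨j x, ⟨x, hxb, rfl⟩, ?_⟩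
      rintro ⟨y, hy, hyx⟩
      exact hxa (he.injective hyx ▸ hy)⟩
    let top : IrreducibleCloseds Y := ⟨Set.univ, IrreducibleSpace.isIrreducible_univ Y, isClosed_univ⟩
    have htop : f b < top := SetLike.lt_iff_le_and_exists.2 ⟨fun x _ => trivial, genericPoint Y, trivial,
      fun hx => hg (Set.image_subset_range _ _ hx)⟩
    let s : LTSeries (IrreducibleCloseds Y) :=
      { length := 2
        toFun := ![f a, f b, top]
        step := fun i => by fin_cases i <;> simp <;> assumption }
    have h2 := Order.LTSeries.length_le_krullDim s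
    have : (2 : WithBot ℕ∞) ≤ 1 := le_trans h2 hdim
    exact absurd this (by decide)
  haveI := IsLocallyArtinian.of_topologicalKrullDim_le_zero hd
  haveI : IsArtinianScheme Z := { }
  infer_instance

variable {R : Type u} [CommRing R] {X : Over (Spec (CommRingCat.of R))}

/-- An affine closed subscheme of length one is a rational point of the closed fibre, with its reduced structure. -/
theorem exists_point_of_lengthH_eq_one (I : X.left.IdealSheafData) [IsAffine I.subscheme]
    (h : Models.lengthH R X (ClSub.quotMod I) 0 = 1) :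
    ∃ x : X.left, (I.support : Set X.left) = {x} ∧
      I = Scheme.IdealSheafData.vanishingIdeal ⟨closure {x}, isClosed_closure⟩ ∧
      Function.Surjective ((X.left.residue x).hom.comp (Models.stalkHom R X x)) := by
  let A := GA (baseHom R X.left) (ClSub.quotMod I)
  let one : A := (show Γ(I.subscheme, ⊤) from 1)
  let φ : R →+* Γ(I.subscheme, ⊤) := Coh.toGlobal (I.subschemeι ≫ X.hom)
  let π : R →ₗ[R] A := LinearMap.toSpanSingleton R A one
  have hπ : ∀ r, π r = (show A from φ r) := fun r => by
    show (show Γ(I.subscheme, ⊤) from (I.subschemeι.app ⊤) (baseHom R X.left r)) * (1 : Γ(I.subscheme, ⊤)) = _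
    rw [mul_one]
    rfl
  have hlen : Module.length R A = 1 := by
    have h' : (Module.length R (Coh.HH X.left (ClSub.quotMod I) 0)).toNat = 1 := h
    rw [(CurveRR24.hhZero R (ClSub.quotMod I)).length_eq] at h'
    exact (ENat.toNat_eq_iff one_ne_zero).1 h'
  haveI : IsSimpleModule R A := Module.length_eq_one_iff.1 hlen
  haveI : Nontrivial A := IsSimpleModule.nontrivial R A
  haveI : Nontrivial Γ(I.subscheme, ⊤) := ‹Nontrivial A›
  have hone : one ≠ 0 := fun h0 => one_ne_zero (α := Γ(I.subscheme, ⊤)) h0
  have hsurj : Function.Surjective φ := fun c => by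
    obtain ⟨r, hr⟩ := IsSimpleModule.toSpanSingleton_surjective R hone (show A from c)
    exact ⟨r, (hπ r).symm.trans hr⟩
  have hker : (RingHom.ker φ).IsMaximal := by
    have hπs : Function.Surjective π := IsSimpleModule.toSpanSingleton_surjective R hone
    have he : (RingHom.ker φ : Ideal R) = LinearMap.ker π := by
      ext r
      rw [LinearMap.mem_ker, RingHom.mem_ker, hπ]
    rw [he]
    haveI : IsSimpleModule R (R ⧸ LinearMap.ker π) := IsSimpleModule.congr (π.quotKerEquivOfSurjective hπs)
    exact Ideal.isMaximal_def.2 (isSimpleModule_iff_isCoatom.1 inferInstance)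
  have hfield : IsField Γ(I.subscheme, ⊤) :=
    ((RingHom.quotientKerEquivOfSurjective hsurj).toMulEquiv.symm).isField
      ((Ideal.Quotient.maximal_ideal_iff_isField_quotient _).1 hker)
  letI := hfield.toField
  haveI : IsReduced I.subscheme := by
    haveI : _root_.IsReduced Γ(I.subscheme, ⊤) := inferInstance
    exact isReduced_of_isOpenImmersion I.subscheme.isoSpec.hom
  haveI : Subsingleton I.subscheme :=
    I.subscheme.isoSpec.hom.homeomorph.injective.subsingleton (β := PrimeSpectrum Γ(I.subscheme, ⊤))
  haveI : Nonempty I.subscheme :=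
    ⟨I.subscheme.isoSpec.inv.base (show PrimeSpectrum Γ(I.subscheme, ⊤) from default)⟩
  obtain ⟨z⟩ := ‹Nonempty I.subscheme›
  have hsupp : (I.support : Set X.left) = {I.subschemeι z} := by
    rw [← Scheme.IdealSheafData.range_subschemeι]
    exact Set.Subset.antisymm (fun y ⟨w, hw⟩ => by rw [Subsingleton.elim w z] at hw; exact hw.symm)
      (fun y hy => ⟨z, hy.symm⟩)
  refine ⟨I.subschemeι z, hsupp, ?_, ?_⟩
  · conv_lhs => rw [eq_vanishingIdeal_of_isReduced I]
    congr 1
    refine SetLike.coe_injective ?_
    show (I.support : Set X.left) = closure {I.subschemeι z}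
    rw [← hsupp, I.support.isClosed.closure_eq]
  · intro c
    let ev : Γ(I.subscheme, ⊤) →+* I.subscheme.residueField z := (I.subscheme.Γevaluation z).hom
    have hgerm : Function.Surjective (I.subscheme.presheaf.germ ⊤ z trivial).hom := by
      letI := TopCat.Presheaf.algebra_section_stalk I.subscheme.presheaf (⟨z, trivial⟩ : (⊤ : I.subscheme.Opens))
      haveI := (isAffineOpen_top I.subscheme).isLocalization_stalk ⟨z, trivial⟩
      intro s
      obtain ⟨a, m, rfl⟩ := IsLocalization.exists_mk'_eq
        ((isAffineOpen_top I.subscheme).primeIdealOf ⟨z, trivial⟩).asIdeal.primeCompl s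
      have hm : (m : Γ(I.subscheme, ⊤)) ≠ 0 := fun h0 => m.2 (by rw [h0]; exact Ideal.zero_mem _)
      obtain ⟨m', hm'⟩ := hfield.mul_inv_cancel hm
      refine ⟨a * m', ?_⟩
      show algebraMap Γ(I.subscheme, ⊤) _ (a * m') = _
      rw [IsLocalization.eq_mk'_iff_mul_eq, ← map_mul, mul_assoc, mul_comm m', hm', mul_one]
    obtain ⟨b, hb⟩ := Ideal.Quotient.mk_surjective (I.subschemeι.residueFieldMap z c)
    obtain ⟨a, rfl⟩ := hgerm b
    obtain ⟨r, rfl⟩ := hsurj a
    refine ⟨r, RingHom.injective (I.subschemeι.residueFieldMap z).hom ?_⟩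
    refine Eq.trans ?_ hb
    symm
    show I.subscheme.Γevaluation z ((I.subschemeι ≫ X.hom).appTop ((Scheme.ΓSpecIso (CommRingCat.of R)).inv r)) =
      I.subschemeι.residueFieldMap z
        (X.left.Γevaluation (I.subschemeι z) (X.hom.appTop ((Scheme.ΓSpecIso (CommRingCat.of R)).inv r)))
    rw [Scheme.Γevaluation_naturality_apply, Scheme.Hom.comp_appTop]
    rfl

end Groth.Agent.Models7
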