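import Groth.Agent.Models7.PointBlowUpIso
import Groth.Agent.CAlgSmall.DimFormulaBounds
import Groth.Agent.Inters29.FibreDim

/-!
# Regular surfaces and sequences of point blow-ups
-/

set_option autoImplicit false
set_option linter.style.haveILetI false
set_option backward.isDefEq.respectTransparency false
set_option maxHeartbeats 1000000

universe u

open CategoryTheory CategoryTheory.Limits AlgebraicGeometry TopologicalSpace IsLocalRing Opposite
open Groth.Agent.Misc15.DivDescent Groth.Agent.SDiv28.CartierPart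

namespace Groth.Agent.Models7

/-- A quasi-compact regular integral scheme of dimension at most two. -/
structure RegSurf (Y : Scheme.{u}) : Prop where
  integral : IsIntegral Y
  noeth : IsLocallyNoetherian Y
  compact : CompactSpace Y
  regular : ∀ y : Y, IsRegularLocalRing (Y.presheaf.stalk y)
  dim : topologicalKrullDim Y ≤ 2

/-- A finite composite of blow-ups of closed, non-generic points. -/
inductive PtSeq : ∀ {Y X : Scheme.{u}}, (Y ⟶ X) → Prop
  | iso {Y X : Scheme.{u}} (e : Y ≅ X) : PtSeq e.hom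
  | step {Y Z X : Scheme.{u}} (b : Y ⟶ Z) (r : Z ⟶ X) (z : Z) (hz : IsClosed ({z} : Set Z))
      (hz0 : ∀ [IrreducibleSpace Z], z ≠ genericPoint Z)
      (hb : BlowUp.IsBlowUp b (Scheme.IdealSheafData.vanishingIdeal ⟨{z}, hz⟩)) (hr : PtSeq r) : PtSeq (b ≫ r)

theorem isBlowUp_iso_comp {W Y X : Scheme.{u}} (e : W ≅ Y) {b : Y ⟶ X} {I : X.IdealSheafData}
    (hb : BlowUp.IsBlowUp b I) : BlowUp.IsBlowUp (e.hom ≫ b) I := by
  refine ⟨?_, fun S h hh => ?_⟩
  · rw [Scheme.IdealSheafData.comap_comp]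
    exact FlatMor12.BlowUpDisjoint.isEffCartierIdeal_comap (I.comap b) hb.1 e.hom
  · obtain ⟨k, hk, huniq⟩ := hb.2 S h hh
    refine ⟨k ≫ e.inv, ?_, fun k' hk' => ?_⟩
    · show (k ≫ e.inv) ≫ e.hom ≫ b = h
      rw [Category.assoc, e.inv_hom_id_assoc]; exact hk
    · rw [← huniq (k' ≫ e.hom) (by show (k' ≫ e.hom) ≫ b = h; rw [Category.assoc]; exact hk'),
        Category.assoc, e.hom_inv_id, Category.comp_id]

theorem PtSeq.iso_comp {Y X : Scheme.{u}} {r : Y ⟶ X} (hr : PtSeq r) :
    ∀ {W : Scheme.{u}} (e : W ≅ Y), PtSeq (e.hom ≫ r) := by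
  induction hr with
  | iso e' => exact fun e => (Iso.trans_hom e e') ▸ PtSeq.iso (e ≪≫ e')
  | step b r z hz hz0 hb hr _ =>
    intro W e
    rw [← Category.assoc]
    exact PtSeq.step (e.hom ≫ b) r z hz hz0 (isBlowUp_iso_comp e hb) hr

theorem PtSeq.trans {W Y : Scheme.{u}} {s : W ⟶ Y} (hs : PtSeq s) :
    ∀ {X : Scheme.{u}} {r : Y ⟶ X}, PtSeq r → PtSeq (s ≫ r) := by
  induction hs with
  | iso e => exact fun hr => hr.iso_comp e
  | step b s' z hz hz0 hb _ ih =>
    intro X r hr
    rw [Category.assoc]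
    exact PtSeq.step b _ z hz hz0 hb (ih hr)

theorem PtSeq.id (X : Scheme.{u}) : PtSeq (𝟙 X) := PtSeq.iso (Iso.refl X)

/-- The data of the blow-up of a closed point of a regular surface. -/
theorem RegSurf.pointBlowUp {Z Y : Scheme.{u}} (hZ : RegSurf Z) (z : Z) (hz : IsClosed ({z} : Set Z))
    [IrreducibleSpace Z] (hz0 : z ≠ genericPoint Z) (b : Y ⟶ Z)
    (hb : BlowUp.IsBlowUp b (Scheme.IdealSheafData.vanishingIdeal ⟨{z}, hz⟩)) :
    RegSurf Y ∧ IsProper b ∧ IsIso (b ∣_ (⟨{z}ᶜ, hz.isOpen_compl⟩ : Z.Opens)) := by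
  haveI := hZ.integral
  haveI := hZ.noeth
  haveI := hZ.compact
  let I := Scheme.IdealSheafData.vanishingIdeal ⟨{z}, hz⟩
  haveI := isIntegral_pointBlowUp hZ.regular z hz hz0 b hb
  haveI : IsProper b := BlowUpLib.isProper_of_isBlowUp hb (FlatMorAdm.isFiniteTypeIdeal_of_noetherian I)
  let U : Z.Opens := ⟨{z}ᶜ, hz.isOpen_compl⟩
  have hiso : IsIso (b ∣_ U) := ProjLib.isIso_morphismRestrict hb _
    (Set.disjoint_left.mpr fun _ h h' => h' ((Scheme.IdealSheafData.coe_support_vanishingIdeal _).le h))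
  haveI : IsLocallyNoetherian Y := LocallyOfFiniteType.isLocallyNoetherian b
  haveI : CompactSpace Y := QuasiCompact.compactSpace_of_compactSpace b
  refine ⟨⟨inferInstance, inferInstance, inferInstance, isRegular_pointBlowUp hZ.regular z hz b hb, ?_⟩, inferInstance, hiso⟩
  obtain ⟨hgen, -⟩ := Coherent.birational_of_isIso_morphismRestrict b U ⟨genericPoint Z, hz0.symm⟩
  have hmem : genericPoint Y ∈ b ⁻¹ᵁ U := by
    show b (genericPoint Y) ∈ U
    rw [hgen]; exact hz0.symm
  have h0 : EGA43.DimFormula.trdAt b (genericPoint Y) = 0 := by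
    have h1 := EGA43.DimFormula.trdAt_comp (b ⁻¹ᵁ U).ι b ⟨genericPoint Y, hmem⟩
    haveI : IsPreimmersion ((b ∣_ U) ≫ U.ι) := inferInstance
    rw [EGA43.CMChart.trdAt_congr (morphismRestrict_ι b U).symm, Inters29.trdAt_preimmersion] at h1
    exact h1.symm
  refine (CAlgSmall.topologicalKrullDim_le_add b 0 fun ξ hξ => ?_).trans (le_of_eq_of_le (by simp) hZ.dim)
  rw [irreducibleComponents_eq_singleton, Set.mem_singleton_iff] at hξ
  have : ξ = genericPoint Y := ((isGenericPoint_iff_specializes.2 fun y => by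
    rw [specializes_iff_mem_closure, hξ]; exact iff_of_true trivial trivial : IsGenericPoint ξ ⊤)).eq
      (genericPoint_spec Y)
  rw [this, h0]

theorem RegSurf.isNormal {Y : Scheme.{u}} (hY : RegSurf Y) : Pi1.IsNormalScheme Y :=
  haveI := hY.integral
  isNormalScheme_of_regular hY.regular

end Groth.Agent.Models7
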