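import Groth.Agent.Models7.BlowUpSections
import Groth.Agent.Models7.LengthSq
import Groth.Agent.Models7.PtSeq
import Groth.Agent.Models7.PointScheme
import Groth.Agent.CAlgH.ExceptionalChart
import Groth.Agent.SDiv28.KoszulH1
import Groth.Agent.SDiv28.RegSeq
import Groth.Agent.VarietyLib.SmoothStalk
import Groth.Agent.Inters29.Family
import Groth.Agent.SerreDual.RegularVanishing

/-!
# The exceptional divisor of the blow-up of a point is an exceptional curve of the first kind
-/

set_option autoImplicit false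
set_option linter.style.haveILetI false
set_option backward.isDefEq.respectTransparency false
set_option maxHeartbeats 1000000

universe u

open CategoryTheory CategoryTheory.Limits AlgebraicGeometry TopologicalSpace IsLocalRing Opposite
open Groth.Agent.Misc15.DivDescent Groth.Agent.SDiv28.CartierPart

namespace Groth.Agent.Models7

/-- The exceptional divisor of the blow-up of a closed subscheme by quasi-regular generators is smooth over it. -/
theorem smooth_exceptional_affine {Y X : Scheme.{u}} [IsAffine Y] (I : Y.IdealSheafData) (b : X ⟶ Y)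
    (hb : BlowUp.IsBlowUp b I) {n : ℕ} (f : Fin (n + 1) → Γ(Y, ⊤))
    (hspan : I.ideal ⟨⊤, isAffineOpen_top Y⟩ = Ideal.span (Set.range f))
    (hreg : Groth.Agent.CAlgH.KoszulRegular.KReg f)
    (g : (I.comap b).subscheme ⟶ I.subscheme) (hg : g ≫ I.subschemeι = (I.comap b).subschemeι ≫ b) :
    Smooth g := by
  have key : ∀ (J : Y.IdealSheafData) (hJ : J = I) (g : (J.comap b).subscheme ⟶ I.subscheme)
      (_ : g ≫ I.subschemeι = (J.comap b).subschemeι ≫ b), I.subschemeι.ker = J → Smooth g := by
    rintro _ hJ g hg rfl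
    refine CAlgH.ExceptionalChart.smooth_exceptional I.subschemeι (fun w => ⟨⊤, isAffineOpen_top Y, trivial, n + 1, f,
      SDiv28.RegSeq.isQuasiRegular_of_isH1Regular f (SDiv28.RegSeq.isH1Regular_of_kreg hreg), ?_⟩) b
      (by rw [hJ]; exact hb) g hg
    rw [hJ, hspan]
  exact key I rfl g hg (Scheme.IdealSheafData.ker_subschemeι I)

variable (R : Type u) [CommRing R] [IsDomain R] [IsDiscreteValuationRing R]

/-- The exceptional divisor over an affine neighbourhood of the point. -/
theorem exists_exceptional_affine {Y X : Scheme.{u}} [IsIntegral Y] [IsAffine Y] (p : Y ⟶ Spec (CommRingCat.of R))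
    (hY : RegSurf Y) (z : Y) (hz : IsClosed ({z} : Set Y)) (hz0 : z ≠ genericPoint Y)
    (hzR : p z = closedPoint R) (hpη : p (genericPoint Y) ≠ closedPoint R)
    (hprop : IsProper ((Scheme.IdealSheafData.vanishingIdeal ⟨{z}, hz⟩).subschemeι ≫ p))
    (h2 : (maximalIdeal (Y.presheaf.stalk z)).spanFinrank = 2) {n : ℕ} (f : Fin (n + 1) → Γ(Y, ⊤))
    (hspan : (Scheme.IdealSheafData.vanishingIdeal ⟨{z}, hz⟩).ideal ⟨⊤, isAffineOpen_top Y⟩ = Ideal.span (Set.range f))
    (hreg : Groth.Agent.CAlgH.KoszulRegular.KReg f) (b : X ⟶ Y)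
    (hb : BlowUp.IsBlowUp b (Scheme.IdealSheafData.vanishingIdeal ⟨{z}, hz⟩)) :
    ∃ Γ : ArSurf.VertComp R (Over.mk (b ≫ p)),
      Γ.ι.ker = (Scheme.IdealSheafData.vanishingIdeal ⟨{z}, hz⟩).comap b ∧ Models.IsExcCurve Γ.ι := by
  let I := Scheme.IdealSheafData.vanishingIdeal ⟨{z}, hz⟩
  haveI := hY.noeth
  haveI := hY.compact
  haveI := hY.regular z
  obtain ⟨hX, hbp, hiso⟩ := hY.pointBlowUp z hz hz0 b hb
  haveI := hX.integral
  haveI := hX.noeth
  haveI := hX.compact
  haveI : IsIntegral (Over.mk (b ≫ p)).left := hX.integral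
  let U : Y.Opens := ⟨{z}ᶜ, hz.isOpen_compl⟩
  obtain ⟨hgen, hbij⟩ := Coherent.birational_of_isIso_morphismRestrict b U ⟨genericPoint Y, hz0.symm⟩
  haveI hbir : IsIso (b.stalkMap (genericPoint X)) := (ConcreteCategory.isIso_iff_bijective _).2 hbij
  haveI := surjective_of_gen b hgen
  have hsupp : (I.support : Set Y) = {z} := Scheme.IdealSheafData.coe_support_vanishingIdeal _
  -- the centre is the spectrum of a field
  haveI : IsReduced I.subscheme := Props12.isReduced_subscheme_vanishingIdeal _
  haveI : IsAffine I.subscheme := isAffine_of_isAffineHom I.subschemeι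
  obtain ⟨z₀, hz₀⟩ := I.range_subschemeι.ge (hsupp.ge rfl)
  have hsub : Subsingleton I.subscheme := ⟨fun a c => I.subschemeι.isClosedEmbedding.injective
    ((Set.mem_singleton_iff.1 (hsupp.le (I.range_subschemeι.le ⟨a, rfl⟩))).trans
      (Set.mem_singleton_iff.1 (hsupp.le (I.range_subschemeι.le ⟨c, rfl⟩))).symm)⟩
  haveI : IrreducibleSpace I.subscheme :=
    { isPreirreducible_univ := Set.subsingleton_univ.isPreirreducible
      toNonempty := ⟨z₀⟩ }
  haveI : IsIntegral I.subscheme := isIntegral_of_irreducibleSpace_of_isReduced _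
  haveI : Nonempty (⊤ : I.subscheme.Opens) := ⟨⟨z₀, trivial⟩⟩
  have hfield : IsField Γ(I.subscheme, ⊤) := by
    haveI : Subsingleton (PrimeSpectrum Γ(I.subscheme, ⊤)) :=
      I.subscheme.isoSpec.inv.homeomorph.injective.subsingleton
    rw [Ring.isField_iff_isSimpleOrder_ideal, isSimpleOrder_iff]
    refine ⟨inferInstance, fun J => ?_⟩
    by_cases hJ : J = ⊤
    · exact Or.inr hJ
    · obtain ⟨m, hm, hle⟩ := Ideal.exists_le_maximal J hJ
      have hmb : m = ⊥ := congrArg PrimeSpectrum.asIdeal
        (Subsingleton.elim (⟨m, hm.isPrime⟩ : PrimeSpectrum Γ(I.subscheme, ⊤)) ⟨⊥, Ideal.isPrime_bot⟩)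
      exact Or.inl (le_bot_iff.1 (hmb ▸ hle))
  letI := hfield.toField
  -- the exceptional divisor
  let J := I.comap b
  have hJsupp : (J.support : Set X) = b.base ⁻¹' {z} := by
    show ((I.comap b).support : Set X) = _
    rw [Scheme.IdealSheafData.support_comap, ← hsupp]; rfl
  let g : J.subscheme ⟶ I.subscheme := IsClosedImmersion.lift I.subschemeι (J.subschemeι ≫ b)
    ((Scheme.IdealSheafData.ker_subschemeι I).le.trans (I.le_map_comap b))
  have hg : g ≫ I.subschemeι = J.subschemeι ≫ b := IsClosedImmersion.lift_fac _ _ _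
  haveI : Smooth g := smooth_exceptional_affine I b hb f hspan hreg g hg
  haveI : Smooth (g ≫ I.subscheme.isoSpec.hom) := inferInstance
  haveI : IsReduced J.subscheme := by
    haveI : ∀ x : J.subscheme, _root_.IsReduced (J.subscheme.presheaf.stalk x) := fun x => by
      haveI := VarietyLib.isRegularLocalRing_stalk_of_smooth Γ(I.subscheme, ⊤) J.subscheme
        (g ≫ I.subscheme.isoSpec.hom) x
      haveI := CAlgH3.isDomain_of_isRegularLocalRing (J.subscheme.presheaf.stalk x)
      infer_instance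
    exact isReduced_of_isReduced_stalk _
  have hA : IsClosed (b.base ⁻¹' {z}) := hz.preimage b.continuous
  have hconn := isPreconnected_preimage b hY.isNormal hgen hbir z
  -- it is not a point
  obtain ⟨x₁, x₂, hne12, hx₁, hx₂⟩ : ∃ x x' : X, x ≠ x' ∧ b x = z ∧ b x' = z := by
    by_contra hcon
    push Not at hcon
    have hfin : ∀ w ∈ (⊤ : Y.Opens), (b.base ⁻¹' {w}).Finite := by
      intro w _
      refine Set.Subsingleton.finite fun a ha c hc => ?_
      by_cases hw : w = z
      · by_contra hac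
        exact hcon a c hac ((Set.mem_singleton_iff.1 ha).trans hw) ((Set.mem_singleton_iff.1 hc).trans hw)
      · haveI := hiso
        have ha' : b a ∈ U := by rw [Set.mem_singleton_iff.1 ha]; exact hw
        have hc' : b c ∈ U := by rw [Set.mem_singleton_iff.1 hc]; exact hw
        have e : (b ∣_ U) ⟨a, ha'⟩ = (b ∣_ U) ⟨c, hc'⟩ := Subtype.ext (by
          rw [morphismRestrict_base_coe, morphismRestrict_base_coe]
          exact (Set.mem_singleton_iff.1 ha).trans (Set.mem_singleton_iff.1 hc).symm)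
        exact congrArg Subtype.val ((b ∣_ U).homeomorph.injective e)
    haveI : IsIso (b ∣_ (⊤ : Y.Opens)) := isIso_morphismRestrict_of_finite_fibres b
      (fun W => Coherent.isIso_app_of_birational b hY.isNormal hgen hbir W) ⊤ hfin
    haveI : IsIso b := (IsZariskiLocalAtTarget.iff_of_iSup_eq_top (P := MorphismProperty.isomorphisms Scheme.{u})
      (fun _ : Unit => (⊤ : Scheme.Opens _)) iSup_const).2 fun _ => ‹_›
    have hIc : BlowUp.IsEffCartierIdeal I := by
      have h := FlatMor12.BlowUpDisjoint.isEffCartierIdeal_comap J hb.1 (inv b)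
      rwa [← Scheme.IdealSheafData.comap_comp, IsIso.inv_hom_id, Scheme.IdealSheafData.comap_id] at h
    obtain ⟨d, -, hd⟩ := exists_gen hIc z
    rw [stk_vanishingIdeal_point z hz] at hd
    have h1 := Submodule.spanFinrank_span_le_ncard_of_finite (R := Y.presheaf.stalk z) (Set.finite_singleton d)
    rw [Set.ncard_singleton] at h1
    rw [hd] at h2
    exact absurd (h2 ▸ h1) (by decide)
  -- irreducible
  haveI : ConnectedSpace J.subscheme := by
    have h : _root_.IsPreconnected (Set.univ : Set J.subscheme) := by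
      rw [← J.subschemeι.isEmbedding.isInducing.isPreconnected_image, Set.image_univ, J.range_subschemeι, hJsupp]
      exact hconn
    obtain ⟨w, -⟩ := J.range_subschemeι.ge (hJsupp.ge hx₁)
    exact { isPreconnected_univ := h, toNonempty := ⟨w⟩ }
  haveI : IsProper g := by
    haveI : IsProper (g ≫ I.subschemeι) := by rw [hg]; infer_instance
    exact IsProper.of_comp g I.subschemeι
  haveI : IsIntegral J.subscheme := SerreDual.isIntegral_of_regular_connected (g ≫ I.subscheme.isoSpec.hom) fun x =>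
    VarietyLib.isRegularLocalRing_stalk_of_smooth Γ(I.subscheme, ⊤) J.subscheme (g ≫ I.subscheme.isoSpec.hom) x
  let e : X := J.subschemeι (genericPoint J.subscheme)
  have heA : b e = z := hJsupp.le (J.range_subschemeι.le ⟨_, rfl⟩)
  have hcl : closure ({e} : Set X) = b.base ⁻¹' {z} := by
    rw [← hJsupp, ← J.range_subschemeι, ← Set.image_univ, ← (genericPoint_spec J.subscheme).def]
    exact (J.subschemeι.isClosedEmbedding.closure_image_eq _).symm.trans (by rw [Set.image_singleton]) |>.symm
  have hec : ¬ IsClosed ({e} : Set X) := fun hc => hne12 (by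
    have h1 : b.base ⁻¹' {z} ⊆ {e} := hcl ▸ hc.closure_eq.le
    exact (h1 hx₁).trans (h1 hx₂).symm)
  haveI : CompactSpace (Over.mk (b ≫ p)).left := hX.compact
  haveI : QuasiCompact (Over.mk (b ≫ p)).hom :=
    (quasiCompact_iff_compactSpace (Over.mk (b ≫ p)).hom).2 ‹_›
  obtain ⟨Γ, hΓr⟩ := exists_vertComp R (X := Over.mk (b ≫ p)) hX.dim
    (show (b ≫ p) (genericPoint X) ≠ closedPoint R by rw [Scheme.Hom.comp_apply, hgen]; exact hpη)
    (show (b ≫ p) e = closedPoint R by rw [Scheme.Hom.comp_apply, heA]; exact hzR) hec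
  have hker : Γ.ι.ker = J := by
    rw [Props12.ker_eq_vanishingIdeal, eq_vanishingIdeal_of_isReduced J]
    congr 1
    refine Closeds.ext ?_
    show closure (Set.range Γ.ι.base) = (J.support : Set X)
    rw [hΓr, closure_closure, hcl, hJsupp]
  refine ⟨Γ, hker, ?_⟩
  have hD : BlowUp.IsEffCartierIdeal Γ.ι.ker := by rw [hker]; exact hb.1
  -- the curve is proper over the residue field
  let c := Spec.map (CommRingCat.ofHom (IsLocalRing.residue R))
  haveI : IsClosedImmersion c := IsClosedImmersion.spec_of_surjective _ IsLocalRing.residue_surjective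
  haveI : IsProper Γ.curve.hom := by
    have hle : I.subschemeι.ker ≤ (Γ.ι ≫ b).ker := by
      rw [Scheme.IdealSheafData.ker_subschemeι]
      refine (I.le_map_comap b).trans ?_
      show (J.subschemeι ≫ b).ker ≤ (Γ.ι ≫ b).ker
      rw [← hker]
      conv_rhs => rw [← Γ.ι.toImage_imageι, Category.assoc]
      exact Scheme.Hom.le_ker_comp _ _
    haveI : IsProper (IsClosedImmersion.lift I.subschemeι (Γ.ι ≫ b) hle) := by
      haveI : IsProper (IsClosedImmersion.lift I.subschemeι (Γ.ι ≫ b) hle ≫ I.subschemeι) := by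
        rw [IsClosedImmersion.lift_fac]; infer_instance
      exact IsProper.of_comp _ I.subschemeι
    haveI := hprop
    haveI : IsProper (Γ.curve.hom ≫ c) := by
      rw [← Γ.w]
      show IsProper (Γ.ι ≫ b ≫ p)
      rw [← Category.assoc, ← IsClosedImmersion.lift_fac I.subschemeι (Γ.ι ≫ b) hle, Category.assoc]
      infer_instance
    exact IsProper.of_comp Γ.curve.hom c
  -- numerics
  haveI : IsLocallyNoetherian (Over.mk (b ≫ p)).left := hX.noeth
  letI : Algebra R Γ(Y, ⊤) := RingHom.toAlgebra (R := R) (S := Γ(Y, ⊤)) (Coh.toGlobal p)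
  let Xo := Over.mk (b ≫ p)
  let M : Ideal Γ(Y, ⊤) := Ideal.span (Set.range f)
  have hlen : ∀ m, Models.lengthH R Xo (ClSub.quotMod (X := Xo.left) (J ^ m)) 0 =
      (Module.length R (Γ(Y, ⊤) ⧸ M ^ m)).toNat := fun m =>
    congrArg ENat.toNat (length_quotPow hb f hspan hreg p m)
  have hh1 : ∀ m, Models.lengthH R Xo (ClSub.quotMod (X := Xo.left) (J ^ m)) 1 = 0 := fun m => by
    haveI : Subsingleton (Coh.HH Xo.left (ClSub.quotMod (X := Xo.left) (J ^ m)) 1) :=
      subsingleton_HH_quotPow hb f hspan hreg m 1 le_rfl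
    show (Module.length R _).toNat = 0
    rw [Module.length_eq_zero]; rfl
  obtain ⟨hT, hq⟩ := finLen_quot_tensor R Γ (M := Coh.structureModule Xo.left) AmpleLib.isInvertible_structureModule
  let et : CohB1.tensorMod (ClSub.quotMod Γ.ι.ker) (Coh.structureModule Xo.left) ≅ ClSub.quotMod Γ.ι.ker :=
    AmpleLib.tensorComm _ _ ≪≫ AmpleLib.unitTensorIso _
  have hF : FinLen R Xo (ClSub.quotMod Γ.ι.ker) := hT.of_iso R et
  let ep : (Scheme.Modules.pullback Γ.ι).obj (Coh.structureModule Xo.left) ≅ Coh.structureModule Γ.curve.left :=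
    haveI := StMod.opensMap_final Γ.ι
    haveI : IsIso (SheafOfModules.pullbackObjUnitToUnit Γ.ι.toRingCatSheafHom) := inferInstance
    asIso (SheafOfModules.pullbackObjUnitToUnit Γ.ι.toRingCatSheafHom)
  have hq' : ∀ q, Models.lengthH R Xo (ClSub.quotMod Γ.ι.ker) q =
      Models.hRank (ResidueField R) Γ.curve.left Γ.curve.hom (Coh.structureModule _) q := fun q => by
    rw [← lengthH_congr R et, hq q]
    letI : Γ.curve.left.Over (Spec (CommRingCat.of (ResidueField R))) := ⟨Γ.curve.hom⟩
    exact CurveRR24.finrank_HH_congr (ResidueField R) ep q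
  have hw : (Models.wdeg R Xo Γ : ℤ) = (Module.length R (Γ(Y, ⊤) ⧸ M ^ 1)).toNat := by
    rw [show Models.wdeg R Xo Γ = Models.lengthH R Xo (ClSub.quotMod Γ.ι.ker) 0 from (hq' 0).symm, hker,
      ← hlen 1, pow_one]
  have hh : Models.h1 R Xo Γ = 0 := by
    rw [show Models.h1 R Xo Γ = Models.lengthH R Xo (ClSub.quotMod Γ.ι.ker) 1 from (hq' 1).symm, hker, ← pow_one J]
    exact hh1 1
  have hchi := (chi_add R Γ hD Γ.ι.ker hD hF).2
  rw [hker, ← pow_two, hh1 2, hlen 2, hh] at hchi
  rw [← pow_one J, hh1 1, hlen 1] at hchi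
  have e1 : Module.length R (Γ(Y, ⊤) ⧸ M ^ 1) = Module.length R (Γ(Y, ⊤) ⧸ M) :=
    ((Submodule.quotEquivOfEq _ _ (pow_one M)).restrictScalars R).length_eq
  rw [e1] at hchi hw
  -- the lengths
  haveI hMmax : M.IsMaximal := by
    rw [show M = RingHom.ker (I.subschemeι.app ⊤).hom from hspan.symm.trans (I.ker_subschemeι_app _).symm]
    exact RingHom.ker_isMaximal_of_surjective (K := Γ(I.subscheme, ⊤)) _
      (I.subschemeι_app_surjective ⟨⊤, isAffineOpen_top Y⟩)
  let P := ((isAffineOpen_top Y).primeIdealOf ⟨z, trivial⟩).asIdeal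
  letI : Algebra Γ(Y, ⊤) (Y.presheaf.stalk z) := (Y.presheaf.germ ⊤ z trivial).hom.toAlgebra
  haveI hloc : IsLocalization.AtPrime (Y.presheaf.stalk z) P := (isAffineOpen_top Y).isLocalization_stalk ⟨z, trivial⟩
  have hPM : M = P := hMmax.eq_of_le (Ideal.IsPrime.ne_top inferInstance) fun r hr => by
    have h1 : algebraMap Γ(Y, ⊤) (Y.presheaf.stalk z) r ∈ maximalIdeal (Y.presheaf.stalk z) := by
      rw [← stk_vanishingIdeal_point z hz, stk_eq I ⟨⊤, isAffineOpen_top Y⟩ trivial]
      exact Ideal.mem_map_of_mem _ (hspan ▸ hr)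
    exact (IsLocalization.AtPrime.to_map_mem_maximal_iff (Y.presheaf.stalk z) P r).1 h1
  haveI : IsLocalization.AtPrime (Y.presheaf.stalk z) M := by
    have key : ∀ (Q : Ideal Γ(Y, ⊤)) [Q.IsPrime], Q = P → IsLocalization.AtPrime (Y.presheaf.stalk z) Q := by
      rintro Q _ rfl; exact hloc
    exact key M hPM
  obtain ⟨a', b', hab⟩ := exists_pair_of_spanFinrank (maximalIdeal (Y.presheaf.stalk z)) h2.le
  have h3 := length_quot_sq_of_localization (R := R) M (Y.presheaf.stalk z) h2 hab
  rw [h3, ENat.toNat_mul] at hchi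
  obtain ⟨L, hL⟩ := Inters29.exists_inverse_ker R (X := Xo) hX.regular hD
  refine isExcCurve_of R Γ hD hL hh ?_
  have hcon := curveDeg_conormal R Γ hD hL
  rw [hker] at hcon
  push_cast at hchi
  norm_num at hchi
  rw [hw]
  linarith

end Groth.Agent.Models7
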