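import Groth.Agent.Models7.SectionData
import Groth.Agent.Inters29.Constants
import Groth.Agent.CurveRR24.Sky
import Groth.Agent.SerreDual.PushEquiv
import Groth.Prelude.Def_ModelsG

/-!
# Rational points force trivial fields of constants
-/

set_option autoImplicit false
set_option linter.style.haveILetI false
set_option backward.isDefEq.respectTransparency false
set_option maxHeartbeats 1000000

universe u

open CategoryTheory CategoryTheory.Limits AlgebraicGeometry Opposite TopologicalSpace IsLocalRing
open Groth.Agent.Coherent Groth.Agent.PicLib Groth.Agent.AmpleLib Groth.Agent.EulerLib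

namespace Groth.Agent.Models7

variable (R : Type u) [CommRing R] [IsDomain R] [IsDiscreteValuationRing R]
variable {X : Over (Spec (CommRingCat.of R))}

/-- A closed subscheme whose functions form a field and which has a rational point has only the constants. -/
theorem surjective_toGlobal_of_point {Z : Scheme.{u}} (j : Z ⟶ X.left) [IsClosedImmersion j] (hA : IsField Γ(Z, ⊤))
    (z : Z) (hx : Function.Surjective ((X.left.residue (j z)).hom.comp (Models.stalkHom R X (j z)))) :
    Function.Surjective (Coh.toGlobal (j ≫ X.hom)) := by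
  letI := hA.toField
  intro c
  let ev : Γ(Z, ⊤) →+* Z.residueField z := (Z.Γevaluation z).hom
  have hrf : Function.Surjective (j.residueFieldMap z).hom := by
    intro b
    obtain ⟨b', rfl⟩ := Ideal.Quotient.mk_surjective b
    obtain ⟨a, rfl⟩ := j.stalkMap_surjective z b'
    exact ⟨X.left.residue (j z) a, rfl⟩
  obtain ⟨b, hb⟩ := hrf (ev c)
  obtain ⟨r, rfl⟩ := hx b
  refine ⟨r, ev.injective ?_⟩
  rw [← hb]
  show Z.Γevaluation z ((j ≫ X.hom).appTop ((Scheme.ΓSpecIso (CommRingCat.of R)).inv r)) =
    j.residueFieldMap z (X.left.Γevaluation (j z) (X.hom.appTop ((Scheme.ΓSpecIso (CommRingCat.of R)).inv r)))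
  rw [Scheme.Γevaluation_naturality_apply, Scheme.Hom.comp_appTop]
  rfl

/-- If the functions on a closed subscheme are the constants, its `H⁰` has length one. -/
theorem lengthH_zero_eq_one (I : X.left.IdealSheafData) (hA : IsField Γ(I.subscheme, ⊤))
    (hs : Function.Surjective (Coh.toGlobal (I.subschemeι ≫ X.hom))) :
    Models.lengthH R X (ClSub.quotMod I) 0 = 1 := by
  let A := GA (baseHom R X.left) (ClSub.quotMod I)
  let one : A := (show Γ(I.subscheme, ⊤) from 1)
  let π : R →ₗ[R] A := LinearMap.toSpanSingleton R A one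
  have hπ : ∀ r, π r = (show A from Coh.toGlobal (I.subschemeι ≫ X.hom) r) := fun r => by
    show (show Γ(I.subscheme, ⊤) from (I.subschemeι.app ⊤) (baseHom R X.left r)) * (1 : Γ(I.subscheme, ⊤)) = _
    rw [mul_one]
    rfl
  have hsurj : Function.Surjective π := fun y => by
    obtain ⟨r, hr⟩ := hs y
    exact ⟨r, (hπ r).trans hr⟩
  have hmax : Ideal.IsMaximal (LinearMap.ker π : Ideal R) := by
    letI := hA.toField
    have : (LinearMap.ker π : Ideal R) = RingHom.ker (Coh.toGlobal (I.subschemeι ≫ X.hom)) := by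
      ext r
      rw [LinearMap.mem_ker, RingHom.mem_ker, hπ]
      try rfl
    rw [this]
    exact RingHom.ker_isMaximal_of_surjective (R := R) (K := Γ(I.subscheme, ⊤)) _ hs
  have hsimp : IsSimpleModule R (R ⧸ LinearMap.ker π) :=
    isSimpleModule_iff_isCoatom.2 (Ideal.isMaximal_def.1 hmax)
  show (Module.length R (Coh.HH X.left (ClSub.quotMod I) 0)).toNat = 1
  rw [(CurveRR24.hhZero R (ClSub.quotMod I)).length_eq,
    ← (π.quotKerEquivOfSurjective hsurj).length_eq, Module.length_eq_one_iff.2 hsimp]
  rfl

/-- A vertical curve with a rational point has trivial field of constants. -/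
theorem wdeg_eq_one_of_point (Γ : ArSurf.VertComp R X) [IsProper Γ.curve.hom] (z : Γ.curve.left)
    (hx : Function.Surjective ((X.left.residue (Γ.ι z)).hom.comp (Models.stalkHom R X (Γ.ι z)))) :
    Models.wdeg R X Γ = 1 := by
  let k := ResidueField R
  let E := Γ.curve.left
  letI : E.Over (Spec (CommRingCat.of k)) := ⟨Γ.curve.hom⟩
  haveI : IsProper (E ↘ Spec (CommRingCat.of k)) := ‹IsProper Γ.curve.hom›
  haveI : IsLocallyNoetherian E := CurveRR24.isLocallyNoetherian_of_proper k
  haveI : Nonempty (⊤ : E.Opens) := ⟨⟨genericPoint E, trivial⟩⟩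
  let φk : k →+* Γ(E, ⊤) := Coh.toGlobal Γ.curve.hom
  letI : Algebra k Γ(E, ⊤) := φk.toAlgebra
  let e1 : Coh.HH E (Coh.structureModule E) 0 ≃ₗ[k] Γ(E, ⊤) :=
    { ((CurveRR24.hhZero k (Coh.structureModule E)).toAddEquiv : _ ≃+ Γ(E, ⊤)) with
      map_smul' := fun c v => (CurveRR24.hhZero k (Coh.structureModule E)).map_smul c v }
  haveI : Module.Finite k Γ(E, ⊤) := by
    haveI := CurveRR24.finite_HH_of_isCoh k (X := E) (isCoh_structureModule E) 0
    exact Module.Finite.equiv e1
  have hf : IsField Γ(E, ⊤) := by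
    refine Inters29.isField_of_finite (k := k) fun c hc => ?_
    rcases mul_eq_zero.1 (show c * (c - 1) = 0 by rw [mul_sub, hc, mul_one, sub_self]) with h | h
    · exact Or.inl h
    · exact Or.inr (sub_eq_zero.1 h)
  have hs := surjective_toGlobal_of_point R Γ.ι hf z hx
  have hsurj : Function.Surjective φk := fun c => by
    obtain ⟨r, hr⟩ := hs c
    refine ⟨residue R r, Eq.trans ?_ hr⟩
    show Γ.curve.hom.appTop ((Scheme.ΓSpecIso (CommRingCat.of k)).inv (residue R r)) =
      (Γ.ι ≫ X.hom).appTop ((Scheme.ΓSpecIso (CommRingCat.of R)).inv r)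
    rw [Γ.w, Scheme.Hom.comp_appTop]
    exact congrArg Γ.curve.hom.appTop (congr($(Scheme.ΓSpecIso_inv_naturality (CommRingCat.ofHom (residue R))) r))
  show Module.finrank k (Coh.HH E (Coh.structureModule E) 0) = 1
  rw [e1.finrank_eq]
  refine finrank_eq_one (1 : Γ(E, ⊤)) one_ne_zero fun w => ?_
  obtain ⟨c, rfl⟩ := hsurj w
  exact ⟨c, by rw [Algebra.smul_def, mul_one]; rfl⟩

end Groth.Agent.Models7
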