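import Groth.Agent.Models7.PicRoot
import Groth.Agent.FEtStein.AlgClosedEquiv
import Groth.Agent.H8Lim.InvertibleStage
import Groth.Agent.H8Lim.ModHomDescent
import Groth.Agent.CommAlg6.CompletionEquidim
import Groth.Agent.S4585
import Groth.Agent.H8Coh.FibreAmple

/-!
# Roots in families of invertible modules with a trivial member
-/

set_option autoImplicit false
set_option linter.style.haveILetI false
set_option backward.isDefEq.respectTransparency.types false
set_option backward.isDefEq.respectTransparency false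
set_option maxHeartbeats 1000000

universe u

open CategoryTheory CategoryTheory.Limits AlgebraicGeometry Opposite
open Groth.Agent.PicLib Groth.Agent.FEtStein

noncomputable section

namespace Groth.Agent.Models7

variable {k : Type u} [Field k] {Z : Scheme.{u}} (f : Z ⟶ Spec (CommRingCat.of k))

/-- The structure map of the spectrum of a `k`-algebra. -/
abbrev bsp (k : Type u) [Field k] (B : Type u) [CommRing B] [Algebra k B] :
    Spec (CommRingCat.of B) ⟶ Spec (CommRingCat.of k) :=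
  Spec.map (CommRingCat.ofHom (algebraMap k B))

theorem map_bsp {B B' : Type u} [CommRing B] [Algebra k B] [CommRing B'] [Algebra k B'] (φ : B →ₐ[k] B') :
    Spec.map (CommRingCat.ofHom φ.toRingHom) ≫ bsp k B = bsp k B' := by
  rw [← Spec.map_comp]
  congr 1
  ext a
  exact φ.commutes a

/-- The change of algebras. -/
def fmap {B B' : Type u} [CommRing B] [Algebra k B] [CommRing B'] [Algebra k B'] (φ : B →ₐ[k] B') :
    pullback f (bsp k B') ⟶ pullback f (bsp k B) :=
  pullback.lift (pullback.fst _ _) (pullback.snd _ _ ≫ Spec.map (CommRingCat.ofHom φ.toRingHom)) (by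
    rw [Category.assoc, map_bsp, pullback.condition])

/-- The slice at a rational point. -/
def ptS {B : Type u} [CommRing B] [Algebra k B] (φ : B →ₐ[k] k) : Z ⟶ pullback f (bsp k B) :=
  pullback.lift (𝟙 Z) (f ≫ Spec.map (CommRingCat.ofHom φ.toRingHom)) (by
    rw [Category.id_comp, Category.assoc, map_bsp]
    exact ((congrArg (f ≫ ·) (Spec.map_id (CommRingCat.of k))).trans (Category.comp_id f)).symm)

theorem ptS_fmap {B B' : Type u} [CommRing B] [Algebra k B] [CommRing B'] [Algebra k B']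
    (ψ : B →ₐ[k] B') (φ : B' →ₐ[k] k) : ptS f φ ≫ fmap f ψ = ptS f (φ.comp ψ) := by
  apply pullback.hom_ext
  · simp [ptS, fmap]
  · simp only [ptS, fmap, Category.assoc, pullback.lift_snd, pullback.lift_snd_assoc]
    rw [← Spec.map_comp]
    rfl

theorem fmap_comp {B B' B'' : Type u} [CommRing B] [Algebra k B] [CommRing B'] [Algebra k B'] [CommRing B'']
    [Algebra k B''] (φ : B →ₐ[k] B') (ψ : B' →ₐ[k] B'') : fmap f ψ ≫ fmap f φ = fmap f (ψ.comp φ) := by
  apply pullback.hom_ext
  · simp [fmap]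
  · simp only [fmap, Category.assoc, pullback.lift_snd, pullback.lift_snd_assoc]
    rw [← Spec.map_comp]
    rfl

theorem snd_residue_factor {A : Type u} [CommRing A] [IsLocalRing A] [Algebra k A] (ρ : A →ₐ[k] k) :
    (CommRingCat.ofHom (IsLocalRing.residue A)) =
      CommRingCat.ofHom ρ.toRingHom ≫ CommRingCat.ofHom ((IsLocalRing.residue A).comp (algebraMap k A)) := by
  have hsurj : Function.Surjective ρ.toRingHom := fun a => ⟨algebraMap k A a, ρ.commutes a⟩
  have hker : RingHom.ker ρ.toRingHom = IsLocalRing.maximalIdeal A :=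
    IsLocalRing.eq_maximalIdeal (RingHom.ker_isMaximal_of_surjective _ hsurj)
  ext a
  show IsLocalRing.residue A a = IsLocalRing.residue A (algebraMap k A (ρ a))
  refine Ideal.Quotient.eq.2 (hker ▸ ?_)
  show ρ (a - algebraMap k A (ρ a)) = 0
  rw [map_sub, ρ.commutes]
  exact sub_self _

/-- Over a complete local algebra, a class trivial at the rational point has roots of invertible order. -/
theorem exists_root_complete [IsProper f] {A : Type u} [CommRing A] [IsLocalRing A] [Algebra k A]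
    [IsNoetherianRing A] [IsAdicComplete (IsLocalRing.maximalIdeal A) A] (ρ : A →ₐ[k] k)
    (q : ℕ) (hq : (q : k) ≠ 0) (c : PicM (pullback f (bsp k A))) (h0 : PicM.pull (ptS f ρ) c = 1) :
    ∃ d : PicM (pullback f (bsp k A)), d ^ q = c := by
  haveI : IsProper (pullback.snd f (bsp k A)) := MorphismProperty.pullback_snd _ _ inferInstance
  have hu : IsUnit (q : A) := by
    have := (Ne.isUnit hq).map (algebraMap k A)
    rwa [map_natCast] at this
  let r := Spec.map (CommRingCat.ofHom (IsLocalRing.residue A))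
  let i := pullback.fst (pullback.snd f (bsp k A)) r
  let E := i ≫ pullback.fst f (bsp k A)
  have hi : i = E ≫ ptS f ρ := by
    apply pullback.hom_ext
    · simp [E, ptS]
    · have hE : E ≫ f = pullback.snd (pullback.snd f (bsp k A)) r ≫ r ≫ bsp k A := by
        show (i ≫ pullback.fst f (bsp k A)) ≫ f = _
        rw [Category.assoc, pullback.condition, ← Category.assoc, pullback.condition, Category.assoc]
      rw [Category.assoc, show ptS f ρ ≫ pullback.snd f (bsp k A) = f ≫ Spec.map (CommRingCat.ofHom ρ.toRingHom) from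
        pullback.lift_snd _ _ _, ← Category.assoc, hE]
      show i ≫ _ = _
      rw [pullback.condition, Category.assoc, Category.assoc]
      congr 1
      show Spec.map _ = Spec.map _ ≫ Spec.map _ ≫ Spec.map _
      rw [← Spec.map_comp, ← Spec.map_comp]
      congr 1
      conv_lhs => rw [snd_residue_factor ρ]
      rfl
  obtain ⟨d, -, hd⟩ := exists_root_closedFibre (pullback.snd f (bsp k A)) q hu c (by
    show PicM.pull i c = 1
    rw [hi, ← PicM.pull_pull, h0, map_one])
  exact ⟨d, hd⟩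

variable [IsAlgClosed k]

theorem exists_algHom_of_mem_range {B : Type u} [CommRing B] [Algebra k B] [Algebra.FiniteType k B]
    {B₀ : Type u} [CommRing B₀] [Algebra k B₀] (ψ : B₀ →ₐ[k] B) (φ : B₀ →ₐ[k] k)
    (h : ∃ P : Ideal B, P.IsPrime ∧ P.comap ψ.toRingHom = RingHom.ker φ.toRingHom) :
    ∃ χ : B →ₐ[k] k, χ.comp ψ = φ := by
  obtain ⟨P, hP, hPc⟩ := h
  obtain ⟨m, hm, hPm⟩ := Ideal.exists_le_maximal P hP.ne_top
  letI := Ideal.Quotient.field m
  haveI : Algebra.FiniteType k (B ⧸ m) :=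
    .of_surjective (Ideal.Quotient.mkₐ k m) Ideal.Quotient.mk_surjective
  haveI : Module.Finite k (B ⧸ m) := finite_of_finite_type_of_isJacobsonRing k (B ⧸ m)
  have hb : Function.Bijective (algebraMap k (B ⧸ m)) := IsAlgClosed.algebraMap_bijective_of_isIntegral
  let χ : B →ₐ[k] k := (AlgEquiv.ofBijective (Algebra.ofId k _) hb).symm.toAlgHom.comp (Ideal.Quotient.mkₐ k m)
  refine ⟨χ, AlgHom.ext fun a => ?_⟩
  have hmem : ψ (a - algebraMap k B₀ (φ a)) ∈ m := hPm (by
    have h : a - algebraMap k B₀ (φ a) ∈ P.comap ψ.toRingHom := by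
      rw [hPc]
      show φ _ = 0
      rw [map_sub, φ.commutes]
      exact sub_self _
    exact h)
  have h0 : χ (ψ (a - algebraMap k B₀ (φ a))) = 0 := by
    show (AlgEquiv.ofBijective (Algebra.ofId k _) hb).symm (Ideal.Quotient.mk m _) = 0
    rw [Ideal.Quotient.eq_zero_iff_mem.2 hmem, map_zero]
  rw [map_sub, map_sub, ψ.commutes, χ.commutes, sub_eq_zero] at h0
  exact h0

/-- A family with a trivial member has roots of invertible order at almost all rational points. -/
theorem exists_root_generic [IsProper f] (B₀ : Type u) [CommRing B₀] [IsDomain B₀] [Algebra k B₀]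
    [Algebra.FiniteType k B₀] (q : ℕ) (hq : (q : k) ≠ 0) (c : PicM (pullback f (bsp k B₀)))
    (φ₀ : B₀ →ₐ[k] k) (h0 : PicM.pull (ptS f φ₀) c = 1) :
    ∃ b : B₀, b ≠ 0 ∧ ∀ φ : B₀ →ₐ[k] k, φ b ≠ 0 → ∃ d : PicM Z, d ^ q = PicM.pull (ptS f φ) c := by
  classical
  haveI : IsNoetherianRing B₀ := Algebra.FiniteType.isNoetherianRing k B₀
  have hsurj : Function.Surjective φ₀.toRingHom := fun a => ⟨algebraMap k B₀ a, φ₀.commutes a⟩
  let m := RingHom.ker φ₀.toRingHom
  haveI hm : m.IsMaximal := RingHom.ker_isMaximal_of_surjective _ hsurj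
  let L := Localization.AtPrime m
  haveI : IsNoetherianRing L := IsLocalization.isNoetherianRing m.primeCompl L inferInstance
  let A := AdicCompletion (IsLocalRing.maximalIdeal L) L
  haveI : IsAdicComplete (IsLocalRing.maximalIdeal A) A :=
    inferInstanceAs (IsAdicComplete (IsLocalRing.maximalIdeal (AdicCompletion (IsLocalRing.maximalIdeal L) L)) _)
  let ρL : L →ₐ[k] k := IsLocalization.liftAlgHom (M := m.primeCompl) (f := φ₀) fun y =>
    (show φ₀ (y : B₀) ≠ 0 from y.2).isUnit
  have hρL : ∀ x ∈ IsLocalRing.maximalIdeal L, ρL x = 0 := fun x hx => by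
    have hs : Function.Surjective ρL.toRingHom := fun a => ⟨algebraMap k L a, ρL.commutes a⟩
    rw [← IsLocalRing.eq_maximalIdeal (RingHom.ker_isMaximal_of_surjective _ hs)] at hx
    exact hx
  let toA : L →ₐ[k] A := IsScalarTower.toAlgHom k L A
  let ρ : A →ₐ[k] k :=
    (Ideal.Quotient.liftₐ (IsLocalRing.maximalIdeal L) ρL hρL).comp
      ((AdicCompletion.evalOneₐ (IsLocalRing.maximalIdeal L)).restrictScalars k)
  have hρA : ∀ x : L, ρ (toA x) = ρL x := fun x => by
    show Ideal.Quotient.liftₐ _ ρL hρL (AdicCompletion.evalOneₐ _ (algebraMap L A x)) = _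
    rw [AlgHom.commutes]
    rfl
  let ι : B₀ →ₐ[k] A := toA.comp (IsScalarTower.toAlgHom k B₀ L)
  have hinj : Function.Injective ι := by
    have h1 : Function.Injective (algebraMap B₀ L) :=
      IsLocalization.injective L (M := m.primeCompl) (fun x hx => mem_nonZeroDivisors_of_ne_zero fun h => (show x ∉ m from hx) (h ▸ m.zero_mem))
    have h2 : Function.Injective (algebraMap L A) := AdicCompletion.of_injective (IsLocalRing.maximalIdeal L) L
    exact h2.comp h1
  have hρι : ρ.comp ι = φ₀ := AlgHom.ext fun a => (hρA _).trans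
    (IsLocalization.lift_eq _ _)
  -- a root over the completion
  obtain ⟨dA, hdA⟩ := exists_root_complete f ρ q hq (PicM.pull (fmap f ι) c) (by
    rw [PicM.pull_pull, ptS_fmap, hρι, h0])
  -- pass to a field
  obtain ⟨P, hP, hPc⟩ := Ideal.exists_comap_eq_of_mem_minimalPrimes_of_injective
    (f := ι.toRingHom) hinj (⊥ : Ideal B₀) (by rw [IsDomain.minimalPrimes_eq_singleton_bot]; rfl)
  let K := FractionRing (A ⧸ P)
  let π : A →ₐ[k] K := (IsScalarTower.toAlgHom k (A ⧸ P) K).comp (Ideal.Quotient.mkₐ k P)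
  let j : B₀ →ₐ[k] K := π.comp ι
  have hj : Function.Injective j := by
    rw [injective_iff_map_eq_zero]
    intro a ha
    have h1 : Ideal.Quotient.mk P (ι a) = 0 := IsFractionRing.injective (A ⧸ P) K (ha.trans (map_zero _).symm)
    have h1' : ι a ∈ P := Ideal.Quotient.eq_zero_iff_mem.1 h1
    have h2 : a ∈ P.comap ι.toRingHom := h1'
    rwa [hPc] at h2
  have hdK : PicM.pull (fmap f π) dA ^ q = PicM.pull (fmap f j) c := by
    rw [← map_pow, hdA, PicM.pull_pull, fmap_comp]
  -- descend to a finitely generated subalgebra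
  haveI : CompactSpace Z := QuasiCompact.compactSpace_of_compactSpace f
  haveI : QuasiSeparatedSpace Z := quasiSeparatedSpace_of_quasiSeparated f
  obtain ⟨hc⟩ := nonempty_isLimit_fgCone (K := K) f
  obtain ⟨Lm, hLm, hLd⟩ := (PicM.pull (fmap f π) dA).exists_eq_of
  have hF : CohB1.IsFP Lm := H8Coh.FibreAmple.isFP_of_invertible hLm
  haveI : Coh.IsQCoh (X := (fgCone (K := K) f).pt) Lm := ConsPropLib.isQCoh_of_isFP hF
  obtain ⟨g₀, hg₀⟩ := (Algebra.FiniteType.out : (⊤ : Subalgebra k B₀).FG)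
  let s₀ : Finset K := g₀.image j
  obtain ⟨s₁, -, F, -, hFP, ⟨e⟩⟩ := H8Lim.exists_stage_fpModule hc (i := op s₀) Lm hF
  haveI : Coh.IsQCoh F := EGA43.FibDepth.isQCoh_of_isFP _ hFP
  obtain ⟨s₂, a₂, hr⟩ := (H8Lim.isFinLocFreeOfRank_iff_eventually hc F hFP 1).1
    (PicLib.isFinLocFreeOfRank_one (KLLib.isInvertible_of_iso e.symm hLm))
  let s₃ : (Finset K)ᵒᵖ := op (s₂.unop ∪ s₀)
  let a₃ : s₃ ⟶ s₂ := (homOfLE (Finset.subset_union_left)).op
  let G := (Scheme.Modules.pullback ((fgX (K := K) f).map (a₃ ≫ a₂))).obj F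
  have hG : PicF.IsInvertible G := KLLib.isInvertible_of_iso
    ((Scheme.Modules.pullbackComp _ _).app F ≪≫
      (Scheme.Modules.pullbackCongr ((fgX (K := K) f).map_comp a₃ a₂).symm).app F)
    (PicLoc.isInvertible_pullback ((fgX (K := K) f).map a₃) (KRRPBLib.isInvertible_of_rankOne hr))
  have hGd : PicM.pull ((fgCone (K := K) f).π.app s₃) (PicM.of hG) = PicM.pull (fmap f π) dA := by
    rw [hLd, PicM.pull_of, PicM.of_eq_iff]
    exact ⟨(Scheme.Modules.pullbackComp _ _).app F ≪≫
      (Scheme.Modules.pullbackCongr ((fgCone (K := K) f).w (a₃ ≫ a₂))).app F ≪≫ e⟩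
  let B₃ := Algebra.adjoin k ((s₂.unop ∪ s₀ : Finset K) : Set K)
  have hjB : ∀ a, j a ∈ B₃ := fun a => by
    have ha : a ∈ Algebra.adjoin k (g₀ : Set B₀) := hg₀ ▸ trivial
    have h1 : j a ∈ (Algebra.adjoin k (g₀ : Set B₀)).map j := ⟨a, ha, rfl⟩
    rw [AlgHom.map_adjoin] at h1
    refine Algebra.adjoin_mono ?_ h1
    rintro _ ⟨x, hx, rfl⟩
    exact Finset.mem_coe.2 (Finset.mem_union_right _ (Finset.mem_image_of_mem j hx))
  let j₃ : B₀ →ₐ[k] B₃ := j.codRestrict B₃ hjB
  let c₃ : PicM ((fgX (K := K) f).obj s₃) := PicM.pull (fmap f j₃) c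
  have hc₃ : PicM.pull ((fgCone (K := K) f).π.app s₃) c₃ = PicM.pull (fmap f j) c := by
    refine (PicM.pull_pull _ _ c).trans ?_
    exact congrArg (fun g => PicM.pull g c) ((fmap_comp f j₃ B₃.val).trans rfl)
  obtain ⟨N₁, hN₁, hN₁e⟩ := ((PicM.of hG) ^ q).exists_eq_of
  obtain ⟨N₂, hN₂, hN₂e⟩ := c₃.exists_eq_of
  haveI := AmpleLib.isQCoh_of_isInvertible hN₁
  haveI := AmpleLib.isQCoh_of_isInvertible hN₂
  have hiso : Nonempty ((Scheme.Modules.pullback ((fgCone (K := K) f).π.app s₃)).obj N₁ ≅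
      (Scheme.Modules.pullback ((fgCone (K := K) f).π.app s₃)).obj N₂) := by
    rw [← PicM.of_eq_iff (PicLoc.isInvertible_pullback _ hN₁) (PicLoc.isInvertible_pullback _ hN₂),
      ← PicM.pull_of _ hN₁, ← PicM.pull_of _ hN₂, ← hN₁e, ← hN₂e, map_pow, hGd, hc₃, hdK]
  obtain ⟨s₄, a₄, he₄⟩ := (H8Lim.nonempty_iso_iff_eventually hc N₁ N₂
    (H8Coh.FibreAmple.isFP_of_invertible hN₁) (H8Coh.FibreAmple.isFP_of_invertible hN₂)).1 hiso
  let B₄ := Algebra.adjoin k ((s₄.unop : Finset K) : Set K)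
  let i₄ : B₃ →ₐ[k] B₄ := Subalgebra.inclusion (Algebra.adjoin_mono (Finset.coe_subset.mpr (leOfHom a₄.unop)))
  let j₄ : B₀ →ₐ[k] B₄ := i₄.comp j₃
  have hroot : (PicM.pull ((fgX (K := K) f).map a₄) (PicM.of hG)) ^ q = PicM.pull (fmap f j₄) c := by
    rw [← map_pow, hN₁e]
    have h2 : PicM.pull ((fgX (K := K) f).map a₄) c₃ = PicM.pull (fmap f j₄) c := by
      refine (PicM.pull_pull _ _ c).trans ?_
      exact congrArg (fun g => PicM.pull g c) ((fmap_comp f j₃ i₄).trans rfl)
    rw [← h2, hN₂e, PicM.pull_of, PicM.pull_of, PicM.of_eq_iff]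
    exact he₄
  -- rational points
  letI : Algebra B₀ B₄ := j₄.toRingHom.toAlgebra
  haveI : IsScalarTower k B₀ B₄ := IsScalarTower.of_algebraMap_eq fun a => (j₄.commutes a).symm
  haveI : Algebra.FiniteType k B₄ := (Subalgebra.fg_iff_finiteType _).mp (Subalgebra.fg_adjoin_finset _)
  haveI : Algebra.FiniteType B₀ B₄ := Algebra.FiniteType.of_restrictScalars_finiteType k B₀ B₄
  have hj₄ : Function.Injective (algebraMap B₀ B₄) := fun a a' h => hj (congrArg Subtype.val h)
  obtain ⟨b, hb, hrange⟩ := S4585.exists_basicOpen_subset_range hj₄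
  refine ⟨b, hb, fun φ hφ => ?_⟩
  have hsφ : Function.Surjective φ.toRingHom := fun a => ⟨algebraMap k B₀ a, φ.commutes a⟩
  obtain ⟨Q, hQ⟩ := hrange (show (⟨RingHom.ker φ.toRingHom,
    (RingHom.ker_isMaximal_of_surjective _ hsφ).isPrime⟩ : PrimeSpectrum B₀) ∈ PrimeSpectrum.basicOpen b from hφ)
  obtain ⟨χ, hχ⟩ := exists_algHom_of_mem_range j₄ φ ⟨Q.asIdeal, Q.isPrime, congrArg PrimeSpectrum.asIdeal hQ⟩
  refine ⟨PicM.pull (ptS f χ) (PicM.pull ((fgX (K := K) f).map a₄) (PicM.of hG)), ?_⟩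
  rw [← map_pow, hroot, PicM.pull_pull, ptS_fmap, hχ]

end Groth.Agent.Models7
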