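import Mathlib
import Groth.Agent.CycLib28.StalkLocal

/-!
# The stalk at a point of `Spec 𝒪_{X,x}` is the localisation of `𝒪_{X,x}` at that prime
-/

universe u

open CategoryTheory AlgebraicGeometry IsLocalRing Groth.Agent.CycLim28 Groth.Agent.CycLib28

namespace Groth.Agent.Models7

theorem isLocalization_atPrime_fromSpecStalk {X : Scheme.{u}} (x : X) (P : PrimeSpectrum (X.presheaf.stalk x)) :
    letI := (X.presheaf.stalkSpecializes (fromSpecStalk_specializes x P)).hom.toAlgebra
    IsLocalization.AtPrime (X.presheaf.stalk (X.fromSpecStalk x P)) P.asIdeal := by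
  let y : X := X.fromSpecStalk x P
  have h : y ⤳ x := fromSpecStalk_specializes x P
  letI := (X.presheaf.stalkSpecializes h).hom.toAlgebra
  haveI := Misc15.isLocalization_stalkSpecializes h
  have e : (IsUnit.submonoid (X.presheaf.stalk y)).comap (X.presheaf.stalkSpecializes h).hom =
      P.asIdeal.primeCompl := by
    ext a
    have h1 := congrArg PrimeSpectrum.asIdeal (eq_comap_closedPoint x P)
    rw [PrimeSpectrum.comap_asIdeal] at h1
    change IsUnit _ ↔ a ∉ P.asIdeal
    rw [h1, Ideal.mem_comap]
    exact IsLocalRing.notMem_maximalIdeal.symm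
  rw [e] at this
  exact this

end Groth.Agent.Models7
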