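import Groth.Agent.Inters29.Comp
import Groth.Agent.Inters29.Fibre
import Groth.Agent.Inters29.PrimeDiv
import Groth.Agent.AlgSpLib.SmoothRegular
import Groth.Agent.CAlgH3.Factorial
import Groth.Agent.Models7.StalkAtPrime

/-!
# The closed fibre along a section of a regular surface
-/

set_option autoImplicit false
set_option linter.style.haveILetI false
set_option backward.isDefEq.respectTransparency false

universe u

open AlgebraicGeometry CategoryTheory CategoryTheory.Limits

namespace Groth.Agent.Models7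

theorem section_data (R : Type u) [CommRing R] [IsDomain R] [IsDiscreteValuationRing R]
    (X : Over (Spec (CommRingCat.of R))) [IsIntegral X.left] [IsLocallyNoetherian X.left] [Flat X.hom]
    (hreg : ∀ x : X.left, IsRegularLocalRing (X.left.presheaf.stalk x))
    {n : ℕ} (Γ : Fin n → ArSurf.VertComp R X) (hΓ : Models.IsComponentList R X Γ)
    (σ : Spec (CommRingCat.of R) ⟶ X.left) (hσ : σ ≫ X.hom = 𝟙 _) :
    Function.Surjective ((X.left.residue (σ.base (IsLocalRing.closedPoint R))).hom.comp
        (Models.stalkHom R X (σ.base (IsLocalRing.closedPoint R)))) ∧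
      IsRegularLocalRing (X.left.presheaf.stalk (σ.base (IsLocalRing.closedPoint R)) ⧸
        Ideal.map (Models.stalkHom R X (σ.base (IsLocalRing.closedPoint R))) (IsLocalRing.maximalIdeal R)) ∧
      (∃! i : Fin n, σ.base (IsLocalRing.closedPoint R) ∈ Set.range ((Γ i).ι.base : (Γ i).curve.left → X.left)) ∧
      ∀ i : Fin n, σ.base (IsLocalRing.closedPoint R) ∈ Set.range ((Γ i).ι.base : (Γ i).curve.left → X.left) →
        Models.mult R X (Γ i) = 1 := by
  let s0 : Spec (CommRingCat.of R) := IsLocalRing.closedPoint R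
  let p := σ.base s0
  let A := X.left.presheaf.stalk p
  haveI hA : IsRegularLocalRing A := hreg p
  haveI := Groth.Agent.CAlgH3.isDomain_of_isRegularLocalRing A
  let st : R →+* A := Models.stalkHom R X p
  -- the retraction
  let r : A →+* R := (AlgebraicGeometry.stalkClosedPointIso (CommRingCat.of R)).hom.hom.comp (σ.stalkMap s0).hom
  have hr : ∀ b : R, r (st b) = b := by
    intro b
    show (AlgebraicGeometry.stalkClosedPointIso (CommRingCat.of R)).hom.hom ((σ.stalkMap s0).hom
      (X.left.presheaf.germ ⊤ p trivial (X.hom.appTop ((Scheme.ΓSpecIso (CommRingCat.of R)).inv b)))) = b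
    have h1 : (σ.stalkMap s0).hom
        (X.left.presheaf.germ ⊤ p trivial (X.hom.appTop ((Scheme.ΓSpecIso (CommRingCat.of R)).inv b))) =
        (Spec (CommRingCat.of R)).presheaf.germ ⊤ s0 trivial ((Scheme.ΓSpecIso (CommRingCat.of R)).inv b) := by
      refine (Scheme.Hom.germ_stalkMap_apply σ ⊤ s0 trivial _).trans ?_
      refine congrArg ((Spec (CommRingCat.of R)).presheaf.germ ⊤ s0 trivial) ?_
      exact congr($(show X.hom.appTop ≫ σ.appTop = 𝟙 _ by rw [← Scheme.Hom.comp_appTop, hσ, Scheme.Hom.id_appTop])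
        ((Scheme.ΓSpecIso (CommRingCat.of R)).inv b))
    rw [h1]
    exact congr($(AlgebraicGeometry.germ_stalkClosedPointIso_hom (CommRingCat.of R))
      ((Scheme.ΓSpecIso (CommRingCat.of R)).inv b)).trans congr($((Scheme.ΓSpecIso (CommRingCat.of R)).inv_hom_id) b)
  have hker : RingHom.ker r ≤ IsLocalRing.maximalIdeal A :=
    IsLocalRing.le_maximalIdeal (RingHom.ker_ne_top r)
  have hloc : ∀ x ∈ IsLocalRing.maximalIdeal A, r x ∈ IsLocalRing.maximalIdeal R := by
    intro x hx hu
    have h1 : x - st (r x) ∈ IsLocalRing.maximalIdeal A :=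
      hker (by rw [RingHom.mem_ker, map_sub, hr, sub_self])
    have h2 : st (r x) ∈ IsLocalRing.maximalIdeal A := by
      have := Ideal.sub_mem _ hx h1
      rwa [sub_sub_cancel] at this
    exact h2 (hu.map st)
  obtain ⟨ϖ, hϖ⟩ := IsDiscreteValuationRing.exists_irreducible R
  let a : A := st ϖ
  have hps : p ∈ Models.specialFibreSet R X := by
    show X.hom (σ s0) = IsLocalRing.closedPoint R
    rw [← Scheme.Hom.comp_apply, hσ]
    rfl
  have ham : a ∈ IsLocalRing.maximalIdeal A := Groth.Agent.Inters29.mem_maximalIdeal_stalkHom R hϖ hps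
  have ha2 : a ∉ IsLocalRing.maximalIdeal A ^ 2 := fun h => by
    have h1 : r a ∈ IsLocalRing.maximalIdeal R ^ 2 := by
      refine (Ideal.pow_right_mono (Ideal.map_le_iff_le_comap.2 hloc) 2 : _) ?_
      rw [← Ideal.map_pow]
      exact Ideal.mem_map_of_mem r h
    rw [hr, hϖ.maximalIdeal_eq, Ideal.span_singleton_pow, Ideal.mem_span_singleton] at h1
    obtain ⟨c, hc⟩ := h1
    rw [pow_two, mul_assoc] at hc
    exact hϖ.not_isUnit (IsUnit.of_mul_eq_one c (mul_left_cancel₀ hϖ.ne_zero (by rw [← hc, mul_one])))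
  have hmap : Ideal.map st (IsLocalRing.maximalIdeal R) = Ideal.span {a} := by
    rw [hϖ.maximalIdeal_eq, Ideal.map_span, Set.image_singleton]
  have hregq : IsRegularLocalRing (A ⧸ Ideal.span {a}) := by
    refine Groth.Agent.AlgSpLib.SmoothRegular.isRegularLocalRing_quotient _ (fun h => ?_) fun x hx hx2 => ?_
    · exact ham (isUnit_of_dvd_one (Ideal.mem_span_singleton.1 (h ▸ Submodule.mem_top : (1 : A) ∈ Ideal.span {a})))
    · obtain ⟨c, rfl⟩ := Ideal.mem_span_singleton'.1 hx
      by_cases hc : IsUnit c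
      · exact absurd ((Ideal.unit_mul_mem_iff_mem _ hc).1 hx2) ha2
      · exact Ideal.mul_mem_mul hc (Ideal.mem_span_singleton_self a)
  have hprime : (Ideal.span {a}).IsPrime := by
    haveI := hregq
    haveI := Groth.Agent.CAlgH3.isDomain_of_isRegularLocalRing (A ⧸ Ideal.span {a})
    exact (Ideal.Quotient.isDomain_iff_prime _).1 inferInstance
  let Q0 : PrimeSpectrum A := ⟨Ideal.span {a}, hprime⟩
  let w : X.left := X.left.fromSpecStalk p Q0
  have hstk : ∀ P : PrimeSpectrum A,
      X.left.fromSpecStalk p P ∈ Models.specialFibreSet R X ↔ a ∈ P.asIdeal := by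
    intro P
    rw [← Groth.Agent.Inters29.support_specialFibreIdeal R (X := X)]
    refine (Groth.Agent.Inters29.fromSpecStalk_mem_support_iff _ P).trans ?_
    rw [Groth.Agent.Inters29.stk_specialFibreIdeal_span R hϖ, Ideal.span_singleton_le_iff_mem]
  have hw : w ∈ Models.specialFibreSet R X := (hstk Q0).2 (Ideal.mem_span_singleton_self a)
  have key : ∀ i : Fin n, p ∈ Set.range ((Γ i).ι.base : (Γ i).curve.left → X.left) →
      (Γ i).ι (genericPoint (Γ i).curve.left) = w := by
    intro i hi
    have hsp : (Γ i).ι (genericPoint (Γ i).curve.left) ⤳ p :=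
      (Groth.Agent.Inters29.genPt_isGenericPoint R (Γ i)).specializes hi
    obtain ⟨P, hP⟩ : (Γ i).ι (genericPoint (Γ i).curve.left) ∈ Set.range (X.left.fromSpecStalk p).base := by
      rw [Scheme.range_fromSpecStalk]; exact hsp
    have haP : a ∈ P.asIdeal :=
      (hstk P).1 (by rw [hP]; exact Groth.Agent.Inters29.range_subset_specialFibreSet R (Γ i) ⟨_, rfl⟩)
    have hwP : w ⤳ (Γ i).ι (genericPoint (Γ i).curve.left) := by
      rw [← hP]
      exact Specializes.map ((PrimeSpectrum.le_iff_specializes Q0 P).1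
        ((Ideal.span_singleton_le_iff_mem _).2 haP)) (X.left.fromSpecStalk p).continuous
    exact (Groth.Agent.Inters29.genPt_maximal R Γ hΓ i hw hwP).symm
  refine ⟨fun b => ?_, by rw [hmap]; exact hregq, ?_, ?_⟩
  · obtain ⟨x, rfl⟩ := IsLocalRing.residue_surjective b
    refine ⟨r x, ?_⟩
    exact (Ideal.Quotient.eq (I := IsLocalRing.maximalIdeal A)).2
      (by rw [← neg_sub]; exact neg_mem (hker (by rw [RingHom.mem_ker, map_sub, hr, sub_self])))
  · obtain ⟨i, hi⟩ := Groth.Agent.Inters29.exists_genPt_specializes R Γ hΓ hps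
    have hi' : p ∈ Set.range ((Γ i).ι.base : (Γ i).curve.left → X.left) :=
      hi.mem_closed (Γ i).ι.isClosedEmbedding.isClosed_range ⟨_, rfl⟩
    exact ⟨i, hi', fun j hj => Groth.Agent.Inters29.genPt_injective R Γ hΓ ((key j hj).trans (key i hi').symm)⟩
  · intro i hi
    have hgen : Models.genPtOf R X (Γ i) = w := key i hi
    have hwp : w ⤳ p := Groth.Agent.CycLim28.fromSpecStalk_specializes p Q0
    letI := (X.left.presheaf.stalkSpecializes hwp).hom.toAlgebra
    haveI : IsLocalization.AtPrime (X.left.presheaf.stalk w) (Ideal.span {a}) :=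
      Groth.Agent.Models7.isLocalization_atPrime_fromSpecStalk p Q0
    have h1 : algebraMap A (X.left.presheaf.stalk w) a = Models.stalkHom R X w ϖ :=
      TopCat.Presheaf.germ_stalkSpecializes_apply X.left.presheaf (U := ⊤) trivial hwp _
    have h2 : Ideal.map (Models.stalkHom R X w) (IsLocalRing.maximalIdeal R) =
        IsLocalRing.maximalIdeal (X.left.presheaf.stalk w) := by
      rw [← IsLocalization.AtPrime.map_eq_maximalIdeal (Ideal.span {a}) (X.left.presheaf.stalk w),
        Ideal.map_span, Set.image_singleton, h1, hϖ.maximalIdeal_eq, Ideal.map_span, Set.image_singleton]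
    have h3 : Module.length (X.left.presheaf.stalk w)
        (X.left.presheaf.stalk w ⧸ Ideal.map (Models.stalkHom R X w) (IsLocalRing.maximalIdeal R)) = 1 := by
      rw [h2]
      exact Module.length_eq_one_iff.2 (isSimpleModule_iff_isCoatom.2
        (Ideal.isMaximal_def.1 (IsLocalRing.maximalIdeal.isMaximal _)))
    have h4 : ∀ z, z = w → (Module.length (X.left.presheaf.stalk z)
        (X.left.presheaf.stalk z ⧸ Ideal.map (Models.stalkHom R X z) (IsLocalRing.maximalIdeal R))).toNat = 1 := by
      rintro z rfl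
      rw [h3]; rfl
    exact h4 _ hgen

end Groth.Agent.Models7
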