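import Mathlib.AlgebraicGeometry.FunctionField
import Mathlib.AlgebraicGeometry.Morphisms.Separated
import Mathlib.AlgebraicGeometry.Stalk

/-!
# Points of an integral separated scheme are determined by their local rings in the function field
-/

set_option autoImplicit false
set_option linter.style.haveILetI false
set_option backward.isDefEq.respectTransparency false

universe u

open CategoryTheory CategoryTheory.Limits AlgebraicGeometry IsLocalRing

namespace Groth.Agent.Models7

theorem eq_of_stalk_le {X : Scheme.{u}} [IsIntegral X] [X.IsSeparated] (x y : X)
    (hxy : ∀ a : X.presheaf.stalk x, ∃ b : X.presheaf.stalk y,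
      algebraMap (X.presheaf.stalk y) X.functionField b = algebraMap (X.presheaf.stalk x) X.functionField a)
    (hyx : ∀ a : X.presheaf.stalk y, ∃ b : X.presheaf.stalk x,
      algebraMap (X.presheaf.stalk x) X.functionField b = algebraMap (X.presheaf.stalk y) X.functionField a) :
    x = y := by
  choose σ hσ using hxy
  choose τ hτ using hyx
  have hy := IsFractionRing.injective (X.presheaf.stalk y) X.functionField
  have hx := IsFractionRing.injective (X.presheaf.stalk x) X.functionField
  let e : X.presheaf.stalk x ≃+* X.presheaf.stalk y :=
    { toFun := σ
      invFun := τ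
      left_inv := fun a => hx (by rw [hτ, hσ])
      right_inv := fun a => hy (by rw [hσ, hτ])
      map_mul' := fun a b => hy (by rw [map_mul, hσ, hσ, hσ, map_mul])
      map_add' := fun a b => hy (by rw [map_add, hσ, hσ, hσ, map_add]) }
  let φ : X.presheaf.stalk x ⟶ X.presheaf.stalk y := CommRingCat.ofHom e.toRingHom
  haveI : IsIso φ := e.toCommRingCatIso.isIso_hom
  let jx := X.presheaf.stalkSpecializes ((genericPoint_spec X).specializes (Set.mem_univ x))
  let jy := X.presheaf.stalkSpecializes ((genericPoint_spec X).specializes (Set.mem_univ y))
  have hcomp : φ ≫ jy = jx := by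
    ext a
    exact hσ a
  haveI : IsDominant (Spec.map jy) := by
    haveI : IsDomain (X.presheaf.stalk y) := inferInstance
    exact isDominant_of_of_appTop_injective (by
      intro a b hab
      apply (Scheme.ΓSpecIso (X.presheaf.stalk y)).commRingCatIsoToRingEquiv.injective
      apply hy
      have := congrArg (Scheme.ΓSpecIso X.functionField).hom hab
      have e1 := congr($(Scheme.ΓSpecIso_naturality jy) a)
      have e2 := congr($(Scheme.ΓSpecIso_naturality jy) b)
      exact e1.symm.trans (this.trans e2))
  have heq : Spec.map φ ≫ X.fromSpecStalk x = X.fromSpecStalk y := by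
    refine ext_of_isDominant (Spec.map jy) (by
      rw [← Category.assoc, ← Spec.map_comp, hcomp, Scheme.SpecMap_stalkSpecializes_fromSpecStalk,
        Scheme.SpecMap_stalkSpecializes_fromSpecStalk])
  have := congrArg (fun m : Spec (X.presheaf.stalk y) ⟶ X => m (closedPoint _)) heq
  simp only [Scheme.Hom.comp_apply, Scheme.fromSpecStalk_closedPoint] at this
  rw [show (Spec.map φ) (closedPoint _) = closedPoint (X.presheaf.stalk x) from
    haveI : IsLocalHom φ.hom := isLocalHom_of_isIso φ
    IsLocalRing.comap_closedPoint φ.hom, Scheme.fromSpecStalk_closedPoint] at this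
  exact this

end Groth.Agent.Models7
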