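import Groth.Agent.Models7.Contract
import Groth.Agent.Models7.SeparatedStalks
import Groth.Agent.VarietyLib.SmoothStalk
import Groth.Agent.S14401
import Groth.Prelude.Def_ArSurf

/-!
# Smooth arithmetic surfaces are relatively minimal
-/

set_option autoImplicit false
set_option linter.style.haveILetI false
set_option backward.isDefEq.respectTransparency false
set_option maxHeartbeats 1000000

universe u

open CategoryTheory CategoryTheory.Limits AlgebraicGeometry Opposite TopologicalSpace IsLocalRing

namespace Groth.Agent.Models7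

/-- A birational morphism induces, at every point over a valuation local ring, an equality of local rings. -/
theorem exists_preimage_stalk {X Y : Scheme.{u}} [IsIntegral X] [IsIntegral Y] (f : X ⟶ Y)
    (hgen : f (genericPoint X) = genericPoint Y) (hbir : IsIso (f.stalkMap (genericPoint X))) (x : X)
    [ValuationRing (Y.presheaf.stalk (f x))] (a : X.presheaf.stalk x) :
    ∃ c : Y.presheaf.stalk (f x), f.stalkMap x c = a := by
  let hx : genericPoint X ⤳ x := genericPoint_specializes x
  let hy : f (genericPoint X) ⤳ f x := hx.map f.continuous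
  have key : ∀ (w : Y), w = genericPoint Y → ∀ (h : w ⤳ f x) (b : Y.presheaf.stalk w),
      ∃ c, Y.presheaf.stalkSpecializes h c = b ∨ Y.presheaf.stalkSpecializes h c * b = 1 := by
    rintro w rfl h b
    rcases ValuationRing.isInteger_or_isInteger (Y.presheaf.stalk (f x)) (K := Y.functionField) b with ⟨c, hc⟩ | ⟨c, hc⟩
    · exact ⟨c, Or.inl hc⟩
    · rcases eq_or_ne b 0 with rfl | hb
      · exact ⟨0, Or.inl (map_zero _)⟩
      · refine ⟨c, Or.inr ?_⟩
        rw [show Y.presheaf.stalkSpecializes h c = b⁻¹ from hc]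
        exact inv_mul_cancel₀ hb
  obtain ⟨b, hb⟩ := (ConcreteCategory.bijective_of_isIso (f.stalkMap (genericPoint X))).2
    (X.presheaf.stalkSpecializes hx a)
  obtain ⟨c, hc⟩ := key _ hgen hy b
  have hnat := fun c => Scheme.Hom.stalkSpecializes_stalkMap_apply f (genericPoint X) x hx c
  have hinj : Function.Injective (X.presheaf.stalkSpecializes hx) :=
    IsFractionRing.injective (X.presheaf.stalk x) X.functionField
  rcases hc with hc | hc
  · exact ⟨c, hinj (by rw [← hnat, ← hb]; exact congrArg _ hc)⟩
  · have h1 : f.stalkMap x c * a = 1 := hinj (by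
      rw [map_mul, map_one, ← hnat, ← hb, ← map_mul]
      exact (congrArg _ hc).trans (map_one _))
    obtain ⟨u, hu⟩ := isUnit_of_map_unit (f.stalkMap x).hom c (IsUnit.of_mul_eq_one a h1)
    refine ⟨↑u⁻¹, ?_⟩
    have h2 : f.stalkMap x ↑u⁻¹ * f.stalkMap x c = 1 := by rw [← map_mul, ← hu, Units.inv_mul, map_one]
    calc f.stalkMap x ↑u⁻¹ = f.stalkMap x ↑u⁻¹ * (f.stalkMap x c * a) := by rw [h1, mul_one]
      _ = a := by rw [← mul_assoc, h2, one_mul]

/-- Over a point with valuation local ring, a separated birational morphism has at most one point. -/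
theorem eq_of_valuationRing {X Y : Scheme.{u}} [IsIntegral X] [X.IsSeparated] [IsIntegral Y] (f : X ⟶ Y)
    (hgen : f (genericPoint X) = genericPoint Y) (hbir : IsIso (f.stalkMap (genericPoint X))) {x x' : X}
    (he : f x' = f x) [hv : ValuationRing (Y.presheaf.stalk (f x))] : x = x' := by
  have key : ∀ (z z' : X) (he : f z' = f z) [ValuationRing (Y.presheaf.stalk (f z))] (a : X.presheaf.stalk z),
      ∃ b : X.presheaf.stalk z', algebraMap (X.presheaf.stalk z') X.functionField b =
        algebraMap (X.presheaf.stalk z) X.functionField a := fun z z' he _ a => by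
    obtain ⟨c, rfl⟩ := exists_preimage_stalk f hgen hbir z a
    let h : f z' ⤳ f z := by rw [he]
    refine ⟨f.stalkMap z' (Y.presheaf.stalkSpecializes h c), ?_⟩
    show X.presheaf.stalkSpecializes (genericPoint_specializes z') _ =
      X.presheaf.stalkSpecializes (genericPoint_specializes z) _
    rw [← Scheme.Hom.stalkSpecializes_stalkMap_apply, ← Scheme.Hom.stalkSpecializes_stalkMap_apply]
    refine congrArg (f.stalkMap (genericPoint X)) ?_
    rw [← ConcreteCategory.comp_apply, TopCat.Presheaf.stalkSpecializes_comp]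
  haveI : ValuationRing (Y.presheaf.stalk (f x')) := by rw [he]; exact hv
  exact eq_of_stalk_le x x' (key x x' he) (key x' x he.symm)

/-- A smooth arithmetic surface admits no contraction. -/
theorem isIso_of_smooth {R : Type u} [CommRing R] [IsDedekindDomain R] {X Y : Over (Spec (CommRingCat.of R))}
    (hX : ArSurf.IsArithSurface R X) [Smooth X.hom]
    (hY : ∀ y : Y.left, IsRegularLocalRing (Y.left.presheaf.stalk y)) (hpY : Neron.IsProjectiveOver R Y)
    (hfY : Flat Y.hom) (g : X ⟶ Y) (hg : IsIso ((Neron.genericFibre R).map g)) : IsIso g := by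
  obtain ⟨-, hint, hdim, hfX, hpX⟩ := hX
  haveI := hint
  haveI := isProper_of_projective (X := X) hpX
  haveI := isProper_of_projective hpY
  haveI : IsNoetherianRing R := inferInstance
  haveI : IsLocallyNoetherian X.left := LocallyOfFiniteType.isLocallyNoetherian X.hom
  haveI : IsLocallyNoetherian Y.left := LocallyOfFiniteType.isLocallyNoetherian Y.hom
  haveI : X.left.IsSeparated := ⟨by rw [← terminal.comp_from X.hom]; infer_instance⟩
  haveI : IsProper (g.left ≫ Y.hom) := by rw [Over.w g]; infer_instance
  haveI : IsProper g.left := IsProper.of_comp g.left Y.hom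
  let σ := Neron.genPt R
  haveI : IsPreimmersion σ := IsPreimmersion.of_isLocalization (nonZeroDivisors R)
  let gK : pullback X.hom σ ⟶ pullback Y.hom σ := ((Neron.genericFibre R).map g).left
  haveI : IsIso gK := inferInstanceAs (IsIso ((Over.forget _).map ((Neron.genericFibre R).map g)))
  have hgK : gK ≫ pullback.fst Y.hom σ = pullback.fst X.hom σ ≫ g.left := by
    exact pullback.lift_fst _ _ _
  have hη₀ : ∀ s : Spec (CommRingCat.of R), s ∈ Set.range σ.base ↔ s.asIdeal = ⊥ := by
    intro s
    refine ⟨?_, fun hs => ⟨⟨⊥, Ideal.isPrime_bot⟩, PrimeSpectrum.ext ?_⟩⟩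
    · rintro ⟨z, rfl⟩
      show z.asIdeal.comap (algebraMap R (FractionRing R)) = ⊥
      rw [(Ideal.eq_bot_or_top z.asIdeal).resolve_right z.2.ne_top]
      exact Ideal.comap_bot_of_injective _ (IsFractionRing.injective R (FractionRing R))
    · show (⊥ : Ideal (FractionRing R)).comap (algebraMap R (FractionRing R)) = _
      rw [hs]
      exact Ideal.comap_bot_of_injective _ (IsFractionRing.injective R (FractionRing R))
  have hηR : ∀ (Z : Over (Spec (CommRingCat.of R))) [Flat Z.hom] (y : Z.left),
      ∃ y' : Z.left, y' ⤳ y ∧ (Z.hom y').asIdeal = ⊥ := fun Z _ y => by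
    let η : Spec (CommRingCat.of R) := ⟨⊥, Ideal.isPrime_bot⟩
    have hs : η ⤳ Z.hom y := (PrimeSpectrum.le_iff_specializes η _).1 (bot_le)
    obtain ⟨y', hy', he⟩ := Flat.generalizingMap Z.hom hs
    exact ⟨y', hy', congrArg PrimeSpectrum.asIdeal he⟩
  -- the target is integral
  haveI := hfX
  haveI := hfY
  have hsurj : ∀ y : Y.left, ∃ x, g.left x = y := fun y => by
    obtain ⟨y', hy', he⟩ := hηR Y y
    obtain ⟨z, rfl⟩ : y' ∈ Set.range (pullback.fst Y.hom σ).base := by
      rw [Scheme.Pullback.range_fst]; exact (hη₀ _).2 he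
    obtain ⟨w, rfl⟩ := gK.homeomorph.surjective z
    have h' : pullback.fst Y.hom σ (gK w) ∈ Set.range g.left.base :=
      ⟨pullback.fst X.hom σ w, by rw [← Scheme.Hom.comp_apply, ← hgK]; rfl⟩
    exact hy'.mem_closed g.left.isClosedMap.isClosed_range h'
  haveI : Surjective g.left := ⟨hsurj⟩
  haveI : IrreducibleSpace Y.left :=
    g.left.surjective.irreducibleSpace g.left.continuous
  haveI : ∀ y : Y.left, _root_.IsReduced (Y.left.presheaf.stalk y) := fun y => by
    haveI := hY y
    haveI := CAlgH3.isDomain_of_isRegularLocalRing (Y.left.presheaf.stalk y)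
    infer_instance
  haveI := isReduced_of_isReduced_stalk Y.left
  haveI : IsIntegral Y.left := isIntegral_of_irreducibleSpace_of_isReduced Y.left
  have hn : Pi1.IsNormalScheme Y.left := fun y => by
    haveI := hY y
    haveI := CAlgH3.ufm_of_regular (Y.left.presheaf.stalk y)
    exact ⟨inferInstance, inferInstance⟩
  -- birationality
  have hηX : (X.hom (genericPoint X.left)).asIdeal = ⊥ := by
    obtain ⟨x', hx', he⟩ := hηR X (genericPoint X.left)
    rwa [((genericPoint_specializes x').antisymm hx').eq]
  have hgen : g.left (genericPoint X.left) = genericPoint Y.left := by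
    obtain ⟨x, hx⟩ := hsurj (genericPoint Y.left)
    have h1 : g.left (genericPoint X.left) ⤳ genericPoint Y.left :=
      hx ▸ (genericPoint_specializes x).map g.left.continuous
    exact (h1.antisymm (genericPoint_specializes _)).eq
  obtain ⟨w, hw⟩ : genericPoint X.left ∈ Set.range (pullback.fst X.hom σ).base := by
    rw [Scheme.Pullback.range_fst]; exact (hη₀ _).2 hηX
  haveI hbir : IsIso (g.left.stalkMap (genericPoint X.left)) := by
    have key : ∀ (x : X.left), pullback.fst X.hom σ w = x → g.left x = genericPoint Y.left →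
        x = genericPoint X.left → Function.Bijective (g.left.stalkMap x) := by
      intro x hx hgx hxg
      subst hx
      let jX := pullback.fst X.hom σ
      let jY := pullback.fst Y.hom σ
      haveI : IsPreimmersion jY := MorphismProperty.pullback_fst (P := @IsPreimmersion) _ _ inferInstance
      have injX : ∀ (z : X.left), z = genericPoint X.left → ∀ {S : Type u} [CommRing S] [Nontrivial S]
          (φ : X.left.presheaf.stalk z →+* S), Function.Injective φ := by
        intro z hz S _ _ φ; subst hz; exact RingHom.injective (R := X.left.functionField) φ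
      have injY : ∀ (z : Y.left), z = genericPoint Y.left → ∀ {S : Type u} [CommRing S] [Nontrivial S]
          (φ : Y.left.presheaf.stalk z →+* S), Function.Injective φ := by
        intro z hz S _ _ φ; subst hz; exact RingHom.injective (R := Y.left.functionField) φ
      refine ⟨injY _ hgx (g.left.stalkMap (jX w)).hom, fun a => ?_⟩
      have hc : Function.Surjective ((jX ≫ g.left).stalkMap w) := by
        rw [show (jX ≫ g.left) = gK ≫ jY from hgK.symm] at *
        rw [Scheme.Hom.stalkMap_comp]
        exact ((ConcreteCategory.bijective_of_isIso (gK.stalkMap w)).2.comp (jY.stalkMap_surjective _))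
      rw [Scheme.Hom.stalkMap_comp] at hc
      obtain ⟨b, hb⟩ := hc (jX.stalkMap w a)
      haveI : Nontrivial ((pullback X.hom σ).presheaf.stalk w) := inferInstance
      exact ⟨b, injX _ hxg (jX.stalkMap w).hom hb⟩
    exact (ConcreteCategory.isIso_iff_bijective _).2 (key _ hw hgen rfl)
  -- every fibre is a point
  have hfib : ∀ y : Y.left, (g.left.base ⁻¹' {y}).Subsingleton := by
    intro y
    by_contra hns
    obtain ⟨x₁, hx₁, x₂, hx₂, hne⟩ := Set.not_subsingleton_iff.1 hns
    let s := Y.hom y
    have hsx : ∀ x ∈ g.left.base ⁻¹' {y}, X.hom x = s := fun x hx => by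
      rw [← Over.w g, Scheme.Hom.comp_apply, Set.mem_singleton_iff.1 hx]
    have hs0 : s.asIdeal ≠ ⊥ := fun h0 => hne (by
      obtain ⟨a, rfl⟩ : x₁ ∈ Set.range (pullback.fst X.hom σ).base := by
        rw [Scheme.Pullback.range_fst]; exact (hη₀ _).2 (hsx x₁ hx₁ ▸ h0)
      obtain ⟨b, rfl⟩ : x₂ ∈ Set.range (pullback.fst X.hom σ).base := by
        rw [Scheme.Pullback.range_fst]; exact (hη₀ _).2 (hsx x₂ hx₂ ▸ h0)
      haveI : IsPreimmersion (pullback.fst Y.hom σ) :=
        MorphismProperty.pullback_fst (P := @IsPreimmersion) _ _ inferInstance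
      refine congrArg _ (gK.homeomorph.injective ((pullback.fst Y.hom σ).isEmbedding.injective ?_))
      show (gK ≫ pullback.fst Y.hom σ) a = (gK ≫ pullback.fst Y.hom σ) b
      rw [hgK]
      exact (Set.mem_singleton_iff.1 hx₁).trans (Set.mem_singleton_iff.1 hx₂).symm)
    -- the fibre over `s` is a disjoint union of irreducible curves
    let F := X.hom.fiber s
    let ι : F ⟶ X.left := X.hom.fiberι s
    haveI : Smooth (X.hom.fiberToSpecResidueField s) :=
      MorphismProperty.pullback_snd (P := @Smooth) _ _ inferInstance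
    haveI : CompactSpace F := QuasiCompact.compactSpace_of_compactSpace (X.hom.fiberToSpecResidueField s)
    haveI : IsLocallyNoetherian F := LocallyOfFiniteType.isLocallyNoetherian (X.hom.fiberToSpecResidueField s)
    haveI : AlgebraicGeometry.IsNoetherian F := ⟨⟩
    have hdom : ∀ z : F, IsDomain (F.presheaf.stalk z) := fun z => by
      haveI := VarietyLib.isRegularLocalRing_stalk_of_smooth _ F (X.hom.fiberToSpecResidueField s) z
      exact CAlgH3.isDomain_of_isRegularLocalRing _
    obtain ⟨hopen, huniq⟩ := S14401.result F hdom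
    have hemb := ι.isEmbedding
    have hrange : Set.range ι.base = X.hom ⁻¹' {s} := X.hom.range_fiberι s
    let A : Set F := ι.base ⁻¹' (g.left.base ⁻¹' {y})
    have himA : ι.base '' A = g.left.base ⁻¹' {y} :=
      Set.image_preimage_eq_of_subset fun x hx => hrange.ge (hsx x hx)
    have hA : _root_.IsPreconnected A := hemb.isInducing.isPreconnected_image.1
      (himA ▸ isPreconnected_preimage g.left hn hgen hbir y)
    obtain ⟨z₁, hz₁⟩ : x₁ ∈ Set.range ι.base := hrange.ge (hsx x₁ hx₁)
    obtain ⟨E, ⟨hE, hzE⟩, -⟩ := huniq z₁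
    have hz₁A : z₁ ∈ A := Set.mem_preimage.2 (by rw [hz₁]; exact hx₁)
    have hEc : IsClosed E := isClosed_of_mem_irreducibleComponents E hE
    have hAE : A ⊆ E := hA.subset_isClopen ⟨hEc, hopen E hE⟩ ⟨z₁, hz₁A, hzE⟩
    obtain ⟨ξ, hξ⟩ := QuasiSober.sober hE.1 hEc
    have hξgen : ∀ z ∈ E, z ≠ ξ → IsClosed ({ι z} : Set X.left) := by
      intro z hz hzξ
      have h1 : ι ξ ⤳ ι z := (hξ.specializes hz).map ι.continuous
      have h1' : ι ξ ≠ ι z := fun h => hzξ (hemb.injective h).symm
      have h0 : genericPoint X.left ≠ ι ξ := fun h => hs0 (by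
        have h2 : ι ξ ∈ X.hom ⁻¹' {s} := hrange.le ⟨ξ, rfl⟩
        rw [← show X.hom (ι ξ) = s from h2, ← h]; exact hηX)
      rw [← closure_subset_iff_isClosed]
      intro w hw
      by_contra hwz
      let c : X.left → IrreducibleCloseds X.left := fun a =>
        ⟨closure {a}, isIrreducible_singleton.closure, isClosed_closure⟩
      have hlt : ∀ a b : X.left, a ⤳ b → a ≠ b → c b < c a := fun a b hab hne =>
        SetLike.lt_iff_le_and_exists.2 ⟨closure_minimal (Set.singleton_subset_iff.2 hab.mem_closure) isClosed_closure,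
          a, subset_closure rfl, fun h => hne (hab.antisymm (specializes_iff_mem_closure.2 h)).eq⟩
      let q : LTSeries (IrreducibleCloseds X.left) :=
        { length := 3
          toFun := ![c w, c (ι z), c (ι ξ), c (genericPoint X.left)]
          step := fun i => by
            fin_cases i
            · exact hlt _ _ (specializes_iff_mem_closure.2 hw) (Ne.symm hwz)
            · exact hlt _ _ h1 h1'
            · exact hlt _ _ (genericPoint_specializes _) h0 }
      have := Order.LTSeries.length_le_krullDim q
      have h3 : (3 : WithBot ℕ∞) ≤ 2 := le_trans this hdim.le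
      exact absurd h3 (by decide)
    -- `y` is closed
    have hyc : IsClosed ({y} : Set Y.left) := by
      by_contra hyc
      refine hne ?_
      have h : ∀ x ∈ g.left.base ⁻¹' {y}, x = ι ξ := fun x hx => by
        obtain ⟨z, rfl⟩ : x ∈ Set.range ι.base := hrange.ge (hsx x hx)
        by_contra hxξ
        refine hyc ?_
        rw [← Set.mem_singleton_iff.1 hx, ← Set.image_singleton]
        exact g.left.isClosedMap _ (hξgen z (hAE hx) fun h => hxξ (by rw [h]))
      rw [h x₁ hx₁, h x₂ hx₂]
    have hAc : IsClosed A := (hyc.preimage g.left.continuous).preimage ι.continuous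
    have hξA : ξ ∈ A := by
      by_contra hξA
      haveI : T1Space A := ⟨fun a => by
        have : ({a} : Set A) = Subtype.val ⁻¹' (ι.base ⁻¹' {ι (a : F)}) := by
          ext b; simp [Subtype.ext_iff, hemb.injective.eq_iff]
        rw [this]
        exact ((hξgen _ (hAE a.2) fun h => hξA (h ▸ a.2)).preimage ι.continuous).preimage continuous_subtype_val⟩
      haveI : NoetherianSpace A := inferInstance
      haveI : Finite A := by
        haveI : DiscreteTopology A := by
          refine discreteTopology_iff_isOpen_singleton.2 fun a => ?_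
          have hfin : (irreducibleComponents A).Finite := NoetherianSpace.finite_irreducibleComponents
          have hsing : ∀ C ∈ irreducibleComponents A, C.Subsingleton := fun C hC => by
            obtain ⟨g₀, hg₀⟩ := QuasiSober.sober (α := F) (hC.1.image Subtype.val continuous_subtype_val.continuousOn).closure isClosed_closure
            have hmem : g₀ ∈ A := closure_minimal (Subtype.coe_image_subset A C) hAc hg₀.mem
            intro b hb b' hb'
            have : ∀ d ∈ C, d = ⟨g₀, hmem⟩ := fun d hd => by
              have h1 : g₀ ⤳ (d : F) := hg₀.specializes (subset_closure ⟨d, hd, rfl⟩)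
              have h2 : IsClosed ({g₀} : Set F) := by
                have h4 := (hξgen _ (hAE hmem) fun h => hξA (h ▸ hmem)).preimage ι.continuous
                rwa [show ι.base ⁻¹' {ι g₀} = {g₀} from by ext; simp [hemb.injective.eq_iff]] at h4
              exact Subtype.ext (h1.mem_closed h2 rfl)
            rw [this b hb, this b' hb']
          have hfinA : (Set.univ : Set A).Finite := by
            rw [← sUnion_irreducibleComponents]
            exact hfin.sUnion fun C hC => (hsing C hC).finite
          haveI : Finite A := Set.finite_univ_iff.1 hfinA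
          exact isOpen_discrete _
        exact finite_of_compact_of_discrete
      haveI : DiscreteTopology A := inferInstance
      haveI : Subsingleton A := by
        haveI : PreconnectedSpace A := Subtype.preconnectedSpace hA
        exact PreconnectedSpace.trivial_of_discrete
      obtain ⟨z₂, hz₂⟩ : x₂ ∈ Set.range ι.base := hrange.ge (hsx x₂ hx₂)
      have hz₂A : z₂ ∈ A := Set.mem_preimage.2 (by rw [hz₂]; exact hx₂)
      exact hne (hz₁ ▸ hz₂ ▸ congrArg ι.base (congrArg Subtype.val (Subsingleton.elim (⟨z₁, hz₁A⟩ : A) ⟨z₂, hz₂A⟩)))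
    have hAeq : A = E := Set.Subset.antisymm hAE fun z hz => (hξ.specializes hz).mem_closed hAc hξA
    -- `y` is isolated in its fibre
    obtain ⟨Ω, hΩ, hΩE⟩ := hemb.isInducing.isOpen_iff.1 (hAeq ▸ hopen E hE)
    have hCl : IsClosed (g.left.base '' (X.hom ⁻¹' {s} ∩ Ωᶜ)) := by
      refine g.left.isClosedMap _ (IsClosed.inter ?_ hΩ.isClosed_compl)
      refine IsClosed.preimage X.hom.continuous ?_
      exact (PrimeSpectrum.isClosed_singleton_iff_isMaximal _).2 (s.2.isMaximal hs0)
    have hyC : y ∉ g.left.base '' (X.hom ⁻¹' {s} ∩ Ωᶜ) := by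
      rintro ⟨x, ⟨hxs, hxΩ⟩, hxy⟩
      obtain ⟨z, rfl⟩ := hrange.ge hxs
      exact hxΩ (hΩE.ge (show z ∈ A from hxy))
    have hiso : ∀ y' : Y.left, y' ⤳ y → Y.hom y' = s → y' = y := fun y' hy' hs' => by
      obtain ⟨x, rfl⟩ := hsurj y'
      have hxs : X.hom x = s := by rw [← Over.w g, Scheme.Hom.comp_apply]; exact hs'
      by_contra hne'
      refine hyC (hy'.mem_closed hCl ⟨x, ⟨hxs, fun hxΩ => ?_⟩, rfl⟩)
      obtain ⟨z, rfl⟩ := hrange.ge hxs
      exact hne' (hΩE.le hxΩ : z ∈ A)
    haveI hreg : IsRegularLocalRing (Y.left.presheaf.stalk y) := hY y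
    haveI := CAlgH3.ufm_of_regular (Y.left.presheaf.stalk y)
    obtain ⟨r, hr, hr0⟩ := Submodule.exists_mem_ne_zero_of_ne_bot hs0
    let φ : R →+* Y.left.presheaf.stalk y := (Y.left.presheaf.germ ⊤ y trivial).hom.comp (Coh.toGlobal Y.hom)
    have hφmem : ∀ (y' : Y.left) (t : R), Y.left.presheaf.germ ⊤ y' trivial (Coh.toGlobal Y.hom t) ∈
        maximalIdeal (Y.left.presheaf.stalk y') ↔ t ∈ (Y.hom y').asIdeal := fun y' t => by
      rw [mem_maximalIdeal, mem_nonunits_iff, ← Scheme.mem_basicOpen_top]
      show y' ∉ Y.left.basicOpen (Y.hom.appTop _) ↔ _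
      rw [← Scheme.preimage_basicOpen_top, basicOpen_eq_of_affine]
      exact not_not
    have hmin : maximalIdeal (Y.left.presheaf.stalk y) ∈ (Ideal.span {φ r}).minimalPrimes := by
      refine ⟨⟨inferInstance, (Ideal.span_singleton_le_iff_mem _).2 ((hφmem y r).2 hr)⟩, fun q ⟨hq, hrq⟩ _ => ?_⟩
      let P : Spec (Y.left.presheaf.stalk y) := ⟨q, hq⟩
      let y' := Y.left.fromSpecStalk y P
      have hy' : y' ⤳ y := Scheme.range_fromSpecStalk.le ⟨P, rfl⟩
      have hrel : ∀ t : R, φ t ∈ q ↔ t ∈ (Y.hom y').asIdeal := fun t => by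
        show Y.left.presheaf.germ ⊤ y trivial (Y.hom.appTop ((Scheme.ΓSpecIso (CommRingCat.of R)).inv t)) ∈ q ↔ _
        have hb : y' ∈ Y.left.basicOpen (Coh.toGlobal Y.hom t) ↔
            P ∈ PrimeSpectrum.basicOpen (Y.left.presheaf.germ ⊤ y trivial (Coh.toGlobal Y.hom t)) := by
          show P ∈ Y.left.fromSpecStalk y ⁻¹ᵁ Y.left.basicOpen _ ↔ _
          rw [Scheme.preimage_basicOpen_top, Scheme.fromSpecStalk_appTop, ← basicOpen_eq_of_affine]
          rfl
        rw [← hφmem y' t, mem_maximalIdeal, mem_nonunits_iff, ← Scheme.mem_basicOpen_top, hb]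
        exact not_not.symm
      have hs' : Y.hom y' = s := by
        refine PrimeSpectrum.ext ((s.2.isMaximal hs0).eq_of_le (Y.hom y').2.ne_top ?_).symm
        have h1 : Y.hom y' ⤳ s := hy'.map Y.hom.continuous
        have h2 := (PrimeSpectrum.le_iff_specializes _ _).2 h1
        have h3 : (Y.hom y').asIdeal ≠ ⊥ := fun h => hr0 (by
          simpa [h] using (hrel r).1 (hrq (Ideal.mem_span_singleton_self _)))
        exact (((Y.hom y').2.isMaximal h3).eq_of_le s.2.ne_top h2).ge
      have heq : y' = y := hiso y' hy' hs'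
      have : P = closedPoint (Y.left.presheaf.stalk y) := (Y.left.fromSpecStalk y).isEmbedding.injective
        (heq.trans (Scheme.fromSpecStalk_closedPoint).symm)
      exact (congrArg PrimeSpectrum.asIdeal this).ge
    haveI : Ring.DimensionLEOne (Y.left.presheaf.stalk y) := ⟨fun {q} hq0 hq => by
      by_contra hqm
      have h1 : (maximalIdeal (Y.left.presheaf.stalk y)).height ≤ 1 :=
        Ideal.height_le_one_of_isPrincipal_of_mem_minimalPrimes _ _ hmin
      have hlt : q < maximalIdeal _ := lt_of_le_of_ne (le_maximalIdeal hq.ne_top) fun h => hqm (h ▸ inferInstance)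
      have h2 : q.height < (maximalIdeal (Y.left.presheaf.stalk y)).height :=
        Ideal.height_strict_mono_of_isPrime hlt
      have h3 : q.height = 0 := Order.lt_one_iff.1 (lt_of_lt_of_le h2 h1)
      exact hq0 (Ideal.height_eq_zero_iff_eq_bot.1 h3)⟩
    haveI hv : ValuationRing (Y.left.presheaf.stalk y) := by
      by_cases hf : IsField (Y.left.presheaf.stalk y)
      · letI := hf.toField; infer_instance
      · have hex : ∃! q : Ideal (Y.left.presheaf.stalk y), q ≠ ⊥ ∧ q.IsPrime :=
          ⟨maximalIdeal _, ⟨fun h => hf (isField_iff_maximalIdeal_eq.2 h), inferInstance⟩,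
            fun q ⟨hq0, hq⟩ => eq_maximalIdeal (Ring.DimensionLEOne.maximalOfPrime hq0 hq)⟩
        haveI : IsDiscreteValuationRing (Y.left.presheaf.stalk y) :=
          ((IsDiscreteValuationRing.TFAE (Y.left.presheaf.stalk y) hf).out 3 0 :
            (IsIntegrallyClosed (Y.left.presheaf.stalk y) ∧ ∃! q : Ideal (Y.left.presheaf.stalk y), q ≠ ⊥ ∧ q.IsPrime) ↔ _).1
            ⟨inferInstance, hex⟩
        infer_instance
    haveI : ValuationRing (Y.left.presheaf.stalk (g.left x₁)) := by
      rw [Set.mem_singleton_iff.1 hx₁]; exact hv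
    exact hne (eq_of_valuationRing g.left hgen hbir
      ((Set.mem_singleton_iff.1 hx₂).trans (Set.mem_singleton_iff.1 hx₁).symm))
  obtain ⟨h, hh, -⟩ := exists_desc g.left hn hgen hbir (𝟙 X.left) (fun y => (hfib y).image _)
  haveI : Surjective g.left := ⟨hsurj⟩
  haveI : Y.left.IsSeparated := ⟨by rw [← terminal.comp_from Y.hom]; infer_instance⟩
  have hh' : h ≫ g.left = 𝟙 Y.left :=
    ext_of_isDominant_of_isSeparated (terminal.from _) (terminal.hom_ext _ _) g.left
      (by rw [reassoc_of% hh, Category.comp_id])
  haveI : IsIso ((Over.forget _).map g) := ⟨h, hh, hh'⟩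
  exact isIso_of_reflects_iso g (Over.forget _)

end Groth.Agent.Models7
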