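import Groth.Agent.Models7.EtaleRelMin

/-!
# Reduction to trivial constants and descent of relative minimality
-/

set_option autoImplicit false
set_option linter.style.haveILetI false
set_option backward.isDefEq.respectTransparency false
set_option maxHeartbeats 1000000

universe u

open CategoryTheory CategoryTheory.Limits AlgebraicGeometry TopologicalSpace IsLocalRing
open Groth.Agent.Coherent

namespace Groth.Agent.Models7

/-- A surface with nonpositive Euler characteristic is a surface with trivial constants and positive genus over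
a finite extension of the base. -/
theorem exists_steinData {R : Type u} [CommRing R] [IsDedekindDomain R] (hR : ¬ IsField R)
    {X : Over (Spec (CommRingCat.of R))} (hX : ArSurf.IsArithSurface R X)
    (hmin : Neron.IsRelMinimalRegularModel R X)
    (hg : FGA.eulerCharLE (FractionRing R) ((Neron.genericFibre R).obj X).left (Coh.structureModule _) 1 ≤ 0) :
    ∃ (A : Type u) (_ : CommRing A) (_ : IsDedekindDomain A) (_ : Algebra R A) (π : X.left ⟶ Spec (CommRingCat.of A)),
      Module.Finite R A ∧ Function.Injective (algebraMap R A) ∧ ¬ IsField A ∧ π ≫ baseMap R A = X.hom ∧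
      Function.Bijective π.appTop ∧ ArSurf.IsArithSurface A (Over.mk π) ∧
      Neron.IsRelMinimalRegularModel A (Over.mk π) ∧
      Nontrivial (Coh.HH ((Neron.genericFibre A).obj (Over.mk π)).left (Coh.structureModule _) 1) := by
  haveI := hX.2.1
  haveI := hX.2.2.2.1
  haveI : IsProper X.hom := Models7.isProper_of_projective hX.2.2.2.2
  haveI : IsLocallyNoetherian X.left := LocallyOfFiniteType.isLocallyNoetherian X.hom
  let A : Type u := Γ(X.left, ⊤)
  letI : Algebra R A := ((Scheme.ΓSpecIso (CommRingCat.of R)).inv ≫ X.hom.appTop).hom.toAlgebra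
  let π₀ : X.left ⟶ Spec (CommRingCat.of A) := X.left.toSpecΓ
  have hπ₀ : π₀ ≫ baseMap R A = X.hom := by
    show X.left.toSpecΓ ≫ Spec.map ((Scheme.ΓSpecIso (CommRingCat.of R)).inv ≫ X.hom.appTop) = X.hom
    rw [Spec.map_comp, ← Category.assoc, ← Scheme.toSpecΓ_naturality, Category.assoc,
      ← SpecMap_ΓSpecIso_hom, ← Spec.map_comp, Iso.inv_hom_id, Spec.map_id, Category.comp_id]
  have hπ₀app : Function.Bijective π₀.appTop := by
    show Function.Bijective X.left.toSpecΓ.appTop
    rw [Scheme.toSpecΓ_appTop]
    exact ConcreteCategory.bijective_of_isIso _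
  haveI : IsDomain A := inferInstanceAs (IsDomain Γ(X.left, ⊤))
  haveI : Module.Finite R A := RingHom.finite_algebraMap.1 (by
    show ((Scheme.ΓSpecIso (CommRingCat.of R)).inv ≫ X.hom.appTop).hom.Finite
    rw [CommRingCat.hom_comp]
    exact RingHom.Finite.comp (Coherent.finite_app_of_isProper X.hom (isAffineOpen_top _))
      (RingHom.Finite.of_surjective _ (ConcreteCategory.bijective_of_isIso (Scheme.ΓSpecIso (CommRingCat.of R)).inv).2))
  have hinj : Function.Injective (algebraMap R A) := by
    refine (injective_iff_map_eq_zero _).2 fun r hr => by_contra fun hne => ?_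
    have hr' : X.hom.appTop ((Scheme.ΓSpecIso (CommRingCat.of R)).inv r) = 0 := hr
    have h1 : genericPoint X.left ∈ X.hom ⁻¹ᵁ ((Spec (CommRingCat.of R)).basicOpen
        ((Scheme.ΓSpecIso (CommRingCat.of R)).inv r)) := by
      show X.hom (genericPoint X.left) ∈ (Spec (CommRingCat.of R)).basicOpen ((Scheme.ΓSpecIso (CommRingCat.of R)).inv r)
      rw [hom_genericPoint', basicOpen_eq_of_affine]
      exact fun h => hne ((Submodule.mem_bot R).1 h)
    rw [Scheme.preimage_basicOpen, show X.hom.app ⊤ ((Scheme.ΓSpecIso (CommRingCat.of R)).inv r) = 0 from hr',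
      Scheme.basicOpen_zero] at h1
    exact h1
  haveI : IsIntegrallyClosed A := isIntegrallyClosed_appTop fun x =>
    haveI := hX.1 x
    CAlgH3.isIntegrallyClosed_of_regular _
  haveI : Algebra.IsIntegral R A := Algebra.IsIntegral.of_finite R A
  haveI : IsNoetherianRing A := isNoetherian_of_tower R (inferInstance : IsNoetherian R A)
  haveI : Ring.DimensionLEOne A := ⟨fun {p} hp hp' => by
    haveI := hp'
    refine Ideal.isMaximal_of_isIntegral_of_isMaximal_comap (R := R) p ?_
    exact Ring.DimensionLEOne.maximalOfPrime (fun h => hp (Ideal.eq_bot_of_comap_eq_bot h)) inferInstance⟩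
  haveI : IsDedekindDomain A := (isDedekindDomain_iff A (FractionRing A)).2
    ⟨inferInstance, inferInstance, inferInstance, (isIntegrallyClosed_iff (FractionRing A)).1 inferInstance⟩
  have hA : ¬ IsField A := fun h => hR ((Algebra.IsIntegral.isField_iff_isField hinj).2 h)
  have h₁ : ArSurf.IsArithSurface A (Over.mk π₀) := isArithSurface_factor hX π₀ hπ₀
  have m₁ := isRelMinimal_factor hinj hmin π₀ hπ₀ h₁.2.2.2.1
  obtain ⟨k, hk⟩ := exists_isPullback_genPt (R := R) (A := A) hinj
  have sq0 := (IsPullback.of_hasPullback π₀ (Neron.genPt A)).paste_vert hk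
  rw [hπ₀] at sq0
  refine ⟨A, inferInstance, inferInstance, inferInstance, π₀, inferInstance, hinj, hA, hπ₀, hπ₀app, h₁, m₁, ?_⟩
  let C := pullback X.hom (Neron.genPt R)
  let q₂ : C ⟶ Spec (CommRingCat.of (FractionRing R)) := pullback.snd X.hom (Neron.genPt R)
  letI : C.Over (Spec (CommRingCat.of (FractionRing R))) := ⟨q₂⟩
  haveI : IsProper (C ↘ Spec (CommRingCat.of (FractionRing R))) := inferInstanceAs (IsProper q₂)
  haveI : IsLocallyNoetherian C := LocallyOfFiniteType.isLocallyNoetherian q₂
  haveI hint : AlgebraicGeometry.IsIntegral C := (propCurve_genericFibre hR hX).2.2.1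
  have h0 : 0 < Module.finrank (FractionRing R) (Coh.HH C (Coh.structureModule C) 0) := by
    haveI := CurveRR24.finite_HH_of_isCoh (FractionRing R) (X := C) (isCoh_structureModule C) 0
    haveI : Nontrivial (GA (baseHom (FractionRing R) C) (Coh.structureModule C)) :=
      inferInstanceAs (Nontrivial Γ(C, ⊤))
    haveI : Nontrivial (Coh.HH C (Coh.structureModule C) 0) :=
      (CurveRR24.hhZero (FractionRing R) (Coh.structureModule C)).toEquiv.nontrivial
    exact Module.finrank_pos
  have h1 : 0 < Module.finrank (FractionRing R) (Coh.HH C (Coh.structureModule C) 1) := by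
    have h : FGA.eulerCharLE (FractionRing R) C (Coh.structureModule C) 1 ≤ 0 := hg
    simp only [FGA.eulerCharLE, Finset.sum_range_succ, Finset.sum_range_zero, pow_zero, pow_one, one_mul,
      zero_add, neg_mul] at h
    omega
  have hC1 : Nontrivial (Coh.HH C (Coh.structureModule C) 1) := Module.nontrivial_of_finrank_pos h1
  by_contra hn
  rw [not_nontrivial_iff_subsingleton] at hn
  haveI : IsProper (pullback.snd π₀ (Neron.genPt A)) := by
    haveI : IsProper π₀ := Models7.isProper_of_projective h₁.2.2.2.2
    infer_instance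
  haveI : IsLocallyNoetherian (pullback π₀ (Neron.genPt A)) :=
    LocallyOfFiniteType.isLocallyNoetherian (pullback.snd π₀ (Neron.genPt A))
  haveI : Coh.IsQCoh (Coh.structureModule (pullback π₀ (Neron.genPt A))) := (isCoh_structureModule _).1
  let e : C ⟶ pullback π₀ (Neron.genPt A) := sq0.isoPullback.inv
  have h := CohEdge27.subsingleton_HH_pullback_iso e (pullback.snd π₀ (Neron.genPt A))
    (Coh.structureModule _) 1 hn
  exact not_subsingleton _ (FlatMorStrat.subsingleton_HH_of_iso (PicLoc.pullbackStructureIso e) 1 h)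

/-- Relative minimality descends from the constants to the base. -/
theorem isRelMinimal_descend {R A : Type u} [CommRing R] [IsDedekindDomain R] [CommRing A] [IsDedekindDomain A]
    [Algebra R A] [Module.Finite R A] (hinj : Function.Injective (algebraMap R A)) (hR : ¬ IsField R)
    {X : Over (Spec (CommRingCat.of R))} (hX : ArSurf.IsArithSurface R X) (π : X.left ⟶ Spec (CommRingCat.of A))
    (hπ : π ≫ baseMap R A = X.hom) (hπapp : Function.Bijective π.appTop)
    (hm : Neron.IsRelMinimalRegularModel A (Over.mk π)) : Neron.IsRelMinimalRegularModel R X := by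
  refine ⟨hX.1, hX.2.2.2.2, hX.2.2.2.1, fun Z hreg hproj hflat g hgi => ?_⟩
  haveI := hflat
  haveI := hgi
  obtain ⟨hZ, hgp, hgs⟩ := isArithSurface_of_genIso hR hX hreg hproj g
  haveI := hgp
  haveI := hX.2.1
  haveI := hX.2.2.2.1
  haveI := hZ.2.1
  haveI : IsProper Z.hom := Models7.isProper_of_projective hproj
  haveI : IsLocallyNoetherian Z.left := LocallyOfFiniteType.isLocallyNoetherian Z.hom
  obtain ⟨hgen, hbir⟩ := birational_of_genIso g hX hgs
  have hZn : Pi1.IsNormalScheme Z.left := fun z => by
    haveI := hreg z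
    exact ⟨CAlgH3.isDomain_of_isRegularLocalRing _, CAlgH3.isIntegrallyClosed_of_regular _⟩
  haveI : IsIso g.left.appTop := Coherent.isIso_app_of_birational g.left hZn hgen hbir ⊤
  let πZ : Z.left ⟶ Spec (CommRingCat.of A) :=
    Z.left.toSpecΓ ≫ Spec.map ((Scheme.ΓSpecIso (CommRingCat.of A)).inv ≫ π.appTop ≫ inv g.left.appTop)
  have hext : ∀ {W : Scheme.{u}} {B : CommRingCat.{u}} (a b : W ⟶ Spec B), a.appTop = b.appTop → a = b :=
    fun a b h => ext_of_isAffine h
  have hgπ : g.left ≫ πZ = π := by
    refine hext _ _ ?_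
    rw [Scheme.Hom.comp_appTop, Scheme.Hom.comp_appTop, Scheme.toSpecΓ_appTop]
    erw [Scheme.ΓSpecIso_naturality_assoc]
    rw [Category.assoc, Category.assoc, IsIso.inv_hom_id, Category.comp_id, Iso.hom_inv_id_assoc]
  have hgw : g.left ≫ Z.hom = X.hom := Over.w g
  have hπZ : πZ ≫ baseMap R A = Z.hom := by
    refine hext _ _ ((cancel_mono g.left.appTop).1 ?_)
    rw [← Scheme.Hom.comp_appTop, ← Scheme.Hom.comp_appTop, reassoc_of% hgπ, hπ, hgw]
  have hZA := isArithSurface_factor hZ πZ hπZ
  let g' : Over.mk π ⟶ Over.mk πZ := Over.homMk g.left hgπ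
  have hgi' : IsIso ((Neron.genericFibre A).map g') := by
    obtain ⟨k, hk⟩ := exists_isPullback_genPt (R := R) (A := A) hinj
    have sX := (IsPullback.of_hasPullback π (Neron.genPt A)).paste_vert hk
    rw [hπ] at sX
    have sY := (IsPullback.of_hasPullback πZ (Neron.genPt A)).paste_vert hk
    rw [hπZ] at sY
    let G' : pullback π (Neron.genPt A) ⟶ pullback πZ (Neron.genPt A) := ((Neron.genericFibre A).map g').left
    let G : pullback X.hom (Neron.genPt R) ⟶ pullback Z.hom (Neron.genPt R) := ((Neron.genericFibre R).map g).left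
    haveI : IsIso G := inferInstanceAs (IsIso ((Over.forget _).map ((Neron.genericFibre R).map g)))
    have h1 : G' ≫ pullback.fst πZ (Neron.genPt A) = pullback.fst π (Neron.genPt A) ≫ g.left := pullback.lift_fst _ _ _
    have h2 : G' ≫ pullback.snd πZ (Neron.genPt A) = pullback.snd π (Neron.genPt A) := pullback.lift_snd _ _ _
    have k1 : G ≫ pullback.fst Z.hom (Neron.genPt R) = pullback.fst X.hom (Neron.genPt R) ≫ g.left := pullback.lift_fst _ _ _
    have k2 : G ≫ pullback.snd Z.hom (Neron.genPt R) = pullback.snd X.hom (Neron.genPt R) := pullback.lift_snd _ _ _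
    have heq : G' = sX.isoPullback.hom ≫ G ≫ sY.isoPullback.inv := by
      rw [← Iso.cancel_iso_hom_right _ _ sY.isoPullback, Category.assoc, Category.assoc, Iso.inv_hom_id, Category.comp_id]
      apply pullback.hom_ext
      · rw [Category.assoc, sY.isoPullback_hom_fst, h1, Category.assoc, k1, sX.isoPullback_hom_fst_assoc]
      · rw [Category.assoc, sY.isoPullback_hom_snd, reassoc_of% h2, Category.assoc, k2, sX.isoPullback_hom_snd]
    haveI : IsIso ((Over.forget _).map ((Neron.genericFibre A).map g')) := by
      show IsIso G'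
      rw [heq]; infer_instance
    exact isIso_of_reflects_iso _ (Over.forget _)
  haveI := hm.2.2.2 (Over.mk πZ) hreg hZA.2.2.2.2 hZA.2.2.2.1 g' hgi'
  haveI : IsIso ((Over.forget _).map g) := inferInstanceAs (IsIso ((Over.forget _).map g'))
  exact isIso_of_reflects_iso _ (Over.forget _)

/-- Relative minimality is invariant under isomorphism. -/
theorem isRelMinimal_of_iso {R : Type u} [CommRing R] [IsDomain R] {X X' : Over (Spec (CommRingCat.of R))}
    (e : X ≅ X') (hm : Neron.IsRelMinimalRegularModel R X) (hreg : ∀ x : X'.left, IsRegularLocalRing (X'.left.presheaf.stalk x))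
    (hproj : Neron.IsProjectiveOver R X') (hflat : Flat X'.hom) : Neron.IsRelMinimalRegularModel R X' := by
  refine ⟨hreg, hproj, hflat, fun Z h1 h2 h3 g hg => ?_⟩
  haveI := hg
  haveI : IsIso ((Neron.genericFibre R).map (e.hom ≫ g)) := by rw [Functor.map_comp]; infer_instance
  haveI := hm.2.2.2 Z h1 h2 h3 (e.hom ≫ g) inferInstance
  exact IsIso.of_isIso_comp_left e.hom g

end Groth.Agent.Models7
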