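import Groth.Agent.Models7.DualizingRestrict
import Groth.Agent.Coherent.Serre.Kill
import Groth.Agent.Coherent.GradedCoh
import Groth.Agent.Coherent.FiniteType

/-!
# The trace of a dualizing pair with free `H¹(O)` and constant global functions is injective
-/

set_option autoImplicit false
set_option linter.style.haveILetI false
set_option backward.isDefEq.respectTransparency false
set_option maxHeartbeats 1000000

universe u

open CategoryTheory CategoryTheory.Limits AlgebraicGeometry Opposite TopologicalSpace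
open Groth.Agent.Coherent Groth.Agent.EulerLib

namespace Groth.Agent.Models7

variable {A : Type u} [CommRing A] {X : Scheme.{u}} [X.Over (Spec (CommRingCat.of A))]

/-- An extension of the structure sheaf pulled back along a section. -/
theorem exists_extension_unit {S : ShortComplex X.Modules} (hS : S.ShortExact) (s : Γ(S.X₃, ⊤))
    [Coh.IsQCoh S.X₁] [Coh.IsQCoh (Coh.structureModule X)] :
    ∃ (S' : ShortComplex X.Modules) (_hS' : S'.ShortExact) (_ : Coh.IsQCoh S'.X₂) (e₁ : S'.X₁ ≅ S.X₁)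
      (e₃ : Coh.structureModule X ≅ S'.X₃) (τ : S' ⟶ S),
      τ.τ₁ = e₁.hom ∧ e₃.hom ≫ τ.τ₃ = unitDesc S.X₃ s := by
  let σ := unitDesc S.X₃ s
  haveI := hS.mono_f
  haveI := hS.epi_g
  let E := pullback S.g σ
  let f' : S.X₁ ⟶ E := pullback.lift S.f 0 (by rw [S.zero, zero_comp])
  let S' : ShortComplex X.Modules := ShortComplex.mk f' (pullback.snd S.g σ) (pullback.lift_snd _ _ _)
  haveI : Mono (f' ≫ pullback.fst S.g σ) := by rw [pullback.lift_fst]; infer_instance
  haveI : Mono f' := mono_of_mono f' (pullback.fst S.g σ)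
  haveI : Epi (pullback.snd S.g σ) := Abelian.epi_pullback_of_epi_f _ _
  have hker : IsLimit (KernelFork.ofι f' S'.zero) :=
    KernelFork.IsLimit.ofι' f' S'.zero fun {W} k hk => by
      have hk' : (k ≫ pullback.fst S.g σ) ≫ S.g = 0 := by
        rw [Category.assoc, pullback.condition, ← Category.assoc, hk, zero_comp]
      refine ⟨hS.exact.lift (k ≫ pullback.fst S.g σ) hk', ?_⟩
      apply pullback.hom_ext
      · rw [Category.assoc, pullback.lift_fst, hS.exact.lift_f]
      · rw [Category.assoc, pullback.lift_snd, comp_zero, hk]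
  have hS' : S'.ShortExact :=
    { exact := ShortComplex.exact_of_f_is_kernel _ hker
      mono_f := inferInstanceAs (Mono f')
      epi_g := inferInstanceAs (Epi (pullback.snd S.g σ)) }
  haveI : Coh.IsQCoh S'.X₁ := ‹Coh.IsQCoh S.X₁›
  haveI : Coh.IsQCoh S'.X₃ := ‹Coh.IsQCoh (Coh.structureModule X)›
  refine ⟨S', hS', isQCoh_X₂ hS', Iso.refl _, Iso.refl _,
    ⟨𝟙 _, pullback.fst S.g σ, σ, ?_, ?_⟩, rfl, Category.id_comp _⟩
  · exact (Category.id_comp _).trans (pullback.lift_fst _ _ _).symm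
  · exact pullback.condition

/-- A linear form on a submodule with free finite quotient image extends. -/
theorem exists_extend_of_free_target [IsDomain A] [IsPrincipalIdealRing A] {M N P : Type*} [AddCommGroup M] [AddCommGroup N]
    [AddCommGroup P] [Module A M] [Module A N] [Module A P] [Module.Finite A P] [Module.Free A P]
    {f : M →ₗ[A] N} {g : N →ₗ[A] P} (h : Function.Exact f g) (t : M →ₗ[A] A) (ht : LinearMap.ker f ≤ LinearMap.ker t) :
    ∃ Φ : N →ₗ[A] A, ∀ x, Φ (f x) = t x := by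
  haveI : Module.Free A (LinearMap.range g) :=
    Module.Free.of_basis (Submodule.basisOfPid (Module.Free.chooseBasis A P) (LinearMap.range g)).2
  obtain ⟨sec, hsec⟩ := Module.projective_lifting_property g.rangeRestrict LinearMap.id g.surjective_rangeRestrict
  let t₀ : LinearMap.range f →ₗ[A] A := ((LinearMap.ker f).liftQ t ht) ∘ₗ f.quotKerEquivRange.symm.toLinearMap
  let r : N →ₗ[A] N := LinearMap.id - sec ∘ₗ g.rangeRestrict
  have hr : ∀ x, r x ∈ LinearMap.range f := fun x => by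
    rw [← LinearMap.exact_iff.1 h, LinearMap.mem_ker]
    have := congrArg Subtype.val (LinearMap.congr_fun hsec (g.rangeRestrict x))
    simp only [r, LinearMap.sub_apply, LinearMap.id_apply, LinearMap.comp_apply, map_sub]
    rw [sub_eq_zero]
    exact this.symm
  refine ⟨t₀ ∘ₗ r.codRestrict _ hr, fun x => ?_⟩
  have h0 : g.rangeRestrict (f x) = 0 := Subtype.ext (h.apply_apply_eq_zero x)
  have hfx : r.codRestrict (LinearMap.range f) hr (f x) = f.quotKerEquivRange (Submodule.Quotient.mk x) := by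
    refine Subtype.ext ?_
    show f x - sec (g.rangeRestrict (f x)) = _
    rw [h0, map_zero, sub_zero]
    rfl
  show (LinearMap.ker f).liftQ t ht (f.quotKerEquivRange.symm (r.codRestrict (LinearMap.range f) hr (f x))) = t x
  rw [hfx, LinearEquiv.symm_apply_apply]
  exact Submodule.liftQ_apply _ _ _

variable {ω : X.Modules} {tr : Coh.HH X ω 1 →ₗ[A] A}

/-- Over a principal ideal domain, with constant global functions and free finite `H¹(O)`, the trace of a
dualizing pair is injective. -/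
theorem trace_injective [IsDomain A] [IsPrincipalIdealRing A] [CompactSpace X] [X.IsSeparated]
    (hω : Canon.IsRDualOver A X 1 ω tr) (hsurj : Function.Surjective (baseHom A X))
    (hO : Coh.IsQCoh (Coh.structureModule X))
    [Module.Free A (Coh.HH X (Coh.structureModule X) 1)] [Module.Finite A (Coh.HH X (Coh.structureModule X) 1)] :
    Function.Injective tr := by
  refine (injective_iff_map_eq_zero _).2 fun c₀ hc₀ => ?_
  let φ := baseHom A X
  haveI : Coh.IsQCoh ω := hω.1
  haveI := hO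
  obtain ⟨G, i, hi, hG, hG0⟩ := Coherent.Serre.exists_acyclic_mono ω
  haveI := hi
  let S : ShortComplex X.Modules := ShortComplex.mk i (cokernel.π i) (cokernel.condition i)
  have hS : S.ShortExact := { exact := ShortComplex.exact_cokernel i }
  haveI : Subsingleton (HA φ G (⊤ : X.Opens) 1) :=
    haveI := hG0 1 one_pos
    (HHBaseEquiv A G 1).symm.toEquiv.subsingleton
  let e := HHBaseEquiv A ω 1
  let t : HA φ ω ⊤ 1 →ₗ[A] A := tr ∘ₗ e.symm.toLinearMap
  obtain ⟨y, hy⟩ := (exact_deltaA_postA φ hS ⊤ 0 (e c₀)).1 (Subsingleton.elim _ _)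
  haveI : Coh.IsQCoh S.X₁ := hω.1
  obtain ⟨S', hS', hE, e₁, e₃, τ, hτ₁, hτ₃⟩ :=
    exists_extension_unit hS (show Γ(S.X₃, ⊤) from secA φ S.X₃ y)
  let f₁ : ω ⟶ S'.X₂ := e₁.inv ≫ S'.f
  let P : HA φ ω ⊤ 1 →ₗ[A] HA φ S'.X₂ ⊤ 1 := postA φ f₁ ⊤ 1
  let one : HA φ (Coh.structureModule X) (⊤ : X.Opens) 0 :=
    (secA φ (Coh.structureModule X)).symm (show GA φ (Coh.structureModule X) from (1 : Γ(X, ⊤)))
  let d : HA φ (Coh.structureModule X) (⊤ : X.Opens) 0 →ₗ[A] HA φ ω ⊤ 1 :=
    (postA φ e₁.hom ⊤ 1).comp ((deltaA φ hS' ⊤ 0).comp (postA φ e₃.hom ⊤ 0))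
  have hd1 : d one = e c₀ := by
    rw [← hy]
    have h1 := deltaA_natural φ hS' hS τ 0 (postA φ e₃.hom ⊤ 0 one)
    rw [← postA_comp, hτ₃, hτ₁] at h1
    refine h1.trans (congrArg (deltaA φ hS ⊤ 0) ((secA φ S.X₃).injective ?_))
    rw [secA_natural]
    show (unitDesc S.X₃ _).app ⊤ (show Γ(Coh.structureModule X, ⊤) from secA φ _ one) = _
    rw [show (show Γ(Coh.structureModule X, ⊤) from secA φ _ one) = (1 : Γ(X, ⊤)) from
      (secA φ (Coh.structureModule X)).apply_symm_apply _]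
    refine (unitVal_unitDesc S.X₃ _ ⊤).trans ?_
    exact PicLib.resM_self _ _ _
  have hgen : ∀ z, ∃ a : A, z = a • one := fun z => by
    obtain ⟨a, ha⟩ := hsurj (show Γ(X, ⊤) from secA φ (Coh.structureModule X) z)
    refine ⟨a, (secA φ (Coh.structureModule X)).injective ?_⟩
    rw [map_smul, LinearEquiv.apply_symm_apply]
    show (show Γ(X, ⊤) from secA φ (Coh.structureModule X) z) = φ a • (1 : Γ(X, ⊤))
    rw [smul_eq_mul, mul_one]
    exact ha.symm
  have hPd : ∀ z, P (d z) = 0 := fun z => by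
    show postA φ f₁ ⊤ 1 (postA φ e₁.hom ⊤ 1 _) = 0
    rw [← postA_comp, show e₁.hom ≫ f₁ = S'.f from Iso.hom_inv_id_assoc _ _]
    exact (exact_deltaA_postA φ hS' ⊤ 0).apply_apply_eq_zero _
  have hker : LinearMap.ker P ≤ LinearMap.ker t := fun x hx => by
    have h2 : postA φ S'.f ⊤ 1 (postA φ e₁.inv ⊤ 1 x) = 0 := by
      rw [← postA_comp]
      exact hx
    obtain ⟨z, hz⟩ := (exact_deltaA_postA φ hS' ⊤ 0 _).1 h2
    obtain ⟨a, ha⟩ := hgen (postA φ e₃.inv ⊤ 0 z)
    have hx' : x = a • e c₀ := by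
      rw [← hd1, ← map_smul, ← ha]
      show x = postA φ e₁.hom ⊤ 1 (deltaA φ hS' ⊤ 0 (postA φ e₃.hom ⊤ 0 (postA φ e₃.inv ⊤ 0 z)))
      rw [← postA_comp, e₃.inv_hom_id, postA_id, hz, ← postA_comp, e₁.inv_hom_id, postA_id]
    rw [LinearMap.mem_ker, hx', map_smul]
    show a • tr (e.symm (e c₀)) = 0
    rw [LinearEquiv.symm_apply_apply, hc₀, smul_zero]
  let g₁ : S'.X₂ ⟶ Coh.structureModule X := S'.g ≫ e₃.inv
  have hex : Function.Exact P ((HHBaseEquiv A (Coh.structureModule X) 1).symm.toLinearMap ∘ₗ postA φ g₁ ⊤ 1) := by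
    intro w
    have key : (HHBaseEquiv A (Coh.structureModule X) 1).symm.toLinearMap (postA φ g₁ ⊤ 1 w) = 0 ↔
        postA φ S'.g ⊤ 1 w = 0 := by
      rw [LinearEquiv.coe_coe, LinearEquiv.map_eq_zero_iff, postA_comp]
      exact (isoA φ e₃.symm ⊤ 1).map_eq_zero_iff
    refine key.trans ((exact_postA φ hS' ⊤ 1 w).trans ⟨?_, ?_⟩)
    · rintro ⟨x, rfl⟩
      exact ⟨postA φ e₁.hom ⊤ 1 x, by
        rw [← postA_comp, show e₁.hom ≫ f₁ = S'.f from Iso.hom_inv_id_assoc _ _]⟩
    · rintro ⟨x, rfl⟩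
      exact ⟨postA φ e₁.inv ⊤ 1 x, (postA_comp φ _ _ 1 x).symm⟩
  obtain ⟨Φ, hΦ⟩ := exists_extend_of_free_target hex t hker
  obtain ⟨ρ, hρ⟩ := (hω.2 S'.X₂ hE).2 (Φ ∘ₗ (HHBaseEquiv A S'.X₂ 1).toLinearMap)
  have hid : f₁ ≫ ρ = 𝟙 ω := by
    refine (hω.2 ω hω.1).1 (LinearMap.ext fun x => ?_)
    show tr (Sheaf.H.map ((SheafOfModules.toSheaf X.ringCatSheaf).map (f₁ ≫ ρ)) 1 x) =
      tr (Sheaf.H.map ((SheafOfModules.toSheaf X.ringCatSheaf).map (𝟙 ω)) 1 x)
    rw [Functor.map_comp, CategoryTheory.Functor.map_id, Sheaf.H.map_comp_apply, Sheaf.H.map_id_apply]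
    refine (LinearMap.congr_fun hρ _).trans ?_
    show Φ (HHBaseEquiv A S'.X₂ 1 _) = _
    rw [hhBaseEquiv_natural_ring f₁ 1 x]
    refine (hΦ _).trans ?_
    exact congrArg tr (e.symm_apply_apply x)
  refine e.injective ?_
  rw [map_zero, ← postA_id φ (M := ω) 1 (e c₀), ← hid, postA_comp, ← hd1]
  exact (congrArg (postA φ ρ ⊤ 1) (hPd one)).trans (map_zero _)

end Groth.Agent.Models7
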